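import Groth.Agent.KExact.BCBddBelow
import Groth.Agent.KFlatLib.Scheme.BCMapData
import Groth.Agent.KFlatLib.Scheme.AffineLift
import Groth.Agent.KFlatLib.Scheme.RightAdjBound
import Groth.Agent.KFlatLib.Scheme.DQCohBrown

/-!
# Natural flat base change of the right adjoint, and independence of the compactification
-/

set_option autoImplicit false
set_option linter.style.haveILetI false
set_option linter.unusedSectionVars false
set_option linter.unusedVariables false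
set_option backward.isDefEq.respectTransparency false

universe u

open CategoryTheory CategoryTheory.Limits AlgebraicGeometry Opposite TopologicalSpace Pretriangulated

attribute [local instance] HasDerivedCategory.standard

namespace Groth.Agent.KExact.BCNat

open KFlatLib KFlatLib.BCLoc KFlatLib.SecPoint

variable {X Y X' Y' : Scheme.{u}}

/-- Lift an isomorphism of functors to `D(O)` to the quasi-coherent part. -/
noncomputable def liftIso {C : Type*} [Category C] {F G : C ⥤ DCoh.DQCoh X}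
    (e : F ⋙ ObjectProperty.ι _ ≅ G ⋙ ObjectProperty.ι _) : F ≅ G :=
  Functor.fullyFaithfulCancelRight (ObjectProperty.ι _) e

/-- `j^*` on `D_QCoh` for an open immersion. -/
noncomputable abbrev rQ (j : X' ⟶ X) [IsOpenImmersion j] : DCoh.DQCoh X ⥤ DCoh.DQCoh X' :=
  ObjectProperty.lift _ (ObjectProperty.ι _ ⋙ rho j) fun K => isQCohD_rho j K.property

theorem nonempty_pullD_iso_rho (j : X' ⟶ X) [IsOpenImmersion j] : Nonempty (pullD j ≅ rho j) := by
  haveI := hasLpull j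
  obtain ⟨e⟩ := nonempty_rho_iso_lpull j
  exact ⟨(lpullPullIso j).symm ≪≫ e.symm⟩

theorem nonempty_LQ_iso_rQ (j : X' ⟶ X) [IsOpenImmersion j] : Nonempty (LQ j ≅ rQ j) := by
  obtain ⟨e⟩ := nonempty_pullD_iso_rho j
  exact ⟨liftIso (Functor.isoWhiskerLeft (ObjectProperty.ι _) e :)⟩

theorem nonempty_rQ_id (k : X ⟶ X) [IsOpenImmersion k] (h : k = 𝟙 X) : Nonempty (rQ k ≅ 𝟭 _) := by
  obtain ⟨e⟩ := AffineLift.nonempty_rho_id k h
  exact ⟨liftIso (F := rQ k) (G := 𝟭 _)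
    ((Functor.isoWhiskerLeft (ObjectProperty.ι _) e ≪≫ Functor.rightUnitor _ ≪≫
      (Functor.leftUnitor _).symm :))⟩

theorem nonempty_rQ_comp {U V : Scheme.{u}} (i : V ⟶ U) [IsOpenImmersion i] (j : U ⟶ X) [IsOpenImmersion j]
    (k : V ⟶ X) [IsOpenImmersion k] (h : i ≫ j = k) : Nonempty (rQ j ⋙ rQ i ≅ rQ k) := by
  obtain ⟨e⟩ := AffineLift.nonempty_rhoCompNat i j k h
  exact ⟨liftIso (F := rQ j ⋙ rQ i) (G := rQ k) (Functor.isoWhiskerLeft (ObjectProperty.ι _) e :)⟩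

/-- The right adjoint keeps bounded below objects bounded below. -/
theorem isBddBelowQ_a (f : X ⟶ Y) [CompactSpace X] [QuasiSeparatedSpace X] [CompactSpace Y]
    [QuasiSeparatedSpace Y] [DCoh.HasRpush f] {hf : DCoh.RpushPreservesQCoh f}
    {a : DCoh.DQCoh Y ⥤ DCoh.DQCoh X} (adj : DCoh.RpushQ f hf ⊣ a) (K : DCoh.DQCoh Y)
    (hK : Dual3.IsBddBelowQ Y K) : Dual3.IsBddBelowQ X (a.obj K) := by
  obtain ⟨N, hN⟩ := exists_rightAdjoint_bound f hf a adj
  obtain ⟨c, hc⟩ := hK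
  haveI := hc
  exact ⟨c - N, (DerivedCategory.isGE_iff _ _).2 fun i hi =>
    hN K (c - 1) (fun j hj => DerivedCategory.isZero_of_isGE K.obj c j (by omega)) i (by omega)⟩

/-- A right adjoint of `Rf_*` exists. -/
theorem exists_adj (f : X ⟶ Y) [CompactSpace X] [QuasiSeparatedSpace X] [CompactSpace Y]
    [QuasiSeparatedSpace Y] [DCoh.HasRpush f] (hf : DCoh.RpushPreservesQCoh f) :
    ∃ a : DCoh.DQCoh Y ⥤ DCoh.DQCoh X, Nonempty (DCoh.RpushQ f hf ⊣ a) := by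
  haveI : (DCoh.RpushQ f hf).IsLeftAdjoint := DQSmall.isLeftAdjoint_lift f hf
  exact ⟨_, ⟨Adjunction.ofIsLeftAdjoint (DCoh.RpushQ f hf)⟩⟩

/-- `R(s ≫ p)_* ≅ Rs_* Rp_*` on `D_QCoh`. -/
theorem nonempty_rpushQ_comp {W : Scheme.{u}} (s : W ⟶ X) (p : X ⟶ Y) (k : W ⟶ Y) (h : s ≫ p = k)
    [DCoh.HasRpush s] [DCoh.HasRpush p] [DCoh.HasRpush k] (hs : DCoh.RpushPreservesQCoh s)
    (hp : DCoh.RpushPreservesQCoh p) (hk : DCoh.RpushPreservesQCoh k) :
    Nonempty (DCoh.RpushQ s hs ⋙ DCoh.RpushQ p hp ≅ DCoh.RpushQ k hk) := by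
  subst h
  obtain ⟨e⟩ := nonempty_rpush_comp s p
  exact ⟨liftIso (F := DCoh.RpushQ s hs ⋙ DCoh.RpushQ p hp) (G := DCoh.RpushQ (s ≫ p) hk)
    (Functor.isoWhiskerLeft (ObjectProperty.ι _) e :)⟩

/-- `R(𝟙)_*` is the identity. -/
theorem nonempty_rpushQ_id [DCoh.HasRpush (𝟙 X)] (h : DCoh.RpushPreservesQCoh (𝟙 X)) :
    Nonempty (DCoh.RpushQ (𝟙 X) h ≅ 𝟭 _) := by
  obtain ⟨adj⟩ := nonempty_rho_adj (𝟙 X)
  obtain ⟨e⟩ := AffineLift.nonempty_rho_id (𝟙 X) rfl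
  let e' : DCoh.Rpush (𝟙 X) ≅ 𝟭 _ := (adj.ofNatIsoLeft e).rightAdjointUniq Adjunction.id
  exact ⟨liftIso (F := DCoh.RpushQ (𝟙 X) h) (G := 𝟭 _)
    ((Functor.isoWhiskerLeft (ObjectProperty.ι _) e' ≪≫ Functor.rightUnitor _ ≪≫
      (Functor.leftUnitor _).symm :))⟩

/-- The right adjoint of a functor isomorphic to the identity is the identity. -/
theorem nonempty_right_iso_id {C : Type*} [Category C] {L R : C ⥤ C} (adj : L ⊣ R) (e : L ≅ 𝟭 C) :
    Nonempty (R ≅ 𝟭 C) :=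
  ⟨(adj.ofNatIsoLeft e).rightAdjointUniq Adjunction.id⟩

section Square

variable {f : X ⟶ Y} {g : Y' ⟶ Y} {f' : X' ⟶ Y'} {g' : X' ⟶ X}

/-- Flat base change of right adjoints on bounded below objects, naturally. -/
theorem nonempty_bc_iso (hsq : IsPullback g' f' f g) [IsNoetherian Y] [IsNoetherian Y'] [IsProper f]
    [IsProper f'] [CompactSpace X] [QuasiSeparatedSpace X] [CompactSpace X'] [QuasiSeparatedSpace X']
    [Flat g] [Flat g'] [QuasiCompact g] [QuasiSeparated g] [QuasiCompact g'] [QuasiSeparated g']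
    [DCoh.HasRpush f] [DCoh.HasRpush f'] {hf : DCoh.RpushPreservesQCoh f}
    {hf' : DCoh.RpushPreservesQCoh f'} {a : DCoh.DQCoh Y ⥤ DCoh.DQCoh X}
    {a' : DCoh.DQCoh Y' ⥤ DCoh.DQCoh X'} (adj : DCoh.RpushQ f hf ⊣ a) (adj' : DCoh.RpushQ f' hf' ⊣ a') :
    Nonempty (Dual3.bddι Y ⋙ a ⋙ LQ g' ≅ Dual3.bddι Y ⋙ LQ g ⋙ a') := by
  haveI := hasRpush_scheme g
  haveI := hasRpush_scheme g'
  haveI := hasLpull g
  haveI := hasLpull g'
  have hg : DCoh.RpushPreservesQCoh g := fun K hK => isQCohD_rpush g hK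
  have hg' : DCoh.RpushPreservesQCoh g' := fun K hK => isQCohD_rpush g' hK
  have hLg : Dual3.LpullPreservesQCoh g := fun K hK => isQCohD_lpull g hK
  have hLg' : Dual3.LpullPreservesQCoh g' := fun K hK => isQCohD_lpull g' hK
  obtain ⟨A⟩ := nonempty_lpull_rpush_adj g
  obtain ⟨A'⟩ := nonempty_lpull_rpush_adj g'
  let ff := fun (Z : Scheme.{u}) => ObjectProperty.fullyFaithfulι (DCoh.IsQCohD (X := Z))
  let adjg : Dual3.LpullQ g hLg ⊣ DCoh.RpushQ g hg :=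
    A.restrictFullyFaithful (ff Y) (ff Y') (Iso.refl _) (Iso.refl _)
  let adjg' : Dual3.LpullQ g' hLg' ⊣ DCoh.RpushQ g' hg' :=
    A'.restrictFullyFaithful (ff X) (ff X') (Iso.refl _) (Iso.refl _)
  obtain ⟨e, hbc⟩ := BCData.exists_e hf hf' adjg adjg' hsq
  let bcI := BCData.bcIso adjg adjg' e hbc
  haveI h (K : (Dual3.IsBddBelowQ Y).FullSubcategory) : IsIso (mMap adj adj' bcI K.obj) :=
    BCBdd.isIso_mMap_bdd adj adj' bcI hsq K.obj K.property
  exact ⟨NatIso.ofComponents (F := Dual3.bddι Y ⋙ a ⋙ LQ g') (G := Dual3.bddι Y ⋙ LQ g ⋙ a')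
    (fun K => asIso (mMap adj adj' bcI K.obj)) (fun φ => mMap_natural adj adj' bcI φ.hom)⟩

end Square

/-- Bounded below objects under `j^*`. -/
theorem isBddBelowQ_rQ (j : X' ⟶ X) [IsOpenImmersion j] (K : DCoh.DQCoh X) (hK : Dual3.IsBddBelowQ X K) :
    Dual3.IsBddBelowQ X' ((rQ j).obj K) := by
  obtain ⟨c, hc⟩ := hK
  haveI := hc
  exact ⟨c, (DerivedCategory.isGE_iff _ _).2 fun i hi => ((Scheme.Modules.restrictFunctor j).map_isZero
    (DerivedCategory.isZero_of_isGE K.obj c i hi)).of_iso (restrictHDIso j K.obj i)⟩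

/-- Factoring an open immersion through a proper morphism does not change the twisted inverse image. -/
theorem nonempty_section_iso {Z W : Scheme.{u}} (u : X ⟶ Z) [IsOpenImmersion u] (q : Z ⟶ W) [IsProper q]
    (j : X ⟶ W) [IsOpenImmersion j] (hj : u ≫ q = j) [IsNoetherian W] [IsNoetherian X]
    [DCoh.HasRpush q] {hq : DCoh.RpushPreservesQCoh q}
    {a : DCoh.DQCoh W ⥤ DCoh.DQCoh Z} (adj : DCoh.RpushQ q hq ⊣ a) :
    Nonempty (Dual3.bddι W ⋙ a ⋙ rQ u ≅ Dual3.bddι W ⋙ rQ j) := by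
  let P := pullback q j
  let r : P ⟶ Z := pullback.fst q j
  let p : P ⟶ X := pullback.snd q j
  let s : X ⟶ P := pullback.lift u (𝟙 X) (by rw [hj, Category.id_comp])
  have hsr : s ≫ r = u := pullback.lift_fst _ _ _
  have hsp : s ≫ p = 𝟙 X := pullback.lift_snd _ _ _
  haveI : IsOpenImmersion (s ≫ r) := by rw [hsr]; infer_instance
  haveI : IsOpenImmersion s := IsOpenImmersion.of_comp s r
  haveI : IsProper p := inferInstance
  haveI : IsClosedImmersion s := by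
    haveI : IsClosedImmersion (s ≫ p) := by rw [hsp]; infer_instance
    exact IsClosedImmersion.of_comp s p
  haveI : IsProper s := inferInstance
  haveI : Mono s := inferInstance
  haveI : LocallyOfFiniteType p := inferInstance
  haveI : IsNoetherian P := by
    haveI := LocallyOfFiniteType.isLocallyNoetherian p
    haveI : CompactSpace P := QuasiCompact.compactSpace_of_compactSpace p
    exact { }
  haveI : IsNoetherian Z := by
    haveI := LocallyOfFiniteType.isLocallyNoetherian q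
    haveI : CompactSpace Z := QuasiCompact.compactSpace_of_compactSpace q
    exact { }
  haveI := hasRpush_scheme p
  haveI := hasRpush_scheme s
  haveI := hasRpush_scheme (𝟙 X)
  have hp : DCoh.RpushPreservesQCoh p := fun K hK => isQCohD_rpush p hK
  have hs : DCoh.RpushPreservesQCoh s := fun K hK => isQCohD_rpush s hK
  have h1 : DCoh.RpushPreservesQCoh (𝟙 X) := fun K hK => isQCohD_rpush (𝟙 X) hK
  obtain ⟨ap, ⟨adjp⟩⟩ := exists_adj p hp
  obtain ⟨as, ⟨adjs⟩⟩ := exists_adj s hs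
  obtain ⟨a1, ⟨adj1⟩⟩ := exists_adj (𝟙 X) h1
  obtain ⟨i1⟩ := nonempty_rpushQ_id h1
  obtain ⟨e1⟩ := nonempty_right_iso_id adj1 i1
  obtain ⟨cps⟩ := nonempty_rpushQ_comp s p (𝟙 X) hsp hs hp h1
  obtain ⟨eps⟩ := nonempty_right_iso_id (adjs.comp adjp) (cps ≪≫ i1)
  obtain ⟨B⟩ := nonempty_bc_iso (IsPullback.of_hasPullback q j) adj adjp
  obtain ⟨C⟩ := nonempty_bc_iso (f := s) (g := s) (f' := 𝟙 X) (g' := 𝟙 X)
    (IsKernelPair.id_of_mono s) adjs adj1
  obtain ⟨lr⟩ := nonempty_LQ_iso_rQ r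
  obtain ⟨lj⟩ := nonempty_LQ_iso_rQ j
  obtain ⟨ls⟩ := nonempty_LQ_iso_rQ s
  obtain ⟨l1⟩ := nonempty_LQ_iso_rQ (𝟙 X)
  obtain ⟨r1⟩ := nonempty_rQ_id (𝟙 X) rfl
  obtain ⟨rc⟩ := nonempty_rQ_comp s r u hsr
  -- `s^* ≅ a_s` on bounded below objects
  let C' : Dual3.bddι P ⋙ as ≅ Dual3.bddι P ⋙ rQ s :=
    Functor.isoWhiskerLeft (Dual3.bddι P ⋙ as) (r1.symm ≪≫ l1.symm) ≪≫ C ≪≫
      Functor.isoWhiskerLeft (Dual3.bddι P) (Functor.isoWhiskerLeft (LQ s) e1 ≪≫ ls)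
  let G : (Dual3.IsBddBelowQ W).FullSubcategory ⥤ (Dual3.IsBddBelowQ P).FullSubcategory :=
    ObjectProperty.lift _ (Dual3.bddι W ⋙ rQ j ⋙ ap) fun K =>
      isBddBelowQ_a p adjp _ (isBddBelowQ_rQ j _ K.property)
  let B' : Dual3.bddι W ⋙ a ⋙ rQ r ≅ G ⋙ Dual3.bddι P :=
    Functor.isoWhiskerLeft (Dual3.bddι W ⋙ a) lr.symm ≪≫ B ≪≫
      Functor.isoWhiskerRight (Functor.isoWhiskerLeft (Dual3.bddι W) lj) ap
  exact ⟨Functor.isoWhiskerLeft (Dual3.bddι W ⋙ a) rc.symm ≪≫ Functor.isoWhiskerRight B' (rQ s) ≪≫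
    Functor.isoWhiskerLeft G C'.symm ≪≫ Functor.isoWhiskerLeft (Dual3.bddι W ⋙ rQ j) eps⟩

/-- Noetherian source. -/
theorem isNoetherian_of_ft {Z W : Scheme.{u}} (q : Z ⟶ W) [LocallyOfFiniteType q] [QuasiCompact q]
    [IsNoetherian W] : IsNoetherian Z := by
  haveI := LocallyOfFiniteType.isLocallyNoetherian q
  haveI : CompactSpace Z := QuasiCompact.compactSpace_of_compactSpace q
  exact { }

/-- A dominating compactification computes the same twisted inverse image. -/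
theorem nonempty_dominate {Z W : Scheme.{u}} (u : X ⟶ Z) [IsOpenImmersion u] (π : Z ⟶ W) [IsProper π]
    (j : X ⟶ W) [IsOpenImmersion j] (hj : u ≫ π = j) (φ : W ⟶ Y) [IsProper φ] (q : Z ⟶ Y) [IsProper q]
    (hq : π ≫ φ = q) [IsNoetherian Y] [IsNoetherian X]
    [DCoh.HasRpush φ] [DCoh.HasRpush q] {hφ : DCoh.RpushPreservesQCoh φ} {hq' : DCoh.RpushPreservesQCoh q}
    {a : DCoh.DQCoh Y ⥤ DCoh.DQCoh W} {aZ : DCoh.DQCoh Y ⥤ DCoh.DQCoh Z}
    (adj : DCoh.RpushQ φ hφ ⊣ a) (adjZ : DCoh.RpushQ q hq' ⊣ aZ) :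
    Nonempty (Dual3.bddι Y ⋙ a ⋙ rQ j ≅ Dual3.bddι Y ⋙ aZ ⋙ rQ u) := by
  haveI := isNoetherian_of_ft φ
  haveI := isNoetherian_of_ft π
  haveI := hasRpush_scheme π
  have hπ : DCoh.RpushPreservesQCoh π := fun K hK => isQCohD_rpush π hK
  obtain ⟨aπ, ⟨adjπ⟩⟩ := exists_adj π hπ
  obtain ⟨cc⟩ := nonempty_rpushQ_comp π φ q hq hπ hφ hq'
  let e : a ⋙ aπ ≅ aZ := ((adjπ.comp adj).ofNatIsoLeft cc).rightAdjointUniq adjZ
  obtain ⟨L⟩ := nonempty_section_iso u π j hj adjπ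
  let G : (Dual3.IsBddBelowQ Y).FullSubcategory ⥤ (Dual3.IsBddBelowQ W).FullSubcategory :=
    ObjectProperty.lift _ (Dual3.bddι Y ⋙ a) fun K => isBddBelowQ_a φ adj _ K.property
  exact ⟨Functor.isoWhiskerLeft G L.symm ≪≫
    Functor.isoWhiskerLeft (Dual3.bddι Y) (Functor.isoWhiskerRight e (rQ u))⟩

end Groth.Agent.KExact.BCNat
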