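import Groth.Agent.KExact.DualGlobal
import Groth.Agent.S0368
import Groth.Agent.QCoh.FT
import Groth.Agent.S11185
import Groth.Agent.H9Misc.DRingTel

/-!
# Normalized dualizing objects: coherence, Cohen–Macaulay schemes, fields
-/

set_option autoImplicit false
set_option linter.style.haveILetI false
set_option linter.unusedSectionVars false
set_option linter.unusedVariables false
set_option backward.isDefEq.respectTransparency false
set_option backward.isDefEq.respectTransparency.types false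

universe u

open CategoryTheory CategoryTheory.Limits AlgebraicGeometry TopologicalSpace

attribute [local instance] HasDerivedCategory.standard

namespace Groth.Agent.KExact.DualNormalized

open KFlatLib

/-- A field is a normalized dualizing complex over itself. -/
theorem field_normalized (k : Type u) [Field k] :
    Dual.IsDualizing k (Dual.inD k k) ∧ Dual.IsNormalized k (Dual.inD k k) := by
  refine ⟨S11185.result k (fun p => ?_) (by rw [ringKrullDim_eq_zero_of_field]; exact WithBot.coe_lt_coe.2 (by simp)), fun i hi => ?_⟩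
  · exact IsRegularLocalRing.of_ringEquiv (IsLocalization.atUnits (R := k) (S := Localization.AtPrime p.asIdeal)
      p.asIdeal.primeCompl fun x hx => (show x ≠ 0 from fun h => hx (h ▸ zero_mem _)).isUnit).toRingEquiv
  · obtain ⟨e⟩ := exists_homRingLEquiv (Dual.inD k k) i
    haveI : Subsingleton (Dual.HD k (Dual.inD k k) i) := H9Misc.DRingTel.subsingleton_homology_inD k hi
    haveI : Subsingleton (Dual.inD k k ⟶ (Dual.inD k k)⟦i⟧) := e.injective.subsingleton
    let q : k ≃ₗ[k] IsLocalRing.ResidueField k := LinearEquiv.ofBijective (Algebra.linearMap k _)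
      ⟨(algebraMap k (IsLocalRing.ResidueField k)).injective, IsLocalRing.residue_surjective⟩
    exact ((DerivedCategory.singleFunctor (ModuleCat.{u} k) 0).mapIso q.toModuleIso.symm).homFromEquiv.subsingleton

variable [∀ (U V : Scheme.{u}) (j : U ⟶ V) [IsOpenImmersion j], PreservesFiniteLimits (Scheme.Modules.restrictFunctor j)]
  [∀ (R : CommRingCat.{u}), PreservesFiniteLimits (tilde.functor R)]

variable {X : Scheme.{u}} [IsLocallyNoetherian X] {K : DCoh.D X}

/-- Cohomology of a dualizing object is coherent. -/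
theorem isCoh_hd (hK : Dual2.IsDualizingSch X K) (i : ℤ) : Coh.IsCoh (DCoh.HD K i) := by
  have hq := isQCoh_hd_dualizing hK i
  refine ⟨hq, (QCoh.isFT_iff hq).2 fun U => ?_⟩
  obtain ⟨ω, hω, ⟨e⟩⟩ := hK Γ(X, U.1) U.2.fromSpec
  obtain ⟨eH⟩ := DualShriek.nonempty_restrict_hd_iso U.2.fromSpec e i
  let H : ModuleCat.{u} Γ(X, U.1) := (DerivedCategory.homologyFunctor (ModuleCat.{u} Γ(X, U.1)) i).obj ω
  haveI : Module.Finite Γ(X, U.1) H := hω.finite_cohomology i
  let eG : Γ(DCoh.HD K i, U.1) ≃ₗ[Γ(X, U.1)] H := (QCoh.chartEquiv U.2 (DCoh.HD K i)).trans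
    ((moduleSpecΓFunctor.mapIso eH ≪≫ (asIso (tilde.toTildeΓNatIso.hom.app H)).symm).toLinearEquiv)
  exact Module.Finite.equiv eG.symm

/-- The canonical module of a Cohen–Macaulay local ring is Cohen–Macaulay. -/
theorem isCM_of_concentrated {R : Type u} [CommRing R] [IsLocalRing R] [IsNoetherianRing R] {ω : Dual.D R}
    (hω : Dual.IsDualizing R ω) (hn : Dual.IsNormalized R ω) (hCM : LocCoh.IsCohenMacaulayModule R R) (c : ℤ)
    (h : ∀ i : ℤ, i ≠ c → Subsingleton (Dual.HD R ω i)) :
    LocCoh.IsCohenMacaulayModule R (Dual.HD R ω c) := by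
  obtain ⟨r, hr⟩ := LC.exists_depth_eq_nat (R := R) R
  have htop := ((S0365.result R ω hω hn r).1 hr).2
  obtain rfl : c = -(r : ℤ) := by
    by_contra hne
    haveI := h _ (Ne.symm hne)
    exact not_subsingleton _ this
  have hdim : ringKrullDim R = r := by
    rw [← Module.supportDim_self_eq_ringKrullDim, hCM, hr]
    rfl
  haveI := hω.finite_cohomology (-(r : ℤ))
  have hsupp : Module.support R (Dual.HD R ω (-(r : ℤ))) = Set.univ := Set.eq_univ_of_forall fun q => by
    obtain ⟨i, hi⟩ := DualizingCM.exists_mem_support hω q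
    rcases eq_or_ne i (-(r : ℤ)) with rfl | hne
    · exact hi
    · haveI := h i hne
      rw [Module.support_eq_empty] at hi
      exact hi.elim
  have hsd : Module.supportDim R (Dual.HD R ω (-(r : ℤ))) = r := by
    rw [Module.supportDim, hsupp, Order.krullDim_eq_of_orderIso OrderIso.Set.univ]
    exact hdim
  haveI : DerivedCategory.IsGE ω (-(r : ℤ)) := (DerivedCategory.isGE_iff _ _).2 fun i hi => by
    haveI := h i (by omega)
    exact @ModuleCat.isZero_of_subsingleton _ _ _ this
  haveI : DerivedCategory.IsLE ω (-(r : ℤ)) := (DerivedCategory.isLE_iff _ _).2 fun i hi => by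
    haveI := h i (by omega)
    exact @ModuleCat.isZero_of_subsingleton _ _ _ this
  obtain ⟨N, ⟨e⟩⟩ := DerivedCategory.exists_iso_singleFunctor_obj_of_isGE_of_isLE ω (-(r : ℤ))
  let eN : Dual.HD R ω (-(r : ℤ)) ≃ₗ[R] N :=
    ((DerivedCategory.homologyFunctor _ (-(r : ℤ))).mapIso e ≪≫
      (DerivedCategory.singleFunctorCompHomologyFunctorIso (ModuleCat.{u} R) (-(r : ℤ))).app N).toLinearEquiv
  let e' : (Dual.inD R (Dual.HD R ω (-(r : ℤ))))⟦(r : ℤ)⟧ ≅ ω :=
    (((DerivedCategory.singleFunctors (ModuleCat.{u} R)).shiftIso (r : ℤ) (-(r : ℤ)) 0 (by omega)).app _) ≪≫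
      (DerivedCategory.singleFunctor _ (-(r : ℤ))).mapIso eN.toModuleIso ≪≫ e.symm
  refine (S0368.result R ω hω hn (Dual.HD R ω (-(r : ℤ))) r hsd).2 fun i hi => ?_
  haveI := hω.ext_self_subsingleton (-i + r) (by omega)
  haveI : Subsingleton (ω ⟶ (ω⟦-i⟧)⟦(r : ℤ)⟧) :=
    ((shiftFunctorAdd' _ (-i) (r : ℤ) (-i + r) rfl).app ω).homToEquiv.symm.subsingleton
  haveI : Subsingleton ((Dual.inD R (Dual.HD R ω (-(r : ℤ))))⟦(r : ℤ)⟧ ⟶ (ω⟦-i⟧)⟦(r : ℤ)⟧) :=
    e'.homFromEquiv.subsingleton
  exact (shiftFunctor (Dual.D R) (r : ℤ)).map_injective.subsingleton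

variable [CompactSpace X]

/-- On a Cohen–Macaulay scheme with equidimensional components a normalized dualizing object is a shifted sheaf. -/
theorem cm_global (hK : Dual2.IsDualizingSch X K)
    (hM : ∀ x : X, IsClosed ({x} : Set X) → ∃ M : Model K x, M.n = 0)
    (hCM : ∀ x : X, LocCoh.IsCohenMacaulayLocalRing (X.presheaf.stalk x)) (d : ℕ)
    (hd : ∀ Z : Set X, Z ∈ irreducibleComponents X → topologicalKrullDim ↥Z = (d : WithBot ℕ∞)) :
    (∀ i : ℤ, i ≠ -(d : ℤ) → IsZero (DCoh.HD K i)) ∧ ∀ x : X,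
      Nontrivial ((DCoh.HD K (-(d : ℤ))).presheaf.stalk x) ∧
        LocCoh.IsCohenMacaulayModule (X.presheaf.stalk x) ((DCoh.HD K (-(d : ℤ))).presheaf.stalk x) := by
  have hnt : ∀ x : X, Nontrivial ((DCoh.HD K (-(d : ℤ))).presheaf.stalk x) := fun x => by
    obtain ⟨Z, hZ, hxZ⟩ : ∃ Z ∈ irreducibleComponents X, x ∈ Z :=
      ⟨irreducibleComponent x, irreducibleComponent_mem_irreducibleComponents x, mem_irreducibleComponent⟩
    have hle : topologicalKrullDim X ≤ d := by
      refine le_of_eq_of_le ?_ (topologicalKrullDim_le hM isClosed_univ (d : WithBot ℕ∞) fun y _ _ M _ l _ => ?_)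
      · exact ((Homeomorph.Set.univ X).isHomeomorph.topologicalKrullDim_eq).symm
      · have hmem : ∀ j, M.ι (l j) ∈ irreducibleComponent (M.ι (l 0)) := fun j =>
          (((PrimeSpectrum.le_iff_specializes _ _).1 (l.monotone (Fin.zero_le j))).map M.emb.continuous).mem_closed
            isClosed_irreducibleComponent mem_irreducibleComponent
        exact (M.length_le _ l hmem).trans_eq (hd _ (irreducibleComponent_mem_irreducibleComponents _))
    have hdim : topologicalKrullDim X = d :=
      le_antisymm hle ((hd Z hZ).ge.trans (topologicalKrullDim_subspace_le X Z))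
    exact (support_bottom hK hM hdim).ge (Set.mem_iUnion₂.2 ⟨Z, ⟨hZ, hd Z hZ⟩, hxZ⟩)
  have huniq : ∀ (x : X) (i : ℤ), i ≠ -(d : ℤ) → Subsingleton ((DCoh.HD K i).presheaf.stalk x) := fun x i hi =>
    not_nontrivial_iff_subsingleton.1 fun h => hi ((((DualizingCM.cm_locus K hK).1 x).1 (hCM x)).unique h (hnt x))
  refine ⟨fun i hi => isZero_of_stalk _ fun x => @ModuleCat.isZero_of_subsingleton _ _
    (ModuleCat.of (X.presheaf.stalk x) ((DCoh.HD K i).presheaf.stalk x)) (huniq x i hi), fun x => ⟨hnt x, ?_⟩⟩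
  obtain ⟨U, hU, hxU, -⟩ := exists_isAffineOpen_mem_and_subset (X := X) (x := x) (U := ⊤) trivial
  obtain ⟨ω, hω, ⟨e⟩⟩ := hK Γ(X, U) hU.fromSpec
  obtain ⟨M, -⟩ := exists_model hK hU hxU ω hω e
  haveI := hCM x
  have hR : LocCoh.IsCohenMacaulayModule M.R M.R := by
    have h := Codepth5.dd_congr (X := X.presheaf.stalk x) (X' := M.R) M.ring.toRingHom M.ring.surjective
      M.ring.toAddEquiv fun r s => map_mul M.ring r s
    unfold LocCoh.IsCohenMacaulayModule
    have h1 : Module.supportDim M.R M.R = _ := (Prod.ext_iff.1 h).1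
    have h2 : LocCoh.depth M.R M.R = _ := (Prod.ext_iff.1 h).2
    rw [h1, h2]
    exact (hCM x).supportDim_eq_depth
  have hsub : ∀ i : ℤ, i ≠ -(d : ℤ) - M.n → Subsingleton (Dual.HD M.R M.ω i) := fun i hi => by
    obtain ⟨σ, -, e, -⟩ := M.semi i
    haveI := huniq x (i + M.n) (by omega)
    exact e.toEquiv.subsingleton
  have h := isCM_of_concentrated M.dualizing M.normalized hR _ hsub
  have hs := (M.semi (-(d : ℤ) - M.n)).dd_eq
  rw [sub_add_cancel] at hs
  unfold LocCoh.IsCohenMacaulayModule at h ⊢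
  have h1 := (Prod.ext_iff.1 hs).1
  have h2 := (Prod.ext_iff.1 hs).2
  simp only [Codepth5.dd] at h1 h2
  rw [← h1, ← h2]
  exact h

end Groth.Agent.KExact.DualNormalized

namespace Groth.Agent.KExact.DualNormalized

open KFlatLib

variable [∀ (U V : Scheme.{u}) (j : U ⟶ V) [IsOpenImmersion j], PreservesFiniteLimits (Scheme.Modules.restrictFunctor j)]
  [∀ (R : CommRingCat.{u}), PreservesFiniteLimits (tilde.functor R)]

variable {A : Type u} [CommRing A] [IsLocalRing A] [IsNoetherianRing A] {ω : Dual.D A} {X : Scheme.{u}}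

/-- The twisted inverse image of a normalized dualizing complex is dualizing, and normalized at closed points. -/
theorem proper_package (hω : Dual.IsDualizing A ω) (hn : Dual.IsNormalized A ω)
    (f : X ⟶ Spec (CommRingCat.of A)) [IsProper f] [DCoh.HasRpush f] {hf : DCoh.RpushPreservesQCoh f}
    {a : DCoh.DQCoh (Spec (CommRingCat.of A)) ⥤ DCoh.DQCoh X} (adj : DCoh.RpushQ f hf ⊣ a)
    (W : DCoh.DQCoh (Spec (CommRingCat.of A))) (eW : W.obj ≅ (DCoh.tildeD (CommRingCat.of A)).obj ω) :
    IsNoetherian X ∧ Dual2.IsDualizingSch X (a.obj W).obj ∧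
      ∀ x : X, IsClosed ({x} : Set X) → ∃ M : Model (a.obj W).obj x, M.n = 0 := by
  haveI : IsNoetherian X := BCNat.isNoetherian_of_ft f
  have hW : Dual2.IsDualizingSch (Spec (CommRingCat.of A)) W.obj := fun C _ j _ =>
    DualizingCharts.exists_isDualizing_of_charts _ (fun x => by
      obtain ⟨i⟩ := BCNat.nonempty_rQ_id (𝟙 (Spec (CommRingCat.of A))) rfl
      exact ⟨A, inferInstance, 𝟙 _, inferInstance, ω, ⟨x, rfl⟩, hω, inferInstance,
        ⟨(ObjectProperty.ι _).mapIso (i.app W) ≪≫ eW⟩⟩) C j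
  obtain ⟨iX⟩ := BCNat.nonempty_rQ_id (𝟙 X) rfl
  have hK : Dual2.IsDualizingSch X (a.obj W).obj :=
    DualShriek.dualizing_of_iso ((ObjectProperty.ι _).mapIso (iX.app (a.obj W)))
      (DualShriek.isDualizingSch_shriek (hφ := hf) (𝟙 X) f adj W (isBddBelowQ_of_iso hω eW) hW)
  refine ⟨inferInstance, hK, fun x hx => ?_⟩
  obtain ⟨U, hU, hxU, -⟩ := exists_isAffineOpen_mem_and_subset (X := X) (x := x) (U := ⊤) trivial
  obtain ⟨ωB, hωB, ⟨e⟩⟩ := hK Γ(X, U) hU.fromSpec
  obtain ⟨M, hMn⟩ := exists_model hK hU hxU ωB hωB e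
  exact ⟨M, hMn fun i hi => subsingleton_at_closed f adj W hω hn eW hU hωB e hxU hx i hi⟩

/-- The structure sheaf of a point is `~` of the field. -/
theorem nonempty_tildeD_iso (k : Type u) [CommRing k] :
    Nonempty ((DCoh.tildeD (CommRingCat.of k)).obj (Dual.inD k k) ≅
      DCoh.inD (Spec (CommRingCat.of k)) (Coh.structureModule (Spec (CommRingCat.of k)))) := by
  haveI : (tilde.functor (CommRingCat.of k)).Additive := tilde_additive _
  haveI : PreservesFiniteColimits (tilde.functor (CommRingCat.of k)) := QCoh.tilde_preservesFiniteColimits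
  exact ⟨((tilde.functor (CommRingCat.of k)).mapDerivedCategorySingleFunctor 0).app (ModuleCat.of k k) ≪≫
    (DerivedCategory.singleFunctor (Spec (CommRingCat.of k)).Modules 0).mapIso tildeSelf⟩

end Groth.Agent.KExact.DualNormalized
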