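import Groth.Agent.KExact.DualizingS2
import Groth.Agent.S0373
import Groth.Agent.QCoh.LocFree
import Groth.Agent.H23.DblAlg
import Groth.Agent.KFlatLib.Scheme.LocalDevissage
import Groth.Agent.KFlatLib.Scheme.CohD
import Groth.Agent.KFlatLib.Scheme.Exact
import Groth.Agent.KZ.PerfCoh
import Groth.Prelude.Def_Dual3

/-!
# Gorenstein schemes and invertible dualizing objects
-/

set_option autoImplicit false
set_option linter.style.haveILetI false
set_option backward.isDefEq.respectTransparency false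
set_option backward.isDefEq.respectTransparency.types false

universe u

open CategoryTheory CategoryTheory.Limits AlgebraicGeometry

attribute [local instance] HasDerivedCategory.standard

namespace Groth.Agent.KExact

open KFlatLib

/-- A dualizing complex of a Noetherian ring is invertible at exactly the Gorenstein primes. -/
theorem gorenstein_atPrime_iff {A : Type u} [CommRing A] [IsNoetherianRing A] {ω : Dual.D A}
    (hω : Dual.IsDualizing A ω) (p : PrimeSpectrum A) :
    LocCoh.IsGorensteinLocalRing (Localization.AtPrime p.asIdeal) ↔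
      ∃ c : ℤ, (∀ i : ℤ, i ≠ c → Subsingleton (LocalizedModule p.asIdeal.primeCompl (Dual.HD A ω i))) ∧
        Nonempty (LocalizedModule p.asIdeal.primeCompl (Dual.HD A ω c) ≃ₗ[Localization.AtPrime p.asIdeal]
          Localization.AtPrime p.asIdeal) := by
  let B := Localization.AtPrime p.asIdeal
  haveI := hasLBase (algebraMap A B)
  haveI : Module.Flat A B := IsLocalization.flat _ p.asIdeal.primeCompl
  haveI : IsNoetherianRing B := IsLocalization.isNoetherianRing p.asIdeal.primeCompl _ inferInstance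
  let ωB := (DTen.LBase (algebraMap A B)).obj ω
  have hB : Dual.IsDualizing B ωB :=
    isDualizing_LBase hω fun m _ =>
      ⟨m.comap (algebraMap A B), IsLocalization.map_comap p.asIdeal.primeCompl _ m⟩
  have hloc : ∀ i, Nonempty (Dual.HD B ωB i ≃ₗ[B] LocalizedModule p.asIdeal.primeCompl (Dual.HD A ω i)) := fun i => by
    obtain ⟨e⟩ := exists_hdLBaseLEquiv (B := B) ω i
    exact ⟨e.trans (LocalizedModule.equivTensorProduct p.asIdeal.primeCompl (Dual.HD A ω i)).symm⟩
  constructor
  · intro hG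
    haveI := hasLTen B
    haveI := hasRHom (A := B)
    obtain ⟨m, ⟨e⟩⟩ := exists_iso_shift_of_isDualizing ((LC.gorenstein_iff_isDualizing B).1 hG) hB
    let F := DerivedCategory.homologyFunctor (ModuleCat.{u} B) 0
    refine ⟨-m, fun i hi => ?_, ?_⟩
    · obtain ⟨e'⟩ := hloc i
      haveI : Subsingleton (Dual.HD B ((Dual.inD B B)⟦m⟧) i) := by
        have h0 : Subsingleton (Dual.HD B (Dual.inD B B) (m + i)) :=
          H9Misc.DRingTel.subsingleton_homology_inD B (by omega)
        exact ((F.shiftIso m i (m + i) rfl).app (Dual.inD B B)).toLinearEquiv.toEquiv.subsingleton_congr.2 h0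
      haveI : Subsingleton (Dual.HD B ωB i) :=
        ((DerivedCategory.homologyFunctor (ModuleCat.{u} B) i).mapIso e).toLinearEquiv.injective.subsingleton
      exact e'.symm.injective.subsingleton
    · obtain ⟨e'⟩ := hloc (-m)
      let e1 : Dual.HD B ((Dual.inD B B)⟦m⟧) (-m) ≃ₗ[B] Dual.HD B (Dual.inD B B) 0 :=
        ((F.shiftIso m (-m) 0 (by omega)).app (Dual.inD B B)).toLinearEquiv
      exact ⟨e'.symm.trans (((DerivedCategory.homologyFunctor (ModuleCat.{u} B) (-m)).mapIso e).toLinearEquiv.trans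
          (e1.trans (H9Misc.DRingTel.homologyInD B)))⟩
  · rintro ⟨c, hc1, ⟨b1⟩⟩
    obtain ⟨e'⟩ := hloc c
    have hs : ∀ i, i ≠ c → Subsingleton (Dual.HD B ωB i) := fun i hi => by
      obtain ⟨e''⟩ := hloc i
      haveI := hc1 i hi
      exact e''.injective.subsingleton
    haveI : ωB.IsGE c := (DerivedCategory.isGE_iff _ _).2 fun i hi =>
      @ModuleCat.isZero_of_subsingleton _ _ _ (hs i (by omega))
    haveI : ωB.IsLE c := (DerivedCategory.isLE_iff _ _).2 fun i hi =>
      @ModuleCat.isZero_of_subsingleton _ _ _ (hs i (by omega))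
    obtain ⟨M, ⟨eM⟩⟩ := DerivedCategory.exists_iso_singleFunctor_obj_of_isGE_of_isLE ωB c
    let b2 : Dual.HD B ωB c ≃ₗ[B] (M : Type u) :=
      ((DerivedCategory.homologyFunctor (ModuleCat.{u} B) c).mapIso eM).toLinearEquiv.trans
        ((DerivedCategory.singleFunctorCompHomologyFunctorIso (ModuleCat.{u} B) c).app M).toLinearEquiv
    let bM : B ≃ₗ[B] (M : Type u) := b1.symm.trans (e'.symm.trans b2)
    let i1 : Dual.inD B B ≅ ωB⟦c⟧ :=
      (DerivedCategory.singleFunctor (ModuleCat.{u} B) 0).mapIso bM.toModuleIso ≪≫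
      (((DerivedCategory.singleFunctors (ModuleCat.{u} B)).shiftIso c 0 c (by omega)).app M).symm ≪≫
      ((shiftFunctor (Dual.D B) c).mapIso eM).symm
    exact (LC.gorenstein_iff_isDualizing B).2 (isDualizing_of_iso i1.symm (isDualizing_shift hB c))

section Scheme

variable {X : Scheme.{u}}
  [∀ (U : Scheme.{u}) (j : U ⟶ X) [IsOpenImmersion j], PreservesFiniteLimits (Scheme.Modules.restrictFunctor j)]
  [∀ (R : CommRingCat.{u}), PreservesFiniteLimits (tilde.functor R)]

/-- The stalks of the cohomology of a dualizing object on an affine chart. -/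
theorem exists_stalk_equiv {K : DCoh.D X} (hK : Dual2.IsDualizingSch X K) {U : X.Opens} (hU : IsAffineOpen U)
    {x : X} (hx : x ∈ U) {ω : Dual.D Γ(X, U)}
    (e : (DCoh.restrictD hU.fromSpec).obj K ≅ (DCoh.tildeD (CommRingCat.of Γ(X, U))).obj ω) (i : ℤ) :
    ∃ (σ : Localization.AtPrime (hU.primeIdealOf ⟨x, hx⟩).asIdeal ≃+* X.presheaf.stalk x)
      (g : LocalizedModule (hU.primeIdealOf ⟨x, hx⟩).asIdeal.primeCompl (Dual.HD Γ(X, U) ω i) ≃+
        (DCoh.HD K i).presheaf.stalk x), ∀ r m, g (r • m) = σ r • g m := by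
  obtain ⟨eH⟩ := exists_restrict_hd_iso hU.fromSpec e i
  let H : ModuleCat.{u} Γ(X, U) := (DerivedCategory.homologyFunctor (ModuleCat.{u} Γ(X, U)) i).obj ω
  let eG : Γ(DCoh.HD K i, U) ≃ₗ[Γ(X, U)] H :=
    (QCoh.chartEquiv hU (DCoh.HD K i)).trans
      ((moduleSpecΓFunctor.mapIso eH ≪≫ (asIso (tilde.toTildeΓNatIso.hom.app H)).symm).toLinearEquiv)
  letI := QCoh.stalkAlg hx
  letI := QCoh.stalkModule (DCoh.HD K i) hx
  haveI := QCoh.isScalarTower_stalk (DCoh.HD K i) hx
  haveI := QCoh.isLocalizedModule_germLin (isQCoh_hd_dualizing hK i) hU hx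
  haveI := QCoh.isLocalization_stalk' hU hx
  haveI : IsLocalizedModule (hU.primeIdealOf ⟨x, hx⟩).asIdeal.primeCompl
      ((QCoh.germLin (DCoh.HD K i) hx).comp eG.symm.toLinearMap) :=
    IsLocalizedModule.of_linearEquiv_right _ _ eG.symm
  exact QCoh.exists_semilinear (hU.primeIdealOf ⟨x, hx⟩).asIdeal.primeCompl
    (Localization.AtPrime (hU.primeIdealOf ⟨x, hx⟩).asIdeal) (X.presheaf.stalk x)
    (LocalizedModule.mkLinearMap _ (H : Type u)) ((QCoh.germLin (DCoh.HD K i) hx).comp eG.symm.toLinearMap)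

/-- Gorenstein points through the stalks of the cohomology of a dualizing object. -/
theorem gorenstein_stalk_iff [IsLocallyNoetherian X] {K : DCoh.D X} (hK : Dual2.IsDualizingSch X K) (x : X) :
    LocCoh.IsGorensteinLocalRing (X.presheaf.stalk x) ↔
      ∃ c : ℤ, (∀ i : ℤ, i ≠ c → Subsingleton ((DCoh.HD K i).presheaf.stalk x)) ∧
        Nonempty ((DCoh.HD K c).presheaf.stalk x ≃ₗ[X.presheaf.stalk x] X.presheaf.stalk x) := by
  obtain ⟨U, hU, hx, -⟩ := exists_isAffineOpen_mem_and_subset (x := x) (U := ⊤) trivial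
  haveI : IsNoetherianRing Γ(X, U) := QCoh.noetherian_sections ⟨U, hU⟩
  obtain ⟨ω, hω, ⟨e⟩⟩ := hK Γ(X, U) hU.fromSpec
  let p := hU.primeIdealOf ⟨x, hx⟩
  obtain ⟨σ, -, -⟩ := exists_stalk_equiv hK hU hx e 0
  haveI : IsNoetherianRing (Localization.AtPrime p.asIdeal) :=
    IsLocalization.isNoetherianRing p.asIdeal.primeCompl _ inferInstance
  haveI : IsNoetherianRing (X.presheaf.stalk x) := isNoetherianRing_of_ringEquiv _ σ
  have hσ : LocCoh.IsGorensteinLocalRing (X.presheaf.stalk x) ↔
      LocCoh.IsGorensteinLocalRing (Localization.AtPrime p.asIdeal) :=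
    ⟨fun h => LC.gorenstein_of_ringEquiv σ.symm, fun h => LC.gorenstein_of_ringEquiv σ⟩
  rw [hσ, gorenstein_atPrime_iff hω p]
  constructor
  · rintro ⟨c, h1, ⟨b⟩⟩
    refine ⟨c, fun i hi => ?_, ?_⟩
    · obtain ⟨σ', g, -⟩ := exists_stalk_equiv hK hU hx e i
      haveI := h1 i hi
      exact g.symm.injective.subsingleton
    · obtain ⟨σ', g, hg⟩ := exists_stalk_equiv hK hU hx e c
      refine ⟨{ (g.symm.trans (b.toAddEquiv.trans σ'.toAddEquiv)) with map_smul' := fun r m => ?_ }⟩
      show σ' (b (g.symm (r • m))) = r * σ' (b (g.symm m))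
      have h2 : g.symm (r • m) = σ'.symm r • g.symm m := g.injective (by
        rw [g.apply_symm_apply, hg, σ'.apply_symm_apply, g.apply_symm_apply])
      rw [h2, map_smul, smul_eq_mul, map_mul, σ'.apply_symm_apply]
  · rintro ⟨c, h1, ⟨b⟩⟩
    refine ⟨c, fun i hi => ?_, ?_⟩
    · obtain ⟨σ', g, -⟩ := exists_stalk_equiv hK hU hx e i
      haveI := h1 i hi
      exact g.injective.subsingleton
    · obtain ⟨σ', g, hg⟩ := exists_stalk_equiv hK hU hx e c
      refine ⟨{ (g.trans (b.toAddEquiv.trans σ'.symm.toAddEquiv)) with map_smul' := fun r m => ?_ }⟩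
      show σ'.symm (b (g (r • m))) = r * σ'.symm (b (g m))
      rw [hg, map_smul, smul_eq_mul, map_mul, σ'.symm_apply_apply]

/-- The cohomology of a dualizing object is coherent. -/
theorem isCoh_hd_dualizing [IsLocallyNoetherian X] {K : DCoh.D X} (hK : Dual2.IsDualizingSch X K) (i : ℤ) :
    Coh.IsCoh (DCoh.HD K i) := by
  refine KZ.isCoh_of_local fun x => ?_
  obtain ⟨U, hU, hx, -⟩ := exists_isAffineOpen_mem_and_subset (x := x) (U := ⊤) trivial
  haveI : IsNoetherianRing Γ(X, U) := QCoh.noetherian_sections ⟨U, hU⟩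
  obtain ⟨ω, hω, ⟨e⟩⟩ := hK Γ(X, U) hU.fromSpec
  obtain ⟨eH⟩ := exists_restrict_hd_iso hU.fromSpec e i
  refine ⟨_, hU.fromSpec, inferInstance, by rw [hU.range_fromSpec]; exact hx, ?_⟩
  exact KFlatLib.isCoh_of_iso eH.symm ((isCoh_tilde_iff _).2 (hω.finite_cohomology i))

/-- The stalk of a sheaf which is free of rank one near the point. -/
theorem exists_stalk_linearEquiv_of_free {M : X.Modules} (hM : Coh.IsQCoh M) {U : X.Opens}
    (e : M.restrict U.ι ≅ FlatMod.freeMod (U : Scheme.{u}) 1) {x : X} (hxU : x ∈ U) :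
    Nonempty (M.presheaf.stalk x ≃ₗ[X.presheaf.stalk x] X.presheaf.stalk x) := by
  obtain ⟨_, ⟨V, hV, rfl⟩, hx, hle⟩ := X.isBasis_affineOpens.exists_subset_of_mem_open hxU U.2
  obtain ⟨l⟩ := QCoh.free_sections (V := V) hV hle e
  letI := QCoh.stalkAlg hx
  letI := QCoh.stalkModule M hx
  haveI := QCoh.isScalarTower_stalk M hx
  haveI := QCoh.isLocalizedModule_germLin hM hV hx
  haveI := QCoh.isLocalization_stalk' hV hx
  haveI : Unique (ULift.{u} (Fin 1)) := Equiv.ulift.unique
  let l1 : Γ(M, V) ≃ₗ[Γ(X, V)] Γ(X, V) := l.trans (Finsupp.LinearEquiv.finsuppUnique _ _ _)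
  let S := (hV.primeIdealOf ⟨x, hx⟩).asIdeal.primeCompl
  haveI : IsLocalizedModule S ((Algebra.linearMap Γ(X, V) (X.presheaf.stalk x)).comp l1.toLinearMap) :=
    IsLocalizedModule.of_linearEquiv_right _ _ l1
  exact ⟨(IsLocalizedModule.linearEquiv S (QCoh.germLin M hx)
    ((Algebra.linearMap Γ(X, V) (X.presheaf.stalk x)).comp l1.toLinearMap)).extendScalarsOfIsLocalization
      S (X.presheaf.stalk x)⟩

/-- The stalks of an open determine vanishing of the restriction. -/
theorem subsingleton_stalk_of_isZero_restrict {M : X.Modules} {U : X.Opens}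
    (h : IsZero (M.restrict U.ι)) {x : X} (hx : x ∈ U) : Subsingleton (M.presheaf.stalk x) := by
  have hs : Subsingleton ((M.restrict U.ι).presheaf.stalk (⟨x, hx⟩ : U)) :=
    ModuleCat.subsingleton_of_isZero ((DerSch.stalkFunctor (U : Scheme.{u}) ⟨x, hx⟩).map_isZero h)
  exact ((Scheme.Modules.restrictStalkNatIso U.ι (⟨x, hx⟩ : U)).app M).addCommGroupIsoToAddEquiv.toEquiv.subsingleton_congr.1 hs

/-- A locally Noetherian scheme with a dualizing object is Gorenstein iff that object is invertible. -/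
theorem isGorenstein_iff_isInvertibleD [IsLocallyNoetherian X] {K : DCoh.D X}
    (hK : Dual2.IsDualizingSch X K) : Dual3.IsGorenstein X ↔ Dual3.IsInvertibleD K := by
  have hcoh := isCoh_hd_dualizing hK
  constructor
  · intro hG x
    obtain ⟨c, hc, ⟨b⟩⟩ := (gorenstein_stalk_iff hK x).1 (hG.2 x)
    obtain ⟨U0, hU0, hx0, -⟩ := exists_isAffineOpen_mem_and_subset (x := x) (U := ⊤) trivial
    obtain ⟨ω, hω, ⟨e⟩⟩ := hK Γ(X, U0) hU0.fromSpec
    obtain ⟨a, b', -, hge, hle⟩ := exists_bounds_of_isDualizing hω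
    haveI : Module.Free (X.presheaf.stalk x) ((DCoh.HD K c).presheaf.stalk x) := Module.Free.of_equiv b.symm
    obtain ⟨U1, n, hx1, ⟨e1⟩⟩ := QCoh.exists_free_nhd_of_free_stalk (QCoh.isCoh_iff_isFP.1 (hcoh c)) x
    obtain rfl : n = 1 := by
      obtain ⟨_, ⟨V, hV, rfl⟩, hxV, hle'⟩ := X.isBasis_affineOpens.exists_subset_of_mem_open hx1 U1.2
      obtain ⟨l⟩ := QCoh.free_sections (V := V) hV hle' e1
      rw [← QCoh.finrank_stalk_of_freeChart hV (hcoh c).1 l hxV, b.finrank_eq, Module.finrank_self]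
    let O : ℤ → X.Opens := fun i =>
      ⟨(CohB1.support (DCoh.HD K i))ᶜ, (QCoh.isClosed_support_of_isFT (hcoh i).1 (hcoh i).2).isOpen_compl⟩
    let W : X.Opens := U0 ⊓ U1 ⊓ ((Finset.Icc a b').erase c).inf O
    have hxW : x ∈ W := by
      refine ⟨⟨hx0, hx1⟩, ?_⟩
      generalize hs : (Finset.Icc a b').erase c = s
      have hsc : c ∉ s := hs ▸ Finset.notMem_erase _ _
      clear hs W
      induction s using Finset.cons_induction with
      | empty => simp
      | cons i s hi ih =>
        rw [Finset.mem_cons, not_or] at hsc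
        rw [Finset.inf_cons]
        refine ⟨?_, ih hsc.2⟩
        have := hc i fun h => hsc.1 h.symm
        exact fun h => h this
    have hstalk : ∀ i, i ≠ c → ∀ y : X, y ∈ W → Subsingleton ((DCoh.HD K i).presheaf.stalk y) := by
      intro i hi y hy
      by_cases hab : i ∈ Finset.Icc a b'
      · have hy' : y ∈ O i :=
          (Finset.inf_le (f := O) (Finset.mem_erase.2 ⟨hi, hab⟩) : _ ≤ O i) hy.2
        exact not_not.1 hy'
      · obtain ⟨σ, g, -⟩ := exists_stalk_equiv hK hU0 hy.1.1 e i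
        rw [Finset.mem_Icc, not_and_or] at hab
        haveI : Subsingleton (Dual.HD Γ(X, U0) ω i) := by
          rcases hab with h | h
          · exact ModuleCat.subsingleton_of_isZero (ω.isZero_of_isGE a i (by omega))
          · exact ModuleCat.subsingleton_of_isZero (ω.isZero_of_isLE b' i (by omega))
        exact g.symm.injective.subsingleton
    let KW := (DCoh.restrictD W.ι).obj K
    have hz : ∀ i, i ≠ c → IsZero (DCoh.HD KW i) := fun i hi => by
      refine IsZero.of_iso ?_ (restrictHDIso W.ι K i)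
      refine isZero_of_stalk _ fun y => @ModuleCat.isZero_of_subsingleton _ _ _ ?_
      exact ((Scheme.Modules.restrictStalkNatIso W.ι y).app (DCoh.HD K i)).addCommGroupIsoToAddEquiv.toEquiv.subsingleton_congr.2
        (hstalk i hi y.1 y.2)
    haveI : KW.IsGE c := (DerivedCategory.isGE_iff _ _).2 fun i hi => hz i (by omega)
    haveI : KW.IsLE c := (DerivedCategory.isLE_iff _ _).2 fun i hi => hz i (by omega)
    obtain ⟨M, ⟨eM⟩⟩ := DerivedCategory.exists_iso_singleFunctor_obj_of_isGE_of_isLE KW c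
    let eM' : M ≅ Coh.structureModule (W : Scheme.{u}) :=
      ((DerivedCategory.singleFunctorCompHomologyFunctorIso (W : Scheme.{u}).Modules c).app M).symm ≪≫
        ((DerivedCategory.homologyFunctor (W : Scheme.{u}).Modules c).mapIso eM).symm ≪≫
          restrictHDIso W.ι K c ≪≫ restrictFreeIso (inf_le_left.trans inf_le_right) e1 ≪≫ H23.DblAlg.freeOneIso _
    refine ⟨W, -c, hxW, ⟨eM ≪≫ (DerivedCategory.singleFunctor _ c).mapIso eM' ≪≫
      (((DerivedCategory.singleFunctors (W : Scheme.{u}).Modules).shiftIso (-c) c 0 (by omega)).app _).symm⟩⟩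
  · intro hI
    refine ⟨inferInstance, fun x => (gorenstein_stalk_iff hK x).2 ?_⟩
    obtain ⟨U, n, hx, ⟨e⟩⟩ := hI x
    let F := DerivedCategory.homologyFunctor (U : Scheme.{u}).Modules
    let eh : ∀ i, (DCoh.HD K i).restrict U.ι ≅ (F (n + i)).obj (DCoh.inD _ (Coh.structureModule (U : Scheme.{u}))) :=
      fun i => (restrictHDIso U.ι K i).symm ≪≫ (F i).mapIso e ≪≫
        ((DerivedCategory.homologyFunctor (U : Scheme.{u}).Modules 0).shiftIso n i (n + i) rfl).app _
    refine ⟨-n, fun i hi => subsingleton_stalk_of_isZero_restrict (IsZero.of_iso ?_ (eh i)) hx, ?_⟩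
    · rcases lt_or_gt_of_ne (show n + i ≠ 0 by omega) with h | h
      · exact DerivedCategory.isZero_of_isGE _ 0 _ h
      · exact DerivedCategory.isZero_of_isLE _ 0 _ h
    · refine exists_stalk_linearEquiv_of_free (hcoh (-n)).1 (eh (-n) ≪≫ eqToIso (congrArg (fun k => (F k).obj (DCoh.inD _ (Coh.structureModule (U : Scheme.{u})))) (add_neg_cancel n)) ≪≫
        (DerivedCategory.singleFunctorCompHomologyFunctorIso (U : Scheme.{u}).Modules 0).app _ ≪≫
          (H23.DblAlg.freeOneIso _).symm) hx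

end Scheme

end Groth.Agent.KExact
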