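import Groth.Agent.H26.IdealCl
import Mathlib.AlgebraicGeometry.AffineSpace
import Mathlib.AlgebraicGeometry.IdealSheaf.Functorial
import Mathlib.Algebra.MvPolynomial.Equiv
import Mathlib.Algebra.Polynomial.Monic

/-!
# A section of the affine line is a principal divisor
-/

set_option autoImplicit false
set_option linter.style.haveILetI false
set_option backward.isDefEq.respectTransparency false
set_option backward.isDefEq.respectTransparency.types false

universe u

open CategoryTheory CategoryTheory.Limits AlgebraicGeometry TopologicalSpace Opposite MvPolynomial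
open Groth.Agent.H23
open scoped Groth.Agent.H23.PicMul

namespace Groth.Agent.KExact.A1Section

variable {n : Type u} [Unique n] {Z : Scheme.{u}}

lemma X_sub_C_mem_nonZeroDivisors {R : Type u} [CommRing R] (r : R) :
    (X (default : n) - C r : MvPolynomial n R) ∈ nonZeroDivisors (MvPolynomial n R) := by
  let e := uniqueAlgEquiv R n
  have he : e (X (default : n) - C r) = Polynomial.X - Polynomial.C r := by
    simp [e, uniqueAlgEquiv]
  have h : e (X (default : n) - C r) ∈ nonZeroDivisors (Polynomial R) := by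
    rw [he]; exact (Polynomial.monic_X_sub_C r).mem_nonZeroDivisors
  refine mem_nonZeroDivisors_iff_right.2 fun p hp => e.injective ?_
  rw [map_zero]
  exact mem_nonZeroDivisors_iff_right.1 h _ (by rw [← map_mul, hp, map_zero])

/-- The equation of the section `c`. -/
noncomputable def eqn (n : Type u) [Unique n] (c : Γ(Z, ⊤)) : Γ(𝔸(n; Z), ⊤) :=
  AffineSpace.coord Z (default : n) - (𝔸(n; Z) ↘ Z).appTop c

lemma eqn_nzd_affine [IsAffine Z] (c : Γ(Z, ⊤)) : eqn n c ∈ nonZeroDivisors Γ(𝔸(n; Z), ⊤) := by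
  let e := AffineSpace.isoOfIsAffine n Z
  let σ : Γ(𝔸(n; Z), ⊤) →+* MvPolynomial n Γ(Z, ⊤) :=
    ((Scheme.ΓSpecIso (CommRingCat.of (MvPolynomial n Γ(Z, ⊤)))).hom).hom.comp e.inv.appTop.hom
  have hinj : Function.Injective σ :=
    (ConcreteCategory.bijective_of_isIso (Scheme.ΓSpecIso _).hom).1.comp
      (ConcreteCategory.bijective_of_isIso e.inv.appTop).1
  have h1 : σ (AffineSpace.coord Z (default : n)) = X (default : n) := by
    change (Scheme.ΓSpecIso _).hom (e.inv.appTop (AffineSpace.coord Z (default : n))) = _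
    rw [AffineSpace.isoOfIsAffine_inv_appTop_coord]
    exact (Scheme.ΓSpecIso _).commRingCatIsoToRingEquiv.apply_symm_apply _
  have h2 : σ ((𝔸(n; Z) ↘ Z).appTop c) = C c := by
    change ((𝔸(n; Z) ↘ Z).appTop ≫ e.inv.appTop ≫ (Scheme.ΓSpecIso _).hom) c = _
    rw [← Scheme.Hom.comp_appTop_assoc, AffineSpace.isoOfIsAffine_inv_over, Scheme.Hom.comp_appTop,
      Category.assoc]
    erw [Scheme.ΓSpecIso_naturality (CommRingCat.ofHom C)]
    rw [← Category.assoc]
    have h3 : Z.isoSpec.inv.appTop ≫ (Scheme.ΓSpecIso Γ(Z, ⊤)).hom = 𝟙 _ := by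
      rw [← cancel_mono (Scheme.ΓSpecIso Γ(Z, ⊤)).inv, Category.assoc, Iso.hom_inv_id, Category.comp_id,
        Category.id_comp, ← cancel_epi Z.isoSpec.hom.appTop, ← Scheme.Hom.comp_appTop, Iso.inv_hom_id]
      simp [Scheme.isoSpec]
    rw [h3]
    rfl
  refine mem_nonZeroDivisors_iff_right.2 fun a ha => hinj ?_
  rw [map_zero]
  refine mem_nonZeroDivisors_iff_right.1 (X_sub_C_mem_nonZeroDivisors (n := n) c) _ ?_
  rw [← h1, ← h2, ← map_sub, ← map_mul]
  exact (congrArg σ ha).trans (map_zero σ)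

lemma eqn_nzd_over (c : Γ(Z, ⊤)) {V : Z.Opens} (hV : IsAffineOpen V) :
    (𝔸(n; Z)).presheaf.map (homOfLE le_top).op (eqn n c) ∈
      nonZeroDivisors Γ(𝔸(n; Z), (𝔸(n; Z) ↘ Z) ⁻¹ᵁ V) := by
  haveI : IsAffine (V : Scheme.{u}) := hV
  let m := AffineSpace.map n V.ι
  haveI : IsOpenImmersion m :=
    MorphismProperty.of_isPullback (P := @IsOpenImmersion) (AffineSpace.isPullback_map V.ι).flip inferInstance
  have hrange : m.opensRange = (𝔸(n; Z) ↘ Z) ⁻¹ᵁ V := by
    have h := IsOpenImmersion.image_preimage_eq_preimage_image_of_isPullback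
      (AffineSpace.isPullback_map (n := n) V.ι).flip ⊤
    rw [Scheme.Hom.preimage_top, Scheme.Hom.image_top_eq_opensRange, Scheme.Opens.ι_image_top] at h
    exact h
  have h1 : m.appTop (eqn n c) = eqn n (V.ι.appTop c) := by
    simp only [eqn, map_sub, m, AffineSpace.map_appTop_coord]
    congr 1
    change ((𝔸(n; Z) ↘ Z).appTop ≫ (AffineSpace.map n V.ι).appTop) c = _
    rw [← Scheme.Hom.comp_appTop, AffineSpace.map_over, Scheme.Hom.comp_appTop]
    rfl
  let i : Γ(𝔸(n; Z), m.opensRange) ⟶ Γ(𝔸(n; (V : Scheme.{u})), ⊤) := m.appLE m.opensRange ⊤ (by simp)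
  have hi : Function.Injective i.hom := by
    haveI : IsIso i := by
      change IsIso (m.appLE _ _ _)
      rw [show m.appLE m.opensRange ⊤ (by simp) = m.app m.opensRange ≫
        (𝔸(n; (V : Scheme.{u}))).presheaf.map (eqToHom (by simp)).op from rfl]
      haveI : IsIso (m.app m.opensRange) := m.isIso_app m.opensRange le_rfl
      infer_instance
    exact (ConcreteCategory.bijective_of_isIso i).1
  rw [← hrange]
  refine mem_nonZeroDivisors_iff_right.2 fun a ha => hi ?_
  refine Eq.trans ?_ (map_zero i.hom).symm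
  refine mem_nonZeroDivisors_iff_right.1 (eqn_nzd_affine (n := n) (V.ι.appTop c)) _ ?_
  have h2 : i.hom ((𝔸(n; Z)).presheaf.map (homOfLE le_top).op (eqn n c)) = eqn n (V.ι.appTop c) := by
    rw [← h1]
    change ((𝔸(n; Z)).presheaf.map (homOfLE le_top).op ≫ m.appLE _ _ _) (eqn n c) = _
    rw [Scheme.Hom.map_appLE, Scheme.Hom.appTop, Scheme.Hom.app_eq_appLE]
    rfl
  rw [← h2, ← map_mul]
  exact (congrArg i.hom ha).trans (map_zero i.hom)

/-- Regularity of a global function can be checked on an affine cover. -/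
lemma nzd_of_cover {W : Scheme.{u}} (t : Γ(W, ⊤))
    (h : ∀ w : W, ∃ A : W.Opens, IsAffineOpen A ∧ w ∈ A ∧
      W.presheaf.map (homOfLE le_top).op t ∈ nonZeroDivisors Γ(W, A)) (U : W.Opens) :
    W.presheaf.map (homOfLE le_top).op t ∈ nonZeroDivisors Γ(W, U) := by
  refine mem_nonZeroDivisors_iff_right.2 fun a ha => ?_
  choose A hA hwA ht using h
  have hB : ∀ w : U, ∃ f : Γ(W, A w), (w : W) ∈ W.basicOpen f ∧ W.basicOpen f ≤ U := fun w => by
    obtain ⟨f, hf, hwf⟩ := (hA w).exists_basicOpen_le ⟨(w : W), w.2⟩ (hwA w)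
    exact ⟨f, hwf, hf⟩
  choose f hwf hfU using hB
  refine W.sheaf.eq_of_locally_eq' (fun w : U => W.basicOpen (f w)) U (fun w => homOfLE (hfU w))
    (fun x hx => Opens.mem_iSup.2 ⟨⟨x, hx⟩, hwf ⟨x, hx⟩⟩) _ _ fun w => ?_
  change W.presheaf.map (homOfLE (hfU w)).op a = W.presheaf.map (homOfLE (hfU w)).op 0
  rw [map_zero]
  have h0 := congrArg (W.presheaf.map (homOfLE (hfU w)).op) ha
  rw [map_mul, map_zero] at h0
  have e : W.presheaf.map (homOfLE (hfU w)).op (W.presheaf.map (homOfLE le_top).op t) =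
      algebraMap Γ(W, A w) Γ(W, W.basicOpen (f w)) (W.presheaf.map (homOfLE le_top).op t) := by
    show _ = W.presheaf.map (homOfLE (W.basicOpen_le (f w))).op (W.presheaf.map (homOfLE le_top).op t)
    rw [← CommRingCat.comp_apply, ← CommRingCat.comp_apply, ← Functor.map_comp, ← Functor.map_comp]
    rfl
  rw [e] at h0
  haveI := (hA w).isLocalization_basicOpen (f w)
  generalize W.presheaf.map (homOfLE (hfU w)).op a = b at h0 ⊢
  obtain ⟨r, s, rfl⟩ := IsLocalization.exists_mk'_eq (Submonoid.powers (f w)) b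
  rw [← IsLocalization.mk'_one (M := Submonoid.powers (f w)) Γ(W, W.basicOpen (f w)), ← IsLocalization.mk'_mul,
    IsLocalization.mk'_eq_zero_iff] at h0
  obtain ⟨m, hm⟩ := h0
  rw [IsLocalization.mk'_eq_zero_iff]
  refine ⟨m, mem_nonZeroDivisors_iff_right.1 (ht w) _ ?_⟩
  rwa [mul_assoc]

/-- A section of the affine line is cut out by one regular function. -/
theorem exists_divisor (c : Γ(Z, ⊤)) :
    ∃ I : (𝔸(n; Z)).IdealSheafData, BlowUp.IsEffCartierIdeal I ∧
      Nonempty (ClSub.idealMod I ≅ Coh.structureModule 𝔸(n; Z)) ∧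
      ∃ h : Z ≅ I.subscheme, h.hom ≫ I.subschemeι = AffineSpace.homOfVector (𝟙 Z) (fun _ : n => c) := by
  let p := 𝔸(n; Z) ↘ Z
  let t := eqn n c
  let res : ∀ U : (𝔸(n; Z)).Opens, Γ(𝔸(n; Z), U) := fun U => (𝔸(n; Z)).presheaf.map (homOfLE le_top).op t
  have hcov : ∀ w : 𝔸(n; Z), ∃ A : (𝔸(n; Z)).Opens, IsAffineOpen A ∧ w ∈ A ∧ res A ∈ nonZeroDivisors Γ(𝔸(n; Z), A) :=
    fun w => by
      obtain ⟨V, hV, hwV, -⟩ := exists_isAffineOpen_mem_and_subset (X := Z) (x := p.base w) (U := ⊤) trivial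
      exact ⟨p ⁻¹ᵁ V, hV.preimage p, hwV, eqn_nzd_over c hV⟩
  let I : (𝔸(n; Z)).IdealSheafData := Scheme.IdealSheafData.ofIdealTop (Ideal.span {t})
  have hIU : ∀ U : (𝔸(n; Z)).affineOpens, I.ideal U = Ideal.span {res U.1} := fun U => by
    rw [Scheme.IdealSheafData.ofIdealTop_ideal, Ideal.map_span, Set.image_singleton]
  refine ⟨I, fun w => ?_, ?_, ?_⟩
  · obtain ⟨A, hA, hwA, hA'⟩ := hcov w
    exact ⟨⟨A, hA⟩, hwA, res A, hA', hIU ⟨A, hA⟩⟩
  · refine PicMul.cl_eq_iff.1 (?_ : PicF.cl (ClSub.idealMod I) = PicF.cl (Coh.structureModule 𝔸(n; Z)))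
    have h1 := H26.IdealCl.cl_principal I res (fun {U V} h => by
      change ((𝔸(n; Z)).presheaf.map (homOfLE le_top).op ≫ (𝔸(n; Z)).presheaf.map (homOfLE h).op) t = _
      rw [← Functor.map_comp]; rfl) (fun U => nzd_of_cover t hcov U.1) hIU
    rw [h1]
    rfl
  · let σ : Z ⟶ 𝔸(n; Z) := AffineSpace.homOfVector (𝟙 Z) (fun _ : n => c)
    have hσp : σ ≫ p = 𝟙 Z := AffineSpace.homOfVector_over _ _
    haveI : IsClosedImmersion (σ ≫ p) := by rw [hσp]; infer_instance
    haveI : IsClosedImmersion σ := IsClosedImmersion.of_comp σ p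
    have hσt : σ.appTop t = 0 := by
      have h2 : σ.appTop (p.appTop c) = c := by
        change (p.appTop ≫ σ.appTop) c = c
        rw [← Scheme.Hom.comp_appTop, hσp]
        rfl
      simp only [t, eqn, map_sub]
      rw [AffineSpace.homOfVector_appTop_coord, h2, sub_self]
    have hker : I.subschemeι.ker ≤ σ.ker := by
      rw [Scheme.IdealSheafData.ker_subschemeι]
      intro U
      rw [hIU U, Scheme.Hom.ker_apply, Ideal.span_le, Set.singleton_subset_iff]
      change σ.app U.1 (res U.1) = 0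
      change ((𝔸(n; Z)).presheaf.map (homOfLE le_top).op ≫ σ.app U.1) t = 0
      rw [σ.naturality, CommRingCat.comp_apply]
      exact (congrArg (Z.presheaf.map _) hσt).trans (map_zero _)
    have hιt : I.subschemeι.appTop t = 0 := by
      refine I.subscheme.sheaf.eq_of_locally_eq' (fun U : (𝔸(n; Z)).affineOpens => I.subschemeι ⁻¹ᵁ U.1) ⊤
        (fun U => homOfLE le_top) (fun x _ => ?_) _ _ fun U => ?_
      · obtain ⟨U, hU, hxU, -⟩ := exists_isAffineOpen_mem_and_subset (X := 𝔸(n; Z))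
          (x := I.subschemeι.base x) (U := ⊤) trivial
        exact Opens.mem_iSup.2 ⟨⟨U, hU⟩, hxU⟩
      · change (I.subschemeι.appTop ≫ I.subscheme.presheaf.map (homOfLE le_top).op) t =
          I.subscheme.presheaf.map (homOfLE le_top).op 0
        rw [map_zero, show I.subschemeι.appTop ≫ I.subscheme.presheaf.map (homOfLE le_top).op =
          (𝔸(n; Z)).presheaf.map (homOfLE (le_top : U.1 ≤ ⊤)).op ≫ I.subschemeι.app U.1 from
            (I.subschemeι.naturality (homOfLE (le_top : U.1 ≤ ⊤)).op).symm, CommRingCat.comp_apply]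
        have h3 : res U.1 ∈ RingHom.ker (I.subschemeι.app U.1).hom := by
          rw [I.ker_subschemeι_app, hIU U]
          exact Ideal.subset_span rfl
        exact h3
    let h := IsClosedImmersion.lift I.subschemeι σ hker
    have hh : h ≫ I.subschemeι = σ := IsClosedImmersion.lift_fac _ _ _
    refine ⟨⟨h, I.subschemeι ≫ p, ?_, ?_⟩, hh⟩
    · rw [← Category.assoc, hh, hσp]
    · rw [← cancel_mono I.subschemeι, Category.assoc, hh, Category.id_comp]
      refine AffineSpace.hom_ext ?_ fun i => ?_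
      · simp only [Category.assoc]
        rw [hσp, Category.comp_id]
      · rw [Unique.eq_default i, Scheme.Hom.comp_appTop, CommRingCat.comp_apply,
          AffineSpace.homOfVector_appTop_coord, Scheme.Hom.comp_appTop, CommRingCat.comp_apply]
        simp only [t, eqn, map_sub, sub_eq_zero] at hιt
        exact hιt.symm

end Groth.Agent.KExact.A1Section
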