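import Groth.Agent.KExact.CartierShriek
import Groth.Agent.KExact.A1Section
import Groth.Agent.S12182

/-!
# The twisted inverse image of the affine line
-/

set_option autoImplicit false
set_option linter.style.haveILetI false
set_option linter.unusedSectionVars false
set_option backward.isDefEq.respectTransparency false
set_option backward.isDefEq.respectTransparency.types false

universe u

open CategoryTheory CategoryTheory.Limits AlgebraicGeometry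

attribute [local instance] HasDerivedCategory.standard

namespace Groth.Agent.KExact.A1Shriek

open KFlatLib KFlatLib.BCLoc KFlatLib.SecPoint BCNat BCComp

/-- `L(1)^*` is the identity. -/
theorem nonempty_lpull_id {X : Scheme.{u}} (k : X ⟶ X) (hk : k = 𝟙 X) [DCoh.HasLpull k] :
    Nonempty (DCoh.Lpull k ≅ 𝟭 _) := by
  subst hk
  obtain ⟨e⟩ := nonempty_rho_iso_lpull (𝟙 X)
  obtain ⟨e'⟩ := AffineLift.nonempty_rho_id (𝟙 X) rfl
  exact ⟨e.symm ≪≫ e'⟩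

/-- Composites of derived pullbacks. -/
theorem nonempty_lpull_comp' {X Y Z : Scheme.{u}} (f : X ⟶ Y) (g : Y ⟶ Z) (k : X ⟶ Z) (h : f ≫ g = k)
    [DCoh.HasLpull f] [DCoh.HasLpull g] [DCoh.HasLpull k] :
    Nonempty (DCoh.Lpull g ⋙ DCoh.Lpull f ≅ DCoh.Lpull k) := by
  subst h
  exact nonempty_lpull_comp f g

set_option maxHeartbeats 800000 in
/-- `f^! ≅ f^*[1]` for the affine line. -/
theorem nonempty_iso {n : Type u} [Unique n] {Y Xb : Scheme.{u}} [IsNoetherian Y]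
    (j : 𝔸(n; Y) ⟶ Xb) [IsOpenImmersion j] (φ : Xb ⟶ Y) [IsProper φ] (hj : j ≫ φ = 𝔸(n; Y) ↘ Y)
    [DCoh.HasRpush φ] {hφ : DCoh.RpushPreservesQCoh φ} {a : DCoh.DQCoh Y ⥤ DCoh.DQCoh Xb}
    (adj : DCoh.RpushQ φ hφ ⊣ a) [DCoh.HasLpull (𝔸(n; Y) ↘ Y)] :
    Nonempty (Dual3.bddι Y ⋙ a ⋙ ObjectProperty.ι _ ⋙ rho j ≅
      Dual3.bddι Y ⋙ ObjectProperty.ι _ ⋙ DCoh.Lpull (𝔸(n; Y) ↘ Y) ⋙
        shiftFunctor (DCoh.D 𝔸(n; Y)) (1 : ℤ)) := by
  let f : 𝔸(n; Y) ⟶ Y := 𝔸(n; Y) ↘ Y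
  let X := 𝔸(n; Y)
  haveI : Smooth f := S12182.smooth_affineSpace n Y
  haveI : QuasiCompact f := inferInstance
  haveI : QuasiSeparated f := inferInstance
  haveI : IsNoetherian X := isNoetherian_of_ft f
  haveI : IsNoetherian Xb := isNoetherian_of_ft φ
  let r := pullback.fst φ f
  let p := pullback.snd φ f
  haveI : IsNoetherian (pullback φ f) := isNoetherian_of_ft p
  let p₀ : 𝔸(n; X) ⟶ X := 𝔸(n; X) ↘ X
  let r₀ : 𝔸(n; X) ⟶ X := AffineSpace.map n f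
  have sq₀ : IsPullback r₀ p₀ f f := AffineSpace.isPullback_map f
  haveI : Smooth p₀ := S12182.smooth_affineSpace n X
  haveI : Flat r₀ := MorphismProperty.of_isPullback (P := @Flat) sq₀.flip inferInstance
  haveI : IsNoetherian 𝔸(n; X) := isNoetherian_of_ft p₀
  let e : 𝔸(n; X) ⟶ pullback φ f := pullback.lift (r₀ ≫ j) p₀ (by rw [Category.assoc, hj]; exact sq₀.w)
  have her : e ≫ r = r₀ ≫ j := pullback.lift_fst _ _ _
  have hep : e ≫ p = p₀ := pullback.lift_snd _ _ _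
  have hs₀ : IsPullback r₀ (e ≫ p) (j ≫ φ) f := by rw [hep, hj]; exact sq₀
  haveI : IsOpenImmersion e := MorphismProperty.of_isPullback (P := @IsOpenImmersion)
    (hs₀.of_bot her.symm (IsPullback.of_hasPullback φ f)) ‹IsOpenImmersion j›
  let c := AffineSpace.coord Y (default : n)
  obtain ⟨I, hI, hO, h, hh⟩ := A1Section.exists_divisor (n := n) (Z := X) c
  let σ : X ⟶ 𝔸(n; X) := AffineSpace.homOfVector (𝟙 X) (fun _ : n => c)
  have hσp : σ ≫ p₀ = 𝟙 X := AffineSpace.homOfVector_over _ _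
  have hσr : σ ≫ r₀ = 𝟙 X := by
    refine AffineSpace.hom_ext ?_ fun i => ?_
    · rw [Category.assoc, sq₀.w, reassoc_of% hσp, Category.id_comp]
    · rw [Scheme.Hom.comp_appTop, CommRingCat.comp_apply]
      change σ.appTop ((AffineSpace.map n f).appTop (AffineSpace.coord Y i)) = _
      rw [AffineSpace.map_appTop_coord, AffineSpace.homOfVector_appTop_coord, Unique.eq_default i]
      rfl
  let s : X ⟶ pullback φ f := σ ≫ e
  have hsp : s ≫ p = 𝟙 X := by rw [Category.assoc, hep, hσp]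
  haveI : IsClosedImmersion (s ≫ p) := by rw [hsp]; infer_instance
  haveI : IsClosedImmersion s := IsClosedImmersion.of_comp s p
  haveI : IsProper s := inferInstance
  let iI := I.subschemeι
  have hperf : MoreMor.IsPerfectMor iI := by
    refine S1510.result iI p₀ ?_
    have e1 : iI ≫ p₀ = h.inv := by
      rw [← cancel_epi h.hom, ← Category.assoc, hh, hσp, Iso.hom_inv_id]
    rw [e1]
    exact PerfMor.perfMor_of_flat h.inv
  have hsqI : IsPullback h.inv iI s e := by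
    refine IsPullback.of_horiz_isIso_mono ⟨?_⟩
    change h.inv ≫ σ ≫ e = iI ≫ e
    rw [← Category.assoc, show σ = h.hom ≫ iI from hh.symm, Iso.inv_hom_id_assoc]
  haveI := hasRpush_scheme p
  haveI := hasRpush_scheme s
  haveI := hasRpush_scheme iI
  haveI := hasRpush_scheme (𝟙 X)
  haveI : IsNoetherian I.subscheme := isNoetherian_of_ft iI
  have hp : DCoh.RpushPreservesQCoh p := fun K hK => isQCohD_rpush p hK
  have hs : DCoh.RpushPreservesQCoh s := fun K hK => isQCohD_rpush s hK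
  have hi : DCoh.RpushPreservesQCoh iI := fun K hK => isQCohD_rpush iI hK
  have h1 : DCoh.RpushPreservesQCoh (𝟙 X) := fun K hK => isQCohD_rpush (𝟙 X) hK
  obtain ⟨ap, ⟨adjp⟩⟩ := exists_adj p hp
  obtain ⟨as, ⟨adjs⟩⟩ := exists_adj s hs
  obtain ⟨ai, ⟨adji⟩⟩ := exists_adj iI hi
  obtain ⟨i1⟩ := nonempty_rpushQ_id h1
  obtain ⟨cps⟩ := nonempty_rpushQ_comp s p (𝟙 X) hsp hs hp h1
  obtain ⟨eps⟩ := nonempty_right_iso_id (adjs.comp adjp) (cps ≪≫ i1)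
  obtain ⟨B⟩ := nonempty_bc_iso (IsPullback.of_hasPullback φ f) adj adjp
  obtain ⟨C⟩ := nonempty_bc_iso hsqI adjs adji
  haveI := hasLpull iI
  obtain ⟨D⟩ := CartierShriek.nonempty_shriek_iso I hI hO hperf adji
  haveI : Flat r := MorphismProperty.of_isPullback (P := @Flat) (IsPullback.of_hasPullback φ f).flip inferInstance
  obtain ⟨c₁⟩ := nonempty_LQ_comp r₀ j (r₀ ≫ j) rfl
  obtain ⟨c₂⟩ := nonempty_LQ_comp e r (r₀ ≫ j) her
  haveI := hasLpull r₀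
  haveI := hasLpull σ
  haveI := hasLpull h.inv
  haveI := hasLpull h.hom
  haveI := hasLpull (h.hom ≫ h.inv)
  haveI := hasLpull (h.inv ≫ h.hom)
  haveI := hasLpull (σ ≫ r₀)
  obtain ⟨k₁⟩ := nonempty_lpull_comp' h.hom h.inv (h.hom ≫ h.inv) rfl
  obtain ⟨k₂⟩ := nonempty_lpull_id (h.hom ≫ h.inv) h.hom_inv_id
  obtain ⟨k₃⟩ := nonempty_lpull_comp' h.hom iI σ hh
  obtain ⟨k₄⟩ := nonempty_lpull_comp' σ r₀ (σ ≫ r₀) rfl
  obtain ⟨k₅⟩ := nonempty_lpull_id (σ ≫ r₀) hσr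
  obtain ⟨lj⟩ := nonempty_pullD_iso_rho j
  let G : (Dual3.IsBddBelowQ Y).FullSubcategory ⥤ (Dual3.IsBddBelowQ (pullback φ f)).FullSubcategory :=
    ObjectProperty.lift _ (Dual3.bddι Y ⋙ a ⋙ LQ r) fun K =>
      BCBdd.isBddBelowQ_LQ r _ (isBddBelowQ_a φ adj _ K.property)
  let G' : (Dual3.IsBddBelowQ Y).FullSubcategory ⥤ (Dual3.IsBddBelowQ 𝔸(n; X)).FullSubcategory :=
    ObjectProperty.lift _ (Dual3.bddι Y ⋙ a ⋙ LQ r ⋙ LQ e) fun K =>
      BCBdd.isBddBelowQ_LQ e _ (BCBdd.isBddBelowQ_LQ r _ (isBddBelowQ_a φ adj _ K.property))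
  let P := Dual3.bddι Y ⋙ a ⋙ ObjectProperty.ι _ ⋙ rho j
  let E₁ : Dual3.bddι Y ⋙ LQ f ⋙ LQ h.inv ≅ G' ⋙ Dual3.bddι _ ⋙ ai :=
    Functor.isoWhiskerLeft (Dual3.bddι Y ⋙ LQ f) (Functor.isoWhiskerRight eps.symm (LQ h.inv)) ≪≫
      Functor.isoWhiskerRight B.symm (as ⋙ LQ h.inv) ≪≫ Functor.isoWhiskerLeft G C
  let E₂ : Dual3.bddι Y ⋙ ObjectProperty.ι _ ⋙ pullD f ⋙ pullD h.inv ≅
      P ⋙ DCoh.Lpull r₀ ⋙ DCoh.Lpull iI ⋙ shiftFunctor (DCoh.D I.subscheme) (-1 : ℤ) :=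
    Functor.isoWhiskerRight E₁ (ObjectProperty.ι _) ≪≫ Functor.isoWhiskerLeft G' D ≪≫
      Functor.isoWhiskerLeft (Dual3.bddι Y ⋙ a)
        (Functor.isoWhiskerRight (c₂ ≪≫ c₁.symm)
          (ObjectProperty.ι _ ⋙ DCoh.Lpull iI ⋙ shiftFunctor (DCoh.D I.subscheme) (-1 : ℤ))) ≪≫
      Functor.isoWhiskerLeft (Dual3.bddι Y ⋙ a ⋙ ObjectProperty.ι _)
        (Functor.isoWhiskerRight lj
            (pullD r₀ ⋙ DCoh.Lpull iI ⋙ shiftFunctor (DCoh.D I.subscheme) (-1 : ℤ)) ≪≫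
          Functor.isoWhiskerLeft (rho j) (Functor.isoWhiskerRight (lpullPullIso r₀).symm
            (DCoh.Lpull iI ⋙ shiftFunctor (DCoh.D I.subscheme) (-1 : ℤ))))
  let kinv : pullD h.inv ⋙ pullD h.hom ≅ 𝟭 (DCoh.D X) :=
    Functor.isoWhiskerRight (lpullPullIso h.inv).symm _ ≪≫
      Functor.isoWhiskerLeft _ (lpullPullIso h.hom).symm ≪≫ k₁ ≪≫ k₂
  let E₃ : Dual3.bddι Y ⋙ ObjectProperty.ι _ ⋙ pullD f ≅ P ⋙ shiftFunctor (DCoh.D X) (-1 : ℤ) :=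
    Functor.isoWhiskerLeft (Dual3.bddι Y ⋙ ObjectProperty.ι _ ⋙ pullD f) kinv.symm ≪≫
      Functor.isoWhiskerRight E₂ (pullD h.hom) ≪≫
      Functor.isoWhiskerLeft (P ⋙ DCoh.Lpull r₀ ⋙ DCoh.Lpull iI)
        ((pullD h.hom).commShiftIso (-1 : ℤ)) ≪≫
      Functor.isoWhiskerLeft P (Functor.isoWhiskerRight
        (Functor.isoWhiskerLeft (DCoh.Lpull r₀ ⋙ DCoh.Lpull iI) (lpullPullIso h.hom).symm ≪≫
          Functor.isoWhiskerLeft (DCoh.Lpull r₀) k₃ ≪≫ k₄ ≪≫ k₅)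
        (shiftFunctor (DCoh.D X) (-1 : ℤ)))
  exact ⟨Functor.isoWhiskerLeft P (shiftFunctorCompIsoId (DCoh.D X) (-1 : ℤ) 1 (by omega)).symm ≪≫
    Functor.isoWhiskerRight (E₃.symm ≪≫
      Functor.isoWhiskerLeft (Dual3.bddι Y ⋙ ObjectProperty.ι _) (lpullPullIso f).symm)
      (shiftFunctor (DCoh.D X) (1 : ℤ))⟩

end Groth.Agent.KExact.A1Shriek
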