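import Groth.Prelude.Def_DualSch
import Groth.Agent.KFlatLib.Scheme.DualizingCM
import Groth.Agent.KFlatLib.Ring.DualizingPure
import Groth.Agent.QCoh.Stalk
import Groth.Agent.QCoh.FT
import Groth.Agent.QCoh.Tilde
import Groth.Agent.Codepth5.SemiInv
import Groth.Agent.Synt29.SmoothProps

/-!
# The bottom cohomology of a dualizing object: `(S₂)` and torsion-freeness
-/

set_option autoImplicit false
set_option linter.style.haveILetI false
set_option backward.isDefEq.respectTransparency false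
set_option backward.isDefEq.respectTransparency.types false

universe u

open CategoryTheory CategoryTheory.Limits AlgebraicGeometry

attribute [local instance] HasDerivedCategory.standard

namespace Groth.Agent.KExact

open KFlatLib KFlatLib.DualizingCM

section Ring

variable {A : Type u} [CommRing A] [IsNoetherianRing A] {ω : Dual.D A}

/-- The bottom cohomology of a dualizing complex is `(S₂)`, and torsion free over a domain. -/
theorem bottom_hasSk_two_and_torsionFree (hω : Dual.IsDualizing A ω) (c : ℤ) [ω.IsGE c] :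
    LocCoh.HasSk 2 A (Dual.HD A ω c) ∧
      (IsDomain A → ∀ (r : A) (m : Dual.HD A ω c), r ≠ 0 → r • m = 0 → m = 0) := by
  obtain ⟨n, hn, -, hmono, -⟩ := exists_extDegree hω
  have hc : ∀ Q, c ≤ n Q := fun Q => by
    by_contra hlt
    haveI := (hn Q (n Q)).2 rfl
    haveI : (ω⟦n Q⟧).IsGE (c - n Q) := DerivedCategory.TStructure.t.isGE_shift ω c (n Q) (c - n Q)
    haveI : Subsingleton (Dual.inD A (A ⧸ Q.asIdeal) ⟶ ω⟦n Q⟧) :=
      subsingleton_of_forall_eq 0 fun f => DerivedCategory.TStructure.t.zero f 0 (c - n Q) (by omega)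
    exact not_subsingleton (LocalizedModule Q.asIdeal.primeCompl (Dual.inD A (A ⧸ Q.asIdeal) ⟶ ω⟦n Q⟧))
      (LocalizedModule.subsingleton_iff.2 fun f => ⟨1, one_mem _, Subsingleton.elim _ _⟩)
  refine ⟨hasSk_two_bottom hω hn hmono c hc, fun hA r m hr hm => ?_⟩
  haveI := hω.finite_cohomology c
  let J : Ideal A := Ideal.span {r}
  have h1 : ((1 : ℕ) : ℕ∞) ≤ LocCoh.idealDepth J (Dual.HD A ω c) := by
    refine le_idealDepth_bottom hω hn c J 1 (by omega) fun Q hQ => ?_
    have hlt : (⟨⊥, Ideal.isPrime_bot⟩ : PrimeSpectrum A) < Q := by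
      refine lt_of_le_of_ne (show (⊥ : Ideal A) ≤ Q.asIdeal from bot_le) fun h => hr ?_
      have hQ' : r ∈ Q.asIdeal := hQ (Ideal.mem_span_singleton_self r)
      rw [← h] at hQ'
      exact hQ'
    have h2 := hmono hlt
    have h3 := hc ⟨⊥, Ideal.isPrime_bot⟩
    omega
  haveI := (LC.le_idealDepth_iff_ext J (Dual.HD A ω c) 1).1 h1 0 Nat.one_pos
  haveI : Subsingleton ((ModuleCat.of A (A ⧸ J)) ⟶ ModuleCat.of A (Dual.HD A ω c)) :=
    Abelian.Ext.homEquiv₀.symm.subsingleton
  let φ : A ⧸ J →ₗ[A] Dual.HD A ω c := J.liftQ (LinearMap.toSpanSingleton A _ m) (by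
    refine (Submodule.span_singleton_le_iff_mem _ _).2 (LinearMap.mem_ker.2 ?_)
    rw [LinearMap.toSpanSingleton_apply, hm])
  have h0 : ModuleCat.ofHom φ = 0 := Subsingleton.elim _ _
  have h2 : (1 : A) • m = 0 :=
    LinearMap.congr_fun (congrArg ModuleCat.Hom.hom h0) (Ideal.Quotient.mk J 1)
  exact (one_smul A m).symm.trans h2

end Ring

section Scheme

variable {X : Scheme.{u}}
  [∀ (U : Scheme.{u}) (j : U ⟶ X) [IsOpenImmersion j], PreservesFiniteLimits (Scheme.Modules.restrictFunctor j)]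
  [∀ (R : CommRingCat.{u}), PreservesFiniteLimits (tilde.functor R)]

/-- The cohomology of a chart. -/
theorem exists_restrict_hd_iso {A : Type u} [CommRing A] (j : Spec (CommRingCat.of A) ⟶ X) [IsOpenImmersion j]
    {K : DCoh.D X} {ω : Dual.D A} (e : (DCoh.restrictD j).obj K ≅ (DCoh.tildeD (CommRingCat.of A)).obj ω)
    (i : ℤ) :
    Nonempty ((DCoh.HD K i).restrict j ≅
      tilde (R := CommRingCat.of A) ((DerivedCategory.homologyFunctor (ModuleCat.{u} A) i).obj ω)) := by
  haveI : (tilde.functor (CommRingCat.of A)).Additive := tilde_additive _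
  haveI : PreservesFiniteColimits (tilde.functor (CommRingCat.of A)) := QCoh.tilde_preservesFiniteColimits
  exact ⟨(restrictHDIso j K i).symm ≪≫ (DerivedCategory.homologyFunctor _ i).mapIso e ≪≫
    (mapDCHomologyIso (tilde.functor (CommRingCat.of A)) i).app ω⟩

/-- Cohomology of a dualizing object is quasi-coherent. -/
theorem isQCoh_hd_dualizing {K : DCoh.D X} (hK : Dual2.IsDualizingSch X K) (i : ℤ) :
    Coh.IsQCoh (DCoh.HD K i) := by
  refine QCoh.isQCoh_of_charts fun R j _ => ?_
  obtain ⟨ω, -, ⟨e⟩⟩ := hK R j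
  obtain ⟨eH⟩ := exists_restrict_hd_iso j e i
  exact QCoh.isQCoh_spec_iff.2 ⟨_, ⟨eH.symm⟩⟩

/-- The bottom cohomology of a dualizing object: stalks. -/
theorem dualizingSheaf_stalk [IsLocallyNoetherian X] {K : DCoh.D X} (hK : Dual2.IsDualizingSch X K) (c : ℤ)
    (hlt : ∀ i : ℤ, i < c → IsZero (DCoh.HD K i)) (x : X) :
    LocCoh.HasSk 2 (X.presheaf.stalk x) ((DCoh.HD K c).presheaf.stalk x) ∧
      (IsIntegral X → Module.IsTorsionFree (X.presheaf.stalk x) ((DCoh.HD K c).presheaf.stalk x)) := by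
  obtain ⟨U, hU, hx, -⟩ := exists_isAffineOpen_mem_and_subset (x := x) (U := ⊤) trivial
  haveI : IsNoetherianRing Γ(X, U) := QCoh.noetherian_sections ⟨U, hU⟩
  obtain ⟨ω, hω, ⟨e⟩⟩ := hK Γ(X, U) hU.fromSpec
  haveI : ω.IsGE c := by
    rw [DerivedCategory.isGE_iff]
    intro i hi
    obtain ⟨eH⟩ := exists_restrict_hd_iso hU.fromSpec e i
    have hz := ((Scheme.Modules.restrictFunctor hU.fromSpec).map_isZero (hlt i hi)).of_iso eH.symm
    exact (IsZero.iff_id_eq_zero _).2
      ((tilde.fullyFaithfulFunctor (R := CommRingCat.of Γ(X, U))).map_injective (hz.eq_of_src _ _))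
  obtain ⟨hS, hT⟩ := bottom_hasSk_two_and_torsionFree hω c
  have hq : Coh.IsQCoh (DCoh.HD K c) := isQCoh_hd_dualizing hK c
  obtain ⟨eH⟩ := exists_restrict_hd_iso hU.fromSpec e c
  let H : ModuleCat.{u} Γ(X, U) := (DerivedCategory.homologyFunctor (ModuleCat.{u} Γ(X, U)) c).obj ω
  let eG : Γ(DCoh.HD K c, U) ≃ₗ[Γ(X, U)] H :=
    (QCoh.chartEquiv hU (DCoh.HD K c)).trans
      ((moduleSpecΓFunctor.mapIso eH ≪≫ (asIso (tilde.toTildeΓNatIso.hom.app H)).symm).toLinearEquiv)
  have hS' : LocCoh.HasSk 2 Γ(X, U) Γ(DCoh.HD K c, U) := (Synt29.SmoothProps.hasSk_congr eG 2).2 hS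
  letI := QCoh.stalkAlg hx
  letI := QCoh.stalkModule (DCoh.HD K c) hx
  haveI := QCoh.isScalarTower_stalk (DCoh.HD K c) hx
  haveI := QCoh.isLocalizedModule_germLin hq hU hx
  haveI := QCoh.isLocalization_stalk' hU hx
  let p : Ideal Γ(X, U) := (hU.primeIdealOf ⟨x, hx⟩).asIdeal
  constructor
  · let σ : Localization.AtPrime p ≃ₐ[Γ(X, U)] X.presheaf.stalk x :=
      IsLocalization.algEquiv p.primeCompl _ _
    letI : Module (Localization.AtPrime p) ((DCoh.HD K c).presheaf.stalk x) :=
      Module.compHom _ (σ.toAlgHom.toRingHom)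
    haveI : IsScalarTower Γ(X, U) (Localization.AtPrime p) ((DCoh.HD K c).presheaf.stalk x) :=
      IsScalarTower.of_algebraMap_smul fun a m => by
        show σ (algebraMap _ _ a) • m = a • m
        rw [σ.commutes]
        exact algebraMap_smul _ a m
    let g := (IsLocalizedModule.iso p.primeCompl (QCoh.germLin (DCoh.HD K c) hx)).extendScalarsOfIsLocalization
      p.primeCompl (Localization.AtPrime p)
    have hsemi : Codepth5.Semi (Localization.AtPrime p) (LocalizedModule p.primeCompl Γ(DCoh.HD K c, U))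
        (X.presheaf.stalk x) ((DCoh.HD K c).presheaf.stalk x) :=
      ⟨σ.toAlgHom.toRingHom, σ.surjective, g.toAddEquiv, fun r m => g.map_smul r m⟩
    exact (hsemi.hasSk_iff 2).1 ((Alg6.hasSk_localization_iff p.primeCompl _ 2).2 fun q _ _ => hS' q)
  · intro hI
    haveI : Nonempty U := ⟨⟨x, hx⟩⟩
    have hT' := hT inferInstance
    refine Module.IsTorsionFree.of_smul_eq_zero fun r y hry => ?_
    obtain ⟨⟨a, s⟩, has⟩ := IsLocalization.surj p.primeCompl r
    obtain ⟨⟨m, t⟩, hmt⟩ := IsLocalizedModule.surj p.primeCompl (QCoh.germLin (DCoh.HD K c) hx) y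
    by_cases ha : a = 0
    · left
      rw [ha, map_zero] at has
      exact (IsLocalization.map_units (X.presheaf.stalk x) s).mul_left_eq_zero.1 has
    · right
      have h1 : QCoh.germLin (DCoh.HD K c) hx (a • m) = QCoh.germLin (DCoh.HD K c) hx 0 := by
        rw [map_smul, map_zero, ← hmt, ← algebraMap_smul (X.presheaf.stalk x) a, ← has, Submonoid.smul_def,
          ← algebraMap_smul (X.presheaf.stalk x) (t : Γ(X, U)), smul_smul, mul_assoc, mul_comm r, mul_smul,
          hry, smul_zero]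
      obtain ⟨w, hw⟩ := IsLocalizedModule.exists_of_eq (S := p.primeCompl) h1
      rw [smul_zero, Submonoid.smul_def, smul_comm] at hw
      have h2 : (w : Γ(X, U)) • m = 0 := eG.injective (by
        rw [map_zero]
        exact hT' a _ ha (by rw [← map_smul, hw, map_zero]))
      have h3 : QCoh.germLin (DCoh.HD K c) hx m = 0 := by
        have h4 := congrArg (QCoh.germLin (DCoh.HD K c) hx) h2
        rw [map_smul, map_zero] at h4
        exact (IsLocalizedModule.map_units (QCoh.germLin (DCoh.HD K c) hx) w).smul_eq_zero.1 h4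
      rw [h3] at hmt
      exact ((Module.End.isUnit_iff _).1 (IsLocalizedModule.map_units (QCoh.germLin (DCoh.HD K c) hx) t)).1
        (hmt.trans (map_zero _).symm)

/-- Cohomology of a dualizing object has finite stalks. -/
theorem finite_stalk_hd_dualizing [IsLocallyNoetherian X] {K : DCoh.D X} (hK : Dual2.IsDualizingSch X K) (c : ℤ) (x : X) :
    Module.Finite (X.presheaf.stalk x) ((DCoh.HD K c).presheaf.stalk x) := by
  obtain ⟨U, hU, hx, -⟩ := exists_isAffineOpen_mem_and_subset (x := x) (U := ⊤) trivial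
  haveI : IsNoetherianRing Γ(X, U) := QCoh.noetherian_sections ⟨U, hU⟩
  obtain ⟨ω, hω, ⟨e⟩⟩ := hK Γ(X, U) hU.fromSpec
  obtain ⟨eH⟩ := exists_restrict_hd_iso hU.fromSpec e c
  let H : ModuleCat.{u} Γ(X, U) := (DerivedCategory.homologyFunctor (ModuleCat.{u} Γ(X, U)) c).obj ω
  haveI : Module.Finite Γ(X, U) H := hω.finite_cohomology c
  let eG : Γ(DCoh.HD K c, U) ≃ₗ[Γ(X, U)] H :=
    (QCoh.chartEquiv hU (DCoh.HD K c)).trans
      ((moduleSpecΓFunctor.mapIso eH ≪≫ (asIso (tilde.toTildeΓNatIso.hom.app H)).symm).toLinearEquiv)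
  haveI : Module.Finite Γ(X, U) Γ(DCoh.HD K c, U) := Module.Finite.equiv eG.symm
  letI := QCoh.stalkAlg hx
  letI := QCoh.stalkModule (DCoh.HD K c) hx
  haveI := QCoh.isScalarTower_stalk (DCoh.HD K c) hx
  haveI := QCoh.isLocalizedModule_germLin (isQCoh_hd_dualizing hK c) hU hx
  haveI := QCoh.isLocalization_stalk' hU hx
  exact Module.Finite.of_isLocalizedModule (hU.primeIdealOf ⟨x, hx⟩).asIdeal.primeCompl
    (QCoh.germLin (DCoh.HD K c) hx)

end Scheme

end Groth.Agent.KExact
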