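import Groth.Agent.KFlatLib.Ring.DualizingShriek
import Groth.Agent.KFlatLib.Ring.DualizingFibre
import Groth.Agent.KFlatLib.Ring.DualizingDimension
import Groth.Agent.KFlatLib.Ring.DualizingFlat

/-!
# Local models of a dualizing complex
-/

set_option autoImplicit false
set_option linter.style.haveILetI false
set_option backward.isDefEq.respectTransparency false
set_option backward.isDefEq.respectTransparency.types false

universe u

open CategoryTheory CategoryTheory.Limits
open scoped TensorProduct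

attribute [local instance] HasDerivedCategory.standard

namespace Groth.Agent.KExact.NormalizedLocal

open KFlatLib

/-- If the two shrieks to a residue field agree, the complex upstairs is normalized at that point. -/
theorem subsingleton_of_shriek_iso {A B : Type u} [CommRing A] [CommRing B] [IsLocalRing A] [IsNoetherianRing A]
    [IsNoetherianRing B] [Algebra A B] {ω : Dual.D A} (hω : Dual.IsDualizing A ω) (hn : Dual.IsNormalized A ω)
    {ωB : Dual.D B} (hωB : Dual.IsDualizing B ωB) (m : Ideal B) [m.IsMaximal] [Module.Finite A (B ⧸ m)]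
    (hm : m.comap (algebraMap A B) = IsLocalRing.maximalIdeal A)
    {R : Dual.D A ⥤ Dual.D (B ⧸ m)} (adj : DRing.restrictD (algebraMap A (B ⧸ m)) ⊣ R)
    {R' : Dual.D B ⥤ Dual.D (B ⧸ m)} (adj' : DRing.restrictD (algebraMap B (B ⧸ m)) ⊣ R')
    (e : R'.obj ωB ≅ R.obj ω) (i : ℤ) (hi : i ≠ 0) :
    Subsingleton (Dual.inD B (B ⧸ m) ⟶ ωB⟦i⟧) := by
  letI := Ideal.Quotient.field m
  haveI := hasLTen A
  haveI := hasRHom (A := A)
  haveI := hasLTen B
  haveI := hasRHom (A := B)
  haveI : (⊥ : Ideal (B ⧸ m)).IsMaximal := Ideal.bot_isMaximal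
  obtain ⟨a, hva, hda⟩ := exists_unique_ext_point (IsLocalRing.maximalIdeal A) hω
  obtain ⟨b, hvb, hdb⟩ := exists_unique_ext_point m hωB
  have h0 : a = 0 := by
    by_contra hne
    obtain ⟨ea⟩ := hda
    haveI : Subsingleton (Dual.inD A (A ⧸ IsLocalRing.maximalIdeal A) ⟶ ω⟦a⟧) := hn a hne
    haveI : Subsingleton (A ⧸ IsLocalRing.maximalIdeal A) := ea.symm.injective.subsingleton
    exact not_subsingleton (IsLocalRing.ResidueField A) this
  subst h0
  have h1 := (exists_shriek_ext_point R adj hω (⊥ : Ideal (B ⧸ m)) (IsLocalRing.maximalIdeal A) (by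
    rw [← RingHom.ker_eq_comap_bot, ← hm]
    ext r
    rw [RingHom.mem_ker, Ideal.mem_comap, ← Ideal.Quotient.eq_zero_iff_mem]
    rfl) hva hda).1
  obtain ⟨eb⟩ := (exists_shriek_ext_point R' adj' hωB (⊥ : Ideal (B ⧸ m)) m (by
    rw [← RingHom.ker_eq_comap_bot]
    exact Ideal.mk_ker) hvb hdb).2
  by_contra hne
  refine hne (hvb i fun hib => ?_)
  subst hib
  haveI := h1 i hi
  haveI : Subsingleton (Dual.inD (B ⧸ m) ((B ⧸ m) ⧸ (⊥ : Ideal (B ⧸ m))) ⟶ (R'.obj ωB)⟦i⟧) :=
    (Iso.homToEquiv ((shiftFunctor _ i).mapIso e)).subsingleton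
  haveI : Nontrivial ((B ⧸ m) ⧸ (⊥ : Ideal (B ⧸ m))) := Ideal.Quotient.nontrivial_iff.2 bot_ne_top
  exact not_subsingleton _ (eb.symm.injective.subsingleton : Subsingleton ((B ⧸ m) ⧸ (⊥ : Ideal (B ⧸ m))))

/-- Localization of a dualizing complex at a prime, normalized. -/
theorem exists_normalized_localization {B : Type u} [CommRing B] [IsNoetherianRing B] {ωB : Dual.D B}
    (hω : Dual.IsDualizing B ωB) (q : Ideal B) [q.IsPrime] :
    ∃ (n : ℤ) (ω' : Dual.D (Localization.AtPrime q)),
      ((∀ i : ℤ, i ≠ 0 → Subsingleton (Dual.inD B (B ⧸ q) ⟶ ωB⟦i⟧)) → n = 0) ∧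
      Dual.IsDualizing (Localization.AtPrime q) ω' ∧ Dual.IsNormalized (Localization.AtPrime q) ω' ∧
      ∀ i : ℤ, Nonempty (Dual.HD (Localization.AtPrime q) ω' i ≃ₗ[Localization.AtPrime q]
        LocalizedModule q.primeCompl (Dual.HD B ωB (i + n))) := by
  let L := Localization.AtPrime q
  haveI := hasLBase (algebraMap B L)
  haveI : Module.Flat B L := IsLocalization.flat _ q.primeCompl
  haveI : IsNoetherianRing L := IsLocalization.isNoetherianRing q.primeCompl _ inferInstance
  obtain ⟨n, hn⟩ := exists_unique_ext_prime hω q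
  obtain ⟨a, b, -, ha, -⟩ := exists_bounds_of_isDualizing hω
  haveI := ha
  let W := (DTen.LBase (algebraMap B L)).obj ωB
  have hW : Dual.IsDualizing L W := isDualizing_LBase hω fun p _ =>
    ⟨p.comap (algebraMap B L), IsLocalization.map_comap q.primeCompl _ p⟩
  refine ⟨n, W⟦n⟧, fun h => ?_, isDualizing_shift hW n, fun i hi => ?_, fun i => ?_⟩
  · by_contra hne
    haveI := (hn n).2 rfl
    haveI := h n hne
    exact not_subsingleton (LocalizedModule q.primeCompl (Dual.inD B (B ⧸ q) ⟶ ωB⟦n⟧))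
      (LocalizedModule.subsingleton_iff.2 fun f => ⟨1, one_mem _, Subsingleton.elim _ _⟩)
  · obtain ⟨e⟩ := exists_localExtLEquiv (ω := ωB) a q q (n + i)
    haveI : Subsingleton (LocalizedModule q.primeCompl (Dual.inD B (B ⧸ q) ⟶ ωB⟦n + i⟧)) :=
      not_nontrivial_iff_subsingleton.1 fun h => hi (by have := (hn _).1 h; omega)
    haveI : Subsingleton (Dual.inD L (L ⧸ q.map (algebraMap B L)) ⟶ W⟦n + i⟧) := e.subsingleton
    have hres : Subsingleton (Dual.inD L (IsLocalRing.ResidueField L) ⟶ W⟦n + i⟧) := by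
      rw [Localization.AtPrime.map_eq_maximalIdeal] at this
      exact this
    exact (Iso.homToEquiv ((shiftFunctorAdd' _ n i (n + i) rfl).app W)).symm.subsingleton
  · obtain ⟨e⟩ := exists_hdLBaseLEquiv (B := L) ωB (i + n)
    exact ⟨((((DerivedCategory.homologyFunctor (ModuleCat.{u} L) 0).shiftIso n i (i + n) (by omega)).app W
      ).toLinearEquiv.trans e).trans
        (LocalizedModule.equivTensorProduct q.primeCompl (Dual.HD B ωB (i + n))).symm⟩

end Groth.Agent.KExact.NormalizedLocal
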