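import Groth.Agent.KExact.DualShriek
import Groth.Agent.KExact.NormalizedLocal
import Groth.Agent.KExact.DualizingS2

/-!
# Dualizing complexes of proper schemes over a local ring: the local models
-/

set_option autoImplicit false
set_option linter.style.haveILetI false
set_option linter.unusedSectionVars false
set_option linter.unusedVariables false
set_option backward.isDefEq.respectTransparency false
set_option backward.isDefEq.respectTransparency.types false

universe u

open CategoryTheory CategoryTheory.Limits AlgebraicGeometry TopologicalSpace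

attribute [local instance] HasDerivedCategory.standard

namespace Groth.Agent.KExact.DualNormalized

open KFlatLib KFlatLib.BCLoc KFlatLib.SecPoint BCNat BCComp DualShriek

variable [∀ (U V : Scheme.{u}) (j : U ⟶ V) [IsOpenImmersion j], PreservesFiniteLimits (Scheme.Modules.restrictFunctor j)]
  [∀ (R : CommRingCat.{u}), PreservesFiniteLimits (tilde.functor R)]

/-- The twisted inverse image of a morphism of affine schemes is computed on modules. -/
theorem nonempty_specMap_iso {A B : CommRingCat.{u}} (φ : A ⟶ B) [DCoh.HasRpush (Spec.map φ)]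
    {h : DCoh.RpushPreservesQCoh (Spec.map φ)} {a : DCoh.DQCoh (Spec A) ⥤ DCoh.DQCoh (Spec B)}
    (adj : DCoh.RpushQ (Spec.map φ) h ⊣ a) {R : Dual.D A ⥤ Dual.D B} (adjR : DRing.restrictD φ.hom ⊣ R)
    (K : DCoh.DQCoh (Spec A)) (ω : Dual.D A) (e : K.obj ≅ (DCoh.tildeD A).obj ω) :
    Nonempty ((a.obj K).obj ≅ (DCoh.tildeD B).obj (R.obj ω)) := by
  let eK : (tildeL A).obj ω ≅ K := (DCoh.IsQCohD (X := Spec A)).isoMk e.symm
  obtain ⟨t⟩ := nonempty_tildeD_rpush_iso φ
  let eA := (tildeL A).asEquivalence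
  let eB := (tildeL B).asEquivalence
  let c : tildeL B ⋙ DCoh.RpushQ (Spec.map φ) h ≅ DRing.restrictD φ.hom ⋙ tildeL A :=
    liftIso (F := tildeL B ⋙ DCoh.RpushQ (Spec.map φ) h) (G := DRing.restrictD φ.hom ⋙ tildeL A) t
  let u : a ⋙ eB.inverse ≅ eA.inverse ⋙ R :=
    ((eB.toAdjunction.comp adj).ofNatIsoLeft c).rightAdjointUniq (adjR.comp eA.toAdjunction)
  let eω : eB.inverse.obj (a.obj K) ≅ R.obj ω :=
    u.app K ≪≫ R.mapIso (eA.inverse.mapIso eK.symm ≪≫ (eA.unitIso.symm.app ω))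
  exact ⟨(ObjectProperty.ι _).mapIso ((eB.counitIso.symm.app (a.obj K)) ≪≫ (tildeL B).mapIso eω)⟩

/-- `~` reflects isomorphisms. -/
theorem nonempty_iso_of_tildeD {B : CommRingCat.{u}} {M N : Dual.D B}
    (e : (DCoh.tildeD B).obj M ≅ (DCoh.tildeD B).obj N) : Nonempty (M ≅ N) :=
  ⟨(tildeL B).preimageIso ((DCoh.IsQCohD (X := Spec B)).isoMk e)⟩

variable {A : Type u} [CommRing A] [IsLocalRing A] [IsNoetherianRing A] {ω : Dual.D A} {X : Scheme.{u}}

/-- `~` of a dualizing complex is bounded below. -/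
theorem isBddBelowQ_of_iso (hω : Dual.IsDualizing A ω) {W : DCoh.DQCoh (Spec (CommRingCat.of A))}
    (eW : W.obj ≅ (DCoh.tildeD (CommRingCat.of A)).obj ω) : Dual3.IsBddBelowQ _ W := by
  obtain ⟨a, b, -, ha, -⟩ := exists_bounds_of_isDualizing hω
  haveI := ha
  haveI : (tilde.functor (CommRingCat.of A)).Additive := tilde_additive _
  haveI : PreservesFiniteColimits (tilde.functor (CommRingCat.of A)) := QCoh.tilde_preservesFiniteColimits
  refine ⟨a, (DerivedCategory.isGE_iff _ _).2 fun k hk => ?_⟩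
  exact ((tilde.functor (CommRingCat.of A)).map_isZero (DerivedCategory.isZero_of_isGE ω a k hk)).of_iso
    ((DerivedCategory.homologyFunctor _ k).mapIso eW ≪≫
      (mapDCHomologyIso (tilde.functor (CommRingCat.of A)) k).app ω)

variable (f : X ⟶ Spec (CommRingCat.of A)) [IsProper f] [DCoh.HasRpush f] {hf : DCoh.RpushPreservesQCoh f}
  {a : DCoh.DQCoh (Spec (CommRingCat.of A)) ⥤ DCoh.DQCoh X} (adj : DCoh.RpushQ f hf ⊣ a)
  (W : DCoh.DQCoh (Spec (CommRingCat.of A)))

include adj in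
/-- At a closed point the twisted inverse image of a normalized dualizing complex is normalized. -/
theorem subsingleton_at_closed (hω : Dual.IsDualizing A ω) (hn : Dual.IsNormalized A ω)
    (eW : W.obj ≅ (DCoh.tildeD (CommRingCat.of A)).obj ω) {U : X.Opens} (hU : IsAffineOpen U)
    {ωB : Dual.D Γ(X, U)} (hωB : Dual.IsDualizing Γ(X, U) ωB)
    (e : (DCoh.restrictD hU.fromSpec).obj (a.obj W).obj ≅ (DCoh.tildeD Γ(X, U)).obj ωB)
    {x : X} (hxU : x ∈ U) (hx : IsClosed ({x} : Set X)) (i : ℤ) (hi : i ≠ 0) :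
    Subsingleton (Dual.inD Γ(X, U) (Γ(X, U) ⧸ (hU.primeIdealOf ⟨x, hxU⟩).asIdeal) ⟶ ωB⟦i⟧) := by
  haveI : IsNoetherian X := isNoetherian_of_ft f
  haveI : IsNoetherianRing Γ(X, U) := hωB.isNoetherianRing
  have hm' : (hU.primeIdealOf ⟨x, hxU⟩).asIdeal.IsMaximal := by
    rw [← PrimeSpectrum.isClosed_singleton_iff_isMaximal]
    have h : ({hU.primeIdealOf ⟨x, hxU⟩} : Set (Spec Γ(X, U))) = hU.fromSpec.base ⁻¹' {x} := by
      ext q
      simp only [Set.mem_singleton_iff, Set.mem_preimage]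
      exact ⟨fun h => h ▸ hU.fromSpec_primeIdealOf ⟨x, hxU⟩, fun h =>
        hU.fromSpec.isOpenEmbedding.injective (h.trans (hU.fromSpec_primeIdealOf ⟨x, hxU⟩).symm)⟩
    exact h ▸ hx.preimage hU.fromSpec.base.hom.continuous
  let m := (hU.primeIdealOf ⟨x, hxU⟩).asIdeal
  haveI : m.IsMaximal := hm'
  let φ : CommRingCat.of A ⟶ Γ(X, U) := Spec.preimage (hU.fromSpec ≫ f)
  have hφ : Spec.map φ = hU.fromSpec ≫ f := Spec.map_preimage _
  letI := φ.hom.toAlgebra
  let π : Γ(X, U) ⟶ CommRingCat.of (Γ(X, U) ⧸ m) := CommRingCat.ofHom (Ideal.Quotient.mk m)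
  have hpπ : ∀ z, (Spec.map π).base z = hU.primeIdealOf ⟨x, hxU⟩ := fun z => PrimeSpectrum.ext (by
    refine (‹m.IsMaximal›.eq_of_le (Ideal.comap_ne_top _ z.isPrime.ne_top) fun r hr => ?_).symm
    show Ideal.Quotient.mk m r ∈ z.asIdeal
    rw [Ideal.Quotient.eq_zero_iff_mem.2 hr]
    exact zero_mem _)
  haveI : IsClosedImmersion (Spec.map π) := IsClosedImmersion.spec_of_surjective _ Ideal.Quotient.mk_surjective
  haveI : Nontrivial (Γ(X, U) ⧸ m) := Ideal.Quotient.nontrivial_iff.2 (Ideal.IsMaximal.ne_top ‹_›)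
  haveI : IsClosedImmersion (Spec.map π ≫ hU.fromSpec) := by
    refine IsClosedImmersion.of_isPreimmersion _ ?_
    have h : Set.range (Spec.map π ≫ hU.fromSpec).base = {x} := by
      refine Set.eq_singleton_iff_nonempty_unique_mem.2 ⟨Set.range_nonempty _, ?_⟩
      rintro _ ⟨z, rfl⟩
      show hU.fromSpec.base ((Spec.map π).base z) = x
      rw [hpπ z]
      exact hU.fromSpec_primeIdealOf ⟨x, hxU⟩
    rw [h]
    exact hx
  let ψ : CommRingCat.of A ⟶ CommRingCat.of (Γ(X, U) ⧸ m) := φ ≫ π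
  have hψ : Spec.map ψ = (Spec.map π ≫ hU.fromSpec) ≫ f := by
    rw [Category.assoc, ← hφ, Spec.map_comp]
  haveI : IsProper (Spec.map ψ) := by rw [hψ]; infer_instance
  haveI : IsFinite (Spec.map ψ) := IsFinite.iff_isProper_and_isAffineHom.2 ⟨inferInstance, inferInstance⟩
  haveI : Module.Finite A (Γ(X, U) ⧸ m) :=
    RingHom.finite_algebraMap.1 ((IsFinite.SpecMap_iff ψ).1 inferInstance)
  have hcl : IsClosed ({(Spec.map φ).base (hU.primeIdealOf ⟨x, hxU⟩)} : Set (Spec (CommRingCat.of A))) := by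
    rw [hφ]
    show IsClosed {f.base (hU.fromSpec.base (hU.primeIdealOf ⟨x, hxU⟩))}
    rw [hU.fromSpec_primeIdealOf ⟨x, hxU⟩]
    simpa only [Set.image_singleton] using f.isClosedMap _ hx
  have hm : m.comap (algebraMap A Γ(X, U)) = IsLocalRing.maximalIdeal A :=
    @IsLocalRing.eq_maximalIdeal A _ _ _ ((PrimeSpectrum.isClosed_singleton_iff_isMaximal _).1 hcl)
  haveI := hasRpush_scheme (Spec.map π)
  haveI := hasRpush_scheme (Spec.map ψ)
  have hπq : DCoh.RpushPreservesQCoh (Spec.map π) := fun K hK => isQCohD_rpush _ hK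
  have hψq : DCoh.RpushPreservesQCoh (Spec.map ψ) := fun K hK => isQCohD_rpush _ hK
  obtain ⟨b, ⟨adjb⟩⟩ := exists_adj (Spec.map π) hπq
  obtain ⟨c, ⟨adjc⟩⟩ := exists_adj (Spec.map ψ) hψq
  obtain ⟨E⟩ := nonempty_comp (𝟙 _) (Spec.map π) hU.fromSpec f (𝟙 _) (Spec.map ψ)
    (by rw [Category.id_comp, Category.id_comp, hψ, Category.assoc]) adjb adj adjc
  obtain ⟨R, ⟨adjR⟩⟩ := exists_shriek ψ.hom
  obtain ⟨R', ⟨adjR'⟩⟩ := exists_shriek π.hom
  obtain ⟨i1⟩ := nonempty_rQ_id (𝟙 (Spec (CommRingCat.of (Γ(X, U) ⧸ m)))) rfl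
  obtain ⟨eR⟩ := nonempty_specMap_iso ψ adjc adjR W ω eW
  obtain ⟨eR'⟩ := nonempty_specMap_iso π adjb adjR' ((rQ hU.fromSpec).obj (a.obj W)) ωB e
  let E₀ : (b.obj ((rQ hU.fromSpec).obj (a.obj W))).obj ≅ (c.obj W).obj :=
    (ObjectProperty.ι _).mapIso ((i1.app _).symm ≪≫ (E.app ⟨W, isBddBelowQ_of_iso hω eW⟩).symm ≪≫ i1.app _)
  obtain ⟨er⟩ := nonempty_iso_of_tildeD (B := CommRingCat.of (Γ(X, U) ⧸ m)) (eR'.symm ≪≫ E₀ ≪≫ eR)
  exact NormalizedLocal.subsingleton_of_shriek_iso hω hn hωB m hm adjR adjR' er i hi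

omit f

/-- The support of a localized module. -/
theorem mem_support_localized {B M : Type u} [CommRing B] [AddCommGroup M] [Module B M] (p : Ideal B) [p.IsPrime]
    (Q : PrimeSpectrum (Localization.AtPrime p)) :
    Q ∈ Module.support (Localization.AtPrime p) (LocalizedModule p.primeCompl M) ↔
      PrimeSpectrum.comap (algebraMap B (Localization.AtPrime p)) Q ∈ Module.support B M := by
  have hle : Q.asIdeal.comap (algebraMap B (Localization.AtPrime p)) ≤ p := fun r hr => by
    by_contra h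
    exact Q.isPrime.ne_top (Ideal.eq_top_of_isUnit_mem _ hr (IsLocalization.map_units _ (⟨r, h⟩ : p.primeCompl)))
  rw [Module.mem_support_iff', Module.mem_support_iff']
  constructor
  · rintro ⟨y, hy⟩
    induction y using LocalizedModule.induction_on with
    | h h s =>
      refine ⟨h, fun r hr h0 => hy (algebraMap B _ r) hr ?_⟩
      rw [algebraMap_smul, LocalizedModule.smul'_mk, h0, LocalizedModule.zero_mk]
  · rintro ⟨h, hh⟩
    refine ⟨LocalizedModule.mk h 1, fun r hr h0 => ?_⟩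
    obtain ⟨⟨a, s⟩, has⟩ := IsLocalization.surj p.primeCompl r
    have hs : algebraMap B (Localization.AtPrime p) s.1 ∉ Q.asIdeal := fun h' =>
      Q.isPrime.ne_top (Ideal.eq_top_of_isUnit_mem _ h' (IsLocalization.map_units _ s))
    have h1 : a • LocalizedModule.mk h (1 : p.primeCompl) = 0 := by
      rw [← algebraMap_smul (Localization.AtPrime p) a, ← has, mul_comm, mul_smul, h0, smul_zero]
    rw [LocalizedModule.smul'_mk, ← LocalizedModule.zero_mk (1 : p.primeCompl), LocalizedModule.mk_eq] at h1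
    obtain ⟨t, ht⟩ := h1
    simp only [smul_zero, one_smul] at ht
    refine hh ((t : B) * a) (fun hmem => ?_) (by rw [mul_smul]; exact ht)
    rcases (PrimeSpectrum.comap (algebraMap B (Localization.AtPrime p)) Q).isPrime.mem_or_mem hmem with h' | h'
    · exact t.2 (hle h')
    · refine Q.isPrime.mul_notMem hr hs ?_
      rw [has]
      exact h'

/-- A local model of `K` at `x`. -/
structure Model (K : DCoh.D X) (x : X) where
  R : Type u
  [cr : CommRing R]
  [loc : IsLocalRing R]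
  [noeth : IsNoetherianRing R]
  ω : Dual.D R
  dualizing : Dual.IsDualizing R ω
  normalized : Dual.IsNormalized R ω
  n : ℤ
  ring : R ≃+* X.presheaf.stalk x
  ι : PrimeSpectrum R → X
  emb : Topology.IsEmbedding ι
  mem_range : ∀ y : X, y ∈ Set.range ι ↔ y ⤳ x
  closedPoint : ι (IsLocalRing.closedPoint R) = x
  semi : ∀ i : ℤ, Codepth5.Semi R (Dual.HD R ω i) (X.presheaf.stalk x) ((DCoh.HD K (i + n)).presheaf.stalk x)
  support : ∀ (i : ℤ) (q : PrimeSpectrum R), q ∈ Module.support R (Dual.HD R ω i) ↔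
    Nontrivial ((DCoh.HD K (i + n)).presheaf.stalk (ι q))

attribute [instance] Model.cr Model.loc Model.noeth

variable [IsLocallyNoetherian X] {K : DCoh.D X}

/-- Every point has a model. -/
theorem exists_model (hK : Dual2.IsDualizingSch X K) {U : X.Opens} (hU : IsAffineOpen U) {x : X} (hx : x ∈ U)
    (ωB : Dual.D Γ(X, U)) (hω : Dual.IsDualizing Γ(X, U) ωB)
    (e : (DCoh.restrictD hU.fromSpec).obj K ≅ (DCoh.tildeD Γ(X, U)).obj ωB) :
    ∃ M : Model K x, (∀ i : ℤ, i ≠ 0 →
      Subsingleton (Dual.inD Γ(X, U) (Γ(X, U) ⧸ (hU.primeIdealOf ⟨x, hx⟩).asIdeal) ⟶ ωB⟦i⟧)) → M.n = 0 := by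
  haveI : IsNoetherianRing Γ(X, U) := QCoh.noetherian_sections ⟨U, hU⟩
  let p := (hU.primeIdealOf ⟨x, hx⟩).asIdeal
  let L := Localization.AtPrime p
  obtain ⟨n, ω', hn0, hd, hnorm, hH⟩ := NormalizedLocal.exists_normalized_localization hω p
  haveI : IsNoetherianRing L := IsLocalization.isNoetherianRing p.primeCompl _ inferInstance
  letI := QCoh.stalkAlg hx
  haveI := QCoh.isLocalization_stalk' hU hx
  let σ : L ≃ₐ[Γ(X, U)] X.presheaf.stalk x := IsLocalization.algEquiv p.primeCompl _ _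
  let c := PrimeSpectrum.comap (algebraMap Γ(X, U) L)
  have hι : Topology.IsEmbedding (fun q => hU.fromSpec.base (c q)) :=
    hU.fromSpec.isOpenEmbedding.isEmbedding.comp (PrimeSpectrum.localization_comap_isEmbedding L p.primeCompl)
  have hclp : hU.fromSpec.base (c (IsLocalRing.closedPoint L)) = x := by
    rw [show c (IsLocalRing.closedPoint L) = hU.primeIdealOf ⟨x, hx⟩ from
      PrimeSpectrum.ext (IsLocalization.AtPrime.comap_maximalIdeal L p)]
    exact hU.fromSpec_primeIdealOf ⟨x, hx⟩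
  refine ⟨{ R := L, ω := ω', dualizing := hd, normalized := hnorm, n := n, ring := σ.toRingEquiv,
            ι := fun q => hU.fromSpec.base (c q), emb := hι, mem_range := fun y => ⟨?_, fun hy => ?_⟩,
            closedPoint := hclp, semi := fun i => ?_, support := fun i q => ?_ }, hn0⟩
  · rintro ⟨q, rfl⟩
    exact (((PrimeSpectrum.le_iff_specializes q _).1 (IsLocalRing.le_maximalIdeal q.isPrime.ne_top)).map
      hι.continuous).trans (specializes_of_eq hclp)
  · obtain ⟨z, rfl⟩ : y ∈ Set.range hU.fromSpec.base := by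
      rw [hU.range_fromSpec]
      exact hy.mem_open U.2 hx
    have hz : z ⤳ hU.primeIdealOf ⟨x, hx⟩ := by
      rw [← hU.fromSpec.isOpenEmbedding.isInducing.specializes_iff, hU.fromSpec_primeIdealOf ⟨x, hx⟩]
      exact hy
    obtain ⟨q, hq⟩ : z ∈ Set.range c := by
      rw [PrimeSpectrum.localization_comap_range L p.primeCompl]
      exact Set.disjoint_left.2 fun r hr hrz => hr ((PrimeSpectrum.le_iff_specializes z _).2 hz hrz)
    exact ⟨q, congrArg hU.fromSpec.base hq⟩
  · have hq : Coh.IsQCoh (DCoh.HD K (i + n)) := isQCoh_hd_dualizing hK (i + n)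
    obtain ⟨eH⟩ := nonempty_restrict_hd_iso hU.fromSpec e (i + n)
    let H : ModuleCat.{u} Γ(X, U) := (DerivedCategory.homologyFunctor (ModuleCat.{u} Γ(X, U)) (i + n)).obj ωB
    let eG : Γ(DCoh.HD K (i + n), U) ≃ₗ[Γ(X, U)] H :=
      (QCoh.chartEquiv hU (DCoh.HD K (i + n))).trans
        ((moduleSpecΓFunctor.mapIso eH ≪≫ (asIso (tilde.toTildeΓNatIso.hom.app H)).symm).toLinearEquiv)
    letI := QCoh.stalkModule (DCoh.HD K (i + n)) hx
    haveI := QCoh.isScalarTower_stalk (DCoh.HD K (i + n)) hx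
    haveI := QCoh.isLocalizedModule_germLin hq hU hx
    letI : Module L ((DCoh.HD K (i + n)).presheaf.stalk x) := Module.compHom _ (σ.toAlgHom.toRingHom)
    haveI : IsScalarTower Γ(X, U) L ((DCoh.HD K (i + n)).presheaf.stalk x) :=
      IsScalarTower.of_algebraMap_smul fun b m => by
        show σ (algebraMap _ _ b) • m = b • m
        rw [σ.commutes]
        exact algebraMap_smul _ b m
    obtain ⟨eh⟩ := hH i
    let g := (IsLocalizedModule.mapEquiv p.primeCompl (LocalizedModule.mkLinearMap p.primeCompl H)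
      (LocalizedModule.mkLinearMap p.primeCompl Γ(DCoh.HD K (i + n), U)) L eG.symm).trans
      ((IsLocalizedModule.iso p.primeCompl (QCoh.germLin (DCoh.HD K (i + n)) hx)).extendScalarsOfIsLocalization
        p.primeCompl L)
    exact ⟨σ.toAlgHom.toRingHom, σ.surjective, (eh.trans g).toAddEquiv, fun r m => (eh.trans g).map_smul r m⟩
  · obtain ⟨eh⟩ := hH i
    rw [eh.support_eq]
    exact (mem_support_localized p q).trans (DualizingCM.nontrivial_stalk_iff hU.fromSpec e (c q) (i + n)).symm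

end Groth.Agent.KExact.DualNormalized
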