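import Groth.Agent.KExact.ViaPoint
import Groth.Agent.KFlatLib.Ring.ShriekGorenstein
import Groth.Agent.KFlatLib.Perfect.Betti
import Groth.Agent.KFlatLib.Perfect.DLocal
import Groth.Agent.KExact.DualNormalized

/-!
# Gorenstein points and invertibility of `f^! O`
-/

set_option autoImplicit false
set_option linter.style.haveILetI false
set_option linter.unusedSectionVars false
set_option linter.unusedVariables false
set_option backward.isDefEq.respectTransparency false
set_option backward.isDefEq.respectTransparency.types false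

universe u

open CategoryTheory CategoryTheory.Limits AlgebraicGeometry
open scoped TensorProduct

attribute [local instance] HasDerivedCategory.standard

namespace Groth.Agent.KExact.ViaGor

open KFlatLib KFlatLib.BCLoc ViaFibre ViaApp ViaPoint

section Ring

variable {A C : Type u} [CommRing A] [CommRing C] (W : Dual.D A) (ι : A →+* C) [DTen.HasLBase ι]

/-- A Gorenstein point of the fibre gives invertibility nearby. -/
theorem exists_away_iso_of_gorenstein_point [IsNoetherianRing A] (a b : ℤ) [W.IsGE a] [W.IsLE b]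
    (hfin : ∀ i : ℤ, Module.Finite A (Dual.HD A W i)) (q : Ideal A) [q.IsPrime] (Q : Ideal C) [Q.IsPrime]
    (hQ : q = Q.comap ι) (hd : Dual.IsDualizing C ((DTen.LBase ι).obj W))
    (hGQ : LocCoh.IsGorensteinLocalRing (Localization.AtPrime Q)) :
    ∃ f : A, f ∉ q ∧ ∃ m : ℤ, ∀ [DTen.HasLBase (algebraMap A (Localization.Away f))],
      Nonempty ((DTen.LBase (algebraMap A (Localization.Away f))).obj W ≅
        (DTen.unit (Localization.Away f))⟦m⟧) := by
  haveI : IsNoetherianRing C := hd.isNoetherianRing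
  haveI := hGQ
  let Aq := Localization.AtPrime q
  let CQ := Localization.AtPrime Q
  haveI : IsNoetherianRing CQ := IsLocalization.isNoetherianRing Q.primeCompl _ inferInstance
  haveI : IsNoetherianRing Aq := IsLocalization.isNoetherianRing q.primeCompl _ inferInstance
  let φ : Aq →+* CQ := Localization.localRingHom q Q ι hQ
  haveI : IsLocalHom φ := Localization.isLocalHom_localRingHom q Q _ hQ
  haveI := hasLBase (R := C) (A := CQ) (algebraMap C CQ)
  haveI := hasLBase (algebraMap A Aq)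
  haveI := hasLBase (R := Aq) (A := CQ) φ
  haveI := hasLBase (R := A) (A := CQ) ((algebraMap C CQ).comp ι)
  haveI := hasLTen CQ
  haveI := hasRHom (A := CQ)
  have hd' := isDualizing_LBase (B := CQ) hd fun n _ => ⟨_, IsLocalization.map_under Q.primeCompl CQ n⟩
  obtain ⟨iU⟩ := nonempty_unit_iso_inD CQ
  have hU : Dual.IsDualizing CQ (DTen.unit CQ) :=
    isDualizing_of_iso iU.symm ((LC.gorenstein_iff_isDualizing CQ).1 hGQ)
  obtain ⟨m, ⟨e⟩⟩ := exists_iso_shift_of_isDualizing hU hd'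
  obtain ⟨c₁⟩ := nonempty_LBase_comp ι (algebraMap C CQ) _ rfl
  obtain ⟨c₂⟩ := nonempty_LBase_comp (algebraMap A Aq) φ ((algebraMap C CQ).comp ι)
    (RingHom.ext fun x => Localization.localRingHom_to_map q Q _ hQ x)
  haveI : ((DTen.LBase (algebraMap A Aq)).obj W).IsLE b := isLE_LBase W b
  obtain ⟨e'⟩ := nonempty_iso_shift_of_LBase φ ((DTen.LBase (algebraMap A Aq)).obj W) b
    (fun i => finite_hd_LBase W i (hfin i)) m (c₂.app W ≪≫ (c₁.app W).symm ≪≫ e)
  obtain ⟨f, hf, hiso⟩ := exists_away_iso_shift W a b hfin q m e'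
  exact ⟨f, hf, m, hiso⟩

/-- Invertibility nearby gives a Gorenstein point of the fibre. -/
theorem gorenstein_point_of_away_iso (hd : Dual.IsDualizing C ((DTen.LBase ι).obj W)) (Q : Ideal C) [Q.IsPrime]
    (f : A) (hf : ι f ∉ Q) (m : ℤ) [DTen.HasLBase (algebraMap A (Localization.Away f))]
    (e : (DTen.LBase (algebraMap A (Localization.Away f))).obj W ≅ (DTen.unit (Localization.Away f))⟦m⟧) :
    LocCoh.IsGorensteinLocalRing (Localization.AtPrime Q) := by
  haveI : IsNoetherianRing C := hd.isNoetherianRing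
  let CQ := Localization.AtPrime Q
  let χ : A →+* CQ := (algebraMap C CQ).comp ι
  haveI : IsNoetherianRing CQ := IsLocalization.isNoetherianRing Q.primeCompl _ inferInstance
  have hu : IsUnit (χ f) :=
    show IsUnit (algebraMap C CQ (ι f)) from IsLocalization.map_units CQ (⟨ι f, hf⟩ : Q.primeCompl)
  obtain ⟨ψ, hψc⟩ : ∃ ψ : Localization.Away f →+* CQ, ψ.comp (algebraMap A (Localization.Away f)) = χ :=
    ⟨IsLocalization.Away.lift f hu, IsLocalization.Away.lift_comp f hu⟩
  haveI := hasLBase (R := C) (A := CQ) (algebraMap C CQ)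
  haveI := hasLBase (R := Localization.Away f) (A := CQ) ψ
  haveI := hasLBase (R := A) (A := CQ) χ
  haveI := hasLTen CQ
  haveI := hasRHom (A := CQ)
  obtain ⟨c₁⟩ := nonempty_LBase_comp ι (algebraMap C CQ) χ rfl
  obtain ⟨c₂⟩ := nonempty_LBase_comp (algebraMap A (Localization.Away f)) ψ χ hψc
  obtain ⟨s⟩ := nonempty_LBase_shift ψ m
  obtain ⟨u⟩ := nonempty_LBase_unit ψ
  obtain ⟨iU⟩ := nonempty_unit_iso_inD CQ
  have h0 := isDualizing_LBase (B := CQ) hd fun n _ => ⟨_, IsLocalization.map_under Q.primeCompl CQ n⟩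
  let k₁ : (DTen.LBase (algebraMap C CQ)).obj ((DTen.LBase ι).obj W) ≅ (DTen.LBase χ).obj W := c₁.app W
  let k₂ : (DTen.LBase χ).obj W ≅
      (DTen.LBase ψ).obj ((DTen.LBase (algebraMap A (Localization.Away f))).obj W) := (c₂.app W).symm
  let k₃ : (DTen.LBase ψ).obj ((DTen.unit (Localization.Away f))⟦m⟧) ≅
      ((DTen.LBase ψ).obj (DTen.unit (Localization.Away f)))⟦m⟧ := s.app _
  have h1 : Dual.IsDualizing CQ ((DTen.unit CQ)⟦m⟧) :=
    isDualizing_of_iso (k₁ ≪≫ k₂ ≪≫ (DTen.LBase ψ).mapIso e ≪≫ k₃ ≪≫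
      (CategoryTheory.shiftFunctor (Dual.D CQ) m).mapIso u) h0
  exact (LC.gorenstein_iff_isDualizing CQ).2 (isDualizing_of_iso
    ((shiftFunctorCompIsoId (Dual.D CQ) m (-m) (by omega)).app _ ≪≫ iU) (isDualizing_shift h1 (-m)))

end Ring

variable [∀ (U V : Scheme.{u}) (j : U ⟶ V) [IsOpenImmersion j], PreservesFiniteLimits (Scheme.Modules.restrictFunctor j)]
  [∀ (R : CommRingCat.{u}), PreservesFiniteLimits (tilde.functor R)]

/-- A shift of the structure sheaf restricts to such a shift. -/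
theorem nonempty_rho_shift {V U : Scheme.{u}} (σ : V ⟶ U) [IsOpenImmersion σ] {K : DCoh.D U} (n : ℤ)
    (e : K ≅ (DCoh.inD U (Coh.structureModule U))⟦n⟧) :
    Nonempty ((rho σ).obj K ≅ (DCoh.inD V (Coh.structureModule V))⟦n⟧) :=
  ⟨(rho σ).mapIso e ≪≫ ((rho σ).commShiftIso n).app _ ≪≫
    (shiftFunctor (DCoh.D V) n).mapIso (RelPC17.rhoInD σ _ ≪≫
      (DerivedCategory.singleFunctor V.Modules 0).mapIso (RelPC17.restrictStructureIso σ))⟩

/-- `~` of a shift of the ring. -/
theorem nonempty_tilde_unit_shift (B : Type u) [CommRing B] (n : ℤ) :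
    Nonempty ((DCoh.tildeD (CommRingCat.of B)).obj ((DTen.unit B)⟦n⟧) ≅
      (DCoh.inD (Spec (CommRingCat.of B)) (Coh.structureModule (Spec (CommRingCat.of B))))⟦n⟧) := by
  obtain ⟨t⟩ := DualNormalized.nonempty_tildeD_iso B
  obtain ⟨iU⟩ := nonempty_unit_iso_inD B
  exact ⟨((DCoh.tildeD (CommRingCat.of B)).commShiftIso n).app _ ≪≫
    (shiftFunctor (DCoh.D (Spec (CommRingCat.of B))) n).mapIso ((DCoh.tildeD (CommRingCat.of B)).mapIso iU ≪≫ t)⟩

/-- Restriction of a chart to a basic open. -/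
theorem nonempty_rho_away {A : Type u} [CommRing A] {X : Scheme.{u}} {M : DCoh.D X}
    (k : Spec (CommRingCat.of A) ⟶ X) [IsOpenImmersion k] {W : Dual.D A}
    (e : (rho k).obj M ≅ (DCoh.tildeD (CommRingCat.of A)).obj W) (g : A)
    [DTen.HasLBase (algebraMap A (Localization.Away g))] :
    Nonempty ((rho (Spec.map (CommRingCat.ofHom (algebraMap A (Localization.Away g))) ≫ k)).obj M ≅
      (DCoh.tildeD (CommRingCat.of (Localization.Away g))).obj
        ((DTen.LBase (algebraMap A (Localization.Away g))).obj W)) := by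
  let φ := algebraMap A (Localization.Away g)
  haveI := H9Misc.DRingLBase.hasLBaseChange φ
  haveI := hasLpull (Spec.map (CommRingCat.ofHom φ))
  obtain ⟨a⟩ := nonempty_tildeD_lpull_iso φ
  obtain ⟨l⟩ := nonempty_LBaseChange_iso φ
  exact ⟨(rhoComp (Spec.map (CommRingCat.ofHom φ)) k _ rfl M).symm ≪≫ (rho _).mapIso e ≪≫
    rhoLpullIso _ _ ≪≫ (a.app W).symm ≪≫ (DCoh.tildeD _).mapIso (l.app W)⟩

variable {X Y : Scheme.{u}} {f : X ⟶ Y} {M : DCoh.D X} {x : X} (c : Chart f M x)

theorem mem_range_away (g : c.A) (hg : g ∉ (pt c).asIdeal) :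
    x ∈ Set.range (Spec.map (CommRingCat.ofHom (algebraMap c.A (Localization.Away g))) ≫ c.k).base := by
  have : pt c ∈ Set.range (PrimeSpectrum.comap (algebraMap c.A (Localization.Away g))) := by
    rw [PrimeSpectrum.localization_away_comap_range (Localization.Away g) g]
    exact hg
  obtain ⟨v, hv⟩ := this
  exact ⟨v, (congrArg c.k.base hv).trans c.hp⟩

include c in
set_option maxHeartbeats 800000 in
/-- Gorenstein points are those near which `f^! O` is invertible. -/
theorem gorenstein_iff [Flat f] [IsLocallyNoetherian X] :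
    Dual3.IsGorensteinAt f x ↔ ∃ U : X.Opens, x ∈ U ∧ Dual3.IsInvertibleD ((DCoh.restrictD U.ι).obj M) := by
  obtain ⟨⟨a, b, hab⟩, hfin⟩ := bounds c
  haveI : (om c).IsGE a := (DerivedCategory.isGE_iff _ _).2 fun i hi => by
    haveI := hab i (Or.inl hi); exact @ModuleCat.isZero_of_subsingleton _ _ _ this
  haveI : (om c).IsLE b := (DerivedCategory.isLE_iff _ _).2 fun i hi => by
    haveI := hab i (Or.inr hi); exact @ModuleCat.isZero_of_subsingleton _ _ _ this
  obtain ⟨Q, hQp, hQ, ⟨eQ⟩⟩ := exists_fibre_data (R := c.R) (pt c)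
  haveI := Groth.Agent.KFlatLib.hasLBase (incRight c.R ((pt c).asIdeal.comap (algebraMap c.R c.A)).ResidueField c.A)
  have hd := isDualizing_fibre c ((pt c).asIdeal.comap (algebraMap c.R c.A))
  rw [isGorensteinAt_iff c Q eQ]
  constructor
  · intro hG
    obtain ⟨g, hg, m, hiso⟩ := exists_away_iso_of_gorenstein_point (om c) _ a b hfin (pt c).asIdeal Q hQ.symm hd hG
    haveI := hasLBase (algebraMap c.A (Localization.Away g))
    obtain ⟨e₀⟩ := hiso
    obtain ⟨e₁⟩ := nonempty_rho_away c.k c.e g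
    obtain ⟨e₂⟩ := nonempty_tilde_unit_shift (Localization.Away g) m
    let k' := Spec.map (CommRingCat.ofHom (algebraMap c.A (Localization.Away g))) ≫ c.k
    let eM : (rho k').obj M ≅ _ := e₁ ≪≫ (DCoh.tildeD _).mapIso e₀ ≪≫ e₂
    refine ⟨k'.opensRange, mem_range_away c g hg, fun y => ⟨⊤, m, trivial, ?_⟩⟩
    let V := (⊤ : k'.opensRange.toScheme.Opens)
    have hr : Set.range (V.ι ≫ k'.opensRange.ι).base ⊆ Set.range k'.base := by
      rintro _ ⟨v, rfl⟩
      exact (V.ι.base v).2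
    let σ := IsOpenImmersion.lift k' (V.ι ≫ k'.opensRange.ι) hr
    have hσ : σ ≫ k' = V.ι ≫ k'.opensRange.ι := IsOpenImmersion.lift_fac _ _ _
    haveI : IsOpenImmersion (σ ≫ k') := by rw [hσ]; infer_instance
    haveI : IsOpenImmersion σ := IsOpenImmersion.of_comp σ k'
    obtain ⟨eσ⟩ := nonempty_rho_shift σ m eM
    exact ⟨rhoComp V.ι k'.opensRange.ι _ rfl M ≪≫
      (rhoComp σ k' (V.ι ≫ k'.opensRange.ι) hσ M).symm ≪≫ eσ⟩
  · rintro ⟨U, hxU, hinv⟩
    obtain ⟨V, n, hxV, ⟨eV⟩⟩ := hinv ⟨x, hxU⟩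
    let j := V.ι ≫ U.ι
    have hxj : pt c ∈ c.k ⁻¹ᵁ j.opensRange := by
      show c.k.base c.p ∈ Set.range j.base
      rw [c.hp]
      exact ⟨⟨⟨x, hxU⟩, hxV⟩, rfl⟩
    obtain ⟨_, ⟨g, rfl⟩, hg, hgle⟩ := PrimeSpectrum.isTopologicalBasis_basic_opens.exists_subset_of_mem_open hxj
      (c.k ⁻¹ᵁ j.opensRange).2
    haveI := hasLBase (algebraMap c.A (Localization.Away g))
    let k' := Spec.map (CommRingCat.ofHom (algebraMap c.A (Localization.Away g))) ≫ c.k
    have hr : Set.range k'.base ⊆ Set.range j.base := by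
      rintro _ ⟨v, rfl⟩
      refine hgle ?_
      exact (PrimeSpectrum.localization_away_comap_range (Localization.Away g) g).le ⟨v, rfl⟩
    let σ := IsOpenImmersion.lift j k' hr
    have hσ : σ ≫ j = k' := IsOpenImmersion.lift_fac _ _ _
    haveI : IsOpenImmersion (σ ≫ j) := by rw [hσ]; infer_instance
    haveI : IsOpenImmersion σ := IsOpenImmersion.of_comp σ j
    obtain ⟨eσ⟩ := nonempty_rho_shift σ n ((rhoComp V.ι U.ι j rfl M).symm ≪≫ eV)
    obtain ⟨e₁⟩ := nonempty_rho_away c.k c.e g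
    obtain ⟨e₂⟩ := nonempty_tilde_unit_shift (Localization.Away g) n
    obtain ⟨e₀⟩ := DualNormalized.nonempty_iso_of_tildeD
      (e₁.symm ≪≫ (rhoComp σ j k' hσ M).symm ≪≫ eσ ≪≫ e₂.symm)
    exact gorenstein_point_of_away_iso (om c) _ hd Q g (fun h => hg (hQ.le h)) n e₀

end Groth.Agent.KExact.ViaGor
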