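import Mathlib.Algebra.Homology.HomologicalComplexAbelian
import Mathlib.Algebra.Homology.ShortComplex.HomologicalComplex
import Mathlib.Algebra.Homology.HomotopyCategory
import Mathlib.CategoryTheory.Limits.Shapes.Kernels
import Mathlib.CategoryTheory.Preadditive.LeftExact

/-!
# Homology after applying a natural transformation of right exact functors
-/

set_option autoImplicit false

universe v u v' u'

open CategoryTheory CategoryTheory.Limits

namespace Groth.Agent.KExact

variable {C : Type u} [Category.{v} C] [Abelian C] {D : Type u'} [Category.{v'} D] [Abelian D]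

/-- A right exact functor commutes with opcycles. -/
lemma exists_map_opcycles (F : C ⥤ D) [F.Additive] [PreservesFiniteColimits F]
    (K : CochainComplex C ℤ) (p : ℤ) :
    ∃ φ : F.obj (K.opcycles p) ⟶
        ((F.mapHomologicalComplex (ComplexShape.up ℤ)).obj K).opcycles p,
      IsIso φ ∧ F.map (K.pOpcycles p) ≫ φ =
        ((F.mapHomologicalComplex (ComplexShape.up ℤ)).obj K).pOpcycles p := by
  have hi : (ComplexShape.up ℤ).prev p = p - 1 := CochainComplex.prev ℤ p
  let K' := (F.mapHomologicalComplex (ComplexShape.up ℤ)).obj K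
  have h₁ : IsColimit (CokernelCofork.ofπ (F.map (K.pOpcycles p))
      (show K'.d (p - 1) p ≫ F.map (K.pOpcycles p) = 0 by
        change F.map (K.d (p - 1) p) ≫ _ = 0
        rw [← F.map_comp, K.d_pOpcycles, F.map_zero])) :=
    CokernelCofork.mapIsColimit _ (K.opcyclesIsCokernel (p - 1) p hi) F
  have h₂ := K'.opcyclesIsCokernel (p - 1) p hi
  exact ⟨(h₁.coconePointUniqueUpToIso h₂).hom, inferInstance,
    h₁.comp_coconePointUniqueUpToIso_hom h₂ WalkingParallelPair.one⟩

/-- For a natural transformation of right exact functors, monomorphic in degree `p + 1`, the map on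
`H^p` is a monomorphism iff the map on opcycles is. -/
theorem mono_homologyMap_iff {F₁ F₂ : C ⥤ D} [F₁.Additive] [F₂.Additive]
    [PreservesFiniteColimits F₁] [PreservesFiniteColimits F₂] (τ : F₁ ⟶ F₂)
    (K : CochainComplex C ℤ) (p : ℤ) [Mono (τ.app (K.X (p + 1)))] :
    Mono (HomologicalComplex.homologyMap
      ((NatTrans.mapHomologicalComplex τ (ComplexShape.up ℤ)).app K) p) ↔
      Mono (τ.app (K.opcycles p)) := by
  let K₁ := (F₁.mapHomologicalComplex (ComplexShape.up ℤ)).obj K
  let K₂ := (F₂.mapHomologicalComplex (ComplexShape.up ℤ)).obj K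
  let φ : K₁ ⟶ K₂ := (NatTrans.mapHomologicalComplex τ (ComplexShape.up ℤ)).app K
  obtain ⟨e₁, he₁, h₁⟩ := exists_map_opcycles F₁ K p
  obtain ⟨e₂, he₂, h₂⟩ := exists_map_opcycles F₂ K p
  have sq : τ.app (K.opcycles p) ≫ e₂ = e₁ ≫ HomologicalComplex.opcyclesMap φ p := by
    rw [← cancel_epi (F₁.map (K.pOpcycles p)), ← Category.assoc, τ.naturality, Category.assoc, h₂,
      reassoc_of% h₁]
    exact (HomologicalComplex.p_opcyclesMap φ p).symm
  have hτ : Mono (τ.app (K.opcycles p)) ↔ Mono (HomologicalComplex.opcyclesMap φ p) := by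
    constructor
    · intro h
      have : HomologicalComplex.opcyclesMap φ p = inv e₁ ≫ τ.app (K.opcycles p) ≫ e₂ := by
        rw [sq, IsIso.inv_hom_id_assoc]
      rw [this]; infer_instance
    · intro h
      have : τ.app (K.opcycles p) = (e₁ ≫ HomologicalComplex.opcyclesMap φ p) ≫ inv e₂ := by
        rw [← sq, Category.assoc, IsIso.hom_inv_id, Category.comp_id]
      rw [this]; infer_instance
  rw [hτ]
  change Mono (HomologicalComplex.homologyMap φ p) ↔ _
  have hsq := HomologicalComplex.homologyι_naturality φ p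
  constructor
  · intro h
    refine Preadditive.mono_of_cancel_zero _ fun {Z} g hg => ?_
    haveI : Mono (φ.f (p + 1)) := inferInstanceAs (Mono (τ.app (K.X (p + 1))))
    have hg' : g ≫ K₁.fromOpcycles p (p + 1) = 0 := by
      have hn : HomologicalComplex.opcyclesMap φ p ≫ K₂.fromOpcycles p (p + 1) =
          K₁.fromOpcycles p (p + 1) ≫ φ.f (p + 1) := by
        rw [← cancel_epi (K₁.pOpcycles p)]; simp
      rw [← cancel_mono (φ.f (p + 1)), Category.assoc, zero_comp, ← hn, reassoc_of% hg, zero_comp]
    let hK := K₁.homologyIsKernel p (p + 1) (CochainComplex.next ℤ p)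
    obtain ⟨l, hl⟩ := KernelFork.IsLimit.lift' hK g hg'
    change l ≫ K₁.homologyι p = g at hl
    have : l = 0 := by
      rw [← cancel_mono (HomologicalComplex.homologyMap φ p), zero_comp,
        ← cancel_mono (K₂.homologyι p), Category.assoc, hsq, reassoc_of% hl, hg, zero_comp]
    rw [← hl, this, zero_comp]
  · intro h
    haveI : Mono (HomologicalComplex.homologyMap φ p ≫ K₂.homologyι p) := by
      rw [hsq]; infer_instance
    exact mono_of_mono _ (K₂.homologyι p)

end Groth.Agent.KExact
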