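import Groth.Agent.KFlatLib.Scheme.ProjFormula
import Groth.Agent.KFlatLib.Scheme.RelTensorAmp
import Groth.Agent.KFlatLib.SingleIso
import Groth.Agent.KFlatLib.SymmNat

/-!
# The functor `G ↦ H^p(F ⊗^L G)` computed by a flat resolution
-/

set_option autoImplicit false
set_option linter.style.haveILetI false
set_option backward.isDefEq.respectTransparency false
set_option backward.isDefEq.respectTransparency.types false

universe v u

open CategoryTheory CategoryTheory.Limits AlgebraicGeometry

attribute [local instance] HasDerivedCategory.standard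

namespace Groth.Agent.KExact

open KFlatLib

section General

variable {C : Type u} [Category.{v} C] [Abelian C] [∀ S : Type, HasColimitsOfShape (Discrete S) C]
  (T : C ⥤ C ⥤ C) [T.Additive] [∀ Y, (T.obj Y).Additive]

/-- `singleIso` is natural in the object. -/
lemma singleIso_naturality (L : CochainComplex C ℤ) {P P' : C} (g : P ⟶ P') :
    (T.map₂CochainComplex.obj L).map ((HomologicalComplex.single C (ComplexShape.up ℤ) 0).map g) ≫
        (singleIso T P').hom.app L =
      (singleIso T P).hom.app L ≫
        (NatTrans.mapHomologicalComplex (T.flip.map g) (ComplexShape.up ℤ)).app L := by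
  have h : (singleIso T P).inv.app L ≫
      (T.map₂CochainComplex.obj L).map ((HomologicalComplex.single C (ComplexShape.up ℤ) 0).map g) =
      (NatTrans.mapHomologicalComplex (T.flip.map g) (ComplexShape.up ℤ)).app L ≫
        (singleIso T P').inv.app L := by
    ext n
    change singleSummand (T := T) L P 0 n n (add_zero n) ≫
        (HomologicalComplex.mapBifunctorMap (𝟙 L) ((HomologicalComplex.single C (ComplexShape.up ℤ) 0).map g)
          T (ComplexShape.up ℤ)).f n =
      (T.obj (L.X n)).map g ≫ singleSummand (T := T) L P' 0 n n (add_zero n)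
    simp only [singleSummand, Category.assoc]
    erw [HomologicalComplex.ι_mapBifunctorMap]
    simp only [HomologicalComplex.id_f, CategoryTheory.Functor.map_id, NatTrans.id_app,
      Category.id_comp]
    rw [← Functor.map_comp_assoc, ← Functor.map_comp_assoc, HomologicalComplex.single_map_f_self]
    simp
  have h₁ : (singleIso T P).hom.app L ≫ (singleIso T P).inv.app L = 𝟙 _ := Iso.hom_inv_id_app _ _
  have h₂ : (singleIso T P').inv.app L ≫ (singleIso T P').hom.app L = 𝟙 _ := Iso.inv_hom_id_app _ _
  exact ((congrArg (· ≫ _) (Category.id_comp _).symm).trans (congrArg (fun t => (t ≫ _) ≫ _) h₁.symm)).trans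
    (((congrArg (· ≫ _) (Category.assoc _ _ _)).trans (Category.assoc _ _ _)).trans
      (congrArg (_ ≫ ·) (((congrArg (· ≫ _) h).trans (Category.assoc _ _ _)).trans
        ((congrArg (_ ≫ ·) h₂).trans (Category.comp_id _)))))

end General

variable {X : Scheme.{u}}

/-- `G ↦ R ⊗ G`, termwise. -/
noncomputable def tenR (R : CochainComplex X.Modules ℤ) : X.Modules ⥤ CochainComplex X.Modules ℤ where
  obj G := (((DCoh.tensorBi (X := X)).flip.obj G).mapHomologicalComplex (ComplexShape.up ℤ)).obj R
  map g := (NatTrans.mapHomologicalComplex ((DCoh.tensorBi (X := X)).flip.map g) (ComplexShape.up ℤ)).app R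
  map_id G := by
    refine HomologicalComplex.hom_ext _ _ fun n => ?_
    exact (DCoh.tensorBi.obj (R.X n)).map_id G
  map_comp g g' := by
    refine HomologicalComplex.hom_ext _ _ fun n => ?_
    exact (DCoh.tensorBi.obj (R.X n)).map_comp g g'

instance additive_tenR (R : CochainComplex X.Modules ℤ) : (tenR R).Additive where
  map_add {G G' g g'} := by
    refine HomologicalComplex.hom_ext _ _ fun n => ?_
    exact (DCoh.tensorBi.obj (R.X n)).map_add

/-- `G ↦ H^p(R ⊗ G)`. -/
noncomputable def psi (R : CochainComplex X.Modules ℤ) (p : ℤ) : X.Modules ⥤ X.Modules :=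
  tenR R ⋙ HomologicalComplex.homologyFunctor X.Modules (ComplexShape.up ℤ) p

instance additive_psi (R : CochainComplex X.Modules ℤ) (p : ℤ) : (psi R p).Additive := by
  unfold psi; infer_instance

/-- `R ⊗ G[0]` is `R ⊗ G`. -/
noncomputable def tenSingleIso (R : CochainComplex X.Modules ℤ) :
    HomologicalComplex.single X.Modules (ComplexShape.up ℤ) 0 ⋙ DCoh.tensorCx.flip.obj R ≅ tenR R :=
  Functor.isoWhiskerLeft _ (symmIso (tensorBiFlipIso X) R) ≪≫
    NatIso.ofComponents (fun G => (singleIso (DCoh.tensorBi (X := X)) G).app R)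
      (fun g => singleIso_naturality (DCoh.tensorBi (X := X)) R g)

/-- `G ↦ H^p(F ⊗^L G)` is computed by any K-flat complex representing `F`. -/
theorem nonempty_psiIso {F R : CochainComplex X.Modules ℤ} [DCoh.HasLTensorCx F]
    (hR : DCoh.IsKFlat R) (e : DerivedCategory.Q.obj F ≅ DerivedCategory.Q.obj R) (p : ℤ) :
    Nonempty (DerivedCategory.singleFunctor X.Modules 0 ⋙ DCoh.LTensorCx F ⋙
      DerivedCategory.homologyFunctor X.Modules p ≅ psi R p) := by
  haveI := hasLTensorCx R
  obtain ⟨c⟩ := nonempty_LTensorCx_congr_D (P := F) (E := R) e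
  let ε := (DCoh.tensorCxQ R).totalLeftDerivedCounit DerivedCategory.Q (qisX X)
  haveI : ∀ N, IsIso (ε.app N) := fun N => isIso_LTensorCx_counit_of_isKFlat_right R hR N
  haveI : IsIso ε := NatIso.isIso_of_isIso_app ε
  let s := HomologicalComplex.single X.Modules (ComplexShape.up ℤ) 0
  exact ⟨Functor.isoWhiskerRight (DerivedCategory.singleFunctorIsoCompQ X.Modules 0) _ ≪≫
    Functor.associator _ _ _ ≪≫
    Functor.isoWhiskerLeft s ((Functor.associator _ _ _).symm ≪≫
      Functor.isoWhiskerRight (Functor.isoWhiskerLeft DerivedCategory.Q c ≪≫ asIso ε)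
        (DerivedCategory.homologyFunctor X.Modules p) ≪≫ Functor.associator _ _ _ ≪≫
      Functor.isoWhiskerLeft (DCoh.tensorCx.flip.obj R)
        (DerivedCategory.homologyFunctorFactors X.Modules p)) ≪≫
    (Functor.associator _ _ _).symm ≪≫
    Functor.isoWhiskerRight (tenSingleIso R) _⟩

end Groth.Agent.KExact
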