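import Groth.Agent.H28.ExcCharts
import Groth.Agent.S1515
import Groth.Agent.Lib.SmoothTop

/-!
# The diagonal of a smooth morphism is a regular immersion of codimension the relative dimension
-/

set_option autoImplicit false
set_option linter.style.haveILetI false
set_option linter.unusedSectionVars false
set_option backward.isDefEq.respectTransparency false
set_option backward.isDefEq.respectTransparency.types false

universe u

open CategoryTheory CategoryTheory.Limits AlgebraicGeometry TopologicalSpace Opposite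

namespace Groth.Agent.KExact.DiagCodim

open Groth.Agent

/-- The codimension of a regular closed immersion is the rank of its conormal sheaf. -/
theorem isRegularImmersionOfCodim_of_rank {Z B : Scheme.{u}} (i : Z ⟶ B) [IsLocallyNoetherian B]
    (hi : Mor2.IsRegularClosedImmersion i) {d : ℕ} (hC : FlatMod.IsFinLocFreeOfRank d (Omega.conormal i)) :
    RegImm.IsRegularImmersionOfCodim RegImm.Kind.regular d i := by
  haveI := hi.1
  refine ⟨inferInstance, fun z => ?_⟩
  obtain ⟨U, hU, hzU, rs, hrs, hideal⟩ := hi.2 z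
  have hideal' : RingHom.ker (i.app U).hom = Ideal.ofList rs := (Scheme.Hom.ker_apply i ⟨U, hU⟩).symm.trans hideal
  have h1 := KRegLib.seq_of_isRegular RegImm.Kind.h1 rs hrs
  obtain ⟨g, hg⟩ := RegConormal.exists_freeIso_conormal i ⟨U, hU⟩ inferInstance rs hideal' fun y hy a ha l => by
    letI : Algebra Γ(B, U) (B.presheaf.stalk (i y)) := (B.presheaf.germ U (i y) hy).hom.toAlgebra
    haveI : IsLocalization.AtPrime (B.presheaf.stalk (i y)) (hU.primeIdealOf ⟨i y, hy⟩).asIdeal :=
      hU.isLocalization_stalk ⟨i y, hy⟩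
    have hf := RegConormal.isH1Regular_localization (B := B.presheaf.stalk (i y))
      (hU.primeIdealOf ⟨i y, hy⟩).asIdeal.primeCompl rs.get h1
    have hK : RingHom.ker (i.stalkMap y).hom =
        Ideal.span (Set.range fun l => algebraMap Γ(B, U) (B.presheaf.stalk (i y)) (rs.get l)) := by
      rw [H28.KRRPush.ker_stalkMap i y hU hy, Scheme.Hom.ker_apply, hideal',
        show Ideal.ofList rs = Ideal.span (Set.range rs.get) from congrArg Ideal.span (Set.range_list_get rs).symm,
        Ideal.map_span, ← Set.range_comp]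
      rfl
    rw [hK] at ha ⊢
    exact RegConormal.coeff_mem_of_h1 _ hf a ha l
  haveI := hg
  have hlen : rs.length = d := by
    have hfree : FlatMod.IsFinLocFreeOfRank rs.length (FlatMod.freeMod Z rs.length) := fun z' =>
      ⟨⊤, trivial, ⟨QCoh.freeModRestrict _ _⟩⟩
    have ha := (ConsPropLib.isFinLocFreeOfRank_iso (asIso g)).1
      (ConsPropLib.isFinLocFreeOfRank_restrict (i ⁻¹ᵁ U).ι hfree)
    have hb := ConsPropLib.isFinLocFreeOfRank_restrict (i ⁻¹ᵁ U).ι hC
    exact ((ConsPropLib.isFinLocFreeOfRank_iff.1 ha).2 ⟨z, hzU⟩).symm.trans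
      ((ConsPropLib.isFinLocFreeOfRank_iff.1 hb).2 ⟨z, hzU⟩)
  haveI : IsClosedImmersion (i ∣_ U) := inferInstance
  exact ⟨⟨U, hU⟩, hzU, ‹_›, rs, hlen, hrs, hideal'⟩

/-- `Ω` of a smooth morphism is locally free of rank the relative dimension. -/
theorem rank_omega {X S : Scheme.{u}} (f : X ⟶ S) [QuasiSeparated f] (n : ℕ) [SmoothOfRelativeDimension n f] :
    FlatMod.IsFinLocFreeOfRank n (Omega.sheaf f) := by
  choose U hxU h using fun x => SmoothTop.exists_locFree f n x
  exact ConsPropLib.isFinLocFreeOfRank_of_cover (fun x => (U x).ι) (fun x => ⟨x, ⟨x, hxU x⟩, rfl⟩) h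

theorem isRegularImmersion_diagonal {X S : Scheme.{u}} (f : X ⟶ S) [IsSeparated f] [QuasiCompact f] (n : ℕ)
    [SmoothOfRelativeDimension n f] [IsLocallyNoetherian X] [IsLocallyNoetherian S] :
    RegImm.IsRegularImmersionOfCodim RegImm.Kind.regular n (pullback.diagonal f) := by
  haveI : Smooth f := SmoothOfRelativeDimension.smooth n f
  haveI : IsLocallyNoetherian (pullback f f) := LocallyOfFiniteType.isLocallyNoetherian (pullback.fst f f)
  exact isRegularImmersionOfCodim_of_rank _ ((S1515.result f).1.1 inferInstance).2 (rank_omega f n)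

end Groth.Agent.KExact.DiagCodim
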