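import Groth.Agent.KExact.SPerfectRep

/-!
# Perfect objects and homotopies under the resolution property
-/

set_option linter.style.haveILetI false
set_option backward.isDefEq.respectTransparency false
set_option backward.isDefEq.respectTransparency.types false
set_option maxHeartbeats 800000

universe u

open CategoryTheory CategoryTheory.Limits AlgebraicGeometry Pretriangulated CochainComplex

attribute [local instance] HasDerivedCategory.standard

namespace Groth.Agent.KExact.SPerfect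

open Groth.Agent Groth.Agent.KFlatLib

variable {X : Scheme.{u}}

lemma exists_lowerBound {P : CochainComplex X.Modules ℤ} (hP : DCoh.IsStrictlyPerfect P) :
    ∃ a, ∀ i, i < a → IsZero (P.X i) := by
  obtain ⟨a, b, h⟩ := hP.1
  exact ⟨a, fun i hi => h i (Or.inl hi)⟩

/-- Perfect objects on quasi-compact schemes have uniform amplitude. -/
theorem exists_amplitude [CompactSpace X] {K : DCoh.D X} (hK : LocSP K) :
    ∃ a b : ℤ, a ≤ b ∧ DCoh.HasFlatAmplitudeIn a b K := by
  choose U j hj hx P hP e using hK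
  choose lo hi hr using fun x => (hP x).1
  haveI := hj
  obtain ⟨t, ht⟩ := isCompact_univ.elim_finite_subcover
    (fun x => Set.range (j x).base) (fun x => (j x).isOpenEmbedding.isOpen_range)
    (fun x _ => Set.mem_iUnion.2 ⟨x, hx x⟩)
  obtain ⟨a, ha⟩ := (t.image lo).bddBelow
  obtain ⟨b, hb⟩ := (t.image hi).bddAbove
  refine ⟨a, max a b, le_max_left _ _,
    ((perfectAmplitude_iff K a (max a b) (le_max_left _ _)).1 fun x => ?_).2⟩
  obtain ⟨y, hy, hxy⟩ := Set.mem_iUnion₂.1 (ht (Set.mem_univ x))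
  refine ⟨U y, j y, inferInstance, hxy, P y, fun i hi' => hr y i ?_, (hP y).2, e y⟩
  have h1 := ha (Finset.mem_coe.2 (Finset.mem_image_of_mem lo hy))
  have h2 := hb (Finset.mem_coe.2 (Finset.mem_image_of_mem hi hy))
  omega

variable [CompactSpace X] [QuasiSeparatedSpace X]

/-- Perfect objects are represented by strictly perfect complexes. -/
theorem exists_rep (hX : PerfAux.HasResolutionProperty X) {K : DCoh.D X} (hK : LocSP K) :
    ∃ E : CochainComplex X.Modules ℤ, DCoh.IsStrictlyPerfect E ∧ Nonempty (DerivedCategory.Q.obj E ≅ K) := by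
  obtain ⟨a, b, hab, F, hv, hflat, ⟨e⟩⟩ := exists_amplitude hK
  obtain ⟨P, φ, hP, hφ⟩ := exists_approx hX (AffineLift.isQCohD_of_locSP hK) (b := b)
    (fun i hi => (ShortComplex.isZero_homology_of_isZero_X₂ _ (hv i (Or.inr hi))).of_iso
      ((DerivedCategory.homologyFunctor X.Modules i).mapIso e.symm ≪≫
        (DerivedCategory.homologyFunctorFactors X.Modules i).app F))
    (fun m => hK.locPC m) (b + 2 - a).toNat
  rw [show b + 1 - ((b + 2 - a).toNat : ℤ) = a - 1 by omega] at hφ
  obtain ⟨P', hP', -, ⟨e'⟩⟩ := exists_perfect_of_flat_pc hab hP hv hflat (φ ≫ e.inv)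
    (hφ.comp (isPcMap_of_isIso _ _))
  exact ⟨P', hP', ⟨e' ≪≫ e⟩⟩

/-- Derived equality of chain maps between strictly perfect complexes gives homotopy after a quasi-isomorphism. -/
theorem exists_homotopy (hX : PerfAux.HasResolutionProperty X) {E F : CochainComplex X.Modules ℤ}
    (hE : DCoh.IsStrictlyPerfect E) (hF : DCoh.IsStrictlyPerfect F) (α β : E ⟶ F)
    (h : DerivedCategory.Q.map α = DerivedCategory.Q.map β) :
    ∃ (G : CochainComplex X.Modules ℤ) (γ : G ⟶ E),
      DCoh.IsStrictlyPerfect G ∧ QuasiIso γ ∧ Nonempty (Homotopy (γ ≫ α) (γ ≫ β)) := by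
  let q := HomotopyCategory.quotient X.Modules (ComplexShape.up ℤ)
  let δ : E ⟶ F := α - β
  let M := mappingCone δ
  let T := (mappingCone.triangleh δ).invRotate
  have hT : T ∈ distTriang _ := inv_rot_of_distTriang _ (HomotopyCategory.mappingCone_triangleh_distinguished δ)
  let M' : CochainComplex X.Modules ℤ := M⟦(-1 : ℤ)⟧
  have hM' : DCoh.IsStrictlyPerfect M' := isStrictlyPerfect_shift (isStrictlyPerfect_cone δ hE hF) _
  let θ : q.obj M' ≅ T.obj₁ := (q.commShiftIso (-1 : ℤ)).app M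
  obtain ⟨ρ, hρ⟩ := q.map_surjective (show q.obj M' ⟶ q.obj E from θ.hom ≫ T.mor₁)
  have hρδ : q.map (ρ ≫ δ) = 0 := by
    rw [Functor.map_comp, hρ, Category.assoc]
    exact (congrArg (θ.hom ≫ ·) (comp_distTriang_mor_zero₁₂ T hT)).trans comp_zero
  obtain ⟨s, hs⟩ : ∃ s : DerivedCategory.Q.obj E ⟶ DerivedCategory.Q.obj M',
      s ≫ DerivedCategory.Q.map ρ = 𝟙 _ := by
    have hTD := DerivedCategory.Qh.map_distinguished T hT
    have h0 : 𝟙 (DerivedCategory.Qh.obj (q.obj E)) ≫ (DerivedCategory.Qh.mapTriangle.obj T).mor₂ = 0 := by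
      refine (Category.id_comp _).trans ?_
      show DerivedCategory.Q.map δ = 0
      rw [show δ = α - β from rfl, Functor.map_sub, h, sub_self]
    obtain ⟨s₀, hs₀⟩ := Triangle.coyoneda_exact₂ _ hTD (𝟙 _) h0
    refine ⟨s₀ ≫ DerivedCategory.Qh.map θ.inv, ?_⟩
    show (s₀ ≫ DerivedCategory.Qh.map θ.inv) ≫ DerivedCategory.Qh.map (q.map ρ) = _
    rw [hρ, Category.assoc, ← Functor.map_comp, Iso.inv_hom_id_assoc]
    exact hs₀.symm
  obtain ⟨G, γ, g, hG, hγ, hγg⟩ := exists_roof hX hE (isQCoh_terms hM') (exists_lowerBound hM') s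
  haveI := hγ
  refine ⟨G, g ≫ ρ, hG, ?_, ?_⟩
  · refine (DerivedCategory.isIso_Q_map_iff_quasiIso (C := X.Modules) (g ≫ ρ)).1 ?_
    rw [Functor.map_comp, ← hγg, Category.assoc, hs, Category.comp_id]
    exact isIso_Q_map _ hγ
  · refine ⟨HomotopyCategory.homotopyOfEq _ _ ?_⟩
    rw [← sub_eq_zero, ← Functor.map_sub, ← Preadditive.comp_sub, Category.assoc, Functor.map_comp, hρδ, comp_zero]

end Groth.Agent.KExact.SPerfect
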