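import Groth.Agent.RelPC17.Closed
import Groth.Agent.KFlatLib.Scheme.ProjClosed
import Groth.Agent.KFlatLib.Scheme.TildePush
import Groth.Agent.KFlatLib.Scheme.PullTensorCx
import Groth.Agent.H9Misc.ClosedPushFull
import Groth.Agent.KZ.ClosedDev
import Groth.Agent.S2265
import Mathlib.RingTheory.TensorProduct.MvPolynomial

/-!
# Base change of arbitrary modules along closed immersions
-/

set_option autoImplicit false
set_option linter.style.haveILetI false
set_option backward.isDefEq.respectTransparency false
set_option backward.isDefEq.respectTransparency.types false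

universe u

open CategoryTheory CategoryTheory.Limits AlgebraicGeometry TensorProduct

attribute [local instance] HasDerivedCategory.standard

namespace Groth.Agent.KExact

open KFlatLib RelPC17

variable {V A P Q : Scheme.{u}} (j₀ : V ⟶ A) [IsClosedImmersion j₀]

/-- The counit of a closed immersion is invertible on all modules. -/
theorem isIso_counit_closed : IsIso (Scheme.Modules.pullbackPushforwardAdjunction j₀).counit := by
  haveI : (Scheme.Modules.pushforward j₀).Faithful :=
    ⟨fun {M N} φ ψ h => KZ.ClosedDev.push_map_injective j₀ φ ψ h⟩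
  haveI : (Scheme.Modules.pushforward j₀).Full :=
    ⟨fun {M N} χ => H9Misc.ClosedPushFull.exists_map j₀ χ⟩
  exact Adjunction.counit_isIso_of_R_fully_faithful _

/-- `j_* O ⊗ - ≅ j_* j^*`. -/
theorem nonempty_tensorPushIso :
    Nonempty (DCoh.tensorBi.obj ((Scheme.Modules.pushforward j₀).obj (Coh.structureModule V)) ≅
      Scheme.Modules.pullback j₀ ⋙ Scheme.Modules.pushforward j₀) := by
  haveI : ∀ N, IsIso (projMod j₀ (Coh.structureModule V) N) :=
    fun N => isIso_projMod_of_isClosedImmersion j₀ _ N
  let e₁ : DCoh.tensorBi.obj ((Scheme.Modules.pushforward j₀).obj (Coh.structureModule V)) ≅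
      Scheme.Modules.pullback j₀ ⋙ DCoh.tensorBi.obj (Coh.structureModule V) ⋙
        Scheme.Modules.pushforward j₀ :=
    NatIso.ofComponents (fun N => asIso (projMod j₀ (Coh.structureModule V) N))
      (fun g => projMod_naturality_right j₀ _ g)
  let e₂ : DCoh.tensorBi.obj (Coh.structureModule V) ≅ 𝟭 V.Modules :=
    ((tensorBiFlipIso V).app _).symm ≪≫ tensorStructureIso V
  exact ⟨e₁ ≪≫ Functor.isoWhiskerLeft _ (Functor.isoWhiskerRight e₂ _ ≪≫ Functor.leftUnitor _)⟩

variable (j : P ⟶ Q) [IsClosedImmersion j] (π : P ⟶ V) (π' : Q ⟶ A)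

/-- Base change of all modules, from base change of the structure module. -/
theorem nonempty_closedBC (hsq : j ≫ π' = π ≫ j₀)
    (e₀ : (Scheme.Modules.pullback π').obj ((Scheme.Modules.pushforward j₀).obj (Coh.structureModule V)) ≅
      (Scheme.Modules.pushforward j).obj (Coh.structureModule P)) :
    Nonempty (Scheme.Modules.pushforward j₀ ⋙ Scheme.Modules.pullback π' ≅
      Scheme.Modules.pullback π ⋙ Scheme.Modules.pushforward j) := by
  obtain ⟨t₀⟩ := nonempty_tensorPushIso j₀
  obtain ⟨t⟩ := nonempty_tensorPushIso j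
  haveI := isIso_counit_closed j₀
  let O₀ := (Scheme.Modules.pushforward j₀).obj (Coh.structureModule V)
  let a : (Scheme.Modules.pullback j₀ ⋙ Scheme.Modules.pushforward j₀) ⋙ Scheme.Modules.pullback π' ≅
      (Scheme.Modules.pullback j₀ ⋙ Scheme.Modules.pullback π) ⋙ Scheme.Modules.pushforward j :=
    Functor.isoWhiskerRight t₀.symm _ ≪≫ (pullTensorBiIso π').app O₀ ≪≫
      Functor.isoWhiskerLeft (Scheme.Modules.pullback π') (DCoh.tensorBi.mapIso e₀ ≪≫ t) ≪≫
      (Functor.associator _ _ _).symm ≪≫
      Functor.isoWhiskerRight (Scheme.Modules.pullbackComp j π' ≪≫ Scheme.Modules.pullbackCongr hsq ≪≫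
        (Scheme.Modules.pullbackComp π j₀).symm) _
  let c : Scheme.Modules.pushforward j₀ ⋙ Scheme.Modules.pullback j₀ ≅ 𝟭 V.Modules :=
    asIso (Scheme.Modules.pullbackPushforwardAdjunction j₀).counit
  exact ⟨(Functor.rightUnitor _).symm.trans (Iso.refl _) ≪≫
    Functor.isoWhiskerRight ((Functor.leftUnitor _).symm ≪≫ Functor.isoWhiskerRight c.symm _ ≪≫
      Functor.associator _ _ _) (Scheme.Modules.pullback π') ≪≫
    Functor.associator _ _ _ ≪≫ Functor.isoWhiskerLeft _ a ≪≫
    Functor.isoWhiskerLeft _ (Functor.associator _ _ _) ≪≫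
    (Functor.associator _ _ _).symm ≪≫
    Functor.isoWhiskerRight c (Scheme.Modules.pullback π ⋙ Scheme.Modules.pushforward j) ≪≫
    Functor.leftUnitor _⟩

/-- Base change of the structure module for polynomial rings over a surjection. -/
theorem nonempty_polyBC {T A : Type u} [CommRing T] [CommRing A] (θ : T →+* A) (hθ : Function.Surjective θ)
    (k : ℕ) :
    Nonempty ((Scheme.Modules.pullback (Spec.map (CommRingCat.ofHom
        (MvPolynomial.C : T →+* MvPolynomial (Fin k) T)))).obj
          ((Scheme.Modules.pushforward (Spec.map (CommRingCat.ofHom θ))).obj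
            (Coh.structureModule (Spec (CommRingCat.of A)))) ≅
      (Scheme.Modules.pushforward (Spec.map (CommRingCat.ofHom
          (MvPolynomial.map θ : MvPolynomial (Fin k) T →+* MvPolynomial (Fin k) A)))).obj
        (Coh.structureModule (Spec (CommRingCat.of (MvPolynomial (Fin k) A))))) := by
  letI : Algebra T A := θ.toAlgebra
  letI := MvPolynomial.algebraMvPolynomial (σ := Fin k) (R := T) (S := A)
  let σ : MvPolynomial (Fin k) T →+* MvPolynomial (Fin k) A := MvPolynomial.map θ
  haveI : IsClosedImmersion (Spec.map (CommRingCat.ofHom θ)) := IsClosedImmersion.spec_of_surjective _ hθ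
  haveI : IsClosedImmersion (Spec.map (CommRingCat.ofHom σ)) :=
    IsClosedImmersion.spec_of_surjective _ (MvPolynomial.map_surjective θ hθ)
  obtain ⟨p⟩ := Groth.Agent.S2265.result T (MvPolynomial (Fin k) T) A
  let l := Algebra.IsPushout.equiv T (MvPolynomial (Fin k) T) A (MvPolynomial (Fin k) A)
  let eN : (ModuleCat.restrictScalars.{u} θ).obj (ModuleCat.of A A) ≅ ModuleCat.of T A :=
    LinearEquiv.toModuleIso (m₁ := ((ModuleCat.restrictScalars θ).obj (ModuleCat.of A A)).isModule)
      { toFun := fun z => z, invFun := fun z => z, left_inv := fun _ => rfl, right_inv := fun _ => rfl,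
        map_add' := fun _ _ => rfl, map_smul' := fun _ _ => rfl }
  let eM : ModuleCat.of (MvPolynomial (Fin k) T) (MvPolynomial (Fin k) T ⊗[T] A) ≅
      (ModuleCat.restrictScalars.{u} σ).obj (ModuleCat.of (MvPolynomial (Fin k) A) (MvPolynomial (Fin k) A)) :=
    LinearEquiv.toModuleIso (m₂ := ((ModuleCat.restrictScalars σ).obj
        (ModuleCat.of (MvPolynomial (Fin k) A) (MvPolynomial (Fin k) A))).isModule)
      { l.toLinearEquiv.toAddEquiv with
        map_smul' := fun r z => by
          refine (l.toLinearEquiv.map_smul r z).trans ?_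
          rw [Algebra.smul_def]
          rfl }
  exact ⟨(Scheme.Modules.pullback _).mapIso ((Scheme.Modules.pushforward _).mapIso tildeSelf.symm ≪≫
      (pushTildeIso (CommRingCat.ofHom θ)).app _ ≪≫ (tilde.functor (CommRingCat.of T)).mapIso eN) ≪≫ p ≪≫
    (tilde.functor (CommRingCat.of (MvPolynomial (Fin k) T))).mapIso eM ≪≫
    ((pushTildeIso (CommRingCat.ofHom σ)).app _).symm ≪≫ (Scheme.Modules.pushforward _).mapIso tildeSelf⟩

end Groth.Agent.KExact
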