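import Groth.Agent.KExact.TorIndepSch
import Groth.Agent.S6240
import Groth.Agent.PicClLib.Basic
import Groth.Agent.KFlatLib.Scheme.DualPerfect

/-!
# External tensor products over a base
-/

set_option autoImplicit false
set_option linter.style.haveILetI false
set_option backward.isDefEq.respectTransparency false
set_option backward.isDefEq.respectTransparency.types false

universe u

open CategoryTheory CategoryTheory.Limits AlgebraicGeometry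

attribute [local instance] HasDerivedCategory.standard

namespace Groth.Agent.KExact

open KFlatLib

variable {S X₁ Y₁ X₂ Y₂ X Y : Scheme.{u}} {f₁ : X₁ ⟶ Y₁} {q₁ : Y₁ ⟶ S} {f₂ : X₂ ⟶ Y₂} {q₂ : Y₂ ⟶ S}
  {pX₁ : X ⟶ X₁} {pX₂ : X ⟶ X₂} {pY₁ : Y ⟶ Y₁} {pY₂ : Y ⟶ Y₂} {f : X ⟶ Y}

/-- The factorisation of a product of morphisms through a partial product. -/
theorem exists_factorization (hX : IsPullback pX₁ pX₂ (f₁ ≫ q₁) (f₂ ≫ q₂))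
    (hY : IsPullback pY₁ pY₂ q₁ q₂) (hf₁ : f ≫ pY₁ = pX₁ ≫ f₁) (hf₂ : f ≫ pY₂ = pX₂ ≫ f₂) :
    ∃ (f' : X ⟶ pullback q₂ (f₁ ≫ q₁)) (g : pullback q₂ (f₁ ≫ q₁) ⟶ Y),
      f' ≫ g = f ∧ f' ≫ pullback.snd q₂ (f₁ ≫ q₁) = pX₁ ∧
      IsPullback pX₂ f' f₂ (pullback.fst q₂ (f₁ ≫ q₁)) ∧
      IsPullback (pullback.snd q₂ (f₁ ≫ q₁)) g f₁ pY₁ := by
  let w₁ := pullback.snd q₂ (f₁ ≫ q₁)
  let w₂ := pullback.fst q₂ (f₁ ≫ q₁)
  let g := hY.lift (w₁ ≫ f₁) w₂ (by rw [Category.assoc]; exact (pullback.condition).symm)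
  let f' : X ⟶ pullback q₂ (f₁ ≫ q₁) :=
    pullback.lift (pX₂ ≫ f₂) pX₁ (by rw [Category.assoc]; exact hX.w.symm)
  refine ⟨f', g, hY.hom_ext ?_ ?_, pullback.lift_snd _ _ _, ?_, ?_⟩
  · rw [Category.assoc, hY.lift_fst, ← Category.assoc, pullback.lift_snd, hf₁]
  · rw [Category.assoc, hY.lift_snd, pullback.lift_fst, hf₂]
  · refine IsPullback.of_bot (v₂₁ := w₁) (v₂₂ := q₂) ?_ (pullback.lift_fst _ _ _).symm
      (IsPullback.of_hasPullback q₂ (f₁ ≫ q₁))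
    rw [pullback.lift_snd]
    exact hX.flip
  · refine (IsPullback.of_right (h₁₂ := pY₂) (h₂₂ := q₁) ?_ (hY.lift_fst _ _ _) hY.flip).flip
    rw [hY.lift_snd]
    exact IsPullback.of_hasPullback q₂ (f₁ ≫ q₁)

/-- Tor amplitude of the factors of an external product. -/
theorem hasTorAmplitudeD_external [Flat q₂] [Flat (f₂ ≫ q₂)]
    (hX : IsPullback pX₁ pX₂ (f₁ ≫ q₁) (f₂ ≫ q₂))
    (hY : IsPullback pY₁ pY₂ q₁ q₂) (hf₁ : f ≫ pY₁ = pX₁ ≫ f₁) (hf₂ : f ≫ pY₂ = pX₂ ≫ f₂)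
    (E₁ : CochainComplex X₁.Modules ℤ) (a₁ b₁ : ℤ) (h₁ : DerSch.HasTorAmplitude f₁ a₁ b₁ E₁)
    (E₂ : CochainComplex X₂.Modules ℤ) (a₂ b₂ : ℤ) (h₂ : DerSch.HasTorAmplitude f₂ a₂ b₂ E₂)
    [DCoh.HasLpull pX₁] [DCoh.HasLpull pX₂] (K₂ : CochainComplex X.Modules ℤ) [DCoh.HasLTensorCx K₂]
    (eK : DCoh.toD X K₂ ≅ (DCoh.Lpull pX₂).obj (DCoh.toD X₂ E₂)) :
    DerSch.HasTorAmplitudeD f (a₁ + a₂) (b₁ + b₂)
      ((DCoh.LTensorCx K₂).obj ((DCoh.Lpull pX₁).obj (DCoh.toD X₁ E₁))) := by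
  obtain ⟨f', g, hfg, hw, sq₂, sq₁⟩ := exists_factorization hX hY hf₁ hf₂
  haveI : Flat pY₁ := MorphismProperty.of_isPullback hY.flip inferInstance
  let w₁ := pullback.snd q₂ (f₁ ≫ q₁)
  haveI := hasLpull w₁
  haveI := hasLpull f'
  haveI := hasLpull (f' ≫ w₁)
  let L := (DCoh.Lpull w₁).obj (DCoh.toD X₁ E₁)
  let G₁ := DerivedCategory.Q.objPreimage L
  let eG : DCoh.toD _ G₁ ≅ L := DerivedCategory.Q.objObjPreimageIso L
  have hG₁ : DerSch.HasTorAmplitude g a₁ b₁ G₁ := hasTorAmplitude_of_isPullback f₁ pY₁ w₁ g sq₁ a₁ b₁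
    (fun F' F e hF => KSixRel.hasTorAmplitude_baseChange f₁ pY₁ F a₁ b₁ hF F' e) E₁ h₁ G₁ eG
  have hK₂ : DerSch.HasTorAmplitude f' a₂ b₂ K₂ :=
    hasTorAmplitude_of_isPullback f₂ (pullback.fst q₂ (f₁ ≫ q₁)) pX₂ f' sq₂ a₂ b₂
      (fun F' F e hF => hasTorAmplitude_baseChange_over f₂ q₂ (f₁ ≫ q₁) F a₂ b₂ hF F' e) E₂ h₂ K₂ eK
  intro K hK
  obtain ⟨eK'⟩ := hK
  obtain ⟨c⟩ := nonempty_lpull_comp f' w₁
  obtain ⟨c'⟩ := nonempty_lpull_congr hw (DCoh.toD X₁ E₁)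
  have := Groth.Agent.S6240.result f' g f hfg K₂ a₂ b₂ hK₂ G₁ a₁ b₁ hG₁ K
    ⟨eK' ≪≫ (DCoh.LTensorCx K₂).mapIso (((DCoh.Lpull f').mapIso eG ≪≫ c.app _ ≪≫ c').symm)⟩
  rw [add_comm a₁, add_comm b₁]
  exact this

/-- The structure module pulls back to the structure module. -/
theorem nonempty_lpull_unitCx {X Y : Scheme.{u}} (p : X ⟶ Y) [DCoh.HasLpull p] :
    Nonempty (DCoh.toD X (DerSch.unitCx X) ≅ (DCoh.Lpull p).obj (DCoh.toD Y (DerSch.unitCx Y))) := by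
  haveI : CochainComplex.IsStrictlyLE (DerSch.unitCx Y) 0 :=
    (CochainComplex.isStrictlyLE_iff _ 0).2 fun i hi =>
      HomologicalComplex.isZero_single_obj_X (ComplexShape.up ℤ) 0 _ i (by omega)
  have hK : DCoh.IsKFlat (DerSch.unitCx Y) := isKFlat_single_of_isFlat (isFlat_structureModule (X := Y))
  exact ⟨DerivedCategory.Q.mapIso ((HomologicalComplex.singleMapHomologicalComplex (Scheme.Modules.pullback p)
      (ComplexShape.up ℤ) 0).app _ ≪≫ (HomologicalComplex.single X.Modules (ComplexShape.up ℤ) 0).mapIso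
        (Groth.Agent.PicClLib.nonempty_pullback_structureModule p).some).symm ≪≫ (lpullIso p hK).symm⟩

/-- Tor dimension of a product of morphisms over a base. -/
theorem hasTorDimLE_prod [Flat q₂] [Flat (f₂ ≫ q₂)] (hX : IsPullback pX₁ pX₂ (f₁ ≫ q₁) (f₂ ≫ q₂))
    (hY : IsPullback pY₁ pY₂ q₁ q₂) (hf₁ : f ≫ pY₁ = pX₁ ≫ f₁) (hf₂ : f ≫ pY₂ = pX₂ ≫ f₂)
    (n₁ n₂ : ℕ) (h₁ : DerSch.HasTorDimLE f₁ n₁) (h₂ : DerSch.HasTorDimLE f₂ n₂) :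
    DerSch.HasTorDimLE f (n₁ + n₂) := by
  haveI := hasLpull pX₁
  haveI := hasLpull pX₂
  haveI := hasLTensorCx (DerSch.unitCx X)
  obtain ⟨e₂⟩ := nonempty_lpull_unitCx pX₂
  obtain ⟨e₁⟩ := nonempty_lpull_unitCx pX₁
  obtain ⟨u⟩ := nonempty_tensorUnitIso (DerSch.unitCx X)
  have hK : DCoh.IsKFlat (DerSch.unitCx X) := isKFlat_single_of_isFlat (isFlat_structureModule (X := X))
  have := hasTorAmplitudeD_external hX hY hf₁ hf₂ _ _ _ h₁ _ _ _ h₂ (DerSch.unitCx X) e₂ (DerSch.unitCx X)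
    ⟨(DerivedCategory.Q.mapIso u).symm ≪≫ (ltensorCxIso (DerSch.unitCx X) hK).symm ≪≫ (DCoh.LTensorCx _).mapIso e₁⟩
  intro x
  exact H9Misc.DRingTor.mono (by push_cast; omega) le_rfl (this x)

end Groth.Agent.KExact
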