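import Groth.Agent.KExact.AdjTensorGood
import Groth.Agent.KFlatLib.Scheme.SupportProper
import Groth.Agent.KFlatLib.Scheme.CompactPerfect

/-!
# `a = Lf^* ⊗^L a(O)`
-/

set_option autoImplicit false
set_option linter.style.haveILetI false
set_option linter.unusedSectionVars false
set_option backward.isDefEq.respectTransparency false
set_option backward.isDefEq.respectTransparency.types false

universe u

open CategoryTheory CategoryTheory.Limits AlgebraicGeometry

attribute [local instance] HasDerivedCategory.standard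

namespace Groth.Agent.KExact.AdjTensor

open KFlatLib

variable {X Y : Scheme.{u}} [CompactSpace X] [QuasiSeparatedSpace X] [CompactSpace Y] [QuasiSeparatedSpace Y]
  (f : X ⟶ Y) [DCoh.HasRpush f] {hf : DCoh.RpushPreservesQCoh f}
  {a : DCoh.DQCoh Y ⥤ DCoh.DQCoh X}

/-- A left adjoint whose right adjoint preserves coproducts preserves perfect objects. -/
theorem locSP_rpush_of_preservesCoproducts (adj : DCoh.RpushQ f hf ⊣ a)
    [∀ J : Type u, PreservesColimitsOfShape (Discrete J) a] (P : DCoh.D X) (hP : LocSP P) :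
    LocSP ((DCoh.Rpush f).obj P) := by
  classical
  let PQ : DCoh.DQCoh X := ⟨P, AffineLift.isQCohD_of_locSP hP⟩
  obtain ⟨G, hG, hgen⟩ := Generator.exists_gen Y
  refine CompactPerfect.prop_of_finSums (CompactPerfect.perfD Y) hG hgen hG (hf P PQ.property)
    fun ι N _ hN φ => ?_
  haveI := AdjCoprod.closed_coproducts Y ι
  haveI := AdjCoprod.closed_coproducts X ι
  haveI : HasColimitsOfShape (Discrete ι) (DCoh.D X) := TriCat.hasColimitsOfShape_derivedCategory
  haveI : HasColimitsOfShape (Discrete ι) (DCoh.D Y) := TriCat.hasColimitsOfShape_derivedCategory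
  let ιX := ObjectProperty.ι (DCoh.IsQCohD (X := X))
  let ιY := ObjectProperty.ι (DCoh.IsQCohD (X := Y))
  haveI : CreatesColimitsOfShape (Discrete ι) ιX := createsColimitsOfShapeFullSubcategoryInclusion _ _
  haveI : CreatesColimitsOfShape (Discrete ι) ιY := createsColimitsOfShapeFullSubcategoryInclusion _ _
  haveI : HasColimitsOfShape (Discrete ι) (DCoh.DQCoh X) := inferInstance
  haveI : HasColimitsOfShape (Discrete ι) (DCoh.DQCoh Y) := inferInstance
  haveI : PreservesColimitsOfShape (Discrete ι) ιX := inferInstance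
  haveI : PreservesColimitsOfShape (Discrete ι) ιY := inferInstance
  let K : ι → DCoh.DQCoh Y := fun i => ⟨N i, hN i⟩
  haveI := BCLoc.rpushQ_additive f hf
  haveI := adj.right_adjoint_additive
  let eN : (∐ K).obj ≅ ∐ N := PreservesCoproduct.iso ιY K
  let φ' : (DCoh.RpushQ f hf).obj PQ ⟶ ∐ K := ObjectProperty.homMk (φ ≫ eN.inv)
  let x := adj.homEquiv _ _ φ' ≫ (PreservesCoproduct.iso a K).hom
  obtain ⟨F, hF⟩ := AdjCoprod.fixAt_of_fullyFaithful ιX (fun i => a.obj (K i))
    (DQCompact.fixAt ((isPerfect_iff P).2 hP) _ fun i => (a.obj (K i)).property) (A := PQ) x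
  obtain ⟨c, hc⟩ := AdjCoprod.sum_ι_of_partProj _ _ F hF
  have h1 : adj.homEquiv _ _ φ' = ∑ i ∈ F, c i ≫ a.map (Sigma.ι K i) := by
    refine (cancel_mono (PreservesCoproduct.iso a K).hom).1 (hc.trans ?_)
    rw [Preadditive.sum_comp]
    refine Finset.sum_congr rfl fun i _ => ?_
    rw [Category.assoc, ← ι_comp_sigmaComparison a K i, Category.assoc]
    refine congrArg (c i ≫ ·) ?_
    rw [← PreservesCoproduct.inv_hom, Iso.inv_hom_id, Category.comp_id]
  have h2 : φ' = ∑ i ∈ F, (adj.homEquiv _ _).symm (c i) ≫ Sigma.ι K i := by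
    rw [← (adj.homEquiv _ _).symm_apply_apply φ', h1, adj.homEquiv_counit, Functor.map_sum, Preadditive.sum_comp]
    refine Finset.sum_congr rfl fun i _ => ?_
    rw [← adj.homEquiv_counit, adj.homEquiv_naturality_right_symm]
  refine ⟨F, fun i => ((adj.homEquiv _ _).symm (c i)).hom, ?_⟩
  have h3 : φ = φ'.hom ≫ eN.hom := by simp [φ']
  rw [h3, h2]
  let ev := (ObjectProperty.ι (DCoh.IsQCohD (X := Y))).map_sum
    (fun i => (adj.homEquiv _ _).symm (c i) ≫ Sigma.ι K i) F
  refine (congrArg (· ≫ eN.hom) ev).trans ?_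
  rw [Preadditive.sum_comp]
  refine Finset.sum_congr rfl fun i _ => ?_
  rw [Functor.map_comp, Category.assoc]
  refine congrArg (_ ≫ ·) ?_
  rw [show Sigma.ι N i = Sigma.ι (fun i => ιY.obj (K i)) i from rfl, ← Iso.eq_comp_inv]
  exact (ι_comp_sigmaComparison ιY K i).symm.trans (congrArg (_ ≫ ·) (PreservesCoproduct.inv_hom ιY K).symm)

/-- `a = Lf^* ⊗^L a(O)`. -/
theorem nonempty_rightAdjoint_iso (adj : DCoh.RpushQ f hf ⊣ a)
    [∀ J : Type u, PreservesColimitsOfShape (Discrete J) a]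
    (O : DCoh.DQCoh Y) (hO : Nonempty (O.obj ≅ DCoh.inD Y (Coh.structureModule Y))) [DCoh.HasLpull f]
    (E : CochainComplex X.Modules ℤ) (hE : Nonempty (DCoh.toD X E ≅ (a.obj O).obj)) [DCoh.HasLTensorCx E] :
    Nonempty (a ⋙ ObjectProperty.ι _ ≅ ObjectProperty.ι _ ⋙ DCoh.Lpull f ⋙ DCoh.LTensorCx E) := by
  haveI : QuasiCompact f := quasiCompact_of_compactSpace f
  haveI : QuasiSeparated f := QuasiSeparated.of_quasiSeparatedSpace f
  obtain ⟨eO₀⟩ := hO
  obtain ⟨eE⟩ := hE
  obtain ⟨I, _, _, ⟨eI⟩⟩ := exists_kInjective_rep (a.obj O).obj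
  obtain ⟨J, _, _, ⟨eJ⟩⟩ := exists_kInjective_rep (DerivedCategory.Q.obj (Om Y 0))
  obtain ⟨v, hv⟩ := exists_Q_map eJ.hom
  haveI : QuasiIso v := (DerivedCategory.isIso_Q_map_iff_quasiIso _ _).1 (hv ▸ inferInstance)
  obtain ⟨u⟩ := DualConn.nonempty_unitTensorIso Y
  let R := (kRes Y).obj ((pushCxF f).obj I)
  let av : R ⟶ (pushCxF f).obj I := (flatCover Y).ψ.app _
  haveI : QuasiIso av := (flatCover Y).quasiIso_ψ _
  have hI : DCoh.IsQCohD (DerivedCategory.Q.obj I) := isQCohD_of_iso eI (a.obj O).property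
  let eO : O.obj ≅ DerivedCategory.Q.obj J :=
    eO₀ ≪≫ (DerivedCategory.singleFunctorIsoCompQ Y.Modules 0).app _ ≪≫ eJ
  obtain ⟨g, hg⟩ := exists_Q_map (DerivedCategory.Q.map av ≫ (rpushUnit f).app I ≫
    (DCoh.Rpush f).map eI.inv ≫ (adj.counit.app O).hom ≫ eO.hom)
  have hu : Univ f av g := univ_of_counit f adj av hI g O eO eI hg
  haveI : ∀ K, IsIso ((tau f adj av (isKFlat_kRes _) hI g v u).app K) := isIso_tau f adj av _ hI g v u hu
    fun E hE Q P J hP hJ hJi e₁ e₂ => SupportAdj.isQCohD_iHom_of_locSP hP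
      ((locSP_rpush_of_preservesCoproducts f adj E hE).of_iso e₁.some.symm) Q.property e₂.some
  haveI := NatIso.isIso_of_isIso_app (tau f adj av (isKFlat_kRes _) hI g v u)
  haveI := hasLTensorCx I
  obtain ⟨eH⟩ := nonempty_projH_iso_ltensor f I
  obtain ⟨cE⟩ := nonempty_LTensorCx_congr_D (P := I) (E := E) (eI.symm ≪≫ eE.symm)
  exact ⟨Functor.isoWhiskerRight (asIso (tau f adj av (isKFlat_kRes _) hI g v u)).symm (ObjectProperty.ι _) ≪≫
    Functor.isoWhiskerLeft (ObjectProperty.ι _) (eH ≪≫ Functor.isoWhiskerLeft (DCoh.Lpull f) cE)⟩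

end Groth.Agent.KExact.AdjTensor
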