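import Groth.Agent.KExact.ExternalPC
import Groth.Agent.KFlatLib.Scheme.StalkTorAmp
import Groth.Agent.H9Misc.DRingTorLTensor

/-!
# Amplitude of external tensor products with a bounded object
-/

set_option autoImplicit false
set_option linter.style.haveILetI false
set_option backward.isDefEq.respectTransparency false
set_option backward.isDefEq.respectTransparency.types false

universe u

open CategoryTheory CategoryTheory.Limits AlgebraicGeometry MonoidalCategory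

attribute [local instance] HasDerivedCategory.standard

namespace Groth.Agent.KExact

open KFlatLib RelPC17

/-- A complex of tor amplitude `[a, b]` tensored with a K-flat complex with cohomology in `[c, d]`. -/
theorem exactAt_tensor_of_amp {A : Type u} [CommRing A] (N P : DRing.Cx A) (a b c d : ℤ)
    (hN : DRing.HasTorAmplitudeIn A a b (DRing.toD N)) (hP : KFlat (curriedTensor (ModuleCat.{u} A)) P)
    (hPc : ∀ j, (j < c ∨ d < j) → P.ExactAt j) (i : ℤ) (hi : i < a + c ∨ b + d < i) :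
    (((curriedTensor (ModuleCat.{u} A)).map₂CochainComplex.obj N).obj P).ExactAt i := by
  let T := curriedTensor (ModuleCat.{u} A)
  obtain ⟨E, hv, hf, ⟨e⟩⟩ := hN
  obtain ⟨Z, s, hs, t, ht⟩ := DerivedCategory.right_fac (C := ModuleCat.{u} A) (X := E) (Y := N) e.hom
  haveI : IsIso (DerivedCategory.Q.map s) := hs
  haveI : IsIso (DerivedCategory.Q.map t) := by
    have h : DerivedCategory.Q.map t = DerivedCategory.Q.map s ≫ e.hom := by
      rw [ht, IsIso.hom_inv_id_assoc]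
    rw [h]
    infer_instance
  haveI : QuasiIso s := (DerivedCategory.isIso_Q_map_iff_quasiIso _ _).1 inferInstance
  haveI : QuasiIso t := (DerivedCategory.isIso_Q_map_iff_quasiIso _ _).1 inferInstance
  haveI : QuasiIso ((T.map₂CochainComplex.map s).app P) := hP.quasiIso_map s
  haveI : QuasiIso ((T.map₂CochainComplex.map t).app P) := hP.quasiIso_map t
  refine (H9Misc.DRingTorLTensor.exactAt_iff_of_quasiIso ((T.map₂CochainComplex.map t).app P) i).1 ?_
  refine (H9Misc.DRingTorLTensor.exactAt_iff_of_quasiIso ((T.map₂CochainComplex.map s).app P) i).2 ?_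
  have hE : H9Misc.DRingLTensor.IsKF E := H9Misc.DRingTor.isKF_of_flat hf fun i hi => hv i (Or.inr hi)
  haveI : P.IsLE d := (CochainComplex.isLE_iff P d).2 fun j hj => hPc j (Or.inr hj)
  let Y₁ := P.truncLE d
  haveI : Y₁.IsGE c := (CochainComplex.isGE_iff Y₁ c).2 fun j hj =>
    (H9Misc.DRingTorLTensor.exactAt_iff_of_quasiIso (P.ιTruncLE d) j).2 (hPc j (Or.inl hj))
  haveI h1 : QuasiIso ((T.map₂CochainComplex.obj E).map (P.ιTruncLE d)) := quasiIso_tensorHom_id _ hE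
  haveI h2 : QuasiIso ((T.map₂CochainComplex.obj E).map (Y₁.πTruncGE c)) := quasiIso_tensorHom_id _ hE
  refine (H9Misc.DRingTorLTensor.exactAt_iff_of_quasiIso ((T.map₂CochainComplex.obj E).map (P.ιTruncLE d)) i).1 ?_
  refine (H9Misc.DRingTorLTensor.exactAt_iff_of_quasiIso ((T.map₂CochainComplex.obj E).map (Y₁.πTruncGE c)) i).2 ?_
  refine ShortComplex.exact_of_isZero_X₂ _ ?_
  rcases hi with hi | hi
  · exact H9Misc.DRingLTensorCx.vanishesBelow_tensor (P := E) (fun j hj => hv j (Or.inl hj))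
      (fun j hj => CochainComplex.isZero_of_isStrictlyGE (Y₁.truncGE c) c j hj) i hi
  · exact H9Misc.DRingLTensorCx.vanishesAbove_tensor (P := E) (fun j hj => hv j (Or.inr hj))
      (fun j hj => CochainComplex.isZero_of_isStrictlyLE (Y₁.truncGE c) d j hj) i hi

/-- Derived tensor product of a tor amplitude `[a, b]` object over the base with the pullback of a bounded object. -/
theorem isZero_hd_ltensor_lpull_bdd {X Y : Scheme.{u}} (f : X ⟶ Y) [DCoh.HasLpull f]
    {E : CochainComplex X.Modules ℤ} {a b : ℤ} (hE : DerSch.HasTorAmplitude f a b E) (G : DCoh.D Y) (c d : ℤ)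
    (hc : G.IsGE c) (hd : G.IsLE d) (M : CochainComplex X.Modules ℤ)
    (eM : DerivedCategory.Q.obj M ≅ (DCoh.Lpull f).obj G) [DCoh.HasLTensorCx M]
    (i : ℤ) (hi : i < a + c ∨ b + d < i) :
    IsZero (DCoh.HD ((DCoh.LTensorCx M).obj (DCoh.toD X E)) i) := by
  let S := DerivedCategory.Q.objPreimage G
  let eG : DerivedCategory.Q.obj S ≅ G := DerivedCategory.Q.objObjPreimageIso G
  let P := (kRes Y).obj S
  haveI := (flatCover Y).quasiIso_ψ S
  haveI := isIso_Q_map ((flatCover Y).ψ.app S) inferInstance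
  let C := (pullCx f).obj P
  have hC : DCoh.IsKFlat C := isKFlat_pullback f (isKFlat_kRes S)
  haveI := hasLTensorCx C
  let eP : DerivedCategory.Q.obj P ≅ G := asIso (DerivedCategory.Q.map ((flatCover Y).ψ.app S)) ≪≫ eG
  let eC : DerivedCategory.Q.obj C ≅ (DCoh.Lpull f).obj G :=
    (lpullIso f (isKFlat_kRes S)).symm ≪≫ (DCoh.Lpull f).mapIso eP
  obtain ⟨cg⟩ := nonempty_LTensorCx_congr_D (P := M) (E := C) (eM ≪≫ eC.symm)
  let R := (kRes X).obj E
  haveI := (flatCover X).quasiIso_ψ E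
  haveI := isIso_Q_map ((flatCover X).ψ.app E) inferInstance
  haveI : QuasiIso ((DCoh.tensorCx.obj C).map ((flatCover X).ψ.app E)) :=
    KFlat.quasiIso_map' (tensorBiFlipIso X) hC _
  haveI := isIso_Q_map ((DCoh.tensorCx.obj C).map ((flatCover X).ψ.app E)) inferInstance
  let e : (DCoh.LTensorCx M).obj (DCoh.toD X E) ≅ DerivedCategory.Q.obj ((DCoh.tensorCx.obj E).obj C) :=
    cg.app _ ≪≫ (DCoh.LTensorCx C).mapIso
        (asIso (DerivedCategory.Q.map ((flatCover X).ψ.app E))).symm ≪≫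
      ltensorCxIso C (isKFlat_kRes E) ≪≫
      DerivedCategory.Q.mapIso ((symmIso (tensorBiFlipIso X) C).app R) ≪≫
      asIso (DerivedCategory.Q.map ((DCoh.tensorCx.obj C).map ((flatCover X).ψ.app E))) ≪≫
      DerivedCategory.Q.mapIso ((symmIso (tensorBiFlipIso X) C).app E).symm
  refine IsZero.of_iso ?_ ((DerivedCategory.homologyFunctor X.Modules i).mapIso e ≪≫
    (DerivedCategory.homologyFunctorFactors X.Modules i).app _)
  refine isZero_of_stalk _ fun x => ?_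
  let y := f.base x
  obtain ⟨ex⟩ := nonempty_stalkOver_tensor_pull f E P x
  haveI := hc
  haveI := hd
  have hPy : ∀ j, (j < c ∨ d < j) → ((stalkCx y).obj P).ExactAt j := fun j hj => by
    have hG : IsZero (DCoh.HD G j) := by
      rcases hj with hj | hj
      · exact DerivedCategory.isZero_of_isGE G c j hj
      · exact DerivedCategory.isZero_of_isLE G d j hj
    have h : IsZero (P.homology j) := hG.of_iso
      (((DerivedCategory.homologyFunctorFactors Y.Modules j).app P).symm ≪≫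
        (DerivedCategory.homologyFunctor Y.Modules j).mapIso eP)
    refine (HomologicalComplex.exactAt_iff_isZero_homology _ j).2 ?_
    exact ((DerSch.stalkFunctor Y y).map_isZero h).of_iso ((P.sc j).mapHomologyIso (DerSch.stalkFunctor Y y))
  have hz := (HomologicalComplex.exactAt_iff_isZero_homology _ i).1
    (exactAt_tensor_of_amp ((DerSch.stalkCxOver f x).obj E) ((stalkCx y).obj P) a b c d (hE x)
      ((kFlat_iff_stalk P).1 (isKFlat_kRes S) y) hPy i hi)
  have hz' := (hz.of_iso ((HomologicalComplex.homologyFunctor _ _ i).mapIso ex)).of_iso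
    ((((DCoh.tensorCx.obj E).obj C).sc i).mapHomologyIso (DerSch.stalkOver f x)).symm
  haveI := ModuleCat.subsingleton_of_isZero hz'
  exact @ModuleCat.isZero_of_subsingleton _ _ _
    (this : Subsingleton ((DerSch.stalkFunctor X x).obj (((DCoh.tensorCx.obj E).obj C).homology i) : Type u))

/-- Flat pullback preserves lower bounds. -/
theorem isGE_lpull_of_flat {X Y : Scheme.{u}} (f : X ⟶ Y) [Flat f] [DCoh.HasLpull f] (G : DCoh.D Y) (c : ℤ)
    [G.IsGE c] : ((DCoh.Lpull f).obj G).IsGE c := by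
  let S := DerivedCategory.Q.objPreimage G
  let eG : DerivedCategory.Q.obj S ≅ G := DerivedCategory.Q.objObjPreimageIso G
  obtain ⟨e⟩ := nonempty_lpull_Q_flat f S
  haveI := preservesHomology_pullback f
  refine (DerivedCategory.isGE_iff _ _).2 fun i hi => ?_
  have h : IsZero (S.homology i) := (DerivedCategory.isZero_of_isGE G c i hi).of_iso
    (((DerivedCategory.homologyFunctorFactors Y.Modules i).app S).symm ≪≫
      (DerivedCategory.homologyFunctor Y.Modules i).mapIso eG)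
  exact ((Scheme.Modules.pullback f).map_isZero h).of_iso
    ((DerivedCategory.homologyFunctor X.Modules i).mapIso ((DCoh.Lpull f).mapIso eG.symm ≪≫ e) ≪≫
      (DerivedCategory.homologyFunctorFactors X.Modules i).app _ ≪≫
      (S.sc i).mapHomologyIso (Scheme.Modules.pullback f))

variable {S X₁ Y₁ X₂ Y₂ X Y : Scheme.{u}} {f₁ : X₁ ⟶ Y₁} {q₁ : Y₁ ⟶ S} {f₂ : X₂ ⟶ Y₂} {q₂ : Y₂ ⟶ S}
  {pX₁ : X ⟶ X₁} {pX₂ : X ⟶ X₂}

/-- Amplitude of an external tensor product with a bounded object. -/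
theorem amplitude_external [Flat q₁] [Flat (f₁ ≫ q₁)]
    (hX : IsPullback pX₁ pX₂ (f₁ ≫ q₁) (f₂ ≫ q₂))
    (E₁ : CochainComplex X₁.Modules ℤ) (a₁ b₁ : ℤ) (h₁ : DerSch.HasTorAmplitude f₁ a₁ b₁ E₁)
    (L₂ : DCoh.D X₂) (a₂ b₂ : ℤ) (hc : L₂.IsGE a₂) (hd : L₂.IsLE b₂)
    [DCoh.HasLpull pX₁] [DCoh.HasLpull pX₂] (K₂ : CochainComplex X.Modules ℤ) [DCoh.HasLTensorCx K₂]
    (eK : DCoh.toD X K₂ ≅ (DCoh.Lpull pX₂).obj L₂) :
    ((DCoh.LTensorCx K₂).obj ((DCoh.Lpull pX₁).obj (DCoh.toD X₁ E₁))).IsGE (a₁ + a₂) ∧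
      ((DCoh.LTensorCx K₂).obj ((DCoh.Lpull pX₁).obj (DCoh.toD X₁ E₁))).IsLE (b₁ + b₂) := by
  let t := f₂ ≫ q₂
  let w := pullback.snd q₁ t
  let g' : X ⟶ pullback q₁ t := pullback.lift (pX₁ ≫ f₁) pX₂ (by rw [Category.assoc]; exact hX.w)
  have sq : IsPullback pX₁ g' f₁ (pullback.fst q₁ t) := by
    refine IsPullback.of_bot (v₂₁ := w) (v₂₂ := q₁) ?_ (pullback.lift_fst _ _ _).symm
      (IsPullback.of_hasPullback q₁ t)
    rw [pullback.lift_snd]
    exact hX
  haveI : Flat w := MorphismProperty.of_isPullback (IsPullback.of_hasPullback q₁ t) ‹Flat q₁›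
  haveI := hasLpull w
  haveI := hasLpull g'
  haveI := hasLpull (g' ≫ w)
  let L₁ := (DCoh.Lpull pX₁).obj (DCoh.toD X₁ E₁)
  let K₁ := DerivedCategory.Q.objPreimage L₁
  let eK₁ : DCoh.toD X K₁ ≅ L₁ := DerivedCategory.Q.objObjPreimageIso L₁
  have hK₁ : DerSch.HasTorAmplitude g' a₁ b₁ K₁ :=
    hasTorAmplitude_of_isPullback f₁ (pullback.fst q₁ t) pX₁ g' sq a₁ b₁
      (fun F' F e hF => hasTorAmplitude_baseChange_over f₁ q₁ t F a₁ b₁ hF F' e) E₁ h₁ K₁ eK₁
  obtain ⟨cc⟩ := nonempty_lpull_comp g' w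
  obtain ⟨c'⟩ := nonempty_lpull_congr (pullback.lift_snd _ _ _ : g' ≫ w = pX₂) L₂
  haveI := hd
  haveI := hc
  let G := (DCoh.Lpull w).obj L₂
  let eM : DerivedCategory.Q.obj K₂ ≅ (DCoh.Lpull g').obj G := eK ≪≫ c'.symm ≪≫ (cc.app _).symm
  have hGd : G.IsLE b₂ := isLE_lpull w L₂ b₂
  have hGc : G.IsGE a₂ := isGE_lpull_of_flat w L₂ a₂
  have key : ∀ i, (i < a₁ + a₂ ∨ b₁ + b₂ < i) → IsZero (DCoh.HD ((DCoh.LTensorCx K₂).obj L₁) i) := fun i hi =>
    (isZero_hd_ltensor_lpull_bdd g' hK₁ G a₂ b₂ hGc hGd K₂ eM i hi).of_iso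
      ((DerivedCategory.homologyFunctor X.Modules i).mapIso ((DCoh.LTensorCx K₂).mapIso eK₁).symm)
  exact ⟨(DerivedCategory.isGE_iff _ _).2 fun i hi => key i (Or.inl hi),
    (DerivedCategory.isLE_iff _ _).2 fun i hi => key i (Or.inr hi)⟩

/-- Symmetry of the derived tensor product. -/
theorem nonempty_ltensor_swap {X : Scheme.{u}} (K₁ K₂ : CochainComplex X.Modules ℤ)
    [DCoh.HasLTensorCx K₁] [DCoh.HasLTensorCx K₂] :
    Nonempty ((DCoh.LTensorCx K₂).obj (DCoh.toD X K₁) ≅ (DCoh.LTensorCx K₁).obj (DCoh.toD X K₂)) := by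
  let C := (kRes X).obj K₂
  haveI := (flatCover X).quasiIso_ψ K₂
  haveI := isIso_Q_map ((flatCover X).ψ.app K₂) inferInstance
  let eC : DerivedCategory.Q.obj C ≅ DerivedCategory.Q.obj K₂ :=
    asIso (DerivedCategory.Q.map ((flatCover X).ψ.app K₂))
  have hC : DCoh.IsKFlat C := isKFlat_kRes K₂
  haveI := hasLTensorCx C
  obtain ⟨cg⟩ := nonempty_LTensorCx_congr_D (P := K₂) (E := C) eC.symm
  let R := (kRes X).obj K₁
  haveI := (flatCover X).quasiIso_ψ K₁
  haveI := isIso_Q_map ((flatCover X).ψ.app K₁) inferInstance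
  haveI : QuasiIso ((DCoh.tensorCx.obj C).map ((flatCover X).ψ.app K₁)) :=
    KFlat.quasiIso_map' (tensorBiFlipIso X) hC _
  haveI := isIso_Q_map ((DCoh.tensorCx.obj C).map ((flatCover X).ψ.app K₁)) inferInstance
  exact ⟨cg.app _ ≪≫ (DCoh.LTensorCx C).mapIso
        (asIso (DerivedCategory.Q.map ((flatCover X).ψ.app K₁))).symm ≪≫
      ltensorCxIso C (isKFlat_kRes K₁) ≪≫
      DerivedCategory.Q.mapIso ((symmIso (tensorBiFlipIso X) C).app R) ≪≫
      asIso (DerivedCategory.Q.map ((DCoh.tensorCx.obj C).map ((flatCover X).ψ.app K₁))) ≪≫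
      (ltensorCxIso K₁ hC).symm ≪≫ (DCoh.LTensorCx K₁).mapIso eC⟩

/-- Pseudo-coherence of an external tensor product, with the first factor flat over the base. -/
theorem relAll_external' [Flat q₁] [Flat (f₁ ≫ q₁)]
    (hX : IsPullback pX₁ pX₂ (f₁ ≫ q₁) (f₂ ≫ q₂)) {Y : Scheme.{u}} {pY₁ : Y ⟶ Y₁} {pY₂ : Y ⟶ Y₂}
    (hY : IsPullback pY₁ pY₂ q₁ q₂) {f : X ⟶ Y}
    (hf₁ : f ≫ pY₁ = pX₁ ≫ f₁) (hf₂ : f ≫ pY₂ = pX₂ ≫ f₂)
    [LocallyOfFiniteType f₁] [LocallyOfFiniteType f₂]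
    (L₁ : DCoh.D X₁) (b₁ : ℤ) (h₁ : DerSch.IsPseudoCoherentRelAll f₁ L₁) (hb₁ : L₁.IsLE b₁)
    (L₂ : DCoh.D X₂) (b₂ : ℤ) (h₂ : DerSch.IsPseudoCoherentRelAll f₂ L₂) (hb₂ : L₂.IsLE b₂)
    [DCoh.HasLpull pX₁] [DCoh.HasLpull pX₂] (K₂ : CochainComplex X.Modules ℤ) [DCoh.HasLTensorCx K₂]
    (eK : DCoh.toD X K₂ ≅ (DCoh.Lpull pX₂).obj L₂) :
    DerSch.IsPseudoCoherentRelAll f ((DCoh.LTensorCx K₂).obj ((DCoh.Lpull pX₁).obj L₁)) := by
  let L := (DCoh.Lpull pX₁).obj L₁
  let K₁ := DerivedCategory.Q.objPreimage L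
  let eK₁ : DCoh.toD X K₁ ≅ L := DerivedCategory.Q.objObjPreimageIso L
  haveI := hasLTensorCx K₁
  obtain ⟨sw⟩ := nonempty_ltensor_swap K₁ K₂
  intro m
  have h := relAll_external hX.flip hY.flip hf₂ hf₁ L₂ b₂ h₂ hb₂ L₁ b₁ h₁ hb₁ K₁ eK₁ m
  haveI := h.1
  exact rel_of_iso' f ((DCoh.LTensorCx K₁).mapIso eK.symm ≪≫ sw.symm ≪≫ (DCoh.LTensorCx K₂).mapIso eK₁) h

end Groth.Agent.KExact
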