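import Groth.Agent.KExact.AmpleFamily
import Groth.Agent.AmpleX.Rel
import Groth.Agent.AmpleX.CounitEpi
import Groth.Agent.AmpleX.Separated
import Groth.Agent.AmpleVan.RelVanish
import Groth.Agent.H23.ModLoc
import Groth.Agent.FPEnough.Quot
import Groth.Prelude.Def_LCI2
import Groth.Prelude.Def_PerfAux

/-!
# The resolution property along morphisms with a relatively ample invertible module
-/

set_option linter.style.haveILetI false
set_option backward.isDefEq.respectTransparency false
set_option backward.isDefEq.respectTransparency.types false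
set_option maxHeartbeats 800000

universe u

open CategoryTheory CategoryTheory.Limits AlgebraicGeometry TopologicalSpace
open Groth.Agent.H23.PicMul

attribute [local instance] Groth.Agent.QCoh.hasFiniteBiproducts

namespace Groth.Agent.KExact.RelAmpleRes

open Groth.Agent Groth.Agent.AmpleVan

variable {X Y : Scheme.{u}}

/-- Maps that are epimorphisms locally are epimorphisms. -/
theorem epi_of_restrict {A B : X.Modules} (φ : A ⟶ B)
    (h : ∀ x : X, ∃ U : X.Opens, x ∈ U ∧ Epi ((Scheme.Modules.restrictFunctor U.ι).map φ)) : Epi φ :=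
  ⟨fun {Z} a b hab => H23.ModLoc.hom_ext_of_locally a b fun x => by
    obtain ⟨U, hU, hepi⟩ := h x
    refine ⟨U, hU, ?_⟩
    haveI := hepi
    exact (cancel_epi ((Scheme.Modules.restrictFunctor U.ι).map φ)).1
      (by rw [← Functor.map_comp, ← Functor.map_comp, hab])⟩

theorem hasResolutionProperty (f : X ⟶ Y) [CompactSpace ↥Y] [QuasiSeparatedSpace ↥Y]
    (hY : PerfAux.HasResolutionProperty Y) (L : X.Modules) (hL : RelAmple.IsRelAmple f L) :
    PerfAux.HasResolutionProperty X := by
  classical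
  intro M hM hMft
  haveI := hL.1
  have hLi : PicF.IsInvertible L := AmpleX.isInvertible_of_isRelAmple hL
  haveI : CompactSpace X := QuasiCompact.compactSpace_of_compactSpace f
  obtain ⟨t, ht⟩ := FPEnough.exists_finite_affine_cover (X := Y)
  haveI hc : ∀ V : Y.affineOpens, CompactSpace (f ⁻¹ᵁ V.1).toScheme := fun V => (hL.2 V).2.1
  haveI hsep : ∀ V : Y.affineOpens, (f ⁻¹ᵁ V.1).toScheme.IsSeparated := fun V =>
    AmpleX.isSeparated_of_isAmple (hL.2 V)
  haveI : QuasiSeparated f := by
    rw [HasAffineProperty.iff_of_iSup_eq_top (P := @QuasiSeparated) (fun V : t => (V.1 : Y.affineOpens))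
      (top_le_iff.1 fun y _ => by
        obtain ⟨V, hV, hy⟩ := ht y
        exact Opens.mem_iSup.2 ⟨⟨V, hV⟩, hy⟩)]
    intro V
    show QuasiSeparatedSpace (f ⁻¹ᵁ V.1.1).toScheme
    exact (quasiSeparatedSpace_iff_quasiSeparated _).2 inferInstance
  choose n₀ hn₀ using fun V : Y.affineOpens => AmpleX.eventually_generated_finite (X := (f ⁻¹ᵁ V.1).toScheme)
    (hL.2 V) (F := M.restrict (f ⁻¹ᵁ V.1).ι) (QCoh.isQCoh_restrict _ hM) (AmpleX.isFT_restrict' _ hM hMft)
  let n := t.sup n₀
  let G := CohB1.tensorMod M (CohB1.tensorPow L n)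
  have hG : Coh.IsQCoh G := KFlatLib.isQCoh_tensor hM
    (ProjUPX.isQCoh_of_isInvertible (InvX.isInvertible_tensorPow hLi _))
  let P := (Scheme.Modules.pushforward f).obj G
  have hP : Coh.IsQCoh P := QCoh.isQCoh_pushforward f hG
  let adj := Scheme.Modules.pullbackPushforwardAdjunction f
  have hloc : ∀ V : t, ∃ (E : Y.Modules) (ψ : (Scheme.Modules.pullback f).obj E ⟶ G),
      FlatMod.IsFinLocFree E ∧ Epi ((Scheme.Modules.restrictFunctor (f ⁻¹ᵁ V.1.1).ι).map ψ) := by
    intro V
    let W := f ⁻¹ᵁ V.1.1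
    obtain ⟨G', e₁, ι, hι, s, hs⟩ := hn₀ V.1 n (Finset.le_sup V.2)
    haveI := hι
    obtain ⟨e₂⟩ := AmpleVan.RelVanish.restrict_iso W.ι L M n
    let e : G' ≅ G.restrict W.ι := e₁ ≪≫ e₂.symm
    let z : ι → Γ(P, V.1.1) := fun i => AModX.res G (W.ι_image_top).ge (e.hom.app ⊤ (s i))
    obtain ⟨H, ψ₀, hH, hfp, hz⟩ := FPEnough.exists_isFP_range hP V.1 (Set.finite_range z)
    obtain ⟨E, π, hE, hπ⟩ := hY H hH (QCoh.isFT_of_isFP hfp)
    haveI := hπ
    let q := (adj.homEquiv H G).symm ψ₀
    refine ⟨E, (Scheme.Modules.pullback f).map π ≫ q, hE, ?_⟩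
    choose hh hhh using fun i => hz ⟨i, rfl⟩
    let R := Scheme.Modules.restrictFunctor W.ι
    haveI : Epi (R.map q ≫ e.inv) := by
      refine InvX.epi_of_generated hs _ (fun i => InvX.ofSect (M := ((Scheme.Modules.pullback f).obj H).restrict W.ι)
        (AModX.res ((Scheme.Modules.pullback f).obj H) (W.ι_image_top).le ((adj.unit.app H).app V.1.1 (hh i))))
        fun i => ?_
      refine (congrArg (fun w => (R.map q ≫ e.inv).app ⊤ w) (InvX.one_ofSect (M := ((Scheme.Modules.pullback f).obj H).restrict W.ι)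
        (AModX.res ((Scheme.Modules.pullback f).obj H) (W.ι_image_top).le ((adj.unit.app H).app V.1.1 (hh i))))).trans ?_
      show e.inv.app ⊤ (q.app (W.ι ''ᵁ ⊤) _) = s i
      have h1 : q.app (W.ι ''ᵁ ⊤) (AModX.res _ (W.ι_image_top).le ((adj.unit.app H).app V.1.1 (hh i))) =
          AModX.res G (W.ι_image_top).le (z i) := by
        refine (QCoh.map_app_comm q (homOfLE (W.ι_image_top).le) _).trans ?_
        refine congrArg (AModX.res G (W.ι_image_top).le) ?_
        have h := (adj.homEquiv H G).apply_symm_apply ψ₀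
        rw [Adjunction.homEquiv_unit] at h
        exact (congr(($h).app V.1.1 (hh i))).trans (hhh i)
      rw [h1, AModX.res_res, AModX.res_self]
      exact congr(($(e.hom_inv_id)).app ⊤ (s i))
    haveI : Epi (R.map q) := by
      have : R.map q = (R.map q ≫ e.inv) ≫ e.hom := by rw [Category.assoc, e.inv_hom_id, Category.comp_id]
      rw [this]; exact epi_comp _ _
    show Epi (R.map ((Scheme.Modules.pullback f).map π ≫ q))
    rw [Functor.map_comp]
    exact epi_comp _ _
  choose E ψ hE hψ using hloc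
  let k := Fintype.card t
  let σ : Fin k ≃ t := (Fintype.equivFin t).symm
  let T : Fin k → X.Modules := fun j => (Scheme.Modules.pullback f).obj (E (σ j))
  haveI hΨ : Epi (biproduct.desc (fun j => ψ (σ j)) : ⨁ T ⟶ G) := epi_of_restrict _ fun x => by
    obtain ⟨V, hV, hxV⟩ := ht (f x)
    obtain ⟨j, hj⟩ := σ.surjective ⟨V, hV⟩
    haveI := hψ (σ j)
    refine ⟨f ⁻¹ᵁ (σ j).1.1, by rw [hj]; exact hxV, ?_⟩
    exact epi_of_epi_fac (f := (Scheme.Modules.restrictFunctor _).map (biproduct.ι T j))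
      (h := (Scheme.Modules.restrictFunctor _).map (ψ (σ j))) (by rw [← Functor.map_comp, biproduct.ι_desc])
  obtain ⟨D, hD, ⟨eD⟩⟩ := H23.PicInv.exists_inverse (InvX.isInvertible_tensorPow hLi n)
  haveI := isEquivalence_tw hD
  obtain ⟨e⟩ : Nonempty ((tw D).obj G ≅ M) := by
    obtain ⟨a⟩ := H23.PicMul.assoc M (CohB1.tensorPow L n) D
    obtain ⟨b⟩ := AmpleVan.RelVanish.tensor_congr (Iso.refl M) eD
    obtain ⟨c⟩ := H23.PicMul.unit M
    exact ⟨a ≪≫ b ≪≫ c⟩
  exact ⟨(tw D).obj (⨁ T), (tw D).map (biproduct.desc fun j => ψ (σ j)) ≫ e.hom,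
    KFlatLib.isFinLocFree_tensor (AmpleFamily.isFinLocFree_biproduct T fun j => KFlatLib.isFinLocFree_pullback f (hE _))
      (H23.PullPush.isFinLocFree_of_isInvertible hD), epi_comp _ _⟩

end Groth.Agent.KExact.RelAmpleRes
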