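import Groth.Agent.KExact.RHomCoherent
import Groth.Agent.KFlatLib.Scheme.CoEvalPerfect
import Groth.Agent.KFlatLib.Scheme.DualPerfect

/-!
# Connectivity of double duals into a locally bounded complex of injectives
-/

set_option autoImplicit false
set_option linter.style.haveILetI false
set_option linter.unusedSectionVars false
set_option backward.isDefEq.respectTransparency false
set_option backward.isDefEq.respectTransparency.types false

universe u

open CategoryTheory CategoryTheory.Limits AlgebraicGeometry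

attribute [local instance] HasDerivedCategory.standard

namespace Groth.Agent.KExact.DualConn

open KFlatLib

variable {X U : Scheme.{u}} (j : U ⟶ X) [IsOpenImmersion j]

/-- `g` is an isomorphism on cohomology above `N`, over `U`. -/
def HiIso {A B : CochainComplex X.Modules ℤ} (g : A ⟶ B) (N : ℤ) : Prop :=
  ∀ k, N < k → IsIso (HomologicalComplex.homologyMap ((rCx j).map g) k)

/-- `g` is an isomorphism on cohomology below `N`, over `U`. -/
def LoIso {A B : CochainComplex X.Modules ℤ} (g : A ⟶ B) (N : ℤ) : Prop :=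
  ∀ k, k < N → IsIso (HomologicalComplex.homologyMap ((rCx j).map g) k)

/-- Exactness where a map of a short exact sequence is invertible in two consecutive degrees. -/
lemma isZero_homology_X₃ {S : ShortComplex (CochainComplex U.Modules ℤ)} (hS : S.ShortExact) (k : ℤ)
    (h₀ : IsIso (HomologicalComplex.homologyMap S.f k))
    (h₁ : IsIso (HomologicalComplex.homologyMap S.f (k + 1))) : IsZero (S.X₃.homology k) :=
  (hS.homology_exact₃ k (k + 1) rfl).isZero_X₂
    ((hS.homology_exact₂ k).epi_f_iff.1 inferInstance)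
    ((hS.homology_exact₁ k (k + 1) rfl).mono_g_iff.1 inferInstance)

/-- The second map is invertible where the first term is acyclic. -/
lemma isIso_homologyMap_g {S : ShortComplex (CochainComplex U.Modules ℤ)} (hS : S.ShortExact) (k : ℤ)
    (h₀ : IsZero (S.X₁.homology k)) (h₁ : IsZero (S.X₁.homology (k + 1))) :
    IsIso (HomologicalComplex.homologyMap S.g k) := by
  haveI : Mono (HomologicalComplex.homologyMap S.g k) :=
    (hS.homology_exact₂ k).mono_g (h₀.eq_of_src _ _)
  haveI : Epi (HomologicalComplex.homologyMap S.g k) :=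
    (hS.homology_exact₃ k (k + 1) rfl).epi_f (h₁.eq_of_tgt _ _)
  exact isIso_of_mono_of_epi _

variable (J : CochainComplex X.Modules ℤ) [J.IsKInjective] [∀ n, Injective (J.X n)]

/-- `J` is, over `U`, a complex of injectives in degrees `[a, b]`. -/
def BoundedOn (a b : ℤ) : Prop :=
  ∃ (I : CochainComplex U.Modules ℤ), (∀ n, Injective (I.X n)) ∧ I.IsStrictlyGE a ∧ I.IsStrictlyLE b ∧
    Nonempty (DerivedCategory.Q.obj ((rCx j).obj J) ≅ DerivedCategory.Q.obj I)

variable {j J} {a b : ℤ}

/-- `iHom` over `U`, read in a bounded complex of injectives. -/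
lemma exists_model (hJ : BoundedOn j J a b) :
    ∃ (I : CochainComplex U.Modules ℤ), (∀ n, Injective (I.X n)) ∧ I.IsStrictlyGE a ∧ I.IsStrictlyLE b ∧
      I.IsKInjective ∧ ∀ (C : CochainComplex X.Modules ℤ) (k : ℤ),
        Nonempty (((rCx j).obj ((iHom C).obj J)).homology k ≅ ((iHom ((rCx j).obj C)).obj I).homology k) := by
  obtain ⟨I, hinj, hge, hle, ⟨e⟩⟩ := hJ
  haveI := hinj
  haveI := hge
  haveI hI : I.IsKInjective := CochainComplex.isKInjective_of_injective I a
  refine ⟨I, hinj, hge, hle, hI, fun C k => ?_⟩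
  let J' := (rCx j).obj J
  haveI : J'.IsKInjective := isKInjective_rCx j J
  haveI : ∀ n, Injective (J'.X n) := injective_rCx j J
  let C' := (rCx j).obj C
  let P := (kRes U).obj C'
  haveI := (flatCover U).quasiIso_ψ C'
  haveI := isIso_Q_map ((flatCover U).ψ.app C') inferInstance
  haveI := hasLTensorCx P
  haveI := hasRSheafHom_of_isKFlat P (isKFlat_kRes _)
  obtain ⟨e₁⟩ := nonempty_RSheafHom_iso P J'
  obtain ⟨e₂⟩ := nonempty_RSheafHom_iso P I
  let eP : DerivedCategory.Q.obj P ≅ DerivedCategory.Q.obj C' :=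
    asIso (DerivedCategory.Q.map ((flatCover U).ψ.app C'))
  obtain ⟨p₁⟩ := nonempty_iHom_iso_of_iso eP J'
  obtain ⟨p₂⟩ := nonempty_iHom_iso_of_iso eP I
  obtain ⟨r⟩ := nonempty_iHomRestrictIso j C
  exact ⟨HomologicalComplex.homologyMapIso (r.app J) k ≪≫
    ((DerivedCategory.homologyFunctorFactors U.Modules k).app _).symm ≪≫
    (DerivedCategory.homologyFunctor U.Modules k).mapIso
      (p₁.symm ≪≫ e₁.symm ≪≫ (DCoh.RSheafHom P).mapIso e ≪≫ e₂ ≪≫ p₂) ≪≫
    (DerivedCategory.homologyFunctorFactors U.Modules k).app _⟩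

/-- Bounded above goes to bounded below. -/
lemma isZero_dual_low (hJ : BoundedOn j J a b) (C : CochainComplex X.Modules ℤ) (c : ℤ)
    (hC : ∀ k, c < k → IsZero (((rCx j).obj C).homology k)) (k : ℤ) (hk : k + c < a) :
    IsZero (((rCx j).obj ((iHom C).obj J)).homology k) := by
  obtain ⟨I, hinj, hge, -, hI, h⟩ := exists_model hJ
  haveI := hinj
  haveI := hge
  haveI := hI
  obtain ⟨e⟩ := h C k
  let C' : CochainComplex U.Modules ℤ := (rCx j).obj C
  haveI : C'.IsLE c := (CochainComplex.isLE_iff _ _).2 fun i hi =>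
    (HomologicalComplex.exactAt_iff_isZero_homology _ i).2 (hC i hi)
  haveI : QuasiIso (C'.ιTruncLE c) := (C'.quasiIso_ιTruncLE_iff c).2 inferInstance
  haveI := quasiIso_iHomMap (C'.ιTruncLE c) I
  exact (isZero_homology_iHom (C'.truncLE c) I c a k hk).of_iso (e ≪≫
    asIso (HomologicalComplex.homologyMap ((iHomMap (C'.ιTruncLE c)).app I) k))

/-- Bounded below goes to bounded above. -/
lemma isZero_dual_high (hJ : BoundedOn j J a b) (C : CochainComplex X.Modules ℤ) (c : ℤ)
    (hC : ∀ k, k < c → IsZero (((rCx j).obj C).homology k)) (k : ℤ) (hk : b < k + c) :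
    IsZero (((rCx j).obj ((iHom C).obj J)).homology k) := by
  obtain ⟨I, hinj, -, hle, hI, h⟩ := exists_model hJ
  haveI := hinj
  haveI := hle
  haveI := hI
  obtain ⟨e⟩ := h C k
  let C' : CochainComplex U.Modules ℤ := (rCx j).obj C
  haveI : C'.IsGE c := (CochainComplex.isGE_iff _ _).2 fun i hi =>
    (HomologicalComplex.exactAt_iff_isZero_homology _ i).2 (hC i hi)
  exact (isZero_homology_iHom_high' C' I c b k hk).of_iso e

/-- The sequence through the mapping cylinder, and what it says about `iHom(g, J)`. -/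
lemma exists_cylinder {A B : CochainComplex X.Modules ℤ} (g : A ⟶ B) :
    ∃ (C : CochainComplex X.Modules ℤ),
      (∀ k, IsIso (HomologicalComplex.homologyMap ((rCx j).map g) k) →
        IsIso (HomologicalComplex.homologyMap ((rCx j).map g) (k + 1)) → IsZero (((rCx j).obj C).homology k)) ∧
      (∀ k, IsZero (((rCx j).obj ((iHom C).obj J)).homology k) →
        IsZero (((rCx j).obj ((iHom C).obj J)).homology (k + 1)) →
          IsIso (HomologicalComplex.homologyMap ((rCx j).map ((iHomMap g).app J)) k)) := by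
  let e := homotopyEquivFst (G := B) (CochainComplex.mappingCone.homotopyToZeroOfId A)
  haveI : QuasiIso e.hom := e.quasiIso_hom
  haveI : QuasiIso ((rCx j).map e.hom) := inferInstance
  haveI := quasiIso_iHomMap e.hom J
  haveI : QuasiIso ((rCx j).map ((iHomMap e.hom).app J)) := inferInstance
  have hg : g = embedCone g ≫ e.hom := by simp [e, homotopyEquivFst, embedCone]
  obtain ⟨hw, hse⟩ := Inner.innerHom_shortExact (DCoh.tensorBi (X := X)) (embedConeSeq g)
    (fun n => ⟨embedConeSplitting g n⟩) J
  have key : ∀ k, IsIso (HomologicalComplex.homologyMap ((rCx j).map g) k) →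
      IsIso (HomologicalComplex.homologyMap ((rCx j).map (embedCone g)) k) := fun k hk => by
    rw [hg, Functor.map_comp, HomologicalComplex.homologyMap_comp] at hk
    exact IsIso.of_isIso_comp_right _ (HomologicalComplex.homologyMap ((rCx j).map e.hom) k)
  refine ⟨(embedConeSeq g).X₃, fun k h₀ h₁ =>
    isZero_homology_X₃ ((embedConeSeq_shortExact g).map_of_exact (rCx j)) k (key k h₀) (key (k + 1) h₁),
    fun k h₀ h₁ => ?_⟩
  haveI : IsIso (HomologicalComplex.homologyMap ((rCx j).map ((iHomMap (embedCone g)).app J)) k) :=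
    isIso_homologyMap_g (hse.map_of_exact (rCx j)) k h₀ h₁
  rw [hg, iHomMap_comp, Functor.map_comp, HomologicalComplex.homologyMap_comp]
  infer_instance

/-- `iHom(-, J)` turns connectivity around. -/
lemma loIso_dual (hJ : BoundedOn j J a b) {A B : CochainComplex X.Modules ℤ} (g : A ⟶ B) {N : ℤ}
    (hg : HiIso j g N) : LoIso j ((iHomMap g).app J) (a - N - 1) := by
  obtain ⟨C, h₁, h₂⟩ := exists_cylinder (j := j) (J := J) g
  have hz := fun k (hk : k + N < a) => isZero_dual_low hJ C N
    (fun i hi => h₁ i (hg i hi) (hg (i + 1) (by omega))) k hk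
  exact fun k hk => h₂ k (hz k (by omega)) (hz (k + 1) (by omega))

/-- `iHom(-, J)` turns connectivity around. -/
lemma hiIso_dual (hJ : BoundedOn j J a b) {A B : CochainComplex X.Modules ℤ} (g : A ⟶ B) {N : ℤ}
    (hg : LoIso j g N) : HiIso j ((iHomMap g).app J) (b - N + 1) := by
  obtain ⟨C, h₁, h₂⟩ := exists_cylinder (j := j) (J := J) g
  have hz := fun k (hk : b < k + (N - 1)) => isZero_dual_high hJ C (N - 1)
    (fun i hi => h₁ i (hg i (by omega)) (hg (i + 1) (by omega))) k hk
  exact fun k hk => h₂ k (hz k (by omega)) (hz (k + 1) (by omega))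

/-- `O[0] ⊗ -` is the identity. -/
lemma nonempty_unitTensorIso (X : Scheme.{u}) : Nonempty ((DCoh.tensorCx (X := X)).obj
    ((HomologicalComplex.single X.Modules (ComplexShape.up ℤ) 0).obj (Coh.structureModule X)) ≅ 𝟭 _) :=
  ⟨(symmIso (tensorBiFlipIso X) _).symm ≪≫
    (singleIso (DCoh.tensorBi (X := X)) (Coh.structureModule X) ≪≫
      NatIso.mapHomologicalComplex (tensorStructureIso X) (ComplexShape.up ℤ) ≪≫
      Functor.mapHomologicalComplexIdIso _ _)⟩

section Transfer

variable {c : (DCoh.tensorCx.obj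
    ((HomologicalComplex.single X.Modules (ComplexShape.up ℤ) 0).obj (Coh.structureModule X))).obj J ⟶ J}

/-- Transfer along a map invertible around the degree of interest, before and after double duality. -/
lemma isIso_coevalMap_iff {A B : CochainComplex X.Modules ℤ} (g : A ⟶ B) (i : ℤ)
    (h₀ : IsIso (HomologicalComplex.homologyMap ((rCx j).map g) i))
    (h₂ : IsIso (HomologicalComplex.homologyMap ((rCx j).map ((iHomMap ((iHomMap g).app J)).app J)) i)) :
    IsIso (HomologicalComplex.homologyMap ((rCx j).map (coevalMap _ J J c A)) i) ↔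
      IsIso (HomologicalComplex.homologyMap ((rCx j).map (coevalMap _ J J c B)) i) := by
  obtain ⟨u⟩ := nonempty_unitTensorIso X
  haveI : IsIso (HomologicalComplex.homologyMap ((rCx j).map ((DCoh.tensorCx.obj
      ((HomologicalComplex.single X.Modules (ComplexShape.up ℤ) 0).obj (Coh.structureModule X))).map g)) i) :=
    (NatIso.isIso_map_iff
      (Functor.isoWhiskerRight u (rCx j ⋙ HomologicalComplex.homologyFunctor _ _ i)) g).2 h₀
  haveI := h₂
  have w := congrArg (fun t => HomologicalComplex.homologyMap ((rCx j).map t) i)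
    (coevalMap_naturality _ J J c g)
  simp only [Functor.map_comp, HomologicalComplex.homologyMap_comp] at w
  rw [← isIso_comp_right_iff _ (HomologicalComplex.homologyMap
    ((rCx j).map ((iHomMap ((iHomMap g).app J)).app J)) i), ← w, isIso_comp_left_iff]

/-- Transfer along a map which is invertible in high degrees. -/
lemma isIso_coevalMap_iff_of_hiIso (hJ : BoundedOn j J a b) {A B : CochainComplex X.Modules ℤ}
    (g : A ⟶ B) {N : ℤ} (hg : HiIso j g N) (i : ℤ) (hN : N < i) (hi : b - a + N + 2 < i) :
    IsIso (HomologicalComplex.homologyMap ((rCx j).map (coevalMap _ J J c A)) i) ↔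
      IsIso (HomologicalComplex.homologyMap ((rCx j).map (coevalMap _ J J c B)) i) :=
  isIso_coevalMap_iff g i (hg i hN) (hiIso_dual hJ _ (loIso_dual hJ g hg) i (by omega))

/-- Transfer along a map which is invertible in low degrees. -/
lemma isIso_coevalMap_iff_of_loIso (hJ : BoundedOn j J a b) {A B : CochainComplex X.Modules ℤ}
    (g : A ⟶ B) {N : ℤ} (hg : LoIso j g N) (i : ℤ) (hN : i < N) (hi : i < a - b + N - 2) :
    IsIso (HomologicalComplex.homologyMap ((rCx j).map (coevalMap _ J J c A)) i) ↔
      IsIso (HomologicalComplex.homologyMap ((rCx j).map (coevalMap _ J J c B)) i) :=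
  isIso_coevalMap_iff g i (hg i hN) (loIso_dual hJ _ (hiIso_dual hJ g hg) i (by omega))

/-- Transfer along a map which is invertible over `U`. -/
lemma isIso_coevalMap_iff_of_quasiIso {A B : CochainComplex X.Modules ℤ} (g : A ⟶ B)
    [QuasiIso ((rCx j).map g)] (i : ℤ) :
    IsIso (HomologicalComplex.homologyMap ((rCx j).map (coevalMap _ J J c A)) i) ↔
      IsIso (HomologicalComplex.homologyMap ((rCx j).map (coevalMap _ J J c B)) i) := by
  haveI := quasiIso_rCx_iHomMap j g J
  haveI := quasiIso_rCx_iHomMap j ((iHomMap g).app J) J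
  exact isIso_coevalMap_iff g i inferInstance inferInstance

end Transfer

end Groth.Agent.KExact.DualConn
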