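import Groth.Agent.KExact.BidualUnit
import Groth.Agent.KExact.DualConn
import Groth.Agent.KFlatLib.Ring.DualizingFlat
import Groth.Prelude.Def_DualSch

/-!
# A dualizing complex on a scheme, read in affine charts
-/

set_option autoImplicit false
set_option linter.style.haveILetI false
set_option backward.isDefEq.respectTransparency false
set_option backward.isDefEq.respectTransparency.types false

universe u

open CategoryTheory CategoryTheory.Limits AlgebraicGeometry

attribute [local instance] HasDerivedCategory.standard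

namespace Groth.Agent.KExact.Bidual

open KFlatLib DualConn

variable {X : Scheme.{u}}

/-- Bounds on an open persist on smaller opens. -/
lemma boundedOn_comp {U V : Scheme.{u}} {j : U ⟶ X} [IsOpenImmersion j] (i : V ⟶ U) [IsOpenImmersion i]
    (k : V ⟶ X) [IsOpenImmersion k] (h : i ≫ j = k) {J : CochainComplex X.Modules ℤ} {a b : ℤ}
    (hJ : BoundedOn j J a b) : BoundedOn k J a b := by
  obtain ⟨I, hinj, hge, hle, ⟨e⟩⟩ := hJ
  haveI := hinj
  haveI := hge
  haveI := hle
  refine ⟨(rCx i).obj I, fun n => injective_rCx i I n,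
    (CochainComplex.isStrictlyGE_iff _ _).2 fun n hn =>
      (Scheme.Modules.restrictFunctor i).map_isZero (I.isZero_of_isStrictlyGE a n hn),
    (CochainComplex.isStrictlyLE_iff _ _).2 fun n hn =>
      (Scheme.Modules.restrictFunctor i).map_isZero (I.isZero_of_isStrictlyLE b n hn), ⟨?_⟩⟩
  exact ((rhoQ k).app J).symm ≪≫ (rhoComp i j k h _).symm ≪≫
    (rho i).mapIso ((rhoQ j).app J ≪≫ e) ≪≫ (rhoQ i).app I

/-- Every point lies in an affine chart. -/
lemma exists_chart (x : X) : ∃ (R : CommRingCat.{u}) (j : Spec R ⟶ X) (_ : IsOpenImmersion j),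
    x ∈ Set.range j.base := by
  obtain ⟨i, y, hy⟩ := X.affineCover.exists_eq x
  exact ⟨_, X.affineCover.f i, inferInstance, ⟨y, hy⟩⟩

variable [∀ (U : Scheme.{u}) (j : U ⟶ X) [IsOpenImmersion j], PreservesFiniteLimits (Scheme.Modules.restrictFunctor j)]
  [∀ (R : CommRingCat.{u}), PreservesFiniteLimits (tilde.functor R)]
  {K : DCoh.D X}

/-- The dualizing complex in a chart. -/
lemma exists_local_dualizing (hK : Dual2.IsDualizingSch X K) {J : CochainComplex X.Modules ℤ}
    (eK : K ≅ DerivedCategory.Q.obj J) {R : CommRingCat.{u}} (j : Spec R ⟶ X) [IsOpenImmersion j] :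
    ∃ (ω : Dual.D R), Dual.IsDualizing R ω ∧
      Nonempty (DerivedCategory.Q.obj ((rCx j).obj J) ≅ (DCoh.tildeD R).obj ω) := by
  obtain ⟨ω, hω, ⟨e⟩⟩ := hK R j
  exact ⟨ω, hω, ⟨((rhoQ j).app J).symm ≪≫ (rho j).mapIso eK.symm ≪≫ e⟩⟩

/-- Bounds in a chart. -/
lemma exists_boundedOn (hK : Dual2.IsDualizingSch X K) {J : CochainComplex X.Modules ℤ}
    (eK : K ≅ DerivedCategory.Q.obj J) {R : CommRingCat.{u}} (j : Spec R ⟶ X) [IsOpenImmersion j] :
    ∃ a b, BoundedOn j J a b := by
  obtain ⟨ω, hω, ⟨e⟩⟩ := exists_local_dualizing hK eK j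
  haveI := hω.isNoetherianRing
  haveI := hasLTen (R : Type u)
  haveI := hasRHom (A := (R : Type u))
  haveI : (tilde.functor R).Additive := tilde_additive _
  obtain ⟨a, b, E, hz, hinj, ⟨eE⟩⟩ := finiteInjDim_of_isDualizing hω
  let T : CochainComplex (ModuleCat.{u} R) ℤ ⥤ CochainComplex (Spec R).Modules ℤ :=
    (tilde.functor R).mapHomologicalComplex (ComplexShape.up ℤ)
  refine ⟨a, b, T.obj E, fun n => H9Misc.TildeInjective.injective_tilde (E.X n) (hinj n),
    (CochainComplex.isStrictlyGE_iff _ _).2 fun n hn => (tilde.functor R).map_isZero (hz n (Or.inl hn)),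
    (CochainComplex.isStrictlyLE_iff _ _).2 fun n hn => (tilde.functor R).map_isZero (hz n (Or.inr hn)),
    ⟨e ≪≫ (DCoh.tildeD R).mapIso eE.symm ≪≫ tildeQ E⟩⟩

/-- The unit `O_X ⟶ iHom(J, J)` is a quasi-isomorphism. -/
theorem quasiIso_transpose (hK : Dual2.IsDualizingSch X K) {J : CochainComplex X.Modules ℤ}
    [J.IsKInjective] [∀ n, Injective (J.X n)] (eK : K ≅ DerivedCategory.Q.obj J)
    (u : (DCoh.tensorCx (X := X)).obj ((HomologicalComplex.single X.Modules (ComplexShape.up ℤ) 0).obj
      (Coh.structureModule X)) ≅ 𝟭 _) :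
    QuasiIso ((iHomAdj J).homEquiv ((HomologicalComplex.single X.Modules (ComplexShape.up ℤ) 0).obj
      (Coh.structureModule X)) J (u.hom.app J)) := by
  let O := (HomologicalComplex.single X.Modules (ComplexShape.up ℤ) 0).obj (Coh.structureModule X)
  let t := (iHomAdj J).homEquiv O J (u.hom.app J)
  refine quasiIso_of_local _ fun x => ?_
  obtain ⟨R, j, hj, hx⟩ := exists_chart x
  refine ⟨_, j, hj, hx, ?_⟩
  obtain ⟨ω, hω, ⟨eJ⟩⟩ := exists_local_dualizing hK eK j
  haveI := hω.isNoetherianRing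
  let J' : CochainComplex (Spec R).Modules ℤ := (rCx j).obj J
  haveI : J'.IsKInjective := isKInjective_rCx j J
  haveI : ∀ n, Injective (J'.X n) := injective_rCx j J
  obtain ⟨r⟩ := nonempty_iHomRestrictIso j J
  let ρ : (rCx j).obj O ≅ (HomologicalComplex.single (Spec R).Modules (ComplexShape.up ℤ) 0).obj
      (Coh.structureModule (Spec R)) :=
    (HomologicalComplex.singleMapHomologicalComplex (Scheme.Modules.restrictFunctor j) _ 0).app _ ≪≫
      (HomologicalComplex.single _ _ 0).mapIso (restrictStructureIso j)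
  let t' := ρ.inv ≫ (rCx j).map t
  have h₀ : IsSplitMono ((Inner.tenX DCoh.tensorBi J).map t) := by
    refine isSplitMono_left _ ((iHomAdj J).counit.app J) ?_
    have h : (Inner.tenX DCoh.tensorBi J).map t ≫ (iHomAdj J).counit.app J = u.hom.app J :=
      ((iHomAdj J).homEquiv_counit _ _ t).symm.trans (Equiv.symm_apply_apply _ _)
    rw [h]
    exact inferInstanceAs (IsSplitMono (u.app J).hom)
  have h₁ : IsSplitMono ((Inner.tenX DCoh.tensorBi J').map t') := by
    haveI := h₀
    haveI : IsSplitMono ((Inner.tenX DCoh.tensorBi J').map ((rCx j).map t)) :=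
      isSplitMono_natIso (totalMapNatIso (restrictTensorBiIso j) J).symm t
        (inferInstanceAs (IsSplitMono ((rCx j).map ((Inner.tenX DCoh.tensorBi J).map t))))
    rw [Functor.map_comp]
    infer_instance
  haveI := quasiIso_unit hω J' eJ t' (DerivedCategory.Q.mapIso (r.app J)) h₁
  exact quasiIso_of_comp_left ρ.inv ((rCx j).map t)

end Groth.Agent.KExact.Bidual
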