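import Groth.Agent.KExact.SelfHom
import Groth.Agent.KExact.BidualCharts
import Groth.Agent.KFlatLib.Scheme.CoEvalNat

/-!
# `O ⟶ RHom(E, E)` is an isomorphism when it is one in charts
-/

set_option autoImplicit false
set_option linter.style.haveILetI false
set_option linter.unusedSectionVars false
set_option backward.isDefEq.respectTransparency false
set_option backward.isDefEq.respectTransparency.types false

universe u

open CategoryTheory CategoryTheory.Limits AlgebraicGeometry

attribute [local instance] HasDerivedCategory.standard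

namespace Groth.Agent.KExact.SelfHom

open KFlatLib DualConn Bidual

variable {X : Scheme.{u}}

/-- `RHom(P, Q I) = Q iHom(P, I)` by the comparison map, for K-flat `P`. -/
theorem isIso_cmp (P : CochainComplex X.Modules ℤ) (hP : DCoh.IsKFlat P)
    [DCoh.HasLTensorCx P] [DCoh.HasRSheafHom P]
    (I : CochainComplex X.Modules ℤ) [I.IsKInjective] [∀ n, Injective (I.X n)] :
    IsIso ((DCoh.RSheafHomAdj P).homEquiv (DerivedCategory.Q.obj ((iHom P).obj I)) (DerivedCategory.Q.obj I)
      (((DCoh.tensorCxQ P).totalLeftDerivedCounit DerivedCategory.Q (qisX X)).app ((iHom P).obj I) ≫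
        DerivedCategory.Q.map ((iHomAdj P).counit.app I))) := by
  let A := (iHom P).obj I
  let c := (DCoh.tensorCxQ P).totalLeftDerivedCounit DerivedCategory.Q (qisX X)
  haveI := fun N => isIso_LTensorCx_counit_of_isKFlat_right P hP N
  haveI := isKInjective_iHom hP I
  let adj := DCoh.RSheafHomAdj P
  let cmp : DerivedCategory.Q.obj A ⟶ (DCoh.RSheafHom P).obj (DerivedCategory.Q.obj I) :=
    adj.homEquiv _ _ (c.app A ≫ DerivedCategory.Q.map ((iHomAdj P).counit.app I))
  have key : ∀ (N : CochainComplex X.Modules ℤ) (g : N ⟶ A),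
      (adj.homEquiv _ _).symm (DerivedCategory.Q.map g ≫ cmp) =
        c.app N ≫ DerivedCategory.Q.map (((iHomAdj P).homEquiv N I).symm g) := fun N g => by
    refine (Equiv.symm_apply_eq _).2 ?_
    refine (adj.homEquiv_naturality_left _ _).symm.trans (congrArg _ ?_)
    refine Eq.trans ?_ (congrArg (fun z => c.app N ≫ DerivedCategory.Q.map z)
      ((iHomAdj P).homEquiv_counit N I g).symm)
    refine Eq.trans ?_ (congrArg (c.app N ≫ ·) (DerivedCategory.Q.map_comp _ _).symm)
    exact ((Category.assoc _ _ _).symm.trans (congrArg (· ≫ _) (c.naturality g))).trans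
      (Category.assoc _ _ _)
  haveI : IsIso cmp := by
    refine isIso_of_yoneda_map_bijective _ fun Z => ?_
    obtain ⟨N, hN, ⟨e⟩⟩ := exists_kFlat_rep Z
    suffices h : Function.Bijective (fun a : DerivedCategory.Q.obj N ⟶ DerivedCategory.Q.obj A => a ≫ cmp) by
      refine ⟨fun z z' hz => (cancel_epi e.hom).1 (h.1 ?_), fun y => ?_⟩
      · simp only [Category.assoc] at hz ⊢
        exact congrArg (e.hom ≫ ·) hz
      · obtain ⟨z, hz⟩ := h.2 (e.hom ≫ y)
        refine ⟨e.inv ≫ z, ?_⟩
        change (e.inv ≫ z) ≫ _ = y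
        simp only [Category.assoc] at hz ⊢
        exact (congrArg (e.inv ≫ ·) hz).trans (Iso.inv_hom_id_assoc e y)
    refine ⟨fun a a' h => ?_, fun y => ?_⟩
    · obtain ⟨g, rfl⟩ := exists_Q_map a
      obtain ⟨g', rfl⟩ := exists_Q_map a'
      have h' := congrArg (adj.homEquiv (DerivedCategory.Q.obj N) _).symm h
      simp only [key] at h'
      obtain ⟨H⟩ := (Inner.nonempty_homotopy_iff (DCoh.tensorBi (X := X)) g g').2
        (homotopy_of_Q_map_eq _ _ ((cancel_epi (c.app N)).1 h'))
      exact DerivedCategory.Q_map_eq_of_homotopy _ H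
    · obtain ⟨b, hb⟩ := exists_Q_map (inv (c.app N) ≫ (adj.homEquiv _ _).symm y)
      refine ⟨DerivedCategory.Q.map ((iHomAdj P).homEquiv N I b), (adj.homEquiv _ _).symm.injective ?_⟩
      rw [key, Equiv.symm_apply_apply, hb]
      exact IsIso.hom_inv_id_assoc (c.app N) _
  exact inferInstanceAs (IsIso cmp)

variable [∀ (U : Scheme.{u}) (j : U ⟶ X) [IsOpenImmersion j], PreservesFiniteLimits (Scheme.Modules.restrictFunctor j)]
  [∀ (R : CommRingCat.{u}), PreservesFiniteLimits (tilde.functor R)]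
  {K : DCoh.D X}

/-- Locally tilde of a bounded finite object with scalar endomorphisms and no higher self-maps. -/
def SelfHomSch (X : Scheme.{u})
    [∀ (U : Scheme.{u}) (j : U ⟶ X) [IsOpenImmersion j], PreservesFiniteLimits (Scheme.Modules.restrictFunctor j)]
    (K : DCoh.D X) : Prop :=
  ∀ x : X, ∃ (R : CommRingCat.{u}) (j : Spec R ⟶ X) (_ : IsOpenImmersion j) (ω : Dual.D R) (a b : ℤ),
    x ∈ Set.range j.base ∧ IsNoetherianRing R ∧ (∀ i, Module.Finite R (Dual.HD R ω i)) ∧ ω.IsGE a ∧ ω.IsLE b ∧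
      SelfHom R ω ∧ Nonempty ((DCoh.restrictD j).obj K ≅ (DCoh.tildeD R).obj ω)

/-- The unit `O_X ⟶ iHom(J, J)` is a quasi-isomorphism. -/
theorem quasiIso_transpose' (hK : SelfHomSch X K) {J : CochainComplex X.Modules ℤ}
    [J.IsKInjective] [∀ n, Injective (J.X n)] (eK : K ≅ DerivedCategory.Q.obj J)
    (u : (DCoh.tensorCx (X := X)).obj ((HomologicalComplex.single X.Modules (ComplexShape.up ℤ) 0).obj
      (Coh.structureModule X)) ≅ 𝟭 _) :
    QuasiIso ((iHomAdj J).homEquiv ((HomologicalComplex.single X.Modules (ComplexShape.up ℤ) 0).obj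
      (Coh.structureModule X)) J (u.hom.app J)) := by
  let O := (HomologicalComplex.single X.Modules (ComplexShape.up ℤ) 0).obj (Coh.structureModule X)
  let t := (iHomAdj J).homEquiv O J (u.hom.app J)
  refine quasiIso_of_local _ fun x => ?_
  obtain ⟨R, j, hj, ω, a, b, hx, hR, hfin, hge, hle, hω, ⟨e⟩⟩ := hK x
  refine ⟨_, j, hj, hx, ?_⟩
  let eJ : DerivedCategory.Q.obj ((rCx j).obj J) ≅ (DCoh.tildeD R).obj ω :=
    ((rhoQ j).app J).symm ≪≫ (rho j).mapIso eK.symm ≪≫ e
  haveI := hR
  haveI := hge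
  haveI := hle
  let J' : CochainComplex (Spec R).Modules ℤ := (rCx j).obj J
  haveI : J'.IsKInjective := isKInjective_rCx j J
  haveI : ∀ n, Injective (J'.X n) := injective_rCx j J
  obtain ⟨r⟩ := nonempty_iHomRestrictIso j J
  let ρ : (rCx j).obj O ≅ (HomologicalComplex.single (Spec R).Modules (ComplexShape.up ℤ) 0).obj
      (Coh.structureModule (Spec R)) :=
    (HomologicalComplex.singleMapHomologicalComplex (Scheme.Modules.restrictFunctor j) _ 0).app _ ≪≫
      (HomologicalComplex.single _ _ 0).mapIso (restrictStructureIso j)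
  let t' := ρ.inv ≫ (rCx j).map t
  have h₀ : IsSplitMono ((Inner.tenX DCoh.tensorBi J).map t) := by
    refine isSplitMono_left _ ((iHomAdj J).counit.app J) ?_
    have h : (Inner.tenX DCoh.tensorBi J).map t ≫ (iHomAdj J).counit.app J = u.hom.app J :=
      ((iHomAdj J).homEquiv_counit _ _ t).symm.trans (Equiv.symm_apply_apply _ _)
    rw [h]
    exact inferInstanceAs (IsSplitMono (u.app J).hom)
  have h₁ : IsSplitMono ((Inner.tenX DCoh.tensorBi J').map t') := by
    haveI := h₀
    haveI : IsSplitMono ((Inner.tenX DCoh.tensorBi J').map ((rCx j).map t)) :=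
      isSplitMono_natIso (totalMapNatIso (restrictTensorBiIso j) J).symm t
        (inferInstanceAs (IsSplitMono ((rCx j).map ((Inner.tenX DCoh.tensorBi J).map t))))
    rw [Functor.map_comp]
    infer_instance
  haveI := quasiIso_unit' hfin a b hω J' eJ t' (DerivedCategory.Q.mapIso (r.app J)) h₁
  exact quasiIso_of_comp_left ρ.inv ((rCx j).map t)

/-- A transport of adjunctions. -/
theorem homEquiv_ofNatIso {C D : Type*} [Category C] [Category D] {L L' : C ⥤ D} {R R' : D ⥤ C}
    (adj : L ⊣ R) (adj' : L' ⊣ R') (α : L' ≅ L) {x : C} {y : D} (v : L.obj x ⟶ y) :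
    adj'.homEquiv x y (α.hom.app x ≫ v) =
      adj.homEquiv x y v ≫ ((adj.ofNatIsoLeft α.symm).rightAdjointUniq adj').hom.app y := by
  let adj'' := adj.ofNatIsoLeft α.symm
  apply (adj'.homEquiv x y).symm.injective
  rw [Equiv.symm_apply_apply, Adjunction.homEquiv_naturality_left_symm,
    Adjunction.homEquiv_symm_rightAdjointUniq_hom_app]
  rw [← Adjunction.homEquiv_counit]
  simp [adj'', Adjunction.ofNatIsoLeft, Adjunction.homEquiv_counit]
  rw [← Adjunction.homEquiv_counit, Equiv.symm_apply_apply]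

set_option maxHeartbeats 400000 in
/-- `O ⟶ RHom(E, E)` is an isomorphism. -/
theorem isIso_homEquiv_self (hK : SelfHomSch X K) (E : CochainComplex X.Modules ℤ)
    (eE : DCoh.toD X E ≅ K) [DCoh.HasLTensorCx E] [DCoh.HasRSheafHom E]
    (υ : (DCoh.LTensorCx E).obj (DCoh.inD X (Coh.structureModule X)) ≅ DCoh.toD X E) :
    IsIso (((DCoh.RSheafHomAdj E).homEquiv (DCoh.inD X (Coh.structureModule X)) (DCoh.toD X E)) υ.hom) := by
  obtain ⟨J, hJ, hJi, ⟨eJ⟩⟩ := exists_kInjective_rep (DCoh.toD X E)
  haveI := hJ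
  haveI := hJi
  let P := (kRes X).obj E
  let π : P ⟶ E := (flatCover X).ψ.app E
  haveI : QuasiIso π := (flatCover X).quasiIso_ψ E
  haveI := hasLTensorCx P
  haveI := hasRSheafHom_of_isKFlat P (isKFlat_kRes _)
  obtain ⟨α⟩ := nonempty_LTensorCx_congr π
  let O := (HomologicalComplex.single X.Modules (ComplexShape.up ℤ) 0).obj (Coh.structureModule X)
  let sO : DerivedCategory.Q.obj O ≅ DCoh.inD X (Coh.structureModule X) :=
    ((DerivedCategory.singleFunctorIsoCompQ X.Modules 0).app (Coh.structureModule X)).symm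
  let adjE := DCoh.RSheafHomAdj E
  let adjP := DCoh.RSheafHomAdj P
  let c := (DCoh.tensorCxQ P).totalLeftDerivedCounit DerivedCategory.Q (qisX X)
  haveI := fun N => isIso_LTensorCx_counit_of_isKFlat_right P (isKFlat_kRes E) N
  -- the map, after moving to `P` and `J`
  let v : (DCoh.LTensorCx P).obj (DerivedCategory.Q.obj O) ⟶ DerivedCategory.Q.obj J :=
    (DCoh.LTensorCx P).map sO.hom ≫ α.hom.app _ ≫ υ.hom ≫ eJ.hom
  suffices h : IsIso (adjP.homEquiv _ _ v) by
    simp only [v, Adjunction.homEquiv_naturality_left] at h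
    haveI h1 := IsIso.of_isIso_comp_left sO.hom (adjP.homEquiv _ _ (α.hom.app _ ≫ υ.hom ≫ eJ.hom))
    rw [homEquiv_ofNatIso adjE adjP α, Adjunction.homEquiv_naturality_right] at h1
    haveI h2 := IsIso.of_isIso_comp_right (adjE.homEquiv _ _ υ.hom ≫ (DCoh.RSheafHom E).map eJ.hom)
      (((adjE.ofNatIsoLeft α.symm).rightAdjointUniq adjP).hom.app (DerivedCategory.Q.obj J))
    exact IsIso.of_isIso_comp_right (adjE.homEquiv _ _ υ.hom) ((DCoh.RSheafHom E).map eJ.hom)
  -- a representative
  obtain ⟨g, hg⟩ := exists_Q_map (inv (c.app O) ≫ v)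
  obtain ⟨u⟩ := nonempty_unitTensorIso X
  haveI : IsIso v := by simp only [v]; infer_instance
  haveI : IsIso (DerivedCategory.Q.map g) := hg ▸ inferInstance
  let ψ : P ⟶ J := u.inv.app P ≫ g
  haveI : IsIso (DerivedCategory.Q.map ψ) := by
    rw [Functor.map_comp]
    infer_instance
  haveI : QuasiIso ψ := (DerivedCategory.isIso_Q_map_iff_quasiIso _ _).1 inferInstance
  have hv : v = c.app O ≫ DerivedCategory.Q.map g := by rw [hg, IsIso.hom_inv_id_assoc]
  -- the transpose at the level of complexes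
  let t₀ := (iHomAdj J).homEquiv O J (u.hom.app J)
  haveI := quasiIso_transpose' hK (eE.symm ≪≫ eJ) u
  haveI := quasiIso_iHomMap ψ J
  haveI : QuasiIso (t₀ ≫ (iHomMap ψ).app J) := inferInstance
  have ht : (iHomAdj P).homEquiv O J g = t₀ ≫ (iHomMap ψ).app J := by
    apply ((iHomAdj P).homEquiv O J).symm.injective
    refine (Equiv.symm_apply_apply _ _).trans ?_
    refine Eq.trans ?_ (Inner.homEquiv_innerMap (DCoh.tensorBi (X := X)) ψ t₀).symm
    have hu : (DCoh.tensorCx.obj O).map ψ ≫ u.hom.app J = u.hom.app P ≫ ψ := u.hom.naturality ψ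
    have ht0 : ((iHomAdj J).homEquiv O J).symm t₀ = u.hom.app J := Equiv.symm_apply_apply _ _
    refine Eq.trans ?_ (congrArg (_ ≫ ·) ht0).symm
    exact (Eq.trans hu (u.hom_inv_id_app_assoc P g)).symm
  let cmp := adjP.homEquiv (DerivedCategory.Q.obj ((iHom P).obj J)) (DerivedCategory.Q.obj J)
    (c.app ((iHom P).obj J) ≫ DerivedCategory.Q.map ((iHomAdj P).counit.app J))
  haveI : IsIso cmp := isIso_cmp P (isKFlat_kRes E) J
  have hfin : adjP.homEquiv _ _ v = DerivedCategory.Q.map ((iHomAdj P).homEquiv O J g) ≫ cmp := by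
    rw [hv, ← Adjunction.homEquiv_naturality_left]
    refine congrArg _ ?_
    have h1 := c.naturality ((iHomAdj P).homEquiv O J g)
    have h2 : g = (Inner.tenX DCoh.tensorBi P).map ((iHomAdj P).homEquiv O J g) ≫ (iHomAdj P).counit.app J := by
      exact (((iHomAdj P).homEquiv O J).symm_apply_apply g).symm.trans ((iHomAdj P).homEquiv_counit O J _)
    conv_lhs => rw [h2, Functor.map_comp]
    exact ((Category.assoc _ _ _).symm.trans (congrArg (· ≫ _) h1.symm)).trans (Category.assoc _ _ _)
  rw [hfin, ht]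
  haveI := isIso_Q_map (t₀ ≫ (iHomMap ψ).app J) inferInstance
  infer_instance

end Groth.Agent.KExact.SelfHom
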