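import Groth.Agent.KExact.TorIndepPC
import Groth.Agent.KExact.External
import Groth.Agent.S6235

/-!
# Pseudo-coherence of external tensor products
-/

set_option autoImplicit false
set_option linter.style.haveILetI false
set_option backward.isDefEq.respectTransparency false
set_option backward.isDefEq.respectTransparency.types false

universe u

open CategoryTheory CategoryTheory.Limits AlgebraicGeometry

attribute [local instance] HasDerivedCategory.standard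

namespace Groth.Agent.KExact

open KFlatLib RelPC17

/-- The structure module in degree zero is bounded above by zero. -/
theorem isLE_toD_unitCx (X : Scheme.{u}) : (DCoh.toD X (DerSch.unitCx X)).IsLE 0 := by
  haveI : CochainComplex.IsStrictlyLE (DerSch.unitCx X) 0 :=
    (CochainComplex.isStrictlyLE_iff _ 0).2 fun i hi =>
      HomologicalComplex.isZero_single_obj_X (ComplexShape.up ℤ) 0 _ i (by omega)
  haveI : CochainComplex.IsLE (DerSch.unitCx X) 0 := inferInstance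
  exact (DerivedCategory.isLE_Q_obj_iff (DerSch.unitCx X) 0).2 inferInstance

/-- The structure module in degree zero has quasi-coherent cohomology. -/
theorem isQCohD_toD_unitCx (X : Scheme.{u}) : DCoh.IsQCohD (DCoh.toD X (DerSch.unitCx X)) :=
  isQCohD_of_iso ((DerivedCategory.singleFunctorIsoCompQ X.Modules 0).app _) isQCohD_structure

variable {S X₁ Y₁ X₂ Y₂ X Y : Scheme.{u}} {f₁ : X₁ ⟶ Y₁} {q₁ : Y₁ ⟶ S} {f₂ : X₂ ⟶ Y₂} {q₂ : Y₂ ⟶ S}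
  {pX₁ : X ⟶ X₁} {pX₂ : X ⟶ X₂} {pY₁ : Y ⟶ Y₁} {pY₂ : Y ⟶ Y₂} {f : X ⟶ Y}

/-- An external tensor product of objects bounded above. -/
theorem isLE_external [DCoh.HasLpull pX₁] [DCoh.HasLpull pX₂] (L₁ : DCoh.D X₁) (b₁ : ℤ) (hb₁ : L₁.IsLE b₁)
    (L₂ : DCoh.D X₂) (b₂ : ℤ) (hb₂ : L₂.IsLE b₂) (K₂ : CochainComplex X.Modules ℤ) [DCoh.HasLTensorCx K₂]
    (eK : DCoh.toD X K₂ ≅ (DCoh.Lpull pX₂).obj L₂) :
    ((DCoh.LTensorCx K₂).obj ((DCoh.Lpull pX₁).obj L₁)).IsLE (b₁ + b₂) := by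
  haveI := hb₁
  haveI := hb₂
  haveI := isLE_lpull pX₁ L₁ b₁
  haveI := isLE_lpull pX₂ L₂ b₂
  exact (DerivedCategory.isLE_iff _ _).2 fun i hi => TensorTest.isZero_hd_ltensor_of_isLE K₂ b₂
    (DerivedCategory.TStructure.t.isLE_of_iso eK.symm b₂) _ b₁
    (fun j hj => DerivedCategory.isZero_of_isLE _ b₁ j hj) i hi

/-- An external tensor product of relatively pseudo-coherent objects. -/
theorem rel_external [Flat q₂] [Flat (f₂ ≫ q₂)]
    (hX : IsPullback pX₁ pX₂ (f₁ ≫ q₁) (f₂ ≫ q₂)) (hY : IsPullback pY₁ pY₂ q₁ q₂)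
    (hf₁ : f ≫ pY₁ = pX₁ ≫ f₁) (hf₂ : f ≫ pY₂ = pX₂ ≫ f₂)
    [LocallyOfFiniteType f₁] [LocallyOfFiniteType f₂]
    (L₁ : DCoh.D X₁) (a₁ b₁ : ℤ) (hq₁ : DCoh.IsQCohD L₁) (hpc₁ : DerSch.IsPseudoCoherentRel f₁ a₁ L₁)
    (hb₁ : L₁.IsLE b₁)
    (L₂ : DCoh.D X₂) (a₂ b₂ : ℤ) (hq₂ : DCoh.IsQCohD L₂) (hpc₂ : DerSch.IsPseudoCoherentRel f₂ a₂ L₂)
    (hb₂ : L₂.IsLE b₂)
    [DCoh.HasLpull pX₁] [DCoh.HasLpull pX₂] (K₂ : CochainComplex X.Modules ℤ) [DCoh.HasLTensorCx K₂]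
    (eK : DCoh.toD X K₂ ≅ (DCoh.Lpull pX₂).obj L₂) :
    DerSch.IsPseudoCoherentRel f (max (a₁ + b₂) (a₂ + b₁))
      ((DCoh.LTensorCx K₂).obj ((DCoh.Lpull pX₁).obj L₁)) := by
  obtain ⟨f', g, hfg, hw, sq₂, sq₁⟩ := exists_factorization hX hY hf₁ hf₂
  haveI : Flat pY₁ := MorphismProperty.of_isPullback hY.flip inferInstance
  haveI : LocallyOfFiniteType g := MorphismProperty.of_isPullback sq₁ ‹LocallyOfFiniteType f₁›
  haveI : LocallyOfFiniteType f' := MorphismProperty.of_isPullback sq₂ ‹LocallyOfFiniteType f₂›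
  let w₁ := pullback.snd q₂ (f₁ ≫ q₁)
  haveI := hasLpull w₁
  haveI := hasLpull f'
  haveI := hasLpull (f' ≫ w₁)
  have hG : DerSch.IsPseudoCoherentRel g a₁ ((DCoh.Lpull w₁).obj L₁) := rel_lpull_flat sq₁ hq₁ hpc₁
  have hK : DerSch.IsPseudoCoherentRel f' a₂ (DCoh.toD X K₂) :=
    rel_of_iso' f' eK.symm (rel_lpull_torIndep q₂ (f₁ ≫ q₁) sq₂ hq₂ hpc₂)
  haveI := hb₂
  haveI := hb₁
  haveI := isLE_lpull pX₂ L₂ b₂
  have hd : ((DCoh.Lpull w₁).obj L₁).IsLE b₁ := isLE_lpull w₁ L₁ b₁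
  have h := rel_ltensor_lpull f' g a₂ b₂ a₁ b₁ K₂ hK
    (DerivedCategory.TStructure.t.isLE_of_iso eK.symm b₂) _ hG hd
  obtain ⟨c⟩ := nonempty_lpull_comp f' w₁
  obtain ⟨c'⟩ := nonempty_lpull_congr hw L₁
  subst hfg
  rw [max_comm, add_comm a₁]
  exact rel_of_iso' (f' ≫ g) ((DCoh.LTensorCx K₂).mapIso (c.app _ ≪≫ c')) h

/-- A product of pseudo-coherent morphisms. -/
theorem nPC_prod [Flat q₂] [Flat (f₂ ≫ q₂)]
    (hX : IsPullback pX₁ pX₂ (f₁ ≫ q₁) (f₂ ≫ q₂)) (hY : IsPullback pY₁ pY₂ q₁ q₂)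
    (hf₁ : f ≫ pY₁ = pX₁ ≫ f₁) (hf₂ : f ≫ pY₂ = pX₂ ≫ f₂)
    [LocallyOfFiniteType f₁] [LocallyOfFiniteType f₂]
    (h₁ : ∀ n : ℤ, DerSch.IsNPseudoCoherent f₁ n) (h₂ : ∀ n : ℤ, DerSch.IsNPseudoCoherent f₂ n) (n : ℤ) :
    DerSch.IsNPseudoCoherent f n := by
  haveI := hasLpull pX₁
  haveI := hasLpull pX₂
  haveI := hasLTensorCx (DerSch.unitCx X)
  obtain ⟨e₂⟩ := nonempty_lpull_unitCx pX₂
  obtain ⟨e₁⟩ := nonempty_lpull_unitCx pX₁
  obtain ⟨u⟩ := nonempty_tensorUnitIso (DerSch.unitCx X)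
  have hK : DCoh.IsKFlat (DerSch.unitCx X) := isKFlat_single_of_isFlat (isFlat_structureModule (X := X))
  have h := rel_external hX hY hf₁ hf₂ _ n 0 (isQCohD_toD_unitCx X₁) (h₁ n) (isLE_toD_unitCx X₁)
    _ n 0 (isQCohD_toD_unitCx X₂) (h₂ n) (isLE_toD_unitCx X₂) (DerSch.unitCx X) e₂
  rw [add_zero, max_self] at h
  haveI : LocallyOfFiniteType f := h.1
  exact rel_of_iso' f ((DCoh.LTensorCx _).mapIso e₁.symm ≪≫ ltensorCxIso (DerSch.unitCx X) hK ≪≫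
    DerivedCategory.Q.mapIso u) h

/-- An external tensor product of objects pseudo-coherent in every degree. -/
theorem relAll_external [Flat q₂] [Flat (f₂ ≫ q₂)]
    (hX : IsPullback pX₁ pX₂ (f₁ ≫ q₁) (f₂ ≫ q₂)) (hY : IsPullback pY₁ pY₂ q₁ q₂)
    (hf₁ : f ≫ pY₁ = pX₁ ≫ f₁) (hf₂ : f ≫ pY₂ = pX₂ ≫ f₂)
    [LocallyOfFiniteType f₁] [LocallyOfFiniteType f₂]
    (L₁ : DCoh.D X₁) (b₁ : ℤ) (h₁ : DerSch.IsPseudoCoherentRelAll f₁ L₁) (hb₁ : L₁.IsLE b₁)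
    (L₂ : DCoh.D X₂) (b₂ : ℤ) (h₂ : DerSch.IsPseudoCoherentRelAll f₂ L₂) (hb₂ : L₂.IsLE b₂)
    [DCoh.HasLpull pX₁] [DCoh.HasLpull pX₂] (K₂ : CochainComplex X.Modules ℤ) [DCoh.HasLTensorCx K₂]
    (eK : DCoh.toD X K₂ ≅ (DCoh.Lpull pX₂).obj L₂) :
    DerSch.IsPseudoCoherentRelAll f ((DCoh.LTensorCx K₂).obj ((DCoh.Lpull pX₁).obj L₁)) := fun m => by
  have h := rel_external hX hY hf₁ hf₂ L₁ (m - b₂) b₁ (S6235.result f₁ L₁ h₁) (h₁ _) hb₁
    L₂ (m - b₁) b₂ (S6235.result f₂ L₂ h₂) (h₂ _) hb₂ K₂ eK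
  rwa [sub_add_cancel, sub_add_cancel, max_self] at h

/-- Tor amplitude bounds the cohomology sheaves. -/
theorem isZero_hd_of_torAmp {X Y : Scheme.{u}} (f : X ⟶ Y) {E : CochainComplex X.Modules ℤ} {a b : ℤ}
    (hE : DerSch.HasTorAmplitude f a b E) (i : ℤ) (hi : i < a ∨ b < i) :
    IsZero (DCoh.HD (DCoh.toD X E) i) := by
  refine IsZero.of_iso ?_ ((DerivedCategory.homologyFunctorFactors X.Modules i).app E)
  refine isZero_of_stalk _ fun x => ?_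
  obtain ⟨F, hv, -, ⟨e⟩⟩ := hE x
  have hz : IsZero (((DerSch.stalkCxOver f x).obj E).homology i) :=
    (ShortComplex.isZero_homology_of_isZero_X₂ (F.sc i) (hv i hi)).of_iso
      (((DerivedCategory.homologyFunctorFactors _ i).app _).symm ≪≫
        (DerivedCategory.homologyFunctor _ i).mapIso e.symm ≪≫ (DerivedCategory.homologyFunctorFactors _ i).app F)
  have hz' := hz.of_iso ((E.sc i).mapHomologyIso (DerSch.stalkOver f x)).symm
  haveI := ModuleCat.subsingleton_of_isZero hz'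
  exact @ModuleCat.isZero_of_subsingleton _ _ _
    (this : Subsingleton ((DerSch.stalkFunctor X x).obj (E.homology i) : Type u))

/-- Tor amplitude bounds an object above. -/
theorem isLE_of_torAmp {X Y : Scheme.{u}} (f : X ⟶ Y) {E : CochainComplex X.Modules ℤ} {a b : ℤ}
    (hE : DerSch.HasTorAmplitude f a b E) : (DCoh.toD X E).IsLE b :=
  (DerivedCategory.isLE_iff _ _).2 fun i hi => isZero_hd_of_torAmp f hE i (Or.inr hi)

end Groth.Agent.KExact
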