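import Groth.Agent.KExact.TensorPush
import Groth.Agent.KExact.ClosedBC
import Groth.Agent.RelPC17.Rel
import Groth.Agent.RelPC17.Comp
import Groth.Agent.KFlatLib.Scheme.LpullComp
import Groth.Agent.KFlatLib.Scheme.LpullLE

/-!
# Relative pseudo-coherence of `E ⊗^L Lf^* F`
-/

set_option autoImplicit false
set_option linter.style.haveILetI false
set_option backward.isDefEq.respectTransparency false
set_option backward.isDefEq.respectTransparency.types false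

universe u

open CategoryTheory CategoryTheory.Limits AlgebraicGeometry TopologicalSpace

attribute [local instance] HasDerivedCategory.standard

namespace Groth.Agent.KExact

open KFlatLib RelPC17

/-- Pullback along a flat morphism is computed termwise. -/
theorem nonempty_lpull_Q_flat {X Y : Scheme.{u}} (f : X ⟶ Y) [Flat f] [DCoh.HasLpull f]
    (K : CochainComplex Y.Modules ℤ) :
    Nonempty ((DCoh.Lpull f).obj (DerivedCategory.Q.obj K) ≅ DerivedCategory.Q.obj ((pullCx f).obj K)) := by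
  haveI : QuasiIso ((flatCover Y).ψ.app K) := (flatCover Y).quasiIso_ψ K
  haveI := isIso_Q_map ((flatCover Y).ψ.app K) inferInstance
  haveI := preservesHomology_pullback f
  haveI : QuasiIso ((pullCx f).map ((flatCover Y).ψ.app K)) :=
    inferInstanceAs (QuasiIso (((Scheme.Modules.pullback f).mapHomologicalComplex (ComplexShape.up ℤ)).map _))
  haveI := isIso_Q_map ((pullCx f).map ((flatCover Y).ψ.app K)) inferInstance
  exact ⟨(DCoh.Lpull f).mapIso (asIso (DerivedCategory.Q.map ((flatCover Y).ψ.app K))).symm ≪≫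
    lpullIso f (isKFlat_kRes K) ≪≫
    asIso (DerivedCategory.Q.map ((pullCx f).map ((flatCover Y).ψ.app K)))⟩

/-- Flat base change of pseudo-coherence along a closed immersion. -/
theorem locPC_pD_lpull {V A P Q : Scheme.{u}} (j₀ : V ⟶ A) [IsClosedImmersion j₀] (j : P ⟶ Q)
    [IsClosedImmersion j] (π : P ⟶ V) (π' : Q ⟶ A) [Flat π] [Flat π'] [DCoh.HasLpull π]
    (b : Scheme.Modules.pushforward j₀ ⋙ Scheme.Modules.pullback π' ≅
      Scheme.Modules.pullback π ⋙ Scheme.Modules.pushforward j)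
    {c : ℤ} {F : DCoh.D V} (hF : LocPC c ((pD j₀).obj F)) :
    LocPC c ((pD j).obj ((DCoh.Lpull π).obj F)) := by
  haveI := hasLpull π'
  let K := DerivedCategory.Q.objPreimage F
  obtain ⟨e₁⟩ := nonempty_lpull_Q_flat π K
  obtain ⟨e₂⟩ := nonempty_lpull_Q_flat π' ((DerSch.pushCx j₀).obj K)
  have h := (isPseudoCoherentD_iff _ _).1 (isPseudoCoherentD_lpull π' ((isPseudoCoherentD_iff _ _).2 hF))
  refine h.of_iso ?_
  exact (DCoh.Lpull π').mapIso ((pD j₀).mapIso (repIso F).symm ≪≫ (pQ j₀).app K) ≪≫ e₂ ≪≫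
    DerivedCategory.Q.mapIso ((Functor.mapHomologicalComplexCompIso (F := Scheme.Modules.pushforward j₀)
        (G := Scheme.Modules.pullback π') b (ComplexShape.up ℤ)).app K ≪≫
      ((Functor.mapHomologicalComplexCompIso (F := Scheme.Modules.pullback π)
        (G := Scheme.Modules.pushforward j) (Iso.refl _) (ComplexShape.up ℤ)).app K).symm) ≪≫
    ((pQ j).app ((pullCx π).obj K)).symm ≪≫
    (pD j).mapIso (e₁.symm ≪≫ (DCoh.Lpull π).mapIso (repIso F))

/-- Derived pullbacks along equal morphisms. -/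
theorem nonempty_lpull_congr {X Y : Scheme.{u}} {f g : X ⟶ Y} (h : f = g) [DCoh.HasLpull f] [DCoh.HasLpull g]
    (F : DCoh.D Y) : Nonempty ((DCoh.Lpull f).obj F ≅ (DCoh.Lpull g).obj F) := by
  subst h
  exact ⟨Iso.refl _⟩

/-- The chart lies over the base chart. -/
theorem imm_comp_proj {X Y : Scheme.{u}} (f : X ⟶ Y) {U : X.Opens} {W : Y.Opens} (hU : IsAffineOpen U)
    (hW : IsAffineOpen W) (h : U ≤ f ⁻¹ᵁ W) {k : ℕ} (ψ : MvPolynomial (Fin k) Γ(Y, W) →+* Γ(X, U))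
    (hψ : DerSch.IsChart f U W h ψ) :
    imm U ψ ≫ Spec.map (CommRingCat.ofHom (MvPolynomial.C : Γ(Y, W) →+* MvPolynomial (Fin k) Γ(Y, W))) ≫
      hW.fromSpec = U.ι ≫ f := by
  rw [imm, Category.assoc, ← Spec.map_comp_assoc, ← CommRingCat.ofHom_comp, hψ.2]
  rw [CommRingCat.ofHom_hom, IsAffineOpen.SpecMap_appLE_fromSpec f hW hU h,
    IsAffineOpen.toSpecΓ_fromSpec_assoc]

/-- Relative pseudo-coherence of `E ⊗^L Lf^* F`. -/
theorem rel_ltensor_lpull {X Y Z : Scheme.{u}} (f : X ⟶ Y) (g : Y ⟶ Z) [LocallyOfFiniteType f]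
    [LocallyOfFiniteType g] (a b c d : ℤ) (E : CochainComplex X.Modules ℤ)
    (hE : DerSch.IsPseudoCoherentRel f a (DCoh.toD X E)) (hb : (DCoh.toD X E).IsLE b) (F : DCoh.D Y)
    (hF : DerSch.IsPseudoCoherentRel g c F) (hd : F.IsLE d) [DCoh.HasLpull f] [DCoh.HasLTensorCx E] :
    DerSch.IsPseudoCoherentRel (f ≫ g) (max (a + d) (b + c)) ((DCoh.LTensorCx E).obj ((DCoh.Lpull f).obj F)) := by
  haveI := hd
  haveI hLF : ((DCoh.Lpull f).obj F).IsLE d := isLE_lpull f F d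
  by_cases hab : a ≤ b
  swap
  · have hz : ∀ i, max (a + d) (b + c) ≤ i →
        IsZero (DCoh.HD ((DCoh.LTensorCx E).obj ((DCoh.Lpull f).obj F)) i) := fun i hi =>
      TensorTest.isZero_hd_ltensor_of_isLE E b hb _ d (fun j hj => DerivedCategory.isZero_of_isLE _ d j hj) i
        (by omega)
    refine rel_iff.2 fun U V _ _ _ n φ _ => ?_
    intro _
    exact locPC_of_isZero _ _ fun i hi => (isZero_HD_pD_iff (imm U φ) _ i).2
      ((Functor.map_isZero (Scheme.Modules.restrictFunctor U.ι) (hz i hi)).of_iso (hdRhoIso U.ι _ i))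
  refine rel_of_local fun x => ?_
  obtain ⟨_, ⟨(Z₀ : Z.Opens), hZ₀, rfl⟩, hxZ, -⟩ := Z.isBasis_affineOpens.exists_subset_of_mem_open
    (show g (f x) ∈ (⊤ : Z.Opens) from trivial) (⊤ : Z.Opens).2
  obtain ⟨_, ⟨(W : Y.Opens), hW, rfl⟩, hxW, (h' : W ≤ g ⁻¹ᵁ Z₀)⟩ :=
    Y.isBasis_affineOpens.exists_subset_of_mem_open (show f x ∈ g ⁻¹ᵁ Z₀ from hxZ) (g ⁻¹ᵁ Z₀).2
  obtain ⟨_, ⟨(U : X.Opens), hU, rfl⟩, hxU, (h : U ≤ f ⁻¹ᵁ W)⟩ :=
    X.isBasis_affineOpens.exists_subset_of_mem_open (show x ∈ f ⁻¹ᵁ W from hxW) (f ⁻¹ᵁ W).2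
  obtain ⟨l, θ, hθ⟩ := exists_isChart h' (finiteType_appLE hW hZ₀ h')
  obtain ⟨k, ψ, hψ⟩ := exists_isChart h (finiteType_appLE hU hW h)
  let σ : MvPolynomial (Fin k) (MvPolynomial (Fin l) Γ(Z, Z₀)) →+* MvPolynomial (Fin k) Γ(Y, W) :=
    MvPolynomial.map θ
  have hσ : Function.Surjective σ := MvPolynomial.map_surjective θ hθ.1
  let M := max (a + d) (b + c)
  let T := (DCoh.LTensorCx E).obj ((DCoh.Lpull f).obj F)
  obtain ⟨φ, hφ, hφC, hiff⟩ := exists_fin_chart hU (ψ.comp σ) (hψ.1.comp hσ) M T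
  have hchart : DerSch.IsChart (f ≫ g) U Z₀ (h.trans (f.preimage_mono h')) φ := ⟨hφ, RingHom.ext fun r => by
    rw [RingHom.comp_apply, hφC]
    simp only [σ, RingHom.comp_apply, MvPolynomial.map_C]
    rw [show θ (MvPolynomial.C r) = (g.appLE Z₀ W h').hom r from RingHom.congr_fun hθ.2 r,
      show ψ (MvPolynomial.C ((g.appLE Z₀ W h').hom r)) = (f.appLE W U h).hom ((g.appLE Z₀ W h').hom r) from
        RingHom.congr_fun hψ.2 _, ← CommRingCat.comp_apply, Scheme.Hom.appLE_comp_appLE]⟩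
  refine ⟨U, Z₀, _, hU, hZ₀, hxU, k + l, φ, hchart, (chartPC_iff hU hφ M T).2 (hiff.2 ?_)⟩
  intro _
  haveI := isClosedImmersion_imm hU hψ.1
  haveI : IsClosedImmersion (Spec.map (CommRingCat.ofHom σ)) := IsClosedImmersion.spec_of_surjective _ hσ
  haveI : IsClosedImmersion (Spec.map (CommRingCat.ofHom θ)) := IsClosedImmersion.spec_of_surjective _ hθ.1
  haveI := isClosedImmersion_imm hW hθ.1
  let i := imm U ψ
  let j := Spec.map (CommRingCat.ofHom σ)
  let j₀ := Spec.map (CommRingCat.ofHom θ)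
  let π := Spec.map (CommRingCat.ofHom (MvPolynomial.C : Γ(Y, W) →+* MvPolynomial (Fin k) Γ(Y, W)))
  let π' := Spec.map (CommRingCat.ofHom
    (MvPolynomial.C : MvPolynomial (Fin l) Γ(Z, Z₀) →+* MvPolynomial (Fin k) (MvPolynomial (Fin l) Γ(Z, Z₀))))
  haveI : Flat π := HasRingHomProperty.Spec_iff.2
    (RingHom.flat_algebraMap_iff.2 (inferInstance : Module.Flat Γ(Y, W) (MvPolynomial (Fin k) Γ(Y, W))))
  haveI : Flat π' := HasRingHomProperty.Spec_iff.2 (RingHom.flat_algebraMap_iff.2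
    (inferInstance : Module.Flat (MvPolynomial (Fin l) Γ(Z, Z₀)) (MvPolynomial (Fin k) (MvPolynomial (Fin l) Γ(Z, Z₀)))))
  have hsq : j ≫ π' = π ≫ j₀ := by
    simp only [j, π', π, j₀, ← Spec.map_comp, ← CommRingCat.ofHom_comp]
    congr 2
    exact RingHom.ext fun r => MvPolynomial.map_C θ r
  haveI := hasLpull π
  haveI := hasLpull hW.fromSpec
  haveI := hasLpull (π ≫ hW.fromSpec)
  obtain ⟨bc⟩ := nonempty_closedBC j₀ j π π' hsq ((nonempty_polyBC θ hθ.1 k).some)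
  let F₀ := (rho hW.fromSpec).obj F
  have hF₀ : LocPC c ((pD j₀).obj F₀) := by
    haveI := isIso_toSpecΓ hW
    refine LocPC.of_local fun v => ⟨_, 𝟙 _, inferInstance, ⟨v, rfl⟩, ?_⟩
    refine (LocPC.of_iso ?_ (rel_iff.1 hF W Z₀ hW hZ₀ h' l θ hθ))
    exact (pD (imm W θ)).mapIso ((rhoComp W.toSpecΓ hW.fromSpec W.ι hW.toSpecΓ_fromSpec F).symm) ≪≫
      (rhoPD j₀ (𝟙 _) W.toSpecΓ (imm W θ) (by rw [Category.comp_id]; rfl)
        (by rw [Scheme.Hom.opensRange_of_isIso, Scheme.Hom.opensRange_of_isIso]; rfl) F₀).symm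
  let F' := (DCoh.Lpull π).obj F₀
  let C := repK F'
  haveI := hasLTensorCx C
  let G := (pD i).obj ((rho U.ι).obj (DCoh.toD X E))
  have hG : LocPC a G := rel_iff.1 hE U W hU hW h k ψ hψ
  have hbG : ∀ n, b < n → IsZero (DCoh.HD G n) := fun n hn => (isZero_HD_pD_iff i _ n).2
    ((Functor.map_isZero (Scheme.Modules.restrictFunctor U.ι)
      ((DerivedCategory.isLE_iff _ _).1 hb n hn)).of_iso (hdRhoIso U.ι _ n))
  haveI hF₀d : F₀.IsLE d := (DerivedCategory.isLE_iff _ _).2 fun n hn =>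
    (Functor.map_isZero (Scheme.Modules.restrictFunctor hW.fromSpec)
      ((DerivedCategory.isLE_iff _ _).1 hd n hn)).of_iso (hdRhoIso hW.fromSpec _ n)
  haveI hF'd : F'.IsLE d := isLE_lpull π F₀ d
  have hCd : (DCoh.toD _ C).IsLE d := (DerivedCategory.isLE_iff _ _).2 fun n hn =>
    ((DerivedCategory.isLE_iff _ _).1 hF'd n hn).of_iso
      ((DerivedCategory.homologyFunctor _ n).mapIso (repKIso F'))
  have key := locPC_pD_ltensor j C (isKFlat_repK F') c d a b hab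
    ((locPC_pD_lpull j₀ j π π' bc hF₀).of_iso ((pD j).mapIso (repKIso F').symm)) hCd hG hbG
  -- the tensor product, on the affine space over `W`
  haveI := hasRpush_scheme i
  haveI := hasLpull i
  haveI := hasLpull U.ι
  haveI := hasLpull (i ≫ π ≫ hW.fromSpec)
  haveI := hasLpull (U.ι ≫ f)
  haveI := hasLTensorCx ((pullCx i).obj C)
  obtain ⟨q⟩ := nonempty_rho_iso_lpull hW.fromSpec
  obtain ⟨qU⟩ := nonempty_rho_iso_lpull U.ι
  obtain ⟨c₁⟩ := nonempty_lpull_comp π hW.fromSpec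
  obtain ⟨c₂⟩ := nonempty_lpull_comp i (π ≫ hW.fromSpec)
  obtain ⟨c₃⟩ := nonempty_lpull_comp U.ι f
  let L := (DCoh.Lpull f).obj F
  have hcomp : i ≫ π ≫ hW.fromSpec = U.ι ≫ f := imm_comp_proj f hU hW h ψ hψ
  obtain ⟨eC⟩ : Nonempty (DerivedCategory.Q.obj ((pullCx i).obj C) ≅ (rho U.ι).obj L) :=
    ⟨(lpullIso i (isKFlat_repK F')).symm ≪≫
      (DCoh.Lpull i).mapIso (repKIso F' ≪≫ (DCoh.Lpull π).mapIso (q.app F) ≪≫ c₁.app F) ≪≫ c₂.app F ≪≫
      (nonempty_lpull_congr hcomp F).some ≪≫ (c₃.app F).symm ≪≫ (qU.app L).symm⟩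
  let R := kRes X
  let R₀ := R.obj E
  haveI := (flatCover X).quasiIso_ψ E
  haveI := isIso_Q_map ((flatCover X).ψ.app E) inferInstance
  haveI := hasLTensorCx R₀
  haveI : DCoh.HasLTensorCx ((𝟭 (CochainComplex X.Modules ℤ)).obj E) := ‹DCoh.HasLTensorCx E›
  obtain ⟨cE⟩ := nonempty_LTensorCx_congr ((flatCover X).ψ.app E)
  obtain ⟨l₁⟩ := nonempty_rho_ltensorCx U.ι R₀ (isKFlat_kRes E) L ((pullCx i).obj C)
    (isKFlat_pullback i (isKFlat_repK F')) eC
  obtain ⟨p⟩ := nonempty_projection_closed i C (isKFlat_repK F') (DCoh.toD (U : Scheme.{u}) ((pullCx U.ι).obj R₀))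
  obtain ⟨r₁⟩ := nonempty_rpush_iso_closed i ((pullCx U.ι).obj R₀)
  let eG : G ≅ (DCoh.Rpush i).obj (DCoh.toD (U : Scheme.{u}) ((pullCx U.ι).obj R₀)) :=
    (pD i).mapIso ((rho U.ι).mapIso (asIso (DerivedCategory.Q.map ((flatCover X).ψ.app E))).symm ≪≫
      (rhoQ U.ι).app R₀ ≪≫ DerivedCategory.Q.mapIso ((restrictPullCxIso U.ι).app R₀)) ≪≫
      (pQ i).app _ ≪≫ r₁.symm
  let CU := (pullCx i).obj C
  let RU := (pullCx U.ι).obj R₀
  obtain ⟨r₂⟩ := nonempty_rpush_iso_closed i ((DCoh.tensorCx.obj CU).obj RU)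
  let eT : (pD i).obj ((rho U.ι).obj T) ≅ (DCoh.LTensorCx C).obj G :=
    (pD i).mapIso ((rho U.ι).mapIso (cE.app L).symm ≪≫ l₁) ≪≫ (pQ i).app _ ≪≫ r₂.symm ≪≫
      (DCoh.Rpush i).mapIso (DerivedCategory.Q.mapIso ((symmIso (tensorBiFlipIso _) CU).app RU).symm ≪≫
        (ltensorCxIso CU (isKFlat_pullback U.ι (isKFlat_kRes E))).symm) ≪≫
      p.symm ≪≫ (DCoh.LTensorCx C).mapIso eG.symm
  have himm : imm U ψ ≫ j = imm U (ψ.comp σ) := by
    simp only [imm, j, Category.assoc, ← Spec.map_comp, ← CommRingCat.ofHom_comp]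
  exact key.of_iso ((pD j).mapIso eT.symm ≪≫ pDComp i j (imm U (ψ.comp σ)) himm _)

end Groth.Agent.KExact
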