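import Groth.Agent.KExact.TorPush
import Groth.Agent.KFlatLib.Scheme.StalkTorAmpComp
import Groth.Agent.KSixRel.AmpSmoothSch
import Groth.Agent.H9Misc.DRingTorDim

/-!
# Tor amplitude of direct images over an arbitrary base
-/

set_option autoImplicit false
set_option linter.style.haveILetI false
set_option backward.isDefEq.respectTransparency false
set_option backward.isDefEq.respectTransparency.types false

universe u

open CategoryTheory CategoryTheory.Limits AlgebraicGeometry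

attribute [local instance] HasDerivedCategory.standard

namespace Groth.Agent.KExact

open KFlatLib

variable {X Y S : Scheme.{u}}

/-- Only the local ring of the base matters for tor amplitude. -/
theorem torAmpAt_of_comp_open {T : Scheme.{u}} (f : X ⟶ S) (k : S ⟶ T) [IsOpenImmersion k]
    (F : CochainComplex X.Modules ℤ) (a b : ℤ) (x : X) (h : DerSch.HasTorAmplitudeAt (f ≫ k) a b F x) :
    DerSch.HasTorAmplitudeAt f a b F x := by
  let A := T.presheaf.stalk (k.base (f.base x))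
  let B := S.presheaf.stalk (f.base x)
  let ψ : B →+* A := (inv (k.stalkMap (f.base x))).hom
  letI : Algebra B A := ψ.toAlgebra
  haveI : Module.Flat B A := RingHom.Flat.of_bijective (f := ψ) (ConcreteCategory.bijective_of_isIso _)
  obtain ⟨E, hv, hf, ⟨e⟩⟩ := H9Misc.DRingTor.hasTorAmplitudeIn_restrictScalars 0
    (H9Misc.DRingTor.mono (by simp) le_rfl (H9Misc.DRingTor.inD_of_flat (ModuleCat.of B A))) _ a b h
  let u : DerSch.stalkOver f x ≅ DerSch.stalkOver (f ≫ k) x ⋙ ModuleCat.restrictScalars ψ :=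
    Functor.isoWhiskerLeft _ (ModuleCat.restrictScalarsComp' ψ ((f ≫ k).stalkMap x).hom (f.stalkMap x).hom
      (by rw [Scheme.Hom.stalkMap_comp, ← CommRingCat.hom_comp, IsIso.inv_hom_id_assoc])) ≪≫
      (Functor.associator _ _ _).symm
  exact ⟨E, fun i hi => hv i (by simpa using hi), hf,
    ⟨e ≪≫ (ModuleCat.restrictScalars ψ).mapDerivedCategoryFactors.app _ ≪≫
    DerivedCategory.Q.mapIso (((Functor.mapHomologicalComplexCompIso u.symm (ComplexShape.up ℤ)).app F))⟩⟩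

/-- Composition with a morphism of finite tor dimension. -/
theorem torAmpAt_comp {Z : Scheme.{u}} (f : X ⟶ Y) (g : Y ⟶ Z) (n : ℕ) (x : X)
    (hg : DerSch.HasTorAmplitudeAt g (-(n : ℤ)) 0 (DerSch.unitCx Y) (f.base x))
    (F : CochainComplex X.Modules ℤ) (a b : ℤ) (hF : DerSch.HasTorAmplitudeAt f a b F x) :
    DerSch.HasTorAmplitudeAt (f ≫ g) (a - n) b F x := by
  let A := Z.presheaf.stalk (g.base (f.base x))
  let B := Y.presheaf.stalk (f.base x)
  let φ : A →+* B := (g.stalkMap (f.base x)).hom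
  letI : Algebra A B := φ.toAlgebra
  obtain ⟨l⟩ := nonempty_stalk_structure (f.base x)
  have hB : DRing.HasTorAmplitudeIn A (-(n : ℤ)) 0 (Dual.inD A B) := by
    obtain ⟨E, hv, hf, ⟨e⟩⟩ := hg
    let i₀ : (DerSch.stalkOver g (f.base x)).obj (Coh.structureModule Y) ≅ ModuleCat.of A B :=
      (ModuleCat.restrictScalars φ).mapIso l.symm.toModuleIso ≪≫
        (LinearEquiv.toModuleIso
          (m₁ := ((ModuleCat.restrictScalars φ).obj (ModuleCat.of B B)).isModule)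
          { toFun := fun z => z, invFun := fun z => z, left_inv := fun _ => rfl, right_inv := fun _ => rfl,
            map_add' := fun _ _ => rfl, map_smul' := fun _ _ => rfl })
    exact ⟨E, hv, hf, ⟨e ≪≫ DerivedCategory.Q.mapIso
      ((HomologicalComplex.singleMapHomologicalComplex (DerSch.stalkOver g (f.base x)) _ 0).app _ ≪≫
        (HomologicalComplex.single _ (ComplexShape.up ℤ) 0).mapIso i₀) ≪≫
      ((DerivedCategory.singleFunctorIsoCompQ _ 0).app _).symm⟩⟩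
  obtain ⟨E, hv, hf, ⟨e⟩⟩ := H9Misc.DRingTor.hasTorAmplitudeIn_restrictScalars n hB _ a b hF
  let u : DerSch.stalkOver (f ≫ g) x ≅ DerSch.stalkOver f x ⋙ ModuleCat.restrictScalars φ :=
    Functor.isoWhiskerLeft _ (ModuleCat.restrictScalarsComp' φ (f.stalkMap x).hom
      ((f ≫ g).stalkMap x).hom (by rw [Scheme.Hom.stalkMap_comp]; rfl)) ≪≫ (Functor.associator _ _ _).symm
  exact ⟨E, hv, hf, ⟨e ≪≫ (ModuleCat.restrictScalars φ).mapDerivedCategoryFactors.app _ ≪≫
    DerivedCategory.Q.mapIso (((Functor.mapHomologicalComplexCompIso u.symm (ComplexShape.up ℤ)).app F))⟩⟩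

/-- Direct images of objects of stalkwise tor amplitude `[a, b]` over the base have tor amplitude `[a, b + N]`
at every point, as soon as their cohomology vanishes above `b + N`. -/
theorem torAmp_rpush_local (q : Y ⟶ S) (f : X ⟶ Y) [QuasiCompact f] [QuasiSeparated f] [DCoh.HasRpush f]
    (F : CochainComplex X.Modules ℤ) (hq : DCoh.IsQCohD (DCoh.toD X F))
    (hF : DerSch.LocFiniteTorAmplitude (f ≫ q) F) (F' : CochainComplex Y.Modules ℤ)
    (e : DCoh.toD Y F' ≅ (DCoh.Rpush f).obj (DCoh.toD X F)) (y : Y) :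
    ∃ (V : Y.Opens) (a b : ℤ), y ∈ V ∧
      (∀ a₀ b₀ : ℤ, DerSch.HasTorAmplitude (f ≫ q) a₀ b₀ F →
        ∃ b', ∀ y' ∈ V, DerSch.HasTorAmplitudeAt q a₀ b' F' y') ∧
      ∀ y' ∈ V, DerSch.HasTorAmplitudeAt q a b F' y' := by
  obtain ⟨S₀, hS₀, hyS, -⟩ := exists_isAffineOpen_mem_and_subset (X := S) (x := q.base y) (U := ⊤) trivial
  obtain ⟨V, hV, hyV, hle⟩ := exists_isAffineOpen_mem_and_subset (X := Y) (x := y) (U := q ⁻¹ᵁ S₀) hyS
  haveI : IsAffine (S₀ : Scheme.{u}) := hS₀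
  haveI : IsAffine (V : Scheme.{u}) := hV
  haveI : QuasiCompact (f ∣_ V) := MorphismProperty.of_isPullback (isPullback_morphismRestrict f V).flip inferInstance
  haveI : QuasiSeparated (f ∣_ V) := MorphismProperty.of_isPullback (isPullback_morphismRestrict f V).flip inferInstance
  haveI := hasRpush_scheme (f ∣_ V)
  let q' : (V : Scheme.{u}) ⟶ S₀ := q.resLE S₀ V hle
  have hq' : q' ≫ S₀.ι = V.ι ≫ q := q.resLE_comp_ι hle
  let W := f ⁻¹ᵁ V
  haveI : CompactSpace W := isCompact_iff_compactSpace.1 (f.isCompact_preimage hV.isCompact)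
  have hw : ((f ∣_ V) ≫ q') ≫ S₀.ι = W.ι ≫ f ≫ q := by
    rw [Category.assoc, hq', ← Category.assoc, morphismRestrict_ι, Category.assoc]
  have hT : ∀ (a₀ b₀ : ℤ) (v : W), DerSch.HasTorAmplitudeAt (f ≫ q) a₀ b₀ F (W.ι.base v) →
      DerSch.HasTorAmplitudeAt ((f ∣_ V) ≫ q') a₀ b₀ ((rCx W.ι).obj F) v := fun a₀ b₀ v hv => by
    refine torAmpAt_of_comp_open ((f ∣_ V) ≫ q') S₀.ι ((rCx W.ι).obj F) a₀ b₀ v ?_
    rw [hw]
    exact (torAmpAt_rCx_iff W.ι (f ≫ q) F v a₀ b₀).1 hv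
  obtain ⟨N, hN⟩ := exists_Rpush_bound (f ∣_ V)
  obtain ⟨eR⟩ := nonempty_rpush_restrictD_iso f V
  have hqW : DCoh.IsQCohD (DCoh.toD (W : Scheme.{u}) ((rCx W.ι).obj F)) :=
    isQCohD_of_iso ((rhoQ W.ι).app F) (isQCohD_rho W.ι hq)
  have key : ∀ a₀ b₀ : ℤ, DerSch.HasTorAmplitude ((f ∣_ V) ≫ q') a₀ b₀ ((rCx W.ι).obj F) →
      ∀ y' ∈ V, DerSch.HasTorAmplitudeAt q a₀ (b₀ + N) F' y' := fun a₀ b₀ h₀ y' hy' => by
    have k := hasTorAmplitude_rpush q' (f ∣_ V) N (fun M hM n hn => hN M hM n hn.le) _ hqW a₀ b₀ h₀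
      ((rCx V.ι).obj F') (((rhoQ V.ι).app F').symm ≪≫ (rho V.ι).mapIso e ≪≫ eR.app _ ≪≫
        (DCoh.Rpush (f ∣_ V)).mapIso ((rhoQ W.ι).app F))
    have hflat : DerSch.HasTorDimLE S₀.ι 0 := KSixRel.hasTorDimLE_zero_of_flat S₀.ι
    have k' := KFlatLib.hasTorAmplitude_comp q' S₀.ι 0 hflat _ a₀ (b₀ + N) k ⟨y', hy'⟩
    rw [hq'] at k'
    exact (torAmpAt_rCx_iff V.ι q F' ⟨y', hy'⟩ a₀ (b₀ + N)).2 (by simpa using k')
  have hloc : DerSch.LocFiniteTorAmplitude ((f ∣_ V) ≫ q') ((rCx W.ι).obj F) := fun v => by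
    obtain ⟨U, a, b, hvU, hU⟩ := hF (W.ι.base v)
    exact ⟨W.ι ⁻¹ᵁ U, a, b, hvU, fun v' hv' => hT a b v' (hU _ hv')⟩
  obtain ⟨a, b, -, hamp⟩ := exists_uniform_torAmp _ hloc
  exact ⟨V, a, b + N, hyV, fun a₀ b₀ h₀ => ⟨b₀ + N, key a₀ b₀ fun v => hT a₀ b₀ v (h₀ _)⟩, key a b hamp⟩

/-- The cohomology of the stalk complexes above the range of a direct image. -/
theorem shrink_rpush (q : Y ⟶ S) (F' : CochainComplex Y.Modules ℤ) {a b b' : ℤ} (y : Y)
    (hz : ∀ i, b < i → IsZero (F'.homology i)) (h : DerSch.HasTorAmplitudeAt q a b' F' y) :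
    DerSch.HasTorAmplitudeAt q a b F' y :=
  H9Misc.DRingTor.shrink h fun i hi => (((DerSch.stalkOver q y).map_isZero (hz i hi)).of_iso
    ((F'.sc i).mapHomologyIso (DerSch.stalkOver q y))).of_iso
      ((DerivedCategory.homologyFunctorFactors _ i).app _)

/-- Composition of locally finite tor dimensions. -/
theorem locFiniteTorAmplitude_of_id (f : X ⟶ Y) (hf : DerSch.LocFiniteTorDim f) (F : CochainComplex X.Modules ℤ)
    (hF : DerSch.LocFiniteTorAmplitude (𝟙 X) F) : DerSch.LocFiniteTorAmplitude f F := fun x => by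
  obtain ⟨V, a, b, hxV, hV⟩ := hF x
  obtain ⟨U, c, d, hxU, hU⟩ := hf x
  have hz : ∀ i, (0 : ℤ) < i → IsZero ((DerSch.unitCx X).homology i) := fun i hi =>
    ShortComplex.isZero_homology_of_isZero_X₂ _ (HomologicalComplex.isZero_single_obj_X (ComplexShape.up ℤ) _ _ _ (by omega))
  refine ⟨V ⊓ U, a - c.natAbs, b, ⟨hxV, hxU⟩, fun x' hx' => ?_⟩
  have h1 : DerSch.HasTorAmplitudeAt f (-(c.natAbs : ℤ)) 0 (DerSch.unitCx X) x' :=
    shrink_rpush f _ x' hz (H9Misc.DRingTor.mono (by omega) le_rfl (hU x' hx'.2))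
  have := torAmpAt_comp (𝟙 X) f c.natAbs x' h1 F a b (hV x' hx'.1)
  rwa [Category.id_comp] at this

end Groth.Agent.KExact
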