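import Groth.Agent.KExact.TorIndep
import Groth.Agent.KExact.TorPushLocal
import Groth.Agent.KExact.RelTensor
import Groth.Agent.KSixRel.AmpBaseChange

/-!
# Tor-independent base change of tor amplitude on schemes
-/

set_option autoImplicit false
set_option linter.style.haveILetI false
set_option backward.isDefEq.respectTransparency false
set_option backward.isDefEq.respectTransparency.types false

universe u

open CategoryTheory CategoryTheory.Limits AlgebraicGeometry TensorProduct MonoidalCategory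

attribute [local instance] HasDerivedCategory.standard

namespace Groth.Agent.KExact

open KFlatLib RelPC17 KSixRel

variable {X Y Y' : Scheme.{u}} (f : X ⟶ Y) (h : Y' ⟶ Y)

/-- Tor amplitude under base change, given the stalkwise extension property. -/
theorem hasTorAmplitude_baseChange_of (a b : ℤ)
    (hext : ∀ (z : ↥(pullback f h)) (Px : DRing.Cx (X.presheaf.stalk (pullback.fst f h z))),
      KFlat (curriedTensor (ModuleCat.{u} (X.presheaf.stalk (pullback.fst f h z)))) Px →
      DRing.HasTorAmplitudeIn (Y.presheaf.stalk (h (pullback.snd f h z))) a b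
        (DRing.toD ((DRing.restrictCx (KSixRel.botMap f h z).hom).obj Px)) →
      DRing.HasTorAmplitudeIn (Y'.presheaf.stalk (pullback.snd f h z)) a b
        (DRing.toD (((ModuleCat.extendScalars (h.stalkMap (pullback.snd f h z)).hom).mapHomologicalComplex
          (ComplexShape.up ℤ)).obj ((DRing.restrictCx (KSixRel.botMap f h z).hom).obj Px))))
    [DCoh.HasLpull (pullback.fst f h)] (F : CochainComplex X.Modules ℤ)
    (hF : DerSch.HasTorAmplitude f a b F) (F' : CochainComplex (pullback f h).Modules ℤ)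
    (e : DCoh.toD _ F' ≅ (DCoh.Lpull (pullback.fst f h)).obj (DCoh.toD X F)) :
    DerSch.HasTorAmplitude (pullback.snd f h) a b F' := by
  let g := pullback.fst f h
  let P := (kRes X).obj F
  haveI := (flatCover X).quasiIso_ψ F
  haveI := isIso_Q_map ((flatCover X).ψ.app F) inferInstance
  let eP : DCoh.toD X P ≅ DCoh.toD X F := asIso (DerivedCategory.Q.map ((flatCover X).ψ.app F))
  have hP := hasTorAmplitude_of_iso f eP.symm hF
  refine hasTorAmplitude_of_iso (pullback.snd f h) (F := (pullCx g).obj P)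
    ((lpullIso g (isKFlat_kRes F)).symm ≪≫ (DCoh.Lpull g).mapIso eP ≪≫ e.symm) fun z => ?_
  let x := g z
  let y := pullback.snd f h z
  let α : Y.presheaf.stalk (h y) ⟶ Y.presheaf.stalk (f x) := Y.presheaf.stalkSpecializes (specializes_of_eq
    (congr($((pullback.condition (f := f) (g := h))) z) : f x = h y))
  haveI : IsIso α := by
    refine ⟨Y.presheaf.stalkSpecializes (specializes_of_eq
      (congr($((pullback.condition (f := f) (g := h))) z) : f x = h y).symm), ?_, ?_⟩ <;> simp [α]
  let ψ := botMap f h z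
  let am := h.stalkMap y
  let inl := pushout.inl am ψ
  let inr := pushout.inr am ψ
  let σ := pushoutToStalk f h z
  let Px := (stalkCx x).obj P
  have h₁ : DRing.HasTorAmplitudeIn (Y.presheaf.stalk (h y)) a b
      (DRing.toD ((DRing.restrictCx ψ.hom).obj Px)) := by
    letI := α.hom.toAlgebra
    haveI : Module.Flat (Y.presheaf.stalk (h y)) (Y.presheaf.stalk (f x)) :=
      RingHom.Flat.of_bijective (f := α.hom) (ConcreteCategory.bijective_of_isIso α)
    obtain ⟨E, hv, hf, ⟨eE⟩⟩ := amp_restrict_of_flat (A := Y.presheaf.stalk (h y)) _ (hP x)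
    exact ⟨E, hv, hf, ⟨eE ≪≫ (ModuleCat.restrictScalars α.hom).mapDerivedCategoryFactors.app _ ≪≫
      DerivedCategory.Q.mapIso
        ((Functor.mapHomologicalComplexCompIso (F := DerSch.stalkOver f x) (G := ModuleCat.restrictScalars α.hom)
          (Iso.refl (DerSch.stalkOver f x ⋙ ModuleCat.restrictScalars α.hom)) (ComplexShape.up ℤ)).app P ≪≫
        ((Functor.mapHomologicalComplexCompIso (F := DerSch.stalkFunctor X x) (G := ModuleCat.restrictScalars ψ.hom)
          (Functor.isoWhiskerLeft _ (ModuleCat.restrictScalarsComp' α.hom (f.stalkMap x).hom ψ.hom rfl) ≪≫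
            (Functor.associator _ _ _).symm) (ComplexShape.up ℤ)).app P).symm)⟩⟩
  have hsqm : inr.hom.comp ψ.hom = inl.hom.comp am.hom :=
    (congrArg CommRingCat.Hom.hom (pushout.condition (f := am) (g := ψ))).symm
  have h₂ := hext z Px ((kFlat_iff_stalk P).1 (isKFlat_kRes F) x) h₁
  haveI := fun M => isIso_sqCmp_of_isPushout (IsPushout.of_hasPushout am ψ) hsqm M
  let P₁ := ((ModuleCat.extendScalars inr.hom).mapHomologicalComplex (ComplexShape.up ℤ)).obj Px
  let θ : ((ModuleCat.extendScalars am.hom).mapHomologicalComplex (ComplexShape.up ℤ)).obj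
        ((DRing.restrictCx ψ.hom).obj Px) ≅ (DRing.restrictCx inl.hom).obj P₁ :=
    HomologicalComplex.Hom.isoOfComponents (fun n => asIso (sqCmp ψ.hom am.hom inr.hom inl.hom hsqm (Px.X n)))
      fun i j _ => (sqCmp_natural ψ.hom am.hom inr.hom inl.hom hsqm (Px.d i j)).symm
  obtain ⟨E₂, hv₂, hf₂, ⟨e₂⟩⟩ := h₂
  have h₃ : DRing.HasTorAmplitudeIn (Y'.presheaf.stalk y) a b (DRing.toD ((DRing.restrictCx inl.hom).obj P₁)) :=
    ⟨E₂, hv₂, hf₂, ⟨e₂ ≪≫ DerivedCategory.Q.mapIso θ⟩⟩
  have hC : DRing.HasTorAmplitudeIn (pushout am ψ : CommRingCat.{u}) (-0) 0 (DerivedCategory.Q.obj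
      ((HomologicalComplex.single (ModuleCat.{u} (pushout am ψ : CommRingCat.{u})) (ComplexShape.up ℤ) 0).obj
        ((ModuleCat.restrictScalars σ.hom).obj (ModuleCat.of _ ((pullback f h).presheaf.stalk z))))) := by
    refine ⟨_, fun i hi => HomologicalComplex.isZero_single_obj_X _ 0 _ i (by omega), fun i => ?_, ⟨Iso.refl _⟩⟩
    by_cases hi : i = 0
    · subst hi
      refine (Module.Flat.equiv_iff (HomologicalComplex.singleObjXSelf (ComplexShape.up ℤ) 0
        ((ModuleCat.restrictScalars σ.hom).obj (ModuleCat.of _ ((pullback f h).presheaf.stalk z)))).toLinearEquiv).2 ?_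
      exact flat_pushoutToStalk f h z
    · have : Subsingleton (((HomologicalComplex.single (ModuleCat.{u} (pushout am ψ : CommRingCat.{u}))
          (ComplexShape.up ℤ) 0).obj
          ((ModuleCat.restrictScalars σ.hom).obj (ModuleCat.of _ ((pullback f h).presheaf.stalk z)))).X i) :=
        ModuleCat.subsingleton_of_isZero (HomologicalComplex.isZero_single_obj_X _ 0 _ i hi)
      infer_instance
  obtain ⟨E, hv, hf, ⟨eE⟩⟩ := amp_extend inl.hom σ.hom P₁
    (kFlat_extendScalars inr.hom ((kFlat_iff_stalk P).1 (isKFlat_kRes F) x)) 0 a b hC h₃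
  have hl : σ.hom.comp inl.hom = ((pullback.snd f h).stalkMap z).hom :=
    congrArg CommRingCat.Hom.hom (pushout.inl_desc _ _ (botMap_comm f h z).symm)
  have hr : (g.stalkMap z).hom = σ.hom.comp inr.hom :=
    (congrArg CommRingCat.Hom.hom (pushout.inr_desc _ _ (botMap_comm f h z).symm)).symm
  let w : ModuleCat.extendScalars (g.stalkMap z).hom ≅
      ModuleCat.extendScalars inr.hom ⋙ ModuleCat.extendScalars σ.hom :=
    eqToIso (congrArg ModuleCat.extendScalars hr) ≪≫ ModuleCat.extendScalarsComp inr.hom σ.hom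
  let u : DerSch.stalkOver (pullback.snd f h) z ≅
      DerSch.stalkFunctor _ z ⋙ ModuleCat.restrictScalars (σ.hom.comp inl.hom) :=
    Functor.isoWhiskerLeft _ (eqToIso (congrArg ModuleCat.restrictScalars hl.symm))
  refine ⟨E, fun i hi => hv i (by omega), hf, ⟨eE ≪≫ DerivedCategory.Q.mapIso
    (((ModuleCat.restrictScalars (σ.hom.comp inl.hom)).mapHomologicalComplex (ComplexShape.up ℤ)).mapIso
      ((Functor.mapHomologicalComplexCompIso (F := ModuleCat.extendScalars inr.hom)
          (G := ModuleCat.extendScalars σ.hom) w.symm (ComplexShape.up ℤ)).app Px ≪≫ (stalkPullCxIso g z P).symm) ≪≫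
      (Functor.mapHomologicalComplexCompIso (F := DerSch.stalkFunctor (pullback f h) z)
        (G := ModuleCat.restrictScalars (σ.hom.comp inl.hom)) u.symm (ComplexShape.up ℤ)).app _)⟩⟩

/-- Flat maps of local rings from flat morphisms, with the base point up to equality. -/
theorem flat_botMap {A B C : Scheme.{u}} (g : A ⟶ C) (w : B ⟶ C) [Flat g] (z : ↥(pullback g w)) :
    (botMap g w z).hom.Flat := by
  unfold botMap
  rw [CommRingCat.hom_comp]
  exact RingHom.Flat.comp (RingHom.Flat.of_bijective (ConcreteCategory.bijective_of_isIso (C :=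
    CommRingCat.{u}) (C.presheaf.stalkCongr (Inseparable.of_eq
      (congr($((pullback.condition (f := g) (g := w))) z) :
        g (pullback.fst g w z) = w (pullback.snd g w z))).symm).hom)) (Flat.stalkMap g _)

variable {S T : Scheme.{u}}

/-- Base change of `f₂` to `Y₂ ×_S T`, when source and target are flat over `S`. -/
theorem hasTorAmplitude_baseChange_over (f₂ : X ⟶ Y) (q₂ : Y ⟶ S) (t : T ⟶ S) [Flat q₂] [Flat (f₂ ≫ q₂)]
    [DCoh.HasLpull (pullback.fst f₂ (pullback.fst q₂ t))] (F : CochainComplex X.Modules ℤ) (a b : ℤ)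
    (hF : DerSch.HasTorAmplitude f₂ a b F)
    (F' : CochainComplex (pullback f₂ (pullback.fst q₂ t)).Modules ℤ)
    (e : DCoh.toD _ F' ≅ (DCoh.Lpull (pullback.fst f₂ (pullback.fst q₂ t))).obj (DCoh.toD X F)) :
    DerSch.HasTorAmplitude (pullback.snd f₂ (pullback.fst q₂ t)) a b F' := by
  refine hasTorAmplitude_baseChange_of f₂ (pullback.fst q₂ t) a b (fun z Px hPx hA => ?_) F hF F' e
  let w := pullback.snd f₂ (pullback.fst q₂ t) z
  let ψ := botMap q₂ t w
  let am := t.stalkMap (pullback.snd q₂ t w)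
  let β := botMap f₂ (pullback.fst q₂ t) z
  have hc : (ψ ≫ β).hom.Flat := by
    have e1 : ψ ≫ β = S.presheaf.stalkSpecializes (specializes_of_eq
        ((congrArg q₂ (congr($((pullback.condition (f := f₂) (g := pullback.fst q₂ t))) z) :
            f₂ (pullback.fst f₂ (pullback.fst q₂ t) z) = pullback.fst q₂ t w)).trans
          (congr($((pullback.condition (f := q₂) (g := t))) w) :
            q₂ (pullback.fst q₂ t w) = t (pullback.snd q₂ t w)))) ≫
        (f₂ ≫ q₂).stalkMap (pullback.fst f₂ (pullback.fst q₂ t) z) := by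
      simp only [ψ, β, botMap, Category.assoc, Scheme.Hom.stalkMap_comp]
      rw [← Scheme.Hom.stalkSpecializes_stalkMap_assoc q₂]
      rw [← Category.assoc, TopCat.Presheaf.stalkSpecializes_comp]
    rw [e1, CommRingCat.hom_comp]
    exact RingHom.Flat.comp (RingHom.Flat.of_bijective (ConcreteCategory.bijective_of_isIso (C :=
      CommRingCat.{u}) (S.presheaf.stalkCongr (Inseparable.of_eq
        ((congrArg q₂ (congr($((pullback.condition (f := f₂) (g := pullback.fst q₂ t))) z) :
            f₂ (pullback.fst f₂ (pullback.fst q₂ t) z) = pullback.fst q₂ t w)).trans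
          (congr($((pullback.condition (f := q₂) (g := t))) w) :
            q₂ (pullback.fst q₂ t w) = t (pullback.snd q₂ t w)))).symm).hom)) (Flat.stalkMap (f₂ ≫ q₂) _)
  let K := (DRing.restrictCx β.hom).obj Px
  have hK : KFlat (curriedTensor (ModuleCat.{u} (S.presheaf.stalk (t (pullback.snd q₂ t w)))))
      (((ModuleCat.restrictScalars ψ.hom).mapHomologicalComplex (ComplexShape.up ℤ)).obj K) :=
    KFlat.of_iso ((Functor.mapHomologicalComplexCompIso (F := ModuleCat.restrictScalars β.hom)
        (G := ModuleCat.restrictScalars ψ.hom)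
        (ModuleCat.restrictScalarsComp' ψ.hom β.hom (ψ ≫ β).hom (CommRingCat.hom_comp ψ β)).symm
        (ComplexShape.up ℤ)).app Px).symm (kFlat_restrictScalars (ψ ≫ β).hom hc hPx)
  let inr := pushout.inr am ψ
  let σ := pushoutToStalk q₂ t w
  obtain ⟨E, hv, hf, ⟨eE⟩⟩ := amp_extend_flat σ.hom (flat_pushoutToStalk q₂ t w) a b _
    (amp_extend_pushout (IsPushout.of_hasPushout am ψ) (flat_botMap q₂ t w) K hK a b hA)
  have hr : ((pullback.fst q₂ t).stalkMap w).hom = σ.hom.comp inr.hom :=
    (congrArg CommRingCat.Hom.hom (pushout.inr_desc _ _ (botMap_comm q₂ t w).symm)).symm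
  refine ⟨E, hv, hf, ⟨eE ≪≫ DerivedCategory.Q.mapIso
    ((Functor.mapHomologicalComplexCompIso (F := ModuleCat.extendScalars inr.hom)
      (G := ModuleCat.extendScalars σ.hom)
      (eqToIso (congrArg ModuleCat.extendScalars hr) ≪≫ ModuleCat.extendScalarsComp inr.hom σ.hom).symm
      (ComplexShape.up ℤ)).app K)⟩⟩

/-- Stalkwise tor amplitude and isomorphisms of the source. -/
theorem hasTorAmplitude_iso_source {X' Z : Scheme.{u}} (e : X' ≅ X) (g : X ⟶ Z) (a b : ℤ)
    (F : CochainComplex X.Modules ℤ) (F' : CochainComplex X'.Modules ℤ) [DCoh.HasLpull e.hom]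
    (eF : DCoh.toD X' F' ≅ (DCoh.Lpull e.hom).obj (DCoh.toD X F)) (h' : DerSch.HasTorAmplitude g a b F) :
    DerSch.HasTorAmplitude (e.hom ≫ g) a b F' := fun v => by
  obtain ⟨q⟩ := nonempty_rho_iso_lpull e.hom
  exact RelPC17.hasTorAmplitudeAt_of_iso _ (((rhoQ e.hom).app F).symm ≪≫ q.app _ ≪≫ eF.symm)
    ((torAmpAt_rCx_iff e.hom g F v a b).1 (h' _))

/-- Tor amplitude and pullback squares. -/
theorem hasTorAmplitude_of_isPullback {W : Scheme.{u}} (p : W ⟶ X) (g : W ⟶ Y')
    (sq : IsPullback p g f h) [DCoh.HasLpull p] (a b : ℤ)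
    (hbc : ∀ [DCoh.HasLpull (pullback.fst f h)] (F' : CochainComplex (pullback f h).Modules ℤ) (F : CochainComplex X.Modules ℤ)
      (_ : DCoh.toD _ F' ≅ (DCoh.Lpull (pullback.fst f h)).obj (DCoh.toD X F)),
      DerSch.HasTorAmplitude f a b F → DerSch.HasTorAmplitude (pullback.snd f h) a b F')
    (F : CochainComplex X.Modules ℤ) (hF : DerSch.HasTorAmplitude f a b F)
    (G : CochainComplex W.Modules ℤ) (e : DCoh.toD W G ≅ (DCoh.Lpull p).obj (DCoh.toD X F)) :
    DerSch.HasTorAmplitude g a b G := by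
  haveI := hasLpull (pullback.fst f h)
  haveI := hasLpull sq.isoPullback.hom
  haveI := hasLpull (sq.isoPullback.hom ≫ pullback.fst f h)
  let L := (DCoh.Lpull (pullback.fst f h)).obj (DCoh.toD X F)
  let eF' : DCoh.toD _ (DerivedCategory.Q.objPreimage L) ≅ L := DerivedCategory.Q.objObjPreimageIso L
  obtain ⟨c⟩ := nonempty_lpull_comp sq.isoPullback.hom (pullback.fst f h)
  obtain ⟨c'⟩ := nonempty_lpull_congr sq.isoPullback_hom_fst (DCoh.toD X F)
  have := hasTorAmplitude_iso_source sq.isoPullback (pullback.snd f h) a b _ G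
    (e ≪≫ c'.symm ≪≫ (c.app _).symm ≪≫ (DCoh.Lpull sq.isoPullback.hom).mapIso eF'.symm) (hbc _ F eF' hF)
  rwa [sq.isoPullback_hom_snd] at this

end Groth.Agent.KExact
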