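import Groth.Agent.KSixRel.AmpTerms
import Groth.Agent.KExact.ExternalPC
import Groth.Agent.KExact.TorIndepSch
import Groth.Agent.H9Misc.DRingTor

/-!
# Representatives of objects of finite tor amplitude over the base, along a flat morphism
-/

set_option autoImplicit false
set_option linter.style.haveILetI false
set_option backward.isDefEq.respectTransparency false
set_option backward.isDefEq.respectTransparency.types false

universe u

open CategoryTheory CategoryTheory.Limits AlgebraicGeometry

attribute [local instance] HasDerivedCategory.standard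

namespace Groth.Agent.KExact

open KFlatLib

/-- Along a flat morphism, tor amplitude over the base is realised by terms flat over the base. -/
theorem hasRelFlatAmplitudeIn_of_torAmp {X S : Scheme.{u}} (f : X ⟶ S) [Flat f] (F : CochainComplex X.Modules ℤ)
    (a b : ℤ) (hF : DerSch.HasTorAmplitude f a b F) : DCoh.HasRelFlatAmplitudeIn f a b (DCoh.toD X F) := by
  have hz : ∀ i, (i < a ∨ b < i) → IsZero (F.homology i) := fun i hi =>
    (isZero_hd_of_torAmp f hF i hi).of_iso ((DerivedCategory.homologyFunctorFactors X.Modules i).app F).symm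
  obtain ⟨P, ψ, hψ, hflat, hPb⟩ := (flatCover X).exists_bounded_resolution F b fun m hm => hz m (Or.inr hm)
  haveI := hψ
  haveI := isIso_Q_map ψ inferInstance
  have hP : DerSch.HasTorAmplitude f a b P :=
    hasTorAmplitude_of_iso f (asIso (DerivedCategory.Q.map ψ)).symm hF
  have hfo : ∀ n, FlatMod.IsFlatOver f (P.X n) := fun n x => by
    rw [KSixRel.flat_stalkOver]
    letI := (f.stalkMap x).hom.toAlgebra
    haveI : Module.Flat (S.presheaf.stalk (f.base x)) (X.presheaf.stalk x) := Flat.stalkMap f x
    exact RelPC17.flat_restrictScalars ((DerSch.stalkFunctor X x).obj (P.X n)) (hflat n x)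
  haveI : P.IsGE a := (CochainComplex.isGE_iff P a).2 fun i hi =>
    (HomologicalComplex.exactAt_iff_isZero_homology _ i).2 ((hz i (Or.inl hi)).of_iso (isoOfQuasiIsoAt ψ i))
  haveI : CochainComplex.IsStrictlyLE P b := (CochainComplex.isStrictlyLE_iff _ _).2 hPb
  let C := P.truncGE a
  haveI : QuasiIso (P.πTruncGE a) := (P.quasiIso_πTruncGE_iff a).2 inferInstance
  haveI := isIso_Q_map (P.πTruncGE a) inferInstance
  refine ⟨C, ?_, fun n => ?_, ⟨(asIso (DerivedCategory.Q.map (P.πTruncGE a))).symm ≪≫
    asIso (DerivedCategory.Q.map ψ)⟩⟩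
  · rintro i (hi | hi)
    · exact CochainComplex.isZero_of_isStrictlyGE C a i hi
    · exact CochainComplex.isZero_of_isStrictlyLE C b i hi
  intro x
  rw [KSixRel.flat_stalkOver]
  rcases lt_trichotomy n a with hn | rfl | hn
  · haveI : Subsingleton ((DerSch.stalkOver f x).obj (C.X n)) := ModuleCat.subsingleton_of_isZero
      ((DerSch.stalkOver f x).map_isZero (CochainComplex.isZero_of_isStrictlyGE C a n hn))
    infer_instance
  · let Px := (DerSch.stalkCxOver f x).obj P
    have hflatx : ∀ i, Module.Flat (S.presheaf.stalk (f.base x)) (Px.X i) := fun i =>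
      (KSixRel.flat_stalkOver f _ x).1 (hfo i x)
    have hK : H9Misc.DRingLTensor.IsKF Px :=
      H9Misc.DRingTor.isKF_of_flat hflatx fun i hi => (DerSch.stalkOver f x).map_isZero (hPb i hi)
    have hvan := (H9Misc.DRingTor.iff_van hK (Iso.refl _)).1 (hP x)
    have hop : Module.Flat (S.presheaf.stalk (f.base x)) (Px.opcycles n) :=
      H9Misc.DRingTor.flat_opcycles hflatx n fun M => hvan M (n - 1) (Or.inl (by omega))
    exact (Module.Flat.equiv_iff ((DerSch.stalkOver f x).mapIso (P.truncGEXIsoOpcycles n) ≪≫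
      ((P.sc n).mapOpcyclesIso (DerSch.stalkOver f x)).symm).toLinearEquiv).2 hop
  · exact (Module.Flat.equiv_iff ((DerSch.stalkOver f x).mapIso (P.truncGEXIso a n hn)).toLinearEquiv).2
      ((KSixRel.flat_stalkOver f _ x).1 (hfo n x))

/-- Base change of relative flat amplitude along flat morphisms. -/
theorem hasRelFlatAmplitudeIn_baseChange {X Y Y' : Scheme.{u}} (f : X ⟶ Y) [Flat f] (h : Y' ⟶ Y)
    [DCoh.HasLpull (pullback.fst f h)] (E : DCoh.D X) (a b : ℤ) (hE : DCoh.HasRelFlatAmplitudeIn f a b E) :
    DCoh.HasRelFlatAmplitudeIn (pullback.snd f h) a b ((DCoh.Lpull (pullback.fst f h)).obj E) := by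
  obtain ⟨C, hv, hfl, ⟨e⟩⟩ := hE
  haveI : Flat (pullback.snd f h) := MorphismProperty.pullback_snd f h inferInstance
  let L := (DCoh.Lpull (pullback.fst f h)).obj (DCoh.toD X C)
  let F' := DerivedCategory.Q.objPreimage L
  let eF : DCoh.toD _ F' ≅ L := DerivedCategory.Q.objObjPreimageIso L
  have hF' := hasTorAmplitude_baseChange_of f h a b (fun z Px hPx hA =>
    amp_extend_pushout (a := h.stalkMap (pullback.snd f h z)) (ψ := 𝟙 _) (inl := 𝟙 _)
      (inr := h.stalkMap (pullback.snd f h z))
      (IsPushout.of_vert_isIso (CommSq.mk (by rw [Category.comp_id, Category.id_comp])))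
      (RingHom.Flat.id _) ((DRing.restrictCx (KSixRel.botMap f h z).hom).obj Px)
      (KFlat.of_iso ((Functor.mapHomologicalComplexCompIso (F := ModuleCat.restrictScalars (KSixRel.botMap f h z).hom)
          (G := ModuleCat.restrictScalars (RingHom.id _))
          (ModuleCat.restrictScalarsComp' (RingHom.id _) (KSixRel.botMap f h z).hom (KSixRel.botMap f h z).hom
            (RingHom.comp_id _).symm).symm (ComplexShape.up ℤ)).app Px).symm
        (kFlat_restrictScalars _ (flat_botMap f h z) hPx)) a b hA)
    C (KSixRel.hasTorAmplitude_of_flat_terms f C a b hv hfl) F' eF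
  obtain ⟨D, hv', hfl', ⟨e'⟩⟩ := hasRelFlatAmplitudeIn_of_torAmp (pullback.snd f h) F' a b hF'
  exact ⟨D, hv', hfl', ⟨e' ≪≫ eF ≪≫ (DCoh.Lpull _).mapIso e⟩⟩

end Groth.Agent.KExact
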