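import Groth.Agent.KExact.ViaApp
import Groth.Agent.KExact.FlatRep

/-!
# Relative flat amplitude from charts
-/

set_option autoImplicit false
set_option linter.style.haveILetI false
set_option linter.unusedSectionVars false
set_option linter.unusedVariables false
set_option backward.isDefEq.respectTransparency false
set_option backward.isDefEq.respectTransparency.types false

universe u

open CategoryTheory CategoryTheory.Limits AlgebraicGeometry

attribute [local instance] HasDerivedCategory.standard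

namespace Groth.Agent.KExact.ViaAmp

open KFlatLib KFlatLib.RelTor

/-- Tor amplitude over the base is realised on an affine piece. -/
theorem relAmp_tilde_of_torAmp {R A : Type u} [CommRing R] [CommRing A] [Algebra R A] [Module.Flat R A]
    [PreservesFiniteLimits (tilde.functor (CommRingCat.of A))]
    (M : Dual.D A) (a b₀ : ℤ) (hab : a ≤ b₀) [M.IsLE b₀] (b : ℤ)
    (h : DRing.HasTorAmplitudeIn R a b ((DRing.restrictD (algebraMap R A)).obj M)) :
    DCoh.HasRelFlatAmplitudeIn (Spec.map (CommRingCat.ofHom (algebraMap R A))) a b₀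
      ((DCoh.tildeD (CommRingCat.of A)).obj M) := by
  let K₀ := DerivedCategory.Q.objPreimage M
  let eK : DerivedCategory.Q.obj K₀ ≅ M := DerivedCategory.Q.objObjPreimageIso M
  have hK0 : ∀ m, b₀ < m → IsZero (K₀.homology m) := fun m hm =>
    ((DerivedCategory.isZero_of_isLE M b₀ m hm).of_iso
      (((DerivedCategory.homologyFunctorFactors (ModuleCat.{u} A) m).app K₀).symm ≪≫
        (DerivedCategory.homologyFunctor (ModuleCat.{u} A) m).mapIso eK))
  obtain ⟨P, ψ, hψ, hflat, hPb⟩ := (ringCover (CommRingCat.of A)).exists_bounded_resolution K₀ b₀ hK0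
  haveI := hψ
  let eP : DRing.toD P ≅ M := asIso (DerivedCategory.Q.map ψ) ≪≫ eK
  let res := ModuleCat.restrictScalars.{u} (algebraMap R A)
  have hPR : ∀ i, Module.Flat R (res.obj (P.X i)) := fun i => by
    haveI : Module.Flat A (P.X i) := hflat i
    letI : Module R (P.X i) := Module.compHom _ (algebraMap R A)
    haveI : IsScalarTower R A (P.X i) := IsScalarTower.of_algebraMap_smul fun _ _ => rfl
    exact Module.Flat.trans R A (P.X i)
  have hbR : DRing.VanishesAbove ((res.mapHomologicalComplex (ComplexShape.up ℤ)).obj P) b₀ :=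
    fun i hi => res.map_isZero (hPb i hi)
  have hkf := H9Misc.DRingTor.isKF_of_flat (E := (res.mapHomologicalComplex (ComplexShape.up ℤ)).obj P) hPR hbR
  have hv := (H9Misc.DRingTor.iff_van hkf
    ((res.mapDerivedCategoryFactors.app P).symm ≪≫ res.mapDerivedCategory.mapIso eP)).1 h
  have hC₀ := H9Misc.DRingTor.flat_opcycles (P := (res.mapHomologicalComplex (ComplexShape.up ℤ)).obj P) hPR a
    fun N => hv N (a - 1) (Or.inl (by omega))
  let R₁ := (res.mapHomologicalComplex (ComplexShape.up ℤ)).obj P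
  let ε : res.obj (P.opcycles a) ≅ R₁.opcycles a :=
    (res.mapIso ((cokernelIsCokernel (P.d (a - 1) a)).coconePointUniqueUpToIso
        (P.opcyclesIsCokernel (a - 1) a (by simp)))).symm ≪≫
      PreservesCokernel.iso res (P.d (a - 1) a) ≪≫
      (cokernelIsCokernel (R₁.d (a - 1) a)).coconePointUniqueUpToIso
        (R₁.opcyclesIsCokernel (a - 1) a (by simp))
  have hC : Module.Flat R (res.obj (P.opcycles a)) :=
    (Module.Flat.equiv_iff ε.toLinearEquiv).2 hC₀
  haveI : P.IsGE a := (CochainComplex.isGE_iff P a).2 fun i hi =>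
    (ShortComplex.exact_map_iff_of_faithful _ res).1 (hv.exactAt (Or.inl hi))
  haveI : CochainComplex.IsStrictlyLE P b₀ := (CochainComplex.isStrictlyLE_iff _ _).2 hPb
  haveI : QuasiIso (P.πTruncGE a) := (P.quasiIso_πTruncGE_iff a).2 inferInstance
  haveI : IsIso (DerivedCategory.Q.map (P.πTruncGE a)) := (DerivedCategory.isIso_Q_map_iff_quasiIso (ModuleCat.{u} A) _).2 inferInstance
  refine relAmp_tilde (R := R) (P.truncGE a) a b₀ (fun i hi => ?_) (fun i => ?_)
    ((asIso (DerivedCategory.Q.map (P.πTruncGE a))).symm ≪≫ eP)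
  · rcases hi with hi | hi
    · exact CochainComplex.isZero_of_isStrictlyGE _ a i hi
    · exact CochainComplex.isZero_of_isStrictlyLE _ b₀ i hi
  · rcases lt_trichotomy i a with hn | rfl | hn
    · haveI := ModuleCat.subsingleton_of_isZero (res.map_isZero
        (CochainComplex.isZero_of_isStrictlyGE (P.truncGE a) a i hn))
      infer_instance
    · exact (Module.Flat.equiv_iff (res.mapIso (P.truncGEXIsoOpcycles i)).toLinearEquiv).2 hC
    · exact (Module.Flat.equiv_iff (res.mapIso (P.truncGEXIso a i hn)).toLinearEquiv).2 (hPR _)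

variable {X S : Scheme.{u}} (f : X ⟶ S)

/-- Flatness of the cokernel at a point from amplitude near the point. -/
theorem isFlatOverAt_opcycles {P : CochainComplex X.Modules ℤ} (b₀ : ℤ) (hb : ∀ i, b₀ < i → IsZero (P.X i))
    (hP : ∀ i, FlatMod.IsFlatOver f (P.X i))
    {U : Scheme.{u}} (k : U ⟶ X) [IsOpenImmersion k] {a b : ℤ}
    (h : DCoh.HasRelFlatAmplitudeIn (k ≫ f) a b ((rho k).obj (DCoh.toD X P)))
    (c : ℤ) (hc : c ≤ a) (v : U) : FlatMod.IsFlatOverAt f (P.opcycles c) (k.base v) := by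
  obtain ⟨E, hz, hf, ⟨e⟩⟩ := h
  let Φ := DerSch.stalkOver (k ≫ f) v
  haveI : PreservesFiniteLimits Φ := Functor.preservesFiniteLimits_of_preservesHomology Φ
  haveI : PreservesFiniteColimits Φ := Functor.preservesFiniteColimits_of_preservesHomology Φ
  let P' := (rCx k).obj P
  let Q₁ := (Φ.mapHomologicalComplex (ComplexShape.up ℤ)).obj P'
  let e₁ : DerivedCategory.Q.obj E ≅ DerivedCategory.Q.obj P' := e ≪≫ (rhoQ k).app P
  let e₂ : DerivedCategory.Q.obj ((Φ.mapHomologicalComplex (ComplexShape.up ℤ)).obj E) ≅ DerivedCategory.Q.obj Q₁ :=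
    (Φ.mapDerivedCategoryFactors.app E).symm ≪≫ Φ.mapDerivedCategory.mapIso e₁ ≪≫ Φ.mapDerivedCategoryFactors.app P'
  have hflat : ∀ i, Module.Flat (S.presheaf.stalk ((k ≫ f).base v)) (Q₁.X i) := fun i =>
    (flatOverAt_iff _ _ _).1 ((flatOverAt_restrict_iff k f _ v).1 (hP i _))
  have hQb : DRing.VanishesAbove Q₁ b₀ := fun i hi => Φ.map_isZero
    ((Scheme.Modules.restrictFunctor k).map_isZero (hb i hi))
  have hamp : DRing.HasTorAmplitudeIn _ a b (DerivedCategory.Q.obj Q₁) :=
    ⟨(Φ.mapHomologicalComplex (ComplexShape.up ℤ)).obj E, fun i hi => Φ.map_isZero (hz i hi),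
      fun i => (flatOverAt_iff _ _ _).1 (hf i v), ⟨e₂⟩⟩
  have hv := (H9Misc.DRingTor.iff_van (H9Misc.DRingTor.isKF_of_flat hflat hQb) (Iso.refl _)).1 hamp
  have hC := H9Misc.DRingTor.flat_opcycles hflat c fun M => hv M (c - 1) (Or.inl (by omega))
  refine (flatOverAt_restrict_iff k f _ v).2 ((flatOverAt_iff _ _ _).2 ?_)
  let Ψ := Scheme.Modules.restrictFunctor k ⋙ Φ
  haveI : PreservesFiniteColimits (Scheme.Modules.restrictFunctor k) := ⟨fun _ => inferInstance⟩
  haveI : PreservesFiniteColimits Ψ := comp_preservesFiniteColimits _ _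
  let ε : Ψ.obj (P.opcycles c) ≅ Q₁.opcycles c :=
    (Ψ.mapIso ((cokernelIsCokernel (P.d (c - 1) c)).coconePointUniqueUpToIso
        (P.opcyclesIsCokernel (c - 1) c (by simp)))).symm ≪≫
      PreservesCokernel.iso Ψ (P.d (c - 1) c) ≪≫
      (cokernelIsCokernel (Q₁.d (c - 1) c)).coconePointUniqueUpToIso
        (Q₁.opcyclesIsCokernel (c - 1) c (by simp))
  exact (Module.Flat.equiv_iff ε.toLinearEquiv).2 hC

/-- Amplitude is local. -/
theorem relAmp_of_local [Flat f] (M : DCoh.D X) (a b : ℤ)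
    (hz : ∀ i, (i < a ∨ b < i) → IsZero (DCoh.HD M i))
    (hloc : ∀ x : X, ∃ (U : Scheme.{u}) (k : U ⟶ X) (_ : IsOpenImmersion k) (a' b' : ℤ),
      x ∈ Set.range k.base ∧ a ≤ a' ∧ DCoh.HasRelFlatAmplitudeIn (k ≫ f) a' b' ((rho k).obj M)) :
    DCoh.HasRelFlatAmplitudeIn f a b M := by
  let F := DerivedCategory.Q.objPreimage M
  let eF : DCoh.toD X F ≅ M := DerivedCategory.Q.objObjPreimageIso M
  have hz' : ∀ i, (i < a ∨ b < i) → IsZero (F.homology i) := fun i hi =>
    (hz i hi).of_iso (((DerivedCategory.homologyFunctorFactors X.Modules i).app F).symm ≪≫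
      (DerivedCategory.homologyFunctor _ i).mapIso eF)
  obtain ⟨P, ψ, hψ, hflat, hPb⟩ := (flatCover X).exists_bounded_resolution F b fun m hm => hz' m (Or.inr hm)
  haveI := hψ
  haveI := isIso_Q_map ψ inferInstance
  let eP : DCoh.toD X P ≅ M := asIso (DerivedCategory.Q.map ψ) ≪≫ eF
  have hfo : ∀ n, FlatMod.IsFlatOver f (P.X n) := fun n x => by
    rw [KSixRel.flat_stalkOver]
    letI := (f.stalkMap x).hom.toAlgebra
    haveI : Module.Flat (S.presheaf.stalk (f.base x)) (X.presheaf.stalk x) := Flat.stalkMap f x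
    exact RelPC17.flat_restrictScalars ((DerSch.stalkFunctor X x).obj (P.X n)) (hflat n x)
  haveI : P.IsGE a := (CochainComplex.isGE_iff P a).2 fun i hi =>
    (HomologicalComplex.exactAt_iff_isZero_homology _ i).2 ((hz' i (Or.inl hi)).of_iso (isoOfQuasiIsoAt ψ i))
  haveI : CochainComplex.IsStrictlyLE P b := (CochainComplex.isStrictlyLE_iff _ _).2 hPb
  haveI : QuasiIso (P.πTruncGE a) := (P.quasiIso_πTruncGE_iff a).2 inferInstance
  haveI := isIso_Q_map (P.πTruncGE a) inferInstance
  refine ⟨P.truncGE a, ?_, fun n => ?_, ⟨(asIso (DerivedCategory.Q.map (P.πTruncGE a))).symm ≪≫ eP⟩⟩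
  · rintro i (hi | hi)
    · exact CochainComplex.isZero_of_isStrictlyGE _ a i hi
    · exact CochainComplex.isZero_of_isStrictlyLE _ b i hi
  rcases lt_trichotomy n a with hn | rfl | hn
  · exact isFlatOver_of_isZero f (CochainComplex.isZero_of_isStrictlyGE _ a n hn)
  · intro x
    refine flatOverAt_of_iso (P.truncGEXIsoOpcycles n).symm ?_
    obtain ⟨U, k, hk, a', b', ⟨v, rfl⟩, ha, hamp⟩ := hloc x
    haveI := hk
    exact isFlatOverAt_opcycles f b hPb hfo k
      (relAmp_of_iso ((rho k).mapIso eP.symm) hamp) n ha v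
  · exact isFlatOver_of_iso' f (P.truncGEXIso a n hn).symm (hfo n)

end Groth.Agent.KExact.ViaAmp
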