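import Groth.Agent.KExact.A1Shriek
import Groth.Agent.H23.P1Charts
import Groth.Agent.H23.MultiP1.Basic
import Groth.Agent.S1243
import Groth.Agent.KFlatLib.Scheme.CohD
import Groth.Agent.ZClosLib.CohDescent

/-!
# `f^!` preserves bounded below coherent objects
-/

set_option autoImplicit false
set_option linter.style.haveILetI false
set_option linter.unusedSectionVars false
set_option backward.isDefEq.respectTransparency false
set_option backward.isDefEq.respectTransparency.types false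

universe u

open CategoryTheory CategoryTheory.Limits AlgebraicGeometry

attribute [local instance] HasDerivedCategory.standard

namespace Groth.Agent.KExact.CohShriek

open KFlatLib KFlatLib.BCLoc KFlatLib.SecPoint BCNat BCComp

abbrev I1 : Type u := ULift.{u} (Fin 1)

/-- A compactification of the affine line over an affine scheme. -/
theorem exists_compactification_A1 (Y : Scheme.{u}) [IsAffine Y] :
    ∃ (P : Scheme.{u}) (k : 𝔸(I1.{u}; Y) ⟶ P) (ψ : P ⟶ Y),
      IsOpenImmersion k ∧ IsProper ψ ∧ k ≫ ψ = 𝔸(I1.{u}; Y) ↘ Y := by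
  let R := Γ(Y, ⊤)
  haveI := H23.MultiP1.isProper_toBase (Spec R) 1
  let e₁ := AffineSpace.isoOfIsAffine I1.{u} Y
  let e₂ : MvPolynomial I1.{u} R ≃+* Polynomial R := (MvPolynomial.uniqueAlgEquiv R I1.{u}).toRingEquiv
  let m : Spec (CommRingCat.of (MvPolynomial I1.{u} R)) ⟶ Spec (CommRingCat.of (Polynomial R)) :=
    Spec.map e₂.toCommRingCatIso.inv
  refine ⟨_, e₁.hom ≫ m ≫ H23.P1Charts.chart R 0, CohB1.ProjSpaceOver.toBase 1 _ ≫ Y.isoSpec.inv,
    inferInstance, inferInstance, ?_⟩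
  have e3 : m ≫ Spec.map (CommRingCat.ofHom (Polynomial.C (R := R))) =
      Spec.map (CommRingCat.ofHom (MvPolynomial.C (σ := I1.{u}) (R := R))) := by
    rw [← Spec.map_comp]
    congr 1
    refine CommRingCat.hom_ext (RingHom.ext fun r => e₂.injective ?_)
    simp [e₂]
  rw [Category.assoc, Category.assoc, reassoc_of% (H23.P1Charts.chart_toBase R 0), reassoc_of% e3,
    ← AffineSpace.isoOfIsAffine_inv_over, Iso.hom_inv_id_assoc]

/-- Flat pullback preserves coherence. -/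
lemma isCohD_pullD {X X' : Scheme.{u}} (g : X' ⟶ X) [Flat g] [IsLocallyNoetherian X] [IsLocallyNoetherian X']
    {K : DCoh.D X} (h : DCoh.IsCohD K) : DCoh.IsCohD ((pullD g).obj K) := fun i =>
  isCoh_of_iso ((mapDCHomologyIso (Scheme.Modules.pullback g) i).app K).symm
    (ZClosLib.isCoh_pullback g (h i))

/-- `f^!` keeps bounded below coherent objects coherent. -/
def Goal {X Y : Scheme.{u}} (f : X ⟶ Y) : Prop :=
  ∀ (Xb : Scheme.{u}) (j : X ⟶ Xb) (φ : Xb ⟶ Y) (_ : IsOpenImmersion j) (_ : IsProper φ) (_ : j ≫ φ = f)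
    [DCoh.HasRpush φ] (hφ : DCoh.RpushPreservesQCoh φ) (a : DCoh.DQCoh Y ⥤ DCoh.DQCoh Xb)
    (_ : DCoh.RpushQ φ hφ ⊣ a) (K : (Dual3.IsBddBelowQ Y).FullSubcategory),
    DCoh.IsCohD K.obj.obj → DCoh.IsCohD ((rho j).obj (a.obj K.obj).obj)

/-- Closed immersions. -/
theorem goal_closed {X Y : Scheme.{u}} (f : X ⟶ Y) [IsClosedImmersion f] [IsNoetherian Y] : Goal f := by
  intro Xb j φ hj hφp hfac _ hφ a adj K hK
  haveI := hj
  haveI := hφp
  haveI : IsNoetherian X := isNoetherian_of_ft f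
  haveI := hasRpush_scheme f
  haveI : Dual3.HasHomO f := (ClosedShriek.shriekAdj f).isLeftAdjoint
  haveI : HasInjectiveResolutions Y.Modules := hasInjectiveResolutions_modules
  have hf : DCoh.RpushPreservesQCoh f := fun K hK => isQCohD_rpush f hK
  obtain ⟨af, ⟨adjf⟩⟩ := exists_adj f hf
  obtain ⟨I⟩ := nonempty_indep j φ (𝟙 X) f (by rw [hfac, Category.id_comp]) adj adjf
  obtain ⟨i1⟩ := nonempty_rQ_id (𝟙 X) rfl
  obtain ⟨eR⟩ := RHomO.nonempty_rightAdjoint_iso f hf af adjf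
  let e : Dual3.bddι Y ⋙ a ⋙ rQ j ≅ Dual3.bddι Y ⋙ af :=
    I ≪≫ Functor.isoWhiskerLeft (Dual3.bddι Y ⋙ af) i1
  refine isCohD_of_iso ((Functor.isoWhiskerRight e (ObjectProperty.ι _) ≪≫ eR).app K).symm ?_
  exact RHomO.isCohD_RHomOPlus f ((Dual3.bddToPlus Y).obj K) hK

set_option maxHeartbeats 800000 in
/-- Affine morphisms of finite type, by induction on the number of generators. -/
theorem goal_affine : ∀ (n : ℕ) {X Y : Scheme.{u}} [IsAffine X] [IsAffine Y] [IsNoetherian Y] (f : X ⟶ Y)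
    [LocallyOfFiniteType f] (s : Fin n → Γ(X, ⊤)),
    Subring.closure (Set.range f.appTop ∪ Set.range s) = ⊤ → Goal f := by
  intro n
  induction n with
  | zero =>
    intro X Y _ _ _ f _ s hs
    have hsurj : Function.Surjective f.appTop := by
      intro x
      have hx : x ∈ Subring.closure (Set.range f.appTop ∪ Set.range s) := by rw [hs]; trivial
      rw [Set.range_eq_empty s, Set.union_empty] at hx
      have h2 : Subring.closure (Set.range f.appTop) ≤ f.appTop.hom.range :=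
        Subring.closure_le.2 (fun z hz => hz)
      exact h2 hx
    haveI := IsClosedImmersion.of_surjective_of_isAffine f hsurj
    exact goal_closed f
  | succ n ih =>
    intro X Y _ _ _ f _ s hs Xb l θ hl hθp hfac _ hθ c adjθ K hK
    haveI := hl
    haveI := hθp
    haveI : IsNoetherian X := isNoetherian_of_ft f
    let p := 𝔸(I1.{u}; Y) ↘ Y
    let g : X ⟶ 𝔸(I1.{u}; Y) := AffineSpace.homOfVector f (fun _ => s 0)
    have hg : g ≫ p = f := AffineSpace.homOfVector_over _ _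
    haveI : Smooth p := S12182.smooth_affineSpace I1.{u} Y
    haveI : IsNoetherian 𝔸(I1.{u}; Y) := isNoetherian_of_ft p
    haveI : LocallyOfFiniteType (g ≫ p) := by rw [hg]; infer_instance
    haveI : LocallyOfFiniteType g := locallyOfFiniteType_of_comp g p
    obtain ⟨Xb', j', φ', hj', -, hφ', hfac'⟩ := S1243.result p g l θ (hfac.trans hg.symm)
    obtain ⟨P, k, ψ, hk, hψp, hkψ⟩ := exists_compactification_A1 Y
    haveI := hasRpush_scheme φ'
    haveI := hasRpush_scheme ψ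
    have hφ'q : DCoh.RpushPreservesQCoh φ' := fun K hK => isQCohD_rpush φ' hK
    haveI : IsNoetherian P := isNoetherian_of_ft ψ
    have hψq : DCoh.RpushPreservesQCoh ψ := fun K hK => isQCohD_rpush ψ hK
    haveI : IsNoetherian Xb' := isNoetherian_of_ft φ'
    obtain ⟨a', ⟨adja⟩⟩ := exists_adj φ' hφ'q
    obtain ⟨b, ⟨adjb⟩⟩ := exists_adj ψ hψq
    obtain ⟨e⟩ := nonempty_comp j' φ' k ψ l θ
      (by rw [hkψ, ← Category.assoc, hfac', hg, hfac]) adja adjb adjθ
    refine isCohD_of_iso ((ObjectProperty.ι _).mapIso (e.app K)).symm ?_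
    let K' : (Dual3.IsBddBelowQ 𝔸(I1.{u}; Y)).FullSubcategory :=
      ⟨(rQ k).obj (b.obj K.obj), isBddBelowQ_rQ k _ (isBddBelowQ_a ψ adjb _ K.property)⟩
    have hs' : Subring.closure (Set.range g.appTop ∪ Set.range (fun i : Fin n => s i.succ)) = ⊤ := by
      refine top_unique (hs.ge.trans (Subring.closure_le.2 ?_))
      rintro z (⟨y, rfl⟩ | ⟨i, rfl⟩)
      · refine Subring.subset_closure (Or.inl ⟨p.appTop y, ?_⟩)
        rw [← hg, Scheme.Hom.comp_appTop]
        rfl
      · induction i using Fin.cases with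
        | zero =>
          exact Subring.subset_closure (Or.inl ⟨AffineSpace.coord Y default,
            AffineSpace.homOfVector_appTop_coord f (fun _ => s 0) default⟩)
        | succ i => exact Subring.subset_closure (Or.inr ⟨i, rfl⟩)
    refine ih g (fun i => s i.succ) hs' Xb' j' φ' hj' hφ' hfac' hφ'q a' adja K' ?_
    haveI := hasLpull p
    obtain ⟨E⟩ := A1Shriek.nonempty_iso k ψ hkψ adjb
    exact isCohD_of_iso (E.app K).symm
      (isCohD_shift (isCohD_of_iso ((lpullPullIso p).app K.obj.obj).symm (isCohD_pullD p hK)) 1)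

/-- Morphisms of affine schemes. -/
theorem goal_of_affine {X Y : Scheme.{u}} [IsAffine X] [IsAffine Y] [IsNoetherian Y] (f : X ⟶ Y)
    [LocallyOfFiniteType f] : Goal f := by
  classical
  have h : f.appTop.hom.FiniteType := HasRingHomProperty.appTop (P := @LocallyOfFiniteType) f inferInstance
  algebraize [f.appTop.hom]
  obtain ⟨S, hS⟩ := Algebra.FiniteType.out (R := Γ(Y, ⊤)) (A := Γ(X, ⊤))
  refine goal_affine S.card f (fun i => (S.equivFin.symm i : Γ(X, ⊤))) ?_
  have e : Set.range (fun i => (S.equivFin.symm i : Γ(X, ⊤))) = ↑S := by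
    refine Set.ext fun x => ⟨?_, fun hx => ?_⟩
    · rintro ⟨i, rfl⟩; exact (S.equivFin.symm i).2
    · exact ⟨S.equivFin ⟨x, hx⟩, by simp⟩
  have h2 := congrArg Subalgebra.toSubring hS
  rw [Algebra.adjoin_eq_ring_closure, Algebra.top_toSubring] at h2
  rw [e]
  exact h2

/-- `f^!` keeps bounded below coherent objects coherent. -/
theorem isCohD_shriek {X Y Xb : Scheme.{u}} [IsNoetherian Y] [IsNoetherian X] (j : X ⟶ Xb) [IsOpenImmersion j]
    (φ : Xb ⟶ Y) [IsProper φ] [DCoh.HasRpush φ] {hφ : DCoh.RpushPreservesQCoh φ}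
    {a : DCoh.DQCoh Y ⥤ DCoh.DQCoh Xb} (adj : DCoh.RpushQ φ hφ ⊣ a) (K : DCoh.DQCoh Y)
    (hb : Dual3.IsBddBelowQ Y K) (hK : DCoh.IsCohD K.obj) : DCoh.IsCohD ((rho j).obj (a.obj K).obj) := by
  intro i
  refine isCoh_of_local fun x => ?_
  obtain ⟨V, hV, hxV, -⟩ :=
    exists_isAffineOpen_mem_and_subset (X := Y) (x := (j ≫ φ).base x) (U := ⊤) trivial
  obtain ⟨U, hU, hxU, hUV⟩ :=
    exists_isAffineOpen_mem_and_subset (X := X) (x := x) (U := (j ≫ φ) ⁻¹ᵁ V) hxV
  refine ⟨U, U.ι, inferInstance, ⟨⟨x, hxU⟩, rfl⟩, isCoh_of_iso (restrictHDIso U.ι _ i) ?_⟩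
  haveI : IsAffine (U : Scheme.{u}) := hU
  haveI : IsAffine (V : Scheme.{u}) := hV
  haveI : IsNoetherian (V : Scheme.{u}) := isNoetherian_of_ft V.ι
  haveI : IsNoetherian (U : Scheme.{u}) := isNoetherian_of_ft U.ι
  haveI : IsNoetherian Xb := isNoetherian_of_ft φ
  let r := pullback.fst φ V.ι
  let p := pullback.snd φ V.ι
  let ν : (U : Scheme.{u}) ⟶ V := Scheme.Hom.resLE (j ≫ φ) V U hUV
  have hν : ν ≫ V.ι = U.ι ≫ j ≫ φ := Scheme.Hom.resLE_comp_ι _ _
  let u : (U : Scheme.{u}) ⟶ pullback φ V.ι := pullback.lift (U.ι ≫ j) ν (by rw [Category.assoc, hν])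
  have hur : u ≫ r = U.ι ≫ j := pullback.lift_fst _ _ _
  have hup : u ≫ p = ν := pullback.lift_snd _ _ _
  haveI : IsOpenImmersion (u ≫ r) := by rw [hur]; infer_instance
  haveI : IsOpenImmersion u := IsOpenImmersion.of_comp u r
  haveI : LocallyOfFiniteType (ν ≫ V.ι) := by rw [hν]; infer_instance
  haveI : LocallyOfFiniteType ν := locallyOfFiniteType_of_comp ν V.ι
  haveI : IsNoetherian (pullback φ V.ι) := isNoetherian_of_ft p
  haveI := hasRpush_scheme p
  have hp : DCoh.RpushPreservesQCoh p := fun K hK => isQCohD_rpush p hK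
  obtain ⟨ap, ⟨adjp⟩⟩ := exists_adj p hp
  obtain ⟨B⟩ := nonempty_bc_iso (IsPullback.of_hasPullback φ V.ι) adj adjp
  obtain ⟨lr⟩ := nonempty_LQ_iso_rQ r
  obtain ⟨lv⟩ := nonempty_LQ_iso_rQ V.ι
  obtain ⟨c₁⟩ := nonempty_rQ_comp U.ι j (U.ι ≫ j) rfl
  obtain ⟨c₂⟩ := nonempty_rQ_comp u r (U.ι ≫ j) hur
  let K₀ : (Dual3.IsBddBelowQ Y).FullSubcategory := ⟨K, hb⟩
  let KV : (Dual3.IsBddBelowQ (V : Scheme.{u})).FullSubcategory := ⟨(rQ V.ι).obj K, isBddBelowQ_rQ V.ι K hb⟩
  let e : (rQ U.ι).obj ((rQ j).obj (a.obj K)) ≅ (rQ u).obj (ap.obj KV.obj) :=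
    c₁.app _ ≪≫ c₂.symm.app _ ≪≫ (rQ u).mapIso ((lr.symm.app _) ≪≫ B.app K₀ ≪≫ ap.mapIso (lv.app K))
  have h := goal_of_affine ν _ u p inferInstance inferInstance hup hp ap adjp KV (isCohD_rho V.ι hK)
  exact isCohD_of_iso ((ObjectProperty.ι _).mapIso e).symm h i

end Groth.Agent.KExact.CohShriek
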