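import Groth.Agent.KExact.ViaApp
import Groth.Agent.KExact.CohShriek
import Groth.Agent.QCoh.DevissageP

/-!
# Coherence of the structure sheaf in the derived category
-/

set_option autoImplicit false
set_option linter.style.haveILetI false
set_option backward.isDefEq.respectTransparency false
set_option backward.isDefEq.respectTransparency.types false

universe u

open CategoryTheory CategoryTheory.Limits AlgebraicGeometry

attribute [local instance] HasDerivedCategory.standard

namespace Groth.Agent.KExact.ViaCoh

open KFlatLib

/-- The structure sheaf is coherent in the derived category. -/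
theorem isCohD_structure (Y : Scheme.{u}) [IsLocallyNoetherian Y] :
    DCoh.IsCohD (DCoh.inD Y (Coh.structureModule Y)) := fun k => by
  let M := Coh.structureModule Y
  change Coh.IsCoh ((DerivedCategory.homologyFunctor Y.Modules k).obj
    ((DerivedCategory.singleFunctor Y.Modules 0).obj M))
  by_cases hk : k = 0
  · subst hk
    exact isCoh_of_iso ((DerivedCategory.singleFunctorCompHomologyFunctorIso Y.Modules 0).app M).symm
      QCoh.isCoh_structureModule'
  · refine isCoh_of_isZero ?_
    haveI : ((DerivedCategory.singleFunctor Y.Modules 0).obj M).IsGE 0 := inferInstance
    haveI : ((DerivedCategory.singleFunctor Y.Modules 0).obj M).IsLE 0 := inferInstance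
    rcases lt_or_gt_of_ne hk with hi | hi
    · exact DerivedCategory.isZero_of_isGE _ 0 k hi
    · exact DerivedCategory.isZero_of_isLE _ 0 k hi

end Groth.Agent.KExact.ViaCoh
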