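import Groth.Agent.AlgSpDec.GorCharts
import Groth.Agent.KFlatLib.Scheme.DualizingCharts
import Groth.Agent.KFlatLib.Ring.DualizingFibreRows
import Groth.Agent.KFlatLib.Perfect.Betti
import Groth.Agent.S1830
import Groth.Prelude.Def_DualSch

/-!
# Pullback of dualizing complexes along flat Gorenstein morphisms
-/

set_option autoImplicit false
set_option linter.style.haveILetI false
set_option backward.isDefEq.respectTransparency false
set_option backward.isDefEq.respectTransparency.types false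

universe u

open CategoryTheory CategoryTheory.Limits AlgebraicGeometry

attribute [local instance] HasDerivedCategory.standard

namespace Groth.Agent.KExact.GorPull

open KFlatLib KFlatLib.DualizingCharts AlgSpDec.Gor

variable {X Y : Scheme.{u}} {f : X ⟶ Y}

/-- The closed fibre ring of a map of rings at a prime of the target. -/
abbrev FibAt {A B : CommRingCat.{u}} (φ : A ⟶ B) (q : PrimeSpectrum B) : Type u :=
  Localization.AtPrime q.asIdeal ⧸
    (q.comap φ.hom).asIdeal.map ((algebraMap B (Localization.AtPrime q.asIdeal)).comp φ.hom)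

/-- Gorenstein at a point of `Spec B`, read in the rings. -/
theorem gorAt_specMap {A B : CommRingCat.{u}} (φ : A ⟶ B) (q : PrimeSpectrum B) :
    Dual3.IsGorensteinAt (Spec.map φ) q ↔
      ((Spec.map φ).stalkMap q).hom.Flat ∧ LocCoh.IsGorensteinLocalRing (FibAt φ q) := by
  rw [gorAt_iff]
  refine and_congr_right fun _ => gor_congr ?_
  exact Ideal.quotientEquiv _ _ (Spec.stalkIso B q).commRingCatIsoToRingEquiv
    (MorLib.WT.fibreIdeal_SpecMap φ q).symm

variable [IsLocallyNoetherian X]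

/-- Gorenstein at a point, read in charts. -/
theorem gorAt_chart {A B : CommRingCat.{u}} (j : Spec B ⟶ X) [IsOpenImmersion j] (k : Spec A ⟶ Y)
    [IsOpenImmersion k] (φ : A ⟶ B) (w : j ≫ f = Spec.map φ ≫ k) (q : PrimeSpectrum B) :
    Dual3.IsGorensteinAt f (j q) ↔ Dual3.IsGorensteinAt (Spec.map φ) q := by
  haveI : IsLocallyNoetherian (Spec B) := isLocallyNoetherian_of_isOpenImmersion j
  have hN : ∀ {Z W : Scheme.{u}} (h : Z ⟶ W) [IsLocallyNoetherian Z] (z : Z), NoethFibre h z :=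
    fun h _ z => inferInstanceAs (IsNoetherianRing (_ ⧸ _))
  rw [← gorAt_comp_left j f q (hN f _) (hN (j ≫ f) q), w, gorAt_comp_right]

/-- A Gorenstein morphism in charts. -/
theorem flat_and_gor {A B : CommRingCat.{u}} (j : Spec B ⟶ X) [IsOpenImmersion j] (k : Spec A ⟶ Y)
    [IsOpenImmersion k] (φ : A ⟶ B) (w : j ≫ f = Spec.map φ ≫ k) (hf : Dual3.IsGorensteinMor f) :
    φ.hom.Flat ∧ ∀ q : PrimeSpectrum B, LocCoh.IsGorensteinLocalRing (FibAt φ q) := by
  have h : ∀ q : PrimeSpectrum B, _ := fun q =>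
    (gorAt_specMap φ q).1 ((gorAt_chart j k φ w q).1 (hf (j q)))
  haveI : AlgebraicGeometry.Flat (Spec.map φ) :=
    (AlgebraicGeometry.Flat.iff_flat_stalkMap _).2 fun q => (h q).1
  exact ⟨(HasRingHomProperty.Spec_iff (P := @AlgebraicGeometry.Flat)).1 inferInstance, fun q => (h q).2⟩

omit [IsLocallyNoetherian X] in
/-- The pullback in charts. -/
theorem nonempty_rho_lpull_iso [DCoh.HasLpull f] {A B : CommRingCat.{u}} (j : Spec B ⟶ X)
    [IsOpenImmersion j] (k : Spec A ⟶ Y) [IsOpenImmersion k] (φ : A ⟶ B) (w : j ≫ f = Spec.map φ ≫ k)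
    [PreservesFiniteLimits (tilde.functor A)] [PreservesFiniteLimits (tilde.functor B)]
    [DRing.HasLBaseChange φ.hom] (K : DCoh.D Y) {M : Dual.D A}
    (e : (rho k).obj K ≅ (DCoh.tildeD A).obj M) :
    Nonempty ((rho j).obj ((DCoh.Lpull f).obj K) ≅
      (DCoh.tildeD B).obj ((DRing.LBaseChange φ.hom).obj M)) := by
  haveI := hasLpull j
  haveI := hasLpull (j ≫ f)
  haveI := hasLpull (Spec.map φ)
  obtain ⟨e₁⟩ := nonempty_lpull_comp j f
  obtain ⟨e₂⟩ := nonempty_lpull_factor (Spec.map φ) k (j ≫ f) w.symm K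
  obtain ⟨e₃⟩ := nonempty_tildeD_lpull_iso (A := A) (B := B) φ.hom
  exact ⟨rhoLpullIso j _ ≪≫ e₁.app K ≪≫ e₂.symm ≪≫ (DCoh.Lpull _).mapIso e ≪≫ (e₃.app M).symm⟩

omit [IsLocallyNoetherian X] in
/-- A chart around a point lying over a chart. -/
theorem exists_chart_over (f : X ⟶ Y) {A : CommRingCat.{u}} (k : Spec A ⟶ Y) [IsOpenImmersion k]
    (x : X) (hx : f x ∈ Set.range k.base) :
    ∃ (B : CommRingCat.{u}) (j : Spec B ⟶ X) (_ : IsOpenImmersion j) (φ : A ⟶ B),
      x ∈ Set.range j.base ∧ j ≫ f = Spec.map φ ≫ k := by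
  obtain ⟨_, ⟨U, hU, rfl⟩, hxU, hUk⟩ :=
    X.isBasis_affineOpens.exists_subset_of_mem_open (show x ∈ f ⁻¹ᵁ k.opensRange from hx)
      (f ⁻¹ᵁ k.opensRange).2
  have hr : Set.range (hU.fromSpec ≫ f).base ⊆ Set.range k.base := by
    rintro _ ⟨z, rfl⟩
    exact hUk (show hU.fromSpec z ∈ (U : Set X) from hU.range_fromSpec ▸ ⟨z, rfl⟩)
  refine ⟨_, hU.fromSpec, inferInstance, Spec.preimage (IsOpenImmersion.lift k (hU.fromSpec ≫ f) hr),
    hU.range_fromSpec ▸ hxU, ?_⟩
  rw [Spec.map_preimage, IsOpenImmersion.lift_fac]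

omit [IsLocallyNoetherian X] in
/-- Charts of a morphism locally of finite type are of finite type. -/
theorem finiteType_chart [LocallyOfFiniteType f] {A B : CommRingCat.{u}} (j : Spec B ⟶ X)
    [IsOpenImmersion j] (k : Spec A ⟶ Y) [IsOpenImmersion k] (φ : A ⟶ B)
    (w : j ≫ f = Spec.map φ ≫ k) : φ.hom.FiniteType := by
  haveI : LocallyOfFiniteType (Spec.map φ ≫ k) := w ▸ inferInstance
  haveI : LocallyOfFiniteType (Spec.map φ) := locallyOfFiniteType_of_comp _ k
  exact (HasRingHomProperty.Spec_iff (P := @LocallyOfFiniteType)).1 inferInstance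

/-- A flat local complete intersection morphism is Gorenstein and locally of finite type. -/
theorem gor_and_lft_of_lci [IsLocallyNoetherian Y] [AlgebraicGeometry.Flat f] (hf : Dual3.IsLCIMor f) :
    Dual3.IsGorensteinMor f ∧ LocallyOfFiniteType f := by
  have key : ∀ x : X, ∃ (A B : CommRingCat.{u}) (j : Spec B ⟶ X) (_ : IsOpenImmersion j) (k : Spec A ⟶ Y)
      (_ : IsOpenImmersion k) (φ : A ⟶ B), x ∈ Set.range j.base ∧ j ≫ f = Spec.map φ ≫ k ∧
        φ.hom.FiniteType ∧ φ.hom.Flat ∧ ∀ q : PrimeSpectrum B, LocCoh.IsGorensteinLocalRing (FibAt φ q) := by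
    intro x
    obtain ⟨U, V, e, hx, hl⟩ := hf x
    let φ := f.appLE V.1 U.1 e
    have w : U.2.fromSpec ≫ f = Spec.map φ ≫ V.2.fromSpec := (IsAffineOpen.SpecMap_appLE_fromSpec f V.2 U.2 e).symm
    haveI : IsNoetherianRing Γ(Y, V.1) := IsLocallyNoetherian.component_noetherian V
    haveI : IsNoetherianRing Γ(X, U.1) := IsLocallyNoetherian.component_noetherian U
    have hflat : φ.hom.Flat := f.flat_appLE V.2 U.2 e
    refine ⟨_, _, U.2.fromSpec, inferInstance, V.2.fromSpec, inferInstance, φ,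
      U.2.range_fromSpec ▸ hx, w, ?_, hflat, ?_⟩
    · exact hl.1
    · letI := φ.hom.toAlgebra
      haveI : Module.Flat Γ(Y, V.1) Γ(X, U.1) := hflat
      intro q
      exact LC.fibLoc_of_fiber (A := Γ(Y, V.1)) q.asIdeal fun p hp => LC.gorensteinRing_of_ringEquiv
        (Algebra.TensorProduct.comm Γ(Y, V.1) Γ(X, U.1) p.ResidueField).toRingEquiv
        (Groth.Agent.S1830.result Γ(Y, V.1) Γ(X, U.1) hl ⟨p, hp⟩)
  refine ⟨fun x => ?_, ?_⟩
  · obtain ⟨A, B, j, _, k, _, φ, ⟨q, rfl⟩, w, -, hflat, hgor⟩ := key x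
    haveI : AlgebraicGeometry.Flat (Spec.map φ) :=
      (HasRingHomProperty.Spec_iff (P := @AlgebraicGeometry.Flat)).2 hflat
    exact (gorAt_chart j k φ w q).2 ((gorAt_specMap φ q).2 ⟨Flat.stalkMap _ q, hgor q⟩)
  · choose A B j hj k hk φ hx w hft hflat hgor using key
    haveI := hj
    refine IsZariskiLocalAtSource.of_openCover
      (Scheme.Cover.mkOfCovers X (fun x => Spec (B x)) j (fun x => ⟨x, hx x⟩) hj) fun x => ?_
    change LocallyOfFiniteType (j x ≫ f)
    haveI := hk x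
    haveI : LocallyOfFiniteType (Spec.map (φ x)) :=
      (HasRingHomProperty.Spec_iff (P := @LocallyOfFiniteType)).2 (hft x)
    rw [w x]
    infer_instance

variable [∀ (U : Scheme.{u}) (j : U ⟶ X) [IsOpenImmersion j], PreservesFiniteLimits (Scheme.Modules.restrictFunctor j)]
  [∀ (U : Scheme.{u}) (j : U ⟶ Y) [IsOpenImmersion j], PreservesFiniteLimits (Scheme.Modules.restrictFunctor j)]
  [∀ (R : CommRingCat.{u}), PreservesFiniteLimits (tilde.functor R)]

/-- Flat Gorenstein pullback preserves dualizing complexes. -/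
theorem isDualizingSch_lpull [LocallyOfFiniteType f] (hf : Dual3.IsGorensteinMor f) [DCoh.HasLpull f]
    {K : DCoh.D Y} (hK : Dual2.IsDualizingSch Y K) :
    Dual2.IsDualizingSch X ((DCoh.Lpull f).obj K) := by
  intro B₀ _ j₀ _
  refine exists_isDualizing_of_charts _ (fun x => ?_) B₀ j₀
  obtain ⟨i, y, hy⟩ := Y.affineCover.exists_eq (f x)
  obtain ⟨A, hA, k, hk, hy'⟩ : ∃ (A : CommRingCat.{u}) (_ : True) (k : Spec A ⟶ Y) (_ : IsOpenImmersion k),
      f x ∈ Set.range k.base := ⟨_, trivial, Y.affineCover.f i, inferInstance, y, hy⟩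
  obtain ⟨ω, hω, ⟨e⟩⟩ := hK A k
  obtain ⟨B, j, _, φ, hxj, w⟩ := exists_chart_over f k x hy'
  obtain ⟨hflat, hgor⟩ := flat_and_gor j k φ w hf
  haveI : IsLocallyNoetherian (Spec B) := isLocallyNoetherian_of_isOpenImmersion j
  haveI : IsNoetherianRing B := isLocallyNoetherian_Spec.1 inferInstance
  haveI := hω.isNoetherianRing
  letI := φ.hom.toAlgebra
  haveI : Module.Flat A B := hflat
  haveI : Algebra.FiniteType A B := finiteType_chart j k φ w
  haveI := hasLBase (algebraMap A B)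
  haveI := H9Misc.DRingLBase.hasLBaseChange (algebraMap A B)
  obtain ⟨e'⟩ := nonempty_rho_lpull_iso j k φ w K e
  obtain ⟨eb⟩ := nonempty_LBaseChange_iso (algebraMap A B)
  refine ⟨B, inferInstance, j, inferInstance, _, hxj, ?_, inferInstance, ⟨e'⟩⟩
  refine isDualizing_of_iso (eb.app ω).symm (isDualizing_LBase_of_gorenstein_fibres hω
    (ringKrullDim_lt_top_of_finiteType (ringKrullDim_lt_top_of_isDualizing hω)) fun q => ?_)
  exact hgor q

/-- Flat Gorenstein pullback detects dualizing complexes. -/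
theorem isDualizingSch_of_lpull [IsLocallyNoetherian Y] [LocallyOfFiniteType f] [Surjective f]
    (hf : Dual3.IsGorensteinMor f) [DCoh.HasLpull f] {K : DCoh.D Y} (hq : DCoh.IsQCohD K)
    (hX : Dual2.IsDualizingSch X ((DCoh.Lpull f).obj K)) : Dual2.IsDualizingSch Y K := by
  intro A _ k _
  obtain ⟨M, ⟨eM⟩⟩ := exists_tildeD_iso (R := CommRingCat.of A) (isQCohD_rho k hq)
  refine ⟨M, ?_, ⟨eM.symm⟩⟩
  haveI : IsLocallyNoetherian (Spec (CommRingCat.of A)) := isLocallyNoetherian_of_isOpenImmersion k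
  haveI : IsNoetherianRing A := (isLocallyNoetherian_Spec (R := CommRingCat.of A)).1 inferInstance
  have h : ∀ y : Spec (CommRingCat.of A), ∃ (B : CommRingCat.{u}) (φ : CommRingCat.of A ⟶ B),
      φ.hom.Flat ∧ IsOpen (Set.range (Spec.map φ).base) ∧ y ∈ Set.range (Spec.map φ).base ∧
        Dual.IsDualizing B (@Functor.obj _ _ _ _ (@DTen.LBase A _ _ _ φ.hom (hasLBase φ.hom)) M) := by
    intro y
    obtain ⟨x, hx⟩ := f.surjective (k y)
    obtain ⟨B, j, _, φ, hxj, w⟩ := exists_chart_over f k x ⟨y, hx.symm⟩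
    obtain ⟨z, hz⟩ := hxj
    haveI : IsLocallyNoetherian (Spec B) := isLocallyNoetherian_of_isOpenImmersion j
    haveI : IsNoetherianRing B := isLocallyNoetherian_Spec.1 inferInstance
    haveI := hasLBase φ.hom
    haveI := H9Misc.DRingLBase.hasLBaseChange φ.hom
    obtain ⟨ω, hω, ⟨eω⟩⟩ := hX B j
    obtain ⟨e'⟩ := nonempty_rho_lpull_iso j k φ w K eM.symm
    obtain ⟨e''⟩ := nonempty_iso_of_tilde (e'.symm ≪≫ eω)
    obtain ⟨eb⟩ := nonempty_LBaseChange_iso φ.hom
    obtain ⟨hflat, -⟩ := flat_and_gor j k φ w hf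
    haveI : LocallyOfFinitePresentation (Spec.map φ) :=
      (HasRingHomProperty.Spec_iff (P := @LocallyOfFinitePresentation)).2
        (RingHom.FinitePresentation.of_finiteType.1 (finiteType_chart j k φ w))
    haveI : AlgebraicGeometry.Flat (Spec.map φ) :=
      (HasRingHomProperty.Spec_iff (P := @AlgebraicGeometry.Flat)).2 hflat
    refine ⟨B, φ, hflat, (Spec.map φ).isOpenMap.isOpen_range, ⟨z, k.isOpenEmbedding.injective ?_⟩,
      isDualizing_of_iso (e''.symm ≪≫ eb.app M) hω⟩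
    rw [← hx, ← hz, ← Scheme.Hom.comp_apply, ← Scheme.Hom.comp_apply, w]
  choose B φ hflat hopen hy hdual using h
  obtain ⟨t, ht⟩ := isCompact_univ.elim_finite_subcover (fun y => Set.range (Spec.map (φ y)).base)
    hopen fun y _ => Set.mem_iUnion.2 ⟨y, hy y⟩
  letI : ∀ i : t, Algebra A (B i.1) := fun i => (φ i.1).hom.toAlgebra
  haveI : ∀ i : t, Module.Flat A (B i.1) := fun i => hflat i.1
  haveI : ∀ i : t, DTen.HasLBase (algebraMap A (B i.1)) := fun i => hasLBase (φ i.1).hom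
  refine isDualizing_of_finite_family (B := fun i : t => (B i.1 : Type u)) (fun m hm => ?_) fun i => hdual i.1
  obtain ⟨y, hyt, Q, hQ⟩ : ∃ y ∈ t, (⟨m, hm.isPrime⟩ : PrimeSpectrum A) ∈
      Set.range (Spec.map (φ y)).base := by
    simpa using ht (Set.mem_univ (⟨m, hm.isPrime⟩ : PrimeSpectrum A))
  refine ⟨⟨y, hyt⟩, ne_top_of_le_ne_top Q.isPrime.ne_top (Ideal.map_le_iff_le_comap.2 ?_)⟩
  exact (congrArg PrimeSpectrum.asIdeal hQ).ge

end Groth.Agent.KExact.GorPull
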