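import Groth.Agent.KExact.ViaCM
import Groth.Agent.KExact.GorensteinPull
import Groth.Agent.CMOpen5.Open

/-!
# Cohen–Macaulay and Gorenstein points read in charts of `f^! O`
-/

set_option autoImplicit false
set_option linter.style.haveILetI false
set_option linter.unusedSectionVars false
set_option linter.unusedVariables false
set_option backward.isDefEq.respectTransparency false
set_option backward.isDefEq.respectTransparency.types false

universe u

open CategoryTheory CategoryTheory.Limits AlgebraicGeometry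
open scoped TensorProduct

attribute [local instance] HasDerivedCategory.standard

namespace Groth.Agent.KExact.ViaPoint

open KFlatLib KFlatLib.BCLoc KFlatLib.DualizingCharts ViaFibre ViaApp GorPull AlgSpDec.Gor

section Ring

variable {R A : Type u} [CommRing R] [CommRing A] [Algebra R A] [IsNoetherianRing R] [IsNoetherianRing A]

/-- The local ring of the fibre in the chart. -/
theorem exists_fibre_data (q : PrimeSpectrum A) :
    ∃ (Q : Ideal ((q.asIdeal.comap (algebraMap R A)).ResidueField ⊗[R] A)) (_ : Q.IsPrime),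
      Q.comap (incRight R (q.asIdeal.comap (algebraMap R A)).ResidueField A) = q.asIdeal ∧
      Nonempty (Localization.AtPrime Q ≃+* FibAt (CommRingCat.ofHom (algebraMap R A)) q) := by
  obtain ⟨Q, hQ⟩ := FlatLoc6.exists_fiber_prime (A := R) (B := A) (q.asIdeal.comap (algebraMap R A)) q.asIdeal rfl
  refine ⟨Q.asIdeal, inferInstance, hQ, ?_⟩
  obtain ⟨τ, -, hτ⟩ := exists_tau q.asIdeal (q.asIdeal.comap (algebraMap R A)) rfl Q.asIdeal hQ
  letI := τ.toAlgebra
  haveI : IsLocalization.AtPrime (Localization.AtPrime q.asIdeal ⧸ fibJ q.asIdeal (q.asIdeal.comap (algebraMap R A)))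
      Q.asIdeal := hτ
  exact ⟨(IsLocalization.algEquiv Q.asIdeal.primeCompl (Localization.AtPrime Q.asIdeal)
    (Localization.AtPrime q.asIdeal ⧸ fibJ q.asIdeal (q.asIdeal.comap (algebraMap R A)))).toRingEquiv.trans
    (Ideal.quotEquivOfEq (congrArg (fun g : R →+* _ => Ideal.map g _)
      (IsScalarTower.algebraMap_eq R A (Localization.AtPrime q.asIdeal))))⟩

end Ring

/-- Cohen–Macaulay at a point of `Spec B`, read in the rings. -/
theorem isCMAt_specMap {A B : CommRingCat.{u}} (φ : A ⟶ B) (q : PrimeSpectrum B) :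
    MoreMor.IsCMAt (Spec.map φ) q ↔
      ((Spec.map φ).stalkMap q).hom.Flat ∧ LocCoh.IsCohenMacaulayLocalRing (FibAt φ q) := by
  rw [Triage.CMMor.isCMAt_iff]
  refine and_congr_right fun _ => Triage.CMMor.isCM_congr ?_
  exact Ideal.quotientEquiv _ _ (Spec.stalkIso B q).commRingCatIsoToRingEquiv
    (MorLib.WT.fibreIdeal_SpecMap φ q).symm

variable [∀ (U V : Scheme.{u}) (j : U ⟶ V) [IsOpenImmersion j], PreservesFiniteLimits (Scheme.Modules.restrictFunctor j)]
  [∀ (R : CommRingCat.{u}), PreservesFiniteLimits (tilde.functor R)]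

variable {X Y : Scheme.{u}} {f : X ⟶ Y} {M : DCoh.D X} {x : X} (c : Chart f M x)

/-- The shriek of the chart. -/
noncomputable abbrev om : Dual.D c.A := Dual2.shriekVia c.n c.Rψ (Dual.inD c.R c.R)

theorem flat_stalk_chart [Flat f] :
    ((Spec.map (CommRingCat.ofHom (algebraMap c.R c.A))).stalkMap c.p).hom.Flat := by
  haveI : Module.Flat c.R c.A := c.flat ‹_›
  haveI : Flat (Spec.map (CommRingCat.ofHom (algebraMap c.R c.A))) :=
    Flat.SpecMap_iff.2 (RingHom.flat_algebraMap_iff.2 inferInstance)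
  exact Flat.stalkMap _ _

/-- The point of the chart. -/
abbrev pt : PrimeSpectrum c.A := c.p

/-- The fibre of the shriek at the point of the chart. -/
theorem isDualizing_fibre [Flat f] (p : Ideal c.R) [p.IsPrime]
    [DTen.HasLBase (incRight c.R p.ResidueField c.A)] :
    Dual.IsDualizing _ ((DTen.LBase (incRight c.R p.ResidueField c.A)).obj (om c)) := by
  haveI : Module.Flat c.R c.A := c.flat ‹_›
  haveI := H9Misc.DRingLBase.hasLBaseChange
    (Algebra.TensorProduct.includeRight : c.A →ₐ[c.R] p.ResidueField ⊗[c.R] c.A).toRingHom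
  obtain ⟨e⟩ := nonempty_LBaseChange_iso (incRight c.R p.ResidueField c.A)
  exact isDualizing_of_iso (e.app _) ((Groth.Agent.S1801.result c.R c.A c.n c.ψ c.hψ c.Rψ c.adj).2.2.2.2
    p.ResidueField)

/-- Bounds and finiteness in the chart. -/
theorem bounds [Flat f] : (∃ a b : ℤ, ∀ i : ℤ, (i < a ∨ b < i) → Subsingleton (Dual.HD c.A (om c) i)) ∧
    ∀ i : ℤ, Module.Finite c.A (Dual.HD c.A (om c) i) := by
  haveI : Module.Flat c.R c.A := c.flat ‹_›
  exact ⟨(Groth.Agent.S1801.result c.R c.A c.n c.ψ c.hψ c.Rψ c.adj).1,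
    (Groth.Agent.S1801.result c.R c.A c.n c.ψ c.hψ c.Rψ c.adj).2.1⟩

/-- Cohen–Macaulay points are those where `f^! O` is a single module. -/
theorem isCMAt_iff [Flat f] :
    (MoreMor.IsCMAt f x ↔ ∃! i : ℤ, pt c ∈ Module.support c.A (Dual.HD c.A (om c) i)) ∧
    (MoreMor.IsCMAt f x → ∀ i, pt c ∈ Module.support c.A (Dual.HD c.A (om c) i) →
      Module.Flat c.R (Localization.AtPrime (pt c).asIdeal ⊗[c.A] Dual.HD c.A (om c) i)) := by
  haveI : Module.Flat c.R c.A := c.flat ‹_›
  obtain ⟨⟨a, b, hab⟩, hfin⟩ := bounds c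
  obtain ⟨Q, hQp, hQ, ⟨eQ⟩⟩ := exists_fibre_data (R := c.R) (pt c)
  haveI := Groth.Agent.KFlatLib.hasLBase (incRight c.R ((pt c).asIdeal.comap (algebraMap c.R c.A)).ResidueField c.A)
  obtain ⟨h1, h2⟩ := cm_fibre_iff (pt c).asIdeal ((pt c).asIdeal.comap (algebraMap c.R c.A)) rfl Q hQ (om c) hfin b
    (fun i hi => hab i (Or.inr hi)) (isDualizing_fibre c _)
  have key : MoreMor.IsCMAt f x ↔ LocCoh.IsCohenMacaulayLocalRing (Localization.AtPrime Q) := by
    have h := CMOpen5.isCMAt_chart f _ c.k c.i c.comm c.p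
    erw [c.hp] at h
    rw [h]
    erw [isCMAt_specMap (CommRingCat.ofHom (algebraMap c.R c.A)) (pt c)]
    rw [and_iff_right (flat_stalk_chart c)]
    exact (Triage.CMMor.isCM_congr eQ).symm
  exact ⟨key.trans h1, fun hcm i hi => (h2 (key.1 hcm) i hi).2⟩

/-- The shriek does not vanish at any point of the chart. -/
theorem exists_mem [Flat f] (q : PrimeSpectrum c.A) : ∃ i : ℤ, q ∈ Module.support c.A (Dual.HD c.A (om c) i) := by
  obtain ⟨⟨a, b, hab⟩, hfin⟩ := bounds c
  obtain ⟨Q, hQp, hQ, -⟩ := exists_fibre_data (R := c.R) q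
  haveI := Groth.Agent.KFlatLib.hasLBase (incRight c.R (q.asIdeal.comap (algebraMap c.R c.A)).ResidueField c.A)
  obtain ⟨t, ht, -⟩ := exists_top q.asIdeal (q.asIdeal.comap (algebraMap c.R c.A)) rfl Q hQ (om c) hfin b
    (fun i hi h => by
      haveI := hab i (Or.inr hi)
      exact not_subsingleton_iff_nontrivial.2 (Module.mem_support_iff.1 h) inferInstance) (isDualizing_fibre c _)
  exact ⟨t, ht⟩

/-- Gorenstein points in the chart. -/
theorem isGorensteinAt_iff [Flat f] [IsLocallyNoetherian X]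
    (Q : Ideal (((pt c).asIdeal.comap (algebraMap c.R c.A)).ResidueField ⊗[c.R] c.A)) [Q.IsPrime]
    (eQ : Localization.AtPrime Q ≃+* FibAt (CommRingCat.ofHom (algebraMap c.R c.A)) (pt c)) :
    Dual3.IsGorensteinAt f x ↔ LocCoh.IsGorensteinLocalRing (Localization.AtPrime Q) := by
  have h := gorAt_chart c.k c.i (CommRingCat.ofHom (algebraMap c.R c.A)) c.comm c.p
  erw [c.hp] at h
  rw [h]
  erw [gorAt_specMap (CommRingCat.ofHom (algebraMap c.R c.A)) (pt c)]
  rw [and_iff_right (flat_stalk_chart c)]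
  exact (gor_congr eQ).symm

end Groth.Agent.KExact.ViaPoint
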