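import Groth.Agent.KFlatLib.Scheme.DQCohLimit
import Groth.Agent.H9Misc.SectCmp.Connecting
import Groth.Agent.QCoh.ClosedPush
import Groth.Agent.KFlatLib.Scheme.RpushTriangle
import Groth.Agent.H9Misc.Split
import Groth.Prelude.Def_DCoh2
import Mathlib.CategoryTheory.Functor.OfSequence

/-!
# The limit of an inverse system of quasi-coherent modules with surjective transition maps
-/

set_option autoImplicit false
set_option linter.style.haveILetI false
set_option linter.unusedSectionVars false
set_option linter.unusedVariables false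
set_option backward.isDefEq.respectTransparency false
set_option backward.isDefEq.respectTransparency.types false
set_option maxHeartbeats 800000

universe u

open CategoryTheory CategoryTheory.Limits AlgebraicGeometry Opposite Pretriangulated TopologicalSpace
open CategoryTheory.Abelian

attribute [local instance] HasDerivedCategory.standard

namespace Groth.Agent.KExact.RlimQCoh

open KFlatLib

variable {X : Scheme.{u}}

section Vanish

attribute [local instance] IsGrothendieckAbelian.hasExt

/-- No higher maps from sections on affine opens. -/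
def SecAcyclic (M : X.Modules) : Prop :=
  ∀ (V : X.Opens), IsAffineOpen V → ∀ (k : ℕ) (x : Ext (secObj V) M (k + 1)), x = 0

/-- Such modules have no cohomology on affine opens. -/
theorem subsingleton_HHon : ∀ (p : ℕ) (M : X.Modules), SecAcyclic M → ∀ (U : X.Opens), IsAffineOpen U →
    Subsingleton (Coh.HHon X M U (p + 1)) := by
  intro p
  induction p with
  | zero =>
    intro M hM U hU
    let S : ShortComplex X.Modules :=
      ShortComplex.mk (Injective.ι M) (cokernel.π (Injective.ι M)) (cokernel.condition _)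
    have hS : S.ShortExact := { exact := ShortComplex.exact_of_g_is_cokernel _ (cokernelIsCokernel _) }
    let T := S.map (CohCmp.toAbOn X U)
    have hT : T.ShortExact := H9Misc.SectCmp.toAbOn_shortExact U hS
    haveI : Subsingleton (CohTop.H T.X₂ 1) :=
      H9Misc.SectCmp.subsingleton_HHon_of_flasque U (QCoh.isFlasqueMod_of_injective (Injective.under M)) 0
    refine subsingleton_of_forall_eq 0 fun x => ?_
    obtain ⟨y, hy⟩ := Ext.covariant_sequence_exact₁ _ hT x (Subsingleton.elim (α := CohTop.H T.X₂ 1) _ _) (zero_add 1)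
    have hsurj : Function.Surjective (S.g.app (U.ι ''ᵁ ⊤)) := fun c => by
      obtain ⟨φ, rfl⟩ := (secEquiv U S.X₃).surjective c
      obtain ⟨z, hz⟩ := Ext.covariant_sequence_exact₃ _ hS (Ext.mk₀ φ) (zero_add 1) (hM U hU 0 _)
      obtain ⟨ψ, rfl⟩ := (Ext.mk₀_bijective _ _).2 z
      rw [Ext.mk₀_comp_mk₀] at hz
      exact ⟨secEquiv U _ ψ, by rw [← secEquiv_naturality, (Ext.mk₀_bijective _ _).1 hz]⟩
    obtain ⟨b, hb⟩ := hsurj (Sheaf.H.equiv₀ T.X₃ isTerminalTop y)
    let w := (Sheaf.H.equiv₀ T.X₂ isTerminalTop).symm b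
    have hw : Sheaf.H.map T.g 0 w = y := by
      refine (Sheaf.H.equiv₀ T.X₃ isTerminalTop).injective ?_
      rw [← Sheaf.H.equiv₀_naturality, AddEquiv.apply_symm_apply]
      exact hb
    rw [← hy, ← hw, Sheaf.H.map_apply, Ext.comp_assoc_of_second_deg_zero, hT.comp_extClass, Ext.comp_zero]
  | succ p ih =>
    intro M hM U hU
    let S : ShortComplex X.Modules :=
      ShortComplex.mk (Injective.ι M) (cokernel.π (Injective.ι M)) (cokernel.condition _)
    have hS : S.ShortExact := { exact := ShortComplex.exact_of_g_is_cokernel _ (cokernelIsCokernel _) }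
    haveI : Injective S.X₂ := inferInstanceAs (Injective (Injective.under M))
    have hC : SecAcyclic S.X₃ := fun V hV k x => by
      obtain ⟨z, hz⟩ := Ext.covariant_sequence_exact₃ _ hS x rfl (hM V hV (k + 1) _)
      rw [← hz, Ext.eq_zero_of_injective z, Ext.zero_comp]
    let T := S.map (CohCmp.toAbOn X U)
    have hT : T.ShortExact := H9Misc.SectCmp.toAbOn_shortExact U hS
    haveI : Subsingleton (CohTop.H T.X₂ (p + 1 + 1)) :=
      H9Misc.SectCmp.subsingleton_HHon_of_flasque U (QCoh.isFlasqueMod_of_injective (Injective.under M)) (p + 1)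
    haveI : Subsingleton (CohTop.H T.X₃ (p + 1)) := ih S.X₃ hC U hU
    refine subsingleton_of_forall_eq 0 fun x => ?_
    obtain ⟨y, hy⟩ := Ext.covariant_sequence_exact₁ _ hT x
      (Subsingleton.elim (α := CohTop.H T.X₂ (p + 1 + 1)) _ _) (n₀ := p + 1) rfl
    rw [← hy, Subsingleton.elim (α := CohTop.H T.X₃ (p + 1)) y 0, Ext.zero_comp]

end Vanish

variable (F : ℕ → X.Modules) (hF : ∀ n, Coh.IsQCoh (F n)) (t : ∀ n, F (n + 1) ⟶ F n)
  (ht : ∀ n, 1 ≤ n → Epi (t n)) [HasProduct fun n => DCoh.inD X (F n)]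

/-- Maps into shifts of the terms vanish. -/
theorem hom_shift_eq_zero {M : X.Modules} (hM : Coh.IsQCoh M) {V : X.Opens} (hV : IsAffineOpen V) (k : ℤ) (hk : k ≠ 0)
    (φ : DCoh.inD X (secObj V) ⟶ (DCoh.inD X M)⟦k⟧) : φ = 0 := by
  rcases lt_or_gt_of_ne hk with h | h
  · haveI : (DCoh.inD X (secObj V)).IsLE 0 := inferInstanceAs (((DerivedCategory.singleFunctor X.Modules 0).obj _).IsLE 0)
    haveI : (DCoh.inD X M).IsGE 0 := inferInstanceAs (((DerivedCategory.singleFunctor X.Modules 0).obj _).IsGE 0)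
    haveI : ((DCoh.inD X M)⟦k⟧).IsGE (-k) := DerivedCategory.TStructure.t.isGE_shift _ 0 k (-k) (by omega)
    exact DerivedCategory.TStructure.t.zero φ 0 (-k) (by omega)
  · exact hom_secObj_shift_eq_zero hV (sAcyclic_of_isQCoh hM) k h φ

include hF ht in
theorem main :
    DCoh.IsRlim (fun n => DCoh.inD X (F n)) (fun n => (DerivedCategory.singleFunctor X.Modules 0).map (t n))
        (DCoh.inD X (Limits.limit (Functor.ofOpSequence t))) ∧
      ∀ (U : X.Opens), IsAffineOpen U → ∀ p : ℕ, 0 < p →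
        Subsingleton (Coh.HHon X (Limits.limit (Functor.ofOpSequence t)) U p) := by
  let S := DerivedCategory.singleFunctor X.Modules 0
  let K : ℕ → DCoh.D X := fun n => DCoh.inD X (F n)
  let P := ∏ᶜ K
  let π : ∀ n, P ⟶ K n := Pi.π K
  let d : P ⟶ P := Pi.lift fun n => π n - π (n + 1) ≫ S.map (t n)
  have hd : ∀ n, d ≫ π n = π n - π (n + 1) ≫ S.map (t n) := fun n => Pi.lift_π _ n
  obtain ⟨L, p, δ, hT⟩ := Pretriangulated.distinguished_cocone_triangle₁ d
  -- maps into shifts of the product
  have hPk : ∀ (k : ℤ), IsLimit (Fan.mk (P⟦k⟧) fun n => (π n)⟦k⟧') := fun k =>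
    isLimitFanMkObjOfIsLimit (shiftFunctor (DCoh.D X) k) K π (productIsProduct _)
  have hP0 : ∀ (V : X.Opens), IsAffineOpen V → ∀ (k : ℤ), k ≠ 0 →
      ∀ φ : DCoh.inD X (secObj V) ⟶ P⟦k⟧, φ = 0 := fun V hV k hk φ =>
    Fan.IsLimit.hom_ext (hPk k) _ _ fun n =>
      (hom_shift_eq_zero (hF n) hV k hk _).trans zero_comp.symm
  -- the equation `ω ≫ d = c` is soluble
  have hsys : ∀ (V : X.Opens), IsAffineOpen V → ∀ c : DCoh.inD X (secObj V) ⟶ P, ∃ ω, ω ≫ d = c := by
    intro V hV c
    have hs : ∀ n, 1 ≤ n → Function.Surjective (Preadditive.rightComp (DCoh.inD X (secObj V)) (S.map (t n))) := by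
      intro n hn φ
      obtain ⟨ψ, rfl⟩ := S.map_surjective φ
      haveI := ht n hn
      obtain ⟨χ, hχ⟩ := exists_lift_of_shortExact
        (S := ShortComplex.mk (kernel.ι (t n)) (t n) (kernel.condition _))
        { exact := ShortComplex.exact_of_f_is_kernel _ (kernelIsKernel _) }
        (sAcyclic_of_isQCoh (QCoh.isQCoh_kernel (hF (n + 1)) (hF n) (t n))) hV ψ
      exact ⟨S.map χ, (S.map_comp _ _).symm.trans (congrArg S.map hχ)⟩
    obtain ⟨x, -, hx⟩ := exists_system_sol 1 (fun n => DCoh.inD X (secObj V) ⟶ K n)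
      (fun n => Preadditive.rightComp (DCoh.inD X (secObj V)) (S.map (t n))) hs (fun n => c ≫ π n) 0
    refine ⟨Pi.lift x, Pi.hom_ext _ _ fun n => ?_⟩
    rw [Category.assoc]
    change Pi.lift x ≫ d ≫ π n = c ≫ π n
    rw [hd, Preadditive.comp_sub, ← Category.assoc, Pi.lift_π, Pi.lift_π]
    exact hx n
  have hL : ∀ (V : X.Opens), IsAffineOpen V → ∀ (k : ℤ), k ≠ 0 →
      ∀ φ : DCoh.inD X (secObj V) ⟶ L⟦k⟧, φ = 0 := by
    intro V hV k hk φ
    by_cases h1 : k = 1
    · subst h1
      obtain ⟨ω, hω⟩ := Triangle.coyoneda_exact₃ _ (rot_of_distTriang _ hT) φ (hP0 V hV 1 hk _)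
      change φ = ω ≫ δ at hω
      obtain ⟨ω', rfl⟩ := hsys V hV ω
      have h23 : d ≫ δ = 0 := comp_distTriang_mor_zero₂₃ _ hT
      rw [hω, Category.assoc, h23, comp_zero]
    · have hTk := Triangle.shift_distinguished _ hT k
      obtain ⟨ω, hω⟩ := Triangle.coyoneda_exact₂ _ (inv_rot_of_distTriang _ hTk) φ (hP0 V hV k hk _)
      have hz : ω = 0 := by
        rw [← cancel_mono ((shiftFunctorAdd' (DCoh.D X) k (-1) (k - 1) (by omega)).inv.app P), zero_comp]
        exact hP0 V hV (k - 1) (by omega) _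
      rw [hω, hz]
      exact zero_comp
  have hzero : ∀ q : ℤ, q ≠ 0 → IsZero (DCoh.HD L q) := by
    intro q hq
    have h0 : IsZero (DCoh.HD (L⟦q⟧) 0) := by
      refine (IsZero.iff_id_eq_zero _).2 (eq_zero_of_secObj _ fun V hV s => ?_)
      rw [Category.comp_id]
      refine secObj_hom_eq_zero_of_local s fun x hx => ?_
      obtain ⟨W, hxW, hWV, hW, h⟩ := exists_local_lift (L⟦q⟧) s hx
      refine ⟨W, hxW, hWV, fun hle => ?_⟩
      obtain ⟨φ, hφ⟩ := h hle
      rw [hL W hW q hq φ, psi_zero, secEquiv_zero] at hφ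
      exact hφ.symm
    exact h0.of_iso (((DerivedCategory.homologyFunctor X.Modules 0).shiftIso q 0 q (add_zero q)).app L).symm
  haveI : L.IsGE 0 := (DerivedCategory.isGE_iff _ _).2 fun i hi => hzero i (by omega)
  haveI : L.IsLE 0 := (DerivedCategory.isLE_iff _ _).2 fun i hi => hzero i (by omega)
  obtain ⟨e⟩ := H9Misc.nonempty_iso_single_homology 0 L
  let G := DCoh.HD L 0
  let g : ∀ n, G ⟶ F n := fun n => S.preimage (e.inv ≫ p ≫ π n)
  have h12 : p ≫ d = 0 := comp_distTriang_mor_zero₁₂ _ hT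
  have hg : ∀ n, g (n + 1) ≫ t n = g n := fun n => S.map_injective (by
    rw [Functor.map_comp, Functor.map_preimage, Functor.map_preimage, eq_comm, ← sub_eq_zero,
      Category.assoc, Category.assoc, ← Preadditive.comp_sub, ← Preadditive.comp_sub, ← hd,
      reassoc_of% h12]
    simp)
  let c : Cone (Functor.ofOpSequence t) :=
    { pt := G
      π := NatTrans.ofOpSequence (fun n => g n) fun n => by simp [hg n] }
  let γ : G ⟶ limit (Functor.ofOpSequence t) := limit.lift _ c
  have hγ : ∀ n, γ ≫ limit.π (Functor.ofOpSequence t) (op n) = g n := fun n => limit.lift_π c (op n)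
  have hbij : ∀ (V : X.Opens), IsAffineOpen V → Function.Bijective fun s : secObj V ⟶ G => s ≫ γ := by
    intro V hV
    refine ⟨fun s s' h => sub_eq_zero.1 ?_, fun y => ?_⟩
    · have h0 : (s - s') ≫ γ = 0 := by rw [Preadditive.sub_comp]; exact sub_eq_zero.2 h
      generalize s - s' = σ at h0
      refine S.map_injective ?_
      rw [S.map_zero, ← cancel_mono e.inv, zero_comp]
      have hp : (S.map σ ≫ e.inv) ≫ p = 0 := Pi.hom_ext _ _ fun n => by
        have h1 : S.map (σ ≫ g n) = 0 := by rw [← hγ, ← Category.assoc, h0, zero_comp, S.map_zero]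
        rw [Functor.map_comp, Functor.map_preimage] at h1
        rw [zero_comp, Category.assoc, Category.assoc]
        exact h1
      obtain ⟨ω, hω⟩ := Triangle.coyoneda_exact₂ _ (inv_rot_of_distTriang _ hT) (S.map σ ≫ e.inv) hp
      rw [hω, hP0 V hV (-1) (by omega) ω]
      exact zero_comp
    · let ψ : DCoh.inD X (secObj V) ⟶ P := Pi.lift fun n => S.map (y ≫ limit.π (Functor.ofOpSequence t) (op n))
      have hψ : ψ ≫ d = 0 := Pi.hom_ext _ _ fun n => by
        rw [zero_comp, Category.assoc]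
        change ψ ≫ d ≫ π n = 0
        rw [hd, Preadditive.comp_sub, ← Category.assoc]
        simp only [ψ, π, Pi.lift_π]
        rw [sub_eq_zero, ← Functor.map_comp, Category.assoc]
        congr 2
        have := limit.w (Functor.ofOpSequence t) (homOfLE (Nat.le_succ n)).op
        simpa using this.symm
      obtain ⟨Φ, hΦ⟩ := Triangle.coyoneda_exact₂ _ hT ψ hψ
      refine ⟨S.preimage (Φ ≫ e.hom), limit.hom_ext fun ⟨n⟩ => S.map_injective ?_⟩
      rw [Category.assoc, hγ, Functor.map_comp, Functor.map_preimage, Functor.map_preimage, Category.assoc,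
        e.hom_inv_id_assoc]
      exact (Category.assoc _ _ _).symm.trans ((congrArg (· ≫ π n) hΦ.symm).trans (Pi.lift_π _ n))
  haveI : IsIso γ := QCoh.isIso_of_isBasis γ X.isBasis_affineOpens fun U hU => by
    have h : Function.Bijective (γ.app (U.ι ''ᵁ ⊤)) := by
      have heq : ⇑(γ.app (U.ι ''ᵁ ⊤)) =
          (secEquiv U _) ∘ (fun s : secObj U ⟶ G => s ≫ γ) ∘ (secEquiv U G).symm := funext fun a => by
        show _ = secEquiv U _ ((secEquiv U G).symm a ≫ γ)
        rw [secEquiv_naturality, Equiv.apply_symm_apply]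
      rw [heq]
      exact (secEquiv U _).bijective.comp ((hbij U hU).comp (secEquiv U G).symm.bijective)
    rwa [U.ι_image_top] at h
  let eL : L ≅ DCoh.inD X (limit (Functor.ofOpSequence t)) := e ≪≫ S.mapIso (asIso γ)
  refine ⟨⟨eL.inv ≫ p, δ ≫ eL.hom⟦(1 : ℤ)⟧', ?_⟩, ?_⟩
  · refine Pretriangulated.isomorphic_distinguished _ hT _ (Triangle.isoMk _ _ eL.symm (Iso.refl P) (Iso.refl P)
      ?_ ?_ ?_)
    · exact Category.comp_id _
    · exact (Category.comp_id _).trans (Category.id_comp _).symm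
    · refine (Category.assoc _ _ _).trans ?_
      refine Eq.trans (congrArg (δ ≫ ·) ((Functor.map_comp _ _ _).symm.trans
        ((congrArg _ eL.hom_inv_id).trans (CategoryTheory.Functor.map_id _ _)))) ?_
      exact (Category.comp_id _).trans (Category.id_comp _).symm
  · intro U hU q hq
    obtain ⟨q, rfl⟩ : ∃ r, q = r + 1 := ⟨q - 1, by omega⟩
    letI : HasExt.{u} X.Modules := IsGrothendieckAbelian.hasExt X.Modules
    refine subsingleton_HHon q _ (fun V hV k x => Ext.homEquiv.injective ?_) U hU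
    change x.hom = (0 : Ext _ _ (k + 1)).hom
    rw [Ext.zero_hom, ← cancel_mono (eL.inv⟦((k + 1 : ℕ) : ℤ)⟧'), zero_comp]
    exact hL V hV _ (by omega) _

end Groth.Agent.KExact.RlimQCoh
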