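import Groth.Agent.KExact.CartierShriek
import Groth.Agent.H23.Chern.Dual

/-!
# Tensoring with an invertible module in one degree
-/

set_option autoImplicit false
set_option linter.style.haveILetI false
set_option linter.unusedSectionVars false
set_option backward.isDefEq.respectTransparency false
set_option backward.isDefEq.respectTransparency.types false

universe u

open CategoryTheory CategoryTheory.Limits AlgebraicGeometry

attribute [local instance] HasDerivedCategory.standard

namespace Groth.Agent.KExact.InvShift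

open KFlatLib

variable {W : Scheme.{u}}

/-- `- ⊗ D[-n]` on complexes. -/
noncomputable def tenSingleIso (D : W.Modules) (n : ℤ) :
    Inner.tenX (DCoh.tensorBi (X := W)) ((HomologicalComplex.single W.Modules (ComplexShape.up ℤ) n).obj D) ≅
      (DCoh.tensorBi.flip.obj D).mapHomologicalComplex (ComplexShape.up ℤ) ⋙
        shiftFunctor (CochainComplex W.Modules ℤ) (-n) :=
  DCoh.tensorBi.map₂CochainComplex.flip.mapIso
      (((CochainComplex.singleFunctors W.Modules).shiftIso (-n) n 0 (by omega)).app D).symm ≪≫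
    Inner.tensorShiftIso (DCoh.tensorBi (X := W)) _ (-n) ≪≫
    Functor.isoWhiskerRight (singleIso (DCoh.tensorBi (X := W)) D) _

/-- If `L[n]` becomes trivial after tensoring with `D`, it is detected by `- ⊗^L D`. -/
theorem nonempty_iso_of_ltensor {D L : W.Modules} (hD : PicF.IsInvertible D)
    (e : CohB1.tensorMod L D ≅ Coh.structureModule W) (n : ℤ)
    [DCoh.HasLTensorCx ((HomologicalComplex.single W.Modules (ComplexShape.up ℤ) n).obj D)] (M : DCoh.D W)
    (h : DCoh.inD W (Coh.structureModule W) ≅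
      (DCoh.LTensorCx ((HomologicalComplex.single W.Modules (ComplexShape.up ℤ) n).obj D)).obj M) :
    Nonempty (M ≅ (DCoh.inD W L)⟦n⟧) := by
  let F := DCoh.tensorBi.flip.obj D
  haveI := H23.Chern.isEquivalence_ten hD
  haveI : F.IsEquivalence := Functor.isEquivalence_of_iso ((tensorBiFlipIso W).app D).symm
  let E := F.asEquivalence
  let G := E.inverse
  haveI : G.Additive := E.inverse.additive_of_preserves_binary_products
  haveI : PreservesFiniteLimits F := inferInstance
  haveI : PreservesFiniteColimits F := inferInstance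
  haveI : PreservesFiniteLimits G := inferInstance
  haveI : PreservesFiniteColimits G := inferInstance
  let Fd := F.mapDerivedCategory
  let Gd := G.mapDerivedCategory
  let S := (HomologicalComplex.single W.Modules (ComplexShape.up ℤ) n).obj D
  let eQ : DerivedCategory.Q ⋙ Fd ⋙ shiftFunctor (DCoh.D W) (-n) ≅ DCoh.tensorCxQ S :=
    Functor.isoWhiskerRight F.mapDerivedCategoryFactors (shiftFunctor (DCoh.D W) (-n)) ≪≫
      Functor.isoWhiskerLeft (F.mapHomologicalComplex (ComplexShape.up ℤ))
        (DerivedCategory.Q.commShiftIso (-n)).symm ≪≫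
      Functor.isoWhiskerRight (tenSingleIso D n).symm DerivedCategory.Q
  haveI := Functor.isLeftDerivedFunctor_of_inverts (F := DCoh.tensorCxQ S)
    (HomologicalComplex.quasiIso W.Modules (ComplexShape.up ℤ)) (Fd ⋙ shiftFunctor (DCoh.D W) (-n)) eQ
  let eT : DCoh.LTensorCx S ≅ Fd ⋙ shiftFunctor (DCoh.D W) (-n) :=
    Functor.leftDerivedUnique _ _
      ((DCoh.tensorCxQ S).totalLeftDerivedCounit DerivedCategory.Q
        (HomologicalComplex.quasiIso W.Modules (ComplexShape.up ℤ))) eQ.hom
      (HomologicalComplex.quasiIso W.Modules (ComplexShape.up ℤ))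
  let W₁ := HomologicalComplex.quasiIso W.Modules (ComplexShape.up ℤ)
  let eC : F.mapHomologicalComplex (ComplexShape.up ℤ) ⋙ G.mapHomologicalComplex (ComplexShape.up ℤ) ≅ 𝟭 _ :=
    (NatIso.mapHomologicalComplex E.unitIso.symm (ComplexShape.up ℤ) :) ≪≫
      Functor.mapHomologicalComplexIdIso _ _
  letI : Localization.Lifting DerivedCategory.Q W₁ DerivedCategory.Q (Fd ⋙ Gd) :=
    ⟨Functor.isoWhiskerRight F.mapDerivedCategoryFactors Gd ≪≫
      Functor.isoWhiskerLeft (F.mapHomologicalComplex (ComplexShape.up ℤ)) G.mapDerivedCategoryFactors ≪≫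
      Functor.isoWhiskerRight eC DerivedCategory.Q⟩
  letI : Localization.Lifting DerivedCategory.Q W₁ DerivedCategory.Q (𝟭 (DCoh.D W)) := ⟨Iso.refl _⟩
  let eI : Fd ⋙ Gd ≅ 𝟭 (DCoh.D W) :=
    Localization.liftNatIso DerivedCategory.Q W₁ DerivedCategory.Q DerivedCategory.Q (Fd ⋙ Gd) (𝟭 _) (Iso.refl _)
  let O := Coh.structureModule W
  let eG : G.obj O ≅ L := G.mapIso e.symm ≪≫ E.unitIso.symm.app L
  let s := DerivedCategory.singleFunctorIsoCompQ W.Modules 0
  let eO : Gd.obj (DCoh.inD W O) ≅ DCoh.inD W L :=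
    Gd.mapIso (s.app O) ≪≫ G.mapDerivedCategoryFactors.app _ ≪≫
      DerivedCategory.Q.mapIso ((HomologicalComplex.singleMapHomologicalComplex G (ComplexShape.up ℤ) 0).app O ≪≫
        (HomologicalComplex.single W.Modules (ComplexShape.up ℤ) 0).mapIso eG) ≪≫ (s.app L).symm
  let hM : Fd.obj M ≅ (DCoh.inD W O)⟦n⟧ :=
    ((shiftFunctorCompIsoId (DCoh.D W) (-n) n (by omega)).app (Fd.obj M)).symm ≪≫
      (shiftFunctor (DCoh.D W) n).mapIso (h ≪≫ eT.app M).symm
  exact ⟨(eI.app M).symm ≪≫ Gd.mapIso hM ≪≫ (Gd.commShiftIso n).app _ ≪≫ (shiftFunctor _ n).mapIso eO⟩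

end Groth.Agent.KExact.InvShift
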