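import Groth.Agent.KExact.RHomOCartier
import Groth.Agent.ExtCodim.Main
import Groth.Agent.H9Misc.LocFreeHomTensor

/-!
# `RHom(O_X, O_P)` for a regular immersion
-/

set_option autoImplicit false
set_option linter.style.haveILetI false
set_option linter.unusedSectionVars false
set_option backward.isDefEq.respectTransparency false
set_option backward.isDefEq.respectTransparency.types false

universe u

open CategoryTheory CategoryTheory.Limits AlgebraicGeometry RingTheory.Sequence

attribute [local instance] HasDerivedCategory.standard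

namespace Groth.Agent.KExact.RegShriek

open KFlatLib SheafHomX

variable {P X : Scheme.{u}} (ι : X ⟶ P) [IsClosedImmersion ι]

/-- The local `Ext` sheaves vanish above the codimension. -/
theorem isZero_G_above {L : P.Modules} (I : InjectiveResolution L) {c : ℕ}
    (hι : RegImm.IsRegularImmersionOfCodim RegImm.Kind.regular c ι) (hL : FlatMod.IsFinLocFree L)
    (q : ℕ) (hq : c < q) : IsZero (RegImmExt.G ι I q) := by
  refine ExtCodim.isZero_of_restrict _ fun p => ?_
  by_cases hp : p ∈ Set.range ι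
  · obtain ⟨x, rfl⟩ := hp
    obtain ⟨U, hxU, -, rs, hlen, hreg, hker⟩ := hι.2 x
    obtain ⟨V, n, hxV, ⟨e⟩⟩ := hL (ι x)
    obtain ⟨g, hle, hg⟩ := U.2.exists_basicOpen_le ⟨ι x, hxV⟩ hxU
    let W := P.basicOpen g
    have hW : IsAffineOpen W := U.2.basicOpen g
    have hWU : W ≤ U.1 := P.basicOpen_le g
    let a := (P.presheaf.map (homOfLE hWU).op).hom
    let rs' := rs.map a
    have hker' : RingHom.ker (ι.app W).hom = Ideal.ofList rs' := by
      show RingHom.ker (ι.app W).hom = Ideal.ofList (rs.map a)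
      rw [← Ideal.map_ofList, ← hker, ← Scheme.Hom.ker_apply ι ⟨W, hW⟩, ← Scheme.Hom.ker_apply ι U]
      exact (ι.ker.map_ideal (U := ⟨W, hW⟩) (V := U) hWU).symm
    have hreg' : IsWeaklyRegular Γ(P, W) rs' := by
      haveI := U.2.isLocalization_basicOpen g
      exact hreg.toIsWeaklyRegular.of_isLocalization Γ(P, W) (Submonoid.powers g)
    refine ⟨_, hW.fromSpec, inferInstance, by rw [hW.opensRange_fromSpec]; exact hg, ?_⟩
    let N : ModuleCat.{u} Γ(P, W) := ModuleCat.of Γ(P, W) (ULift.{u} (Fin n) →₀ Γ(P, W))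
    let eL : L.restrict hW.fromSpec ≅ tilde N :=
      QCoh.freeChart hW hle e ≪≫ QCoh.freeModIso _ n ≪≫ (tildeFinsupp (R := Γ(P, W)) _).symm
    obtain ⟨eM⟩ := RegImmExt.nonempty_chart ι hW rs' hker'
    obtain ⟨b⟩ := ExtShCoh.nonempty_homology_restrict hW.fromSpec I
      ((Scheme.Modules.pushforward ι).obj (Coh.structureModule X)) q
    obtain ⟨hz, -, -⟩ := KoszulExt.ext_quotient (ExtShLocal.restrictRes hW.fromSpec I) N eL rs' hreg'
    exact (hz q (by simp [rs', hlen, hq])).of_iso
      (b ≪≫ HomologicalComplex.homologyMapIso (KoszulExt.cxIso _ eM.symm) q)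
  · obtain ⟨_, ⟨W, hW, rfl⟩, hx, hsub⟩ := P.isBasis_affineOpens.exists_subset_of_mem_open hp
      ι.isClosedEmbedding.isClosed_range.isOpen_compl
    exact ⟨_, hW.fromSpec, inferInstance, by rw [hW.opensRange_fromSpec]; exact hx,
      RegImmExt.isZero_chart ι I q hW hsub⟩

variable [Dual3.HasHomO ι] [EnoughInjectives P.Modules] {r : ℕ}
  (hι : RegImm.IsRegularImmersionOfCodim RegImm.Kind.regular r ι) {L : X.Modules}
  (hL : ExtPow.IsExtPow r (Omega.conormal ι) L) (O : DerivedCategory.Plus P.Modules)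
  (eO : O.obj ≅ DCoh.inD P (Coh.structureModule P))

include hι hL eO in
/-- The cohomology of `RHom(O_X, O_P)`. -/
theorem main :
    (∀ j : ℤ, j ≠ (r : ℤ) → IsZero (DCoh.HD ((Dual3.RHomOPlus ι).obj O).obj j)) ∧
      Nonempty (DCoh.HD ((Dual3.RHomOPlus ι).obj O).obj (r : ℤ) ≅ (hom L).obj (Coh.structureModule X)) := by
  haveI : HasInjectiveResolutions P.Modules := inferInstance
  let J := InjectiveResolution.of (Coh.structureModule P)
  let J' : CochainComplex P.Modules ℤ := J.cochainComplex
  let K₀ : CochainComplex.Plus P.Modules := ⟨J', 0, inferInstance⟩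
  haveI : ∀ n, Injective (K₀.obj.X n) := fun n => inferInstanceAs (Injective (J.cochainComplex.X n))
  haveI := isIso_Q_map J.ι' inferInstance
  let eQ : (DerivedCategory.Plus.Qh.obj ((HomotopyCategory.Plus.quotient P.Modules).obj K₀)).obj ≅ O.obj :=
    (DerivedCategory.quotientCompQhIso P.Modules).app J' ≪≫ (asIso (DerivedCategory.Q.map J.ι')).symm ≪≫
      ((DerivedCategory.singleFunctorIsoCompQ P.Modules 0).app _).symm ≪≫ eO.symm
  let G := Dual3.homO ι
  haveI := ClosedShriek.preservesHomology_push ι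
  let eR : DerivedCategory.Q.obj ((G.mapHomologicalComplex (ComplexShape.up ℤ)).obj J') ≅
      ((Dual3.RHomOPlus ι).obj O).obj :=
    ((DerivedCategory.quotientCompQhIso _).app _).symm ≪≫ DerivedCategory.Plus.ι.mapIso
      (asIso (G.rightDerivedFunctorPlusUnit.app ((HomotopyCategory.Plus.quotient P.Modules).obj K₀)) ≪≫
        (G.rightDerivedFunctorPlus).mapIso (DerivedCategory.Plus.ι.preimageIso eQ))
  let e₀ : G ⋙ Scheme.Modules.pushforward ι ≅ hom (HomPushSections.pushO ι) :=
    Functor.isoWhiskerRight ((Dual3.homOAdj ι).rightAdjointUniq (ClosedShriek.shriekAdj ι)) _ ≪≫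
      (ClosedShriek.shriekPushIso ι).symm
  let M := (G ⋙ Scheme.Modules.pushforward ι).mapHomologicalComplex (ComplexShape.up ℕ) |>.obj J.cocomplex
  obtain ⟨eX⟩ := RHomOCartier.nonempty_map_extend_iso (G ⋙ Scheme.Modules.pushforward ι) J.cocomplex
  let push : ∀ j : ℤ, (Scheme.Modules.pushforward ι).obj (DCoh.HD ((Dual3.RHomOPlus ι).obj O).obj j) ≅
      (HomologicalComplex.extend M ComplexShape.embeddingUpNat).homology j := fun j =>
    (Scheme.Modules.pushforward ι).mapIso ((DerivedCategory.homologyFunctor _ j).mapIso eR.symm ≪≫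
      (DerivedCategory.homologyFunctorFactors _ j).app _) ≪≫
    ((((G.mapHomologicalComplex (ComplexShape.up ℤ)).obj J').sc j).mapHomologyIso
      (Scheme.Modules.pushforward ι)).symm ≪≫ HomologicalComplex.homologyMapIso eX j
  let pushN : ∀ q : ℕ, (Scheme.Modules.pushforward ι).obj (DCoh.HD ((Dual3.RHomOPlus ι).obj O).obj (q : ℤ)) ≅
      RegImmExt.G ι J q := fun q =>
    push q ≪≫ M.extendHomologyIso ComplexShape.embeddingUpNat (j := q) rfl ≪≫
      HomologicalComplex.homologyMapIso ((NatIso.mapHomologicalComplex e₀ _).app J.cocomplex) q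
  constructor
  · intro j hj
    refine ClosedShriek.isZero_of_push ι ?_
    obtain ⟨q, rfl⟩ | hneg : (∃ q : ℕ, (q : ℤ) = j) ∨ j < 0 := by
      rcases lt_or_ge j 0 with h | h
      · exact .inr h
      · exact .inl ⟨j.toNat, Int.toNat_of_nonneg h⟩
    · refine IsZero.of_iso ?_ (pushN q)
      rcases lt_or_gt_of_ne (show q ≠ r from fun h => hj (by rw [h])) with h | h
      · exact ExtCodim.isZero_G ι J hι (H9Misc.LocFreeHomTensor.isFinLocFree_structure P) q h
      · exact isZero_G_above ι J hι (H9Misc.LocFreeHomTensor.isFinLocFree_structure P) q h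
    · refine IsZero.of_iso ?_ (push j)
      exact (HomologicalComplex.exactAt_iff_isZero_homology _ j).1
        (M.extend_exactAt ComplexShape.embeddingUpNat j fun k hk => by
          change (k : ℤ) = j at hk
          omega)
  · obtain ⟨φ, hφ⟩ := hL
    have hPq := PnCoh.isQCoh_structureModule P
    obtain ⟨e₂⟩ := RegExtFormula.nonempty_iso ι J φ hPq hι hφ
    haveI : IsIso (SheafOfModules.pullbackObjUnitToUnit ι.toRingCatSheafHom) := inferInstance
    let eP : (Scheme.Modules.pullback ι).obj (Coh.structureModule P) ≅ Coh.structureModule X :=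
      asIso (SheafOfModules.pullbackObjUnitToUnit ι.toRingCatSheafHom)
    have hH : Coh.IsQCoh ((hom L).obj (Coh.structureModule X)) :=
      (RegExtFormula.isQCoh_and_iso L _ (RegExtFormula.isInvertible_L ι φ hι hφ)
        (PnCoh.isQCoh_structureModule X)).1
    let T := (Scheme.Modules.pushforward ι).obj ((hom L).obj (Coh.structureModule X))
    have hT : Coh.IsQCoh T := QCoh.isQCoh_pushforward ι hH
    let e : (Scheme.Modules.pushforward ι).obj (DCoh.HD ((Dual3.RHomOPlus ι).obj O).obj (r : ℤ)) ≅ T :=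
      pushN r ≪≫ e₂ ≪≫ (Scheme.Modules.pushforward ι).mapIso ((hom L).mapIso eP)
    haveI := KZ.ClosedDev.isIso_counit ι hT
    haveI := KZ.ClosedDev.isIso_counit ι (KFlatLib.isQCoh_of_iso e.symm hT)
    exact ⟨(asIso ((Scheme.Modules.pullbackPushforwardAdjunction ι).counit.app _)).symm ≪≫
      (Scheme.Modules.pullback ι).mapIso e ≪≫
      asIso ((Scheme.Modules.pullbackPushforwardAdjunction ι).counit.app _)⟩

end Groth.Agent.KExact.RegShriek
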