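import Groth.Agent.KExact.DiagCodim
import Groth.Agent.KExact.RegShriek
import Groth.Agent.KExact.InvShift
import Groth.Agent.KExact.A1Shriek
import Groth.Agent.KExact.External

/-!
# `f^! O = Ω^n[n]` for a smooth morphism
-/

set_option autoImplicit false
set_option linter.style.haveILetI false
set_option linter.unusedSectionVars false
set_option backward.isDefEq.respectTransparency false
set_option backward.isDefEq.respectTransparency.types false

universe u

open CategoryTheory CategoryTheory.Limits AlgebraicGeometry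

attribute [local instance] HasDerivedCategory.standard

namespace Groth.Agent.KExact.SmoothShriek

open KFlatLib KFlatLib.BCLoc KFlatLib.SecPoint BCNat BCComp A1Shriek

/-- The structure sheaf in `D_QCoh`. -/
theorem exists_O (T : Scheme.{u}) : ∃ O : (Dual3.IsBddBelowQ T).FullSubcategory,
    Nonempty (O.obj.obj ≅ DCoh.inD T (Coh.structureModule T)) := by
  let OW : DCoh.D T := DCoh.inD T (Coh.structureModule T)
  have hOq : DCoh.IsQCohD OW := isQCohD_inD_of_isQCoh (PnCoh.isQCoh_structureModule T)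
  haveI : OW.IsGE 0 := inferInstanceAs (((DerivedCategory.singleFunctor T.Modules 0).obj _).IsGE 0)
  exact ⟨⟨⟨OW, hOq⟩, 0, inferInstanceAs (OW.IsGE 0)⟩, ⟨Iso.refl _⟩⟩

/-- Pullback of the structure sheaf. -/
theorem nonempty_lpull_inD {X Y : Scheme.{u}} (f : X ⟶ Y) [DCoh.HasLpull f] :
    Nonempty (DCoh.inD X (Coh.structureModule X) ≅ (DCoh.Lpull f).obj (DCoh.inD Y (Coh.structureModule Y))) := by
  obtain ⟨u⟩ := nonempty_lpull_unitCx f
  exact ⟨(DerivedCategory.singleFunctorIsoCompQ X.Modules 0).app _ ≪≫ u ≪≫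
    (DCoh.Lpull f).mapIso ((DerivedCategory.singleFunctorIsoCompQ Y.Modules 0).app _).symm⟩

variable {X Y Xb : Scheme.{u}}

set_option maxHeartbeats 800000 in
theorem nonempty_iso [IsNoetherian Y] (n : ℕ) (f : X ⟶ Y) [SmoothOfRelativeDimension n f] [IsSeparated f]
    [QuasiCompact f] (j : X ⟶ Xb) [IsOpenImmersion j] (φ : Xb ⟶ Y) [IsProper φ] (hfac : j ≫ φ = f)
    [DCoh.HasRpush φ] {hφ : DCoh.RpushPreservesQCoh φ} {a : DCoh.DQCoh Y ⥤ DCoh.DQCoh Xb}
    (adj : DCoh.RpushQ φ hφ ⊣ a) (O : DCoh.DQCoh Y) (eO : O.obj ≅ DCoh.inD Y (Coh.structureModule Y))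
    (L : X.Modules) (hL : ExtPow.IsExtPow n (Omega.sheaf f) L) :
    Nonempty ((rho j).obj (a.obj O).obj ≅ (DCoh.inD X L)⟦(n : ℤ)⟧) := by
  haveI : Smooth f := SmoothOfRelativeDimension.smooth n f
  haveI : IsNoetherian X := isNoetherian_of_ft f
  haveI : IsNoetherian Xb := isNoetherian_of_ft φ
  haveI : IsNoetherian (pullback f f) := isNoetherian_of_ft (pullback.fst f f)
  haveI : IsNoetherian (pullback φ f) := isNoetherian_of_ft (pullback.snd φ f)
  let r := pullback.fst f f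
  let p₀ := pullback.snd f f
  let r' := pullback.fst φ f
  let p := pullback.snd φ f
  let δ := pullback.diagonal f
  have hι : RegImm.IsRegularImmersionOfCodim RegImm.Kind.regular n δ := DiagCodim.isRegularImmersion_diagonal f n
  let e : pullback f f ⟶ pullback φ f :=
    pullback.lift (r ≫ j) p₀ (by rw [Category.assoc, hfac]; exact pullback.condition)
  have her : e ≫ r' = r ≫ j := pullback.lift_fst _ _ _
  have hep : e ≫ p = p₀ := pullback.lift_snd _ _ _
  haveI : IsOpenImmersion e := by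
    have hs : IsPullback r (e ≫ p) (j ≫ φ) f := by
      rw [hep, hfac]; exact IsPullback.of_hasPullback f f
    exact MorphismProperty.of_isPullback (P := @IsOpenImmersion)
      (hs.of_bot her.symm (IsPullback.of_hasPullback φ f)) ‹IsOpenImmersion j›
  let s : X ⟶ pullback φ f := δ ≫ e
  have hsp : s ≫ p = 𝟙 X := by rw [Category.assoc, hep]; exact pullback.diagonal_snd f
  haveI : IsClosedImmersion (s ≫ p) := by rw [hsp]; infer_instance
  haveI : IsClosedImmersion s := IsClosedImmersion.of_comp s p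
  have hsq : IsPullback (𝟙 X) δ s e := IsPullback.of_horiz_isIso_mono ⟨by simp [s]⟩
  have hperf : MoreMor.IsPerfectMor δ := S1509.result δ
    ((Groth.Agent.S1515.result f).1.1 inferInstance).2
  haveI := hasRpush_scheme p
  haveI := hasRpush_scheme s
  haveI := hasRpush_scheme δ
  haveI := hasRpush_scheme (𝟙 X)
  have hp : DCoh.RpushPreservesQCoh p := fun K hK => isQCohD_rpush p hK
  have hs : DCoh.RpushPreservesQCoh s := fun K hK => isQCohD_rpush s hK
  have hd : DCoh.RpushPreservesQCoh δ := fun K hK => isQCohD_rpush δ hK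
  have h1 : DCoh.RpushPreservesQCoh (𝟙 X) := fun K hK => isQCohD_rpush (𝟙 X) hK
  obtain ⟨ap, ⟨adjp⟩⟩ := exists_adj p hp
  obtain ⟨as, ⟨adjs⟩⟩ := exists_adj s hs
  obtain ⟨ad, ⟨adjd⟩⟩ := exists_adj δ hd
  obtain ⟨i1⟩ := nonempty_rpushQ_id h1
  obtain ⟨cps⟩ := nonempty_rpushQ_comp s p (𝟙 X) hsp hs hp h1
  obtain ⟨eps⟩ := nonempty_right_iso_id (adjs.comp adjp) (cps ≪≫ i1)
  obtain ⟨B⟩ := nonempty_bc_iso (IsPullback.of_hasPullback φ f) adj adjp
  obtain ⟨C⟩ := nonempty_bc_iso hsq adjs adjd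
  obtain ⟨c₁⟩ := nonempty_LQ_comp r j (r ≫ j) rfl
  haveI : Flat r' :=
    MorphismProperty.of_isPullback (P := @Flat) (IsPullback.of_hasPullback φ f).flip inferInstance
  obtain ⟨c₂⟩ := nonempty_LQ_comp e r' (r ≫ j) her
  obtain ⟨lj⟩ := nonempty_LQ_iso_rQ j
  obtain ⟨l1⟩ := nonempty_LQ_iso_rQ (𝟙 X)
  obtain ⟨i2⟩ := nonempty_rQ_id (𝟙 X) rfl
  have hb : Dual3.IsBddBelowQ Y O := by
    refine ⟨0, (DerivedCategory.isGE_iff _ _).2 fun i hi => ?_⟩
    haveI : (DCoh.inD Y (Coh.structureModule Y)).IsGE 0 :=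
      inferInstanceAs (((DerivedCategory.singleFunctor Y.Modules 0).obj _).IsGE 0)
    exact (DerivedCategory.isZero_of_isGE _ 0 i hi).of_iso ((DerivedCategory.homologyFunctor _ i).mapIso eO)
  let Ob : (Dual3.IsBddBelowQ Y).FullSubcategory := ⟨O, hb⟩
  let Z₁ : (Dual3.IsBddBelowQ (pullback φ f)).FullSubcategory :=
    ⟨(LQ r').obj (a.obj O), BCBdd.isBddBelowQ_LQ r' _ (isBddBelowQ_a φ adj O hb)⟩
  let K : (Dual3.IsBddBelowQ (pullback f f)).FullSubcategory :=
    ⟨(LQ e).obj Z₁.obj, BCBdd.isBddBelowQ_LQ e _ Z₁.property⟩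
  let e₁ : (LQ f).obj O ≅ ad.obj K.obj :=
    (eps.symm.app _) ≪≫ as.mapIso (B.app Ob).symm ≪≫ (l1 ≪≫ i2).symm.app _ ≪≫ C.app Z₁
  let M := (rho j).obj (a.obj O).obj
  haveI := hasLpull f
  haveI := hasLpull δ
  haveI := hasLpull r
  haveI := hasLpull (δ ≫ r)
  obtain ⟨uf⟩ := nonempty_lpull_inD f
  let eX : DCoh.inD X (Coh.structureModule X) ≅ (ad.obj K.obj).obj :=
    uf ≪≫ (DCoh.Lpull f).mapIso eO.symm ≪≫ (lpullPullIso f).app O.obj ≪≫ (ObjectProperty.ι _).mapIso e₁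
  let eK : K.obj.obj ≅ (DCoh.Lpull r).obj M :=
    (ObjectProperty.ι _).mapIso ((c₂ ≪≫ c₁.symm ≪≫ Functor.isoWhiskerRight lj (LQ r)).app (a.obj O)) ≪≫
      ((lpullPullIso r).app M).symm
  obtain ⟨OP, ⟨eOP⟩⟩ := exists_O (pullback f f)
  haveI : Dual3.HasHomO δ := (ClosedShriek.shriekAdj δ).isLeftAdjoint
  haveI : HasInjectiveResolutions (pullback f f).Modules := hasInjectiveResolutions_modules
  obtain ⟨hz, ⟨eH⟩⟩ := RegShriek.main δ hι hL ((Dual3.bddToPlus _).obj OP) eOP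
  obtain ⟨eR⟩ := RHomO.nonempty_rightAdjoint_iso δ hd ad adjd
  let R := ((Dual3.RHomOPlus δ).obj ((Dual3.bddToPlus _).obj OP)).obj
  haveI : R.IsGE (n : ℤ) := (DerivedCategory.isGE_iff _ _).2 fun k hk => hz k (by omega)
  haveI : R.IsLE (n : ℤ) := (DerivedCategory.isLE_iff _ _).2 fun k hk => hz k (by omega)
  obtain ⟨N, ⟨eN⟩⟩ := DerivedCategory.exists_iso_singleFunctor_obj_of_isGE_of_isLE R (n : ℤ)
  let D := (SheafHomX.hom L).obj (Coh.structureModule X)
  let eN' : N ≅ D :=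
    ((DerivedCategory.singleFunctorCompHomologyFunctorIso X.Modules (n : ℤ)).app N).symm ≪≫
      (DerivedCategory.homologyFunctor _ (n : ℤ)).mapIso eN.symm ≪≫ eH
  let E := (HomologicalComplex.single X.Modules (ComplexShape.up ℤ) (n : ℤ)).obj D
  let eE : DCoh.toD X E ≅ (ad.obj OP.obj).obj :=
    ((DerivedCategory.singleFunctorIsoCompQ X.Modules (n : ℤ)).app D).symm ≪≫
      (DerivedCategory.singleFunctor _ (n : ℤ)).mapIso eN'.symm ≪≫ eN.symm ≪≫ (eR.app OP).symm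
  haveI := hasLTensorCx E
  obtain ⟨T⟩ := S3676.result X (pullback f f) δ hperf hd ad adjd OP.obj ⟨eOP⟩ E ⟨eE⟩
  obtain ⟨k₁⟩ := nonempty_lpull_comp' δ r (δ ≫ r) rfl
  obtain ⟨k₂⟩ := nonempty_lpull_id (δ ≫ r) (pullback.diagonal_fst f)
  let h : DCoh.inD X (Coh.structureModule X) ≅ (DCoh.LTensorCx E).obj M :=
    eX ≪≫ T.app K.obj ≪≫ (DCoh.LTensorCx E).mapIso ((DCoh.Lpull δ).mapIso eK ≪≫ (k₁ ≪≫ k₂).app M)
  have hLi : PicF.IsInvertible L := by
    obtain ⟨ψ, hψ⟩ := hL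
    exact RegExtFormula.isInvertible_L δ ψ hι hψ
  obtain ⟨ed⟩ := H23.Chern.exists_dual_inverse hLi
  obtain ⟨cm⟩ := H23.PicMul.comm D L
  have hD : PicF.IsInvertible D := (CurveOnSurf.isInvertible_of_inverse hLi ⟨cm ≪≫ ed⟩).1
  exact InvShift.nonempty_iso_of_ltensor hD ed (n : ℤ) M h

end Groth.Agent.KExact.SmoothShriek
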