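import Groth.Agent.KExact.SerreTop
import Groth.Agent.KExact.SmoothShriek
import Groth.Agent.KFlatLib.Scheme.DualPerfect
import Groth.Agent.KFlatLib.Scheme.RHomExists
import Groth.Agent.KFlatLib.Scheme.RpushPerfect
import Groth.Agent.KFlatLib.Scheme.RpushCoherent
import Groth.Agent.Synt29.NullCorr
import Groth.Agent.S1116

/-!
# `Hom(K, L[n])` is finite for coherent complexes on a proper scheme
-/

set_option autoImplicit false
set_option linter.style.haveILetI false
set_option linter.unusedSectionVars false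
set_option linter.unusedVariables false
set_option backward.isDefEq.respectTransparency false
set_option backward.isDefEq.respectTransparency.types false
set_option maxHeartbeats 800000

universe u

open CategoryTheory CategoryTheory.Limits AlgebraicGeometry Opposite

attribute [local instance] HasDerivedCategory.standard

namespace Groth.Agent.KExact.HomFinite

open KFlatLib

variable {A : Type u} [CommRing A] {X : Scheme.{u}} [X.Over (Spec (CommRingCat.of A))]

/-- Tensoring a scalar with a complex. -/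
theorem tensorCx_map_smul (E C : CochainComplex X.Modules ℤ) (a : A) :
    ((DCoh.tensorCx (X := X)).flip.obj E).map (a • 𝟙 C) = a • 𝟙 _ := by
  ext n : 1
  refine HomologicalComplex.mapBifunctor.hom_ext fun p q h => ?_
  change HomologicalComplex.ιMapBifunctor C E DCoh.tensorBi (ComplexShape.up ℤ) p q n h ≫
    (HomologicalComplex.mapBifunctorMap (a • 𝟙 C) (𝟙 E) DCoh.tensorBi (ComplexShape.up ℤ)).f n = _
  rw [HomologicalComplex.ι_mapBifunctorMap, HomologicalComplex.id_f, CategoryTheory.Functor.map_id,
    Category.id_comp]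
  show ((DCoh.tensorBi (X := X)).map (a • 𝟙 (C.X p))).app (E.X q) ≫ _ = _
  rw [KLin.smul_id]
  show (DCoh.tensorBi.flip.obj (E.X q)).map (Formal.smulModΓ (C.X p) _) ≫ _ = _
  rw [Synt29.NullCorr.tensor_map_smul']
  show Formal.smulMod A ((DCoh.tensorBi.obj (C.X p)).obj (E.X q)) a ≫ _ =
    _ ≫ (a • 𝟙 (((DCoh.tensorCx.flip.obj E).obj C).X n))
  rw [Linear.comp_smul, Category.comp_id, KLin.smul_def]

/-- Hom from `K` as Hom from the structure sheaf. -/
theorem exists_homLEquiv (E : CochainComplex X.Modules ℤ) (hE : DCoh.IsKFlat E)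
    [DCoh.HasLTensorCx E] [DCoh.HasRSheafHom E] (L : DCoh.D X) :
    Nonempty ((DCoh.toD X E ⟶ L) ≃ₗ[A]
      (DCoh.inD X (Coh.structureModule X) ⟶ (DCoh.RSheafHom E).obj L)) := by
  let F := DCoh.LTensorCx E
  let G := DCoh.RSheafHom E
  let adj := DCoh.RSheafHomAdj E
  haveI := adj.rightAdjoint_preservesLimits
  haveI : HasBinaryBiproducts (DCoh.D X) := HasBinaryBiproducts.of_hasBinaryProducts
  haveI := preservesBinaryBiproducts_of_preservesBinaryProducts G
  haveI : G.Additive := Functor.additive_of_preservesBinaryBiproducts _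
  let S0 := (HomologicalComplex.single X.Modules (ComplexShape.up ℤ) 0).obj (Coh.structureModule X)
  let sO : DerivedCategory.Q.obj S0 ≅ DCoh.inD X (Coh.structureModule X) :=
    ((DerivedCategory.singleFunctorIsoCompQ X.Modules 0).app (Coh.structureModule X)).symm
  let c := (DCoh.tensorCxQ E).totalLeftDerivedCounit DerivedCategory.Q (qisX X)
  haveI := fun N => isIso_LTensorCx_counit_of_isKFlat_right E hE N
  obtain ⟨u⟩ := nonempty_tensorUnitIso E
  let υ : F.obj (DCoh.inD X (Coh.structureModule X)) ≅ DCoh.toD X E :=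
    (F.mapIso sO).symm ≪≫ asIso (c.app S0) ≪≫ DerivedCategory.Q.mapIso
      ((symmIso (T := DCoh.tensorBi (X := X)) (tensorBiFlipIso X) E).app S0 ≪≫ u)
  have hlin : ∀ a : A, F.map (a • 𝟙 (DCoh.inD X (Coh.structureModule X))) = a • 𝟙 _ := by
    intro a
    have h1 : a • 𝟙 (DCoh.inD X (Coh.structureModule X)) = sO.inv ≫ DerivedCategory.Q.map (a • 𝟙 S0) ≫ sO.hom := by
      rw [Functor.map_smul, CategoryTheory.Functor.map_id, Linear.smul_comp, Category.id_comp, Linear.comp_smul,
        Iso.inv_hom_id]
    have h2 : F.map (DerivedCategory.Q.map (a • 𝟙 S0)) = a • 𝟙 _ := by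
      rw [← cancel_mono (c.app S0), Linear.smul_comp, Category.id_comp]
      refine (c.naturality (a • 𝟙 S0)).trans ?_
      show c.app S0 ≫ DerivedCategory.Q.map (((DCoh.tensorCx (X := X)).flip.obj E).map (a • 𝟙 S0)) = _
      rw [tensorCx_map_smul, Functor.map_smul, CategoryTheory.Functor.map_id, Linear.comp_smul]
      exact congrArg (a • ·) (Category.comp_id _)
    rw [h1, Functor.map_comp, Functor.map_comp, h2, Linear.smul_comp, Category.id_comp, Linear.comp_smul,
      ← Functor.map_comp, Iso.inv_hom_id, CategoryTheory.Functor.map_id]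
  refine ⟨LinearEquiv.ofBijective
    { toFun := fun φ => adj.homEquiv (DCoh.inD X (Coh.structureModule X)) L (υ.hom ≫ φ)
      map_add' := fun φ ψ => by
        simp only [Adjunction.homEquiv_unit, Preadditive.comp_add, Functor.map_add]
      map_smul' := fun a φ => by
        simp only [RingHom.id_apply]
        rw [Linear.comp_smul]
        have h : a • (υ.hom ≫ φ) = F.map (a • 𝟙 (DCoh.inD X (Coh.structureModule X))) ≫ (υ.hom ≫ φ) := by
          rw [hlin, Linear.smul_comp, Category.id_comp]
        rw [h, Adjunction.homEquiv_naturality_left, Linear.smul_comp, Category.id_comp] } ?_⟩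
  refine (adj.homEquiv _ _).bijective.comp ⟨fun φ ψ h => ?_, fun y => ⟨υ.inv ≫ y, υ.hom_inv_id_assoc y⟩⟩
  exact (cancel_epi υ.hom).1 h

section Down

variable [IsNoetherianRing A]

attribute [local instance] KExact.SerreTop.selfOver

/-- Sections of a coherent complex over an affine noetherian scheme form a finite module. -/
theorem finite_hom_spec (C : DCoh.D (Spec (CommRingCat.of A))) (hC : DCoh.IsCohD C) :
    Module.Finite A (DCoh.inD _ (Coh.structureModule (Spec (CommRingCat.of A))) ⟶ C) := by
  let R := CommRingCat.of A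
  haveI : IsNoetherianRing R := ‹IsNoetherianRing A›
  haveI : PreservesFiniteLimits (tilde.functor R) := QCoh.tilde_preservesFiniteLimits
  haveI : PreservesFiniteColimits (tilde.functor R) := QCoh.tilde_preservesFiniteColimits
  obtain ⟨M, ⟨eM⟩⟩ := exists_tildeD_iso (isCohD_isQCohD hC)
  haveI : Module.Finite A (Dual.HD A M 0) := by
    exact (isCoh_tilde_iff _).1 (isCoh_of_iso ((DerivedCategory.homologyFunctor _ 0).mapIso eM.symm ≪≫
      (mapDCHomologyIso (tilde.functor R) 0).app M) (hC 0))
  obtain ⟨e⟩ := exists_homRingLEquiv (A := A) M 0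
  haveI : Module.Finite A (Dual.inD A A ⟶ M⟦(0 : ℤ)⟧) := Module.Finite.equiv e.symm
  haveI : Module.Finite A (Dual.inD A A ⟶ M) :=
    Module.Finite.equiv (Linear.homCongr A (Iso.refl _) ((shiftFunctorZero (Dual.D A) ℤ).app M))
  let eO : DCoh.inD _ (Coh.structureModule (Spec R)) ≅ (DCoh.tildeD R).obj (Dual.inD A A) :=
    (DerivedCategory.singleFunctor (Spec R).Modules 0).mapIso (tildeSelf (R := R)).symm ≪≫
      (((tilde.functor R).mapDerivedCategorySingleFunctor 0).app (ModuleCat.of A A)).symm
  let lin : (Dual.inD A A ⟶ M) →ₗ[A] (DCoh.inD _ (Coh.structureModule (Spec R)) ⟶ C) :=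
    (Linear.homCongr A eO.symm eM).toLinearMap.comp ((DCoh.tildeD R).mapLinearMap A)
  refine Module.Finite.of_surjective lin fun y => ?_
  obtain ⟨g, hg⟩ := (tildeD_map_bijective (R := R) (Dual.inD A A) M).2 ((Linear.homCongr A eO.symm eM).symm y)
  refine ⟨g, ?_⟩
  show Linear.homCongr A eO.symm eM ((DCoh.tildeD R).map g) = y
  rw [hg, LinearEquiv.apply_symm_apply]

/-- Sections of a coherent bounded below complex on a proper scheme form a finite module. -/
theorem finite_hom_structure [IsProper (X ↘ Spec (CommRingCat.of A))] (C : DCoh.D X) (a : ℤ) [C.IsGE a]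
    (hC : DCoh.IsCohD C) : Module.Finite A (DCoh.inD X (Coh.structureModule X) ⟶ C) := by
  let f := X ↘ Spec (CommRingCat.of A)
  haveI := hasRpush_scheme f
  haveI := hasLpull f
  haveI : Scheme.Hom.IsOver f (Spec (CommRingCat.of A)) := ⟨Category.comp_id _⟩
  haveI := SerreTop.additive_rpush f
  haveI := HHLinear.linear_rpush (A := A) f
  obtain ⟨adj⟩ := nonempty_lpull_rpush_adj f
  obtain ⟨w⟩ := SmoothShriek.nonempty_lpull_inD f
  haveI : IsNoetherian (Spec (CommRingCat.of A)) := inferInstance
  haveI := finite_hom_spec ((DCoh.Rpush f).obj C) (isCohD_rpush_of_properSupport f C a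
    (fun i => ⟨hC i, isProperOver_of_isProper f (QCoh.isClosed_support_of_isFT (hC i).1 (hC i).2)⟩))
  let u₀ := adj.homEquiv (DCoh.inD _ (Coh.structureModule _)) (DCoh.inD X (Coh.structureModule X)) w.inv
  let lin : (DCoh.inD X (Coh.structureModule X) ⟶ C) →ₗ[A]
      (DCoh.inD _ (Coh.structureModule _) ⟶ (DCoh.Rpush f).obj C) :=
    (Linear.leftComp A _ u₀).comp ((DCoh.Rpush f).mapLinearMap A)
  have hlin : Function.Bijective lin := by
    have : ⇑lin = fun g => adj.homEquiv _ C (w.inv ≫ g) := funext fun g => by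
      show u₀ ≫ (DCoh.Rpush f).map g = _
      rw [Adjunction.homEquiv_naturality_right]
    rw [this]
    exact (adj.homEquiv _ _).bijective.comp ⟨fun g g' h => (cancel_epi w.inv).1 h, fun y => ⟨w.hom ≫ y, w.inv_hom_id_assoc y⟩⟩
  exact Module.Finite.equiv (LinearEquiv.ofBijective lin hlin).symm

/-- `Hom(K, L)` is finite. -/
theorem finite_hom [IsProper (X ↘ Spec (CommRingCat.of A))] (K L : DCoh.D X) (b a : ℤ) [K.IsLE b] [L.IsGE a]
    (hK : DCoh.IsCohD K) (hL : DCoh.IsCohD L) : Module.Finite A (K ⟶ L) := by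
  haveI : IsNoetherian X := BCNat.isNoetherian_of_ft (X ↘ Spec (CommRingCat.of A))
  obtain ⟨E, hE, ⟨eE⟩⟩ := exists_kFlat_rep K
  haveI := hasLTensorCx E
  haveI := hasRSheafHom_of_isKFlat E hE
  haveI : (DCoh.toD X E).IsLE b := DerivedCategory.TStructure.t.isLE_of_iso eE.symm b
  obtain ⟨hG, a', ha'⟩ := Groth.Agent.S1116.result X E b (isCohD_of_iso eE.symm hK) L a hL
  haveI := ha'
  obtain ⟨e⟩ := exists_homLEquiv (A := A) E hE L
  haveI := finite_hom_structure (A := A) ((DCoh.RSheafHom E).obj L) a' hG
  haveI : Module.Finite A (DCoh.toD X E ⟶ L) := Module.Finite.equiv e.symm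
  exact Module.Finite.equiv (Linear.homCongr A eE (Iso.refl L))

end Down

end Groth.Agent.KExact.HomFinite
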