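import Groth.Agent.KExact.RHomOClosed
import Groth.Agent.KFlatLib.Scheme.ProjFormula

/-!
# `i_* RHom(O_Z, -) = RSheafHom(i_* O_Z, -)` as functors on `D⁺`
-/

set_option autoImplicit false
set_option linter.style.haveILetI false
set_option linter.unusedSectionVars false
set_option backward.isDefEq.respectTransparency false
set_option backward.isDefEq.respectTransparency.types false

universe u

open CategoryTheory CategoryTheory.Limits AlgebraicGeometry

attribute [local instance] HasDerivedCategory.standard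

namespace Groth.Agent.KExact.RHomO

open KFlatLib

section Cmp

variable {X : Scheme.{u}} (P : CochainComplex X.Modules ℤ) [DCoh.HasLTensorCx P] [DCoh.HasRSheafHom P]

/-- The comparison `iHom(P, I) ⟶ RSheafHom(P, I)`, natural in `I`. -/
noncomputable def iHomCmp : iHom P ⋙ DerivedCategory.Q ⟶ DerivedCategory.Q ⋙ DCoh.RSheafHom P where
  app I := (DCoh.RSheafHomAdj P).homEquiv _ _
    (((DCoh.tensorCxQ P).totalLeftDerivedCounit DerivedCategory.Q (qisX X)).app ((iHom P).obj I) ≫
      DerivedCategory.Q.map ((iHomAdj P).counit.app I))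
  naturality I I' g := by
    let c := (DCoh.tensorCxQ P).totalLeftDerivedCounit DerivedCategory.Q (qisX X)
    simp only [Functor.comp_map]
    rw [← (DCoh.RSheafHomAdj P).homEquiv_naturality_left, ← (DCoh.RSheafHomAdj P).homEquiv_naturality_right]
    refine congrArg _ ?_
    rw [Category.assoc, ← Functor.map_comp, ← (iHomAdj P).counit_naturality, Functor.map_comp]
    exact ((Category.assoc _ _ _).symm.trans (congrArg (· ≫ _) (c.naturality ((iHom P).map g)))).trans
      (Category.assoc _ _ _)

/-- The comparison is invertible at K-injective complexes with injective terms, for K-flat `P`. -/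
lemma isIso_iHomCmp (hP : DCoh.IsKFlat P) (I : CochainComplex X.Modules ℤ) [I.IsKInjective]
    [∀ n, Injective (I.X n)] : IsIso ((iHomCmp P).app I) := by
  let A := (iHom P).obj I
  let c := (DCoh.tensorCxQ P).totalLeftDerivedCounit DerivedCategory.Q (qisX X)
  haveI := fun N => isIso_LTensorCx_counit_of_isKFlat_right P hP N
  haveI := isKInjective_iHom hP I
  let adj := DCoh.RSheafHomAdj P
  have key : ∀ (N : CochainComplex X.Modules ℤ) (g : N ⟶ A),
      (adj.homEquiv _ _).symm (DerivedCategory.Q.map g ≫ (iHomCmp P).app I) =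
        c.app N ≫ DerivedCategory.Q.map (((iHomAdj P).homEquiv N I).symm g) := fun N g => by
    refine (Equiv.symm_apply_eq _).2 ?_
    refine (adj.homEquiv_naturality_left _ _).symm.trans (congrArg _ ?_)
    refine Eq.trans ?_ (congrArg (fun z => c.app N ≫ DerivedCategory.Q.map z)
      ((iHomAdj P).homEquiv_counit N I g).symm)
    refine Eq.trans ?_ (congrArg (c.app N ≫ ·) (DerivedCategory.Q.map_comp _ _).symm)
    exact ((Category.assoc _ _ _).symm.trans (congrArg (· ≫ _) (c.naturality g))).trans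
      (Category.assoc _ _ _)
  refine isIso_of_yoneda_map_bijective _ fun Z => ?_
  obtain ⟨N, hN, ⟨e⟩⟩ := exists_kFlat_rep Z
  suffices h : Function.Bijective (fun a : DerivedCategory.Q.obj N ⟶ DerivedCategory.Q.obj A =>
      a ≫ (iHomCmp P).app I) by
    refine ⟨fun z z' hz => (cancel_epi e.hom).1 (h.1 ?_), fun y => ?_⟩
    · simp only [Category.assoc] at hz ⊢
      exact congrArg (e.hom ≫ ·) hz
    · obtain ⟨z, hz⟩ := h.2 (e.hom ≫ y)
      refine ⟨e.inv ≫ z, ?_⟩
      change (e.inv ≫ z) ≫ _ = y
      simp only [Category.assoc] at hz ⊢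
      exact (congrArg (e.inv ≫ ·) hz).trans (Iso.inv_hom_id_assoc e y)
  refine ⟨fun a a' h => ?_, fun y => ?_⟩
  · obtain ⟨g, rfl⟩ := exists_Q_map a
    obtain ⟨g', rfl⟩ := exists_Q_map a'
    have h' := congrArg (adj.homEquiv (DerivedCategory.Q.obj N) _).symm h
    simp only [key] at h'
    obtain ⟨H⟩ := (Inner.nonempty_homotopy_iff (DCoh.tensorBi (X := X)) g g').2
      (homotopy_of_Q_map_eq _ _ ((cancel_epi (c.app N)).1 h'))
    exact DerivedCategory.Q_map_eq_of_homotopy _ H
  · obtain ⟨b, hb⟩ := exists_Q_map (inv (c.app N) ≫ (adj.homEquiv _ _).symm y)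
    refine ⟨DerivedCategory.Q.map ((iHomAdj P).homEquiv N I b), (adj.homEquiv _ _).symm.injective ?_⟩
    rw [key, Equiv.symm_apply_apply, hb]
    exact IsIso.hom_inv_id_assoc (c.app N) _

end Cmp

/-- Isomorphisms of functors descend along a full, essentially surjective functor. -/
lemma nonempty_iso_of_comp_iso {A B C : Type*} [Category A] [Category B] [Category C] (L : A ⥤ B)
    [L.Full] [L.EssSurj] {F G : B ⥤ C} (M : L ⋙ F ≅ L ⋙ G) : Nonempty (F ≅ G) := by
  refine ⟨NatIso.ofComponents (fun b => (F.mapIso (L.objObjPreimageIso b)).symm ≪≫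
    M.app (L.objPreimage b) ≪≫ G.mapIso (L.objObjPreimageIso b)) fun {b b'} f => ?_⟩
  obtain ⟨g, hg⟩ := L.map_surjective ((L.objObjPreimageIso b).hom ≫ f ≫ (L.objObjPreimageIso b').inv)
  have h := M.hom.naturality g
  simp only [Functor.comp_map, hg, Functor.map_comp] at h
  simp only [Iso.trans_hom, Iso.symm_hom, Functor.mapIso_inv, Functor.mapIso_hom, Iso.app_hom,
    Category.assoc]
  rw [← cancel_epi (F.map (L.objObjPreimageIso b).hom)]
  simp only [Category.assoc] at h ⊢
  rw [reassoc_of% h, Iso.map_hom_inv_id_assoc]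
  simp [← Functor.map_comp]

variable {X Z : Scheme.{u}} (i : Z ⟶ X) [IsClosedImmersion i] [Dual3.HasHomO i]

/-- `i_* Hom(O_Z, -)` on complexes is `iHom` out of `i_* O_Z`. -/
theorem nonempty_push_homO_natIso : Nonempty ((Dual3.homO i ⋙ Scheme.Modules.pushforward i).mapHomologicalComplex
    (ComplexShape.up ℤ) ≅ iHom (pushO i)) := by
  let e : Dual3.homO i ≅ ClosedShriek.shriek i :=
    (Dual3.homOAdj i).rightAdjointUniq (ClosedShriek.shriekAdj i)
  haveI : (SheafHomX.hom ((Scheme.Modules.pushforward i).obj (Coh.structureModule Z))).Additive :=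
    (SheafHomX.adj _).right_adjoint_additive
  obtain ⟨e'⟩ := nonempty_iHom_single_iso ((Scheme.Modules.pushforward i).obj (Coh.structureModule Z))
  exact ⟨NatIso.mapHomologicalComplex (Functor.isoWhiskerRight e _ ≪≫ (ClosedShriek.shriekPushIso i).symm)
    (ComplexShape.up ℤ) ≪≫ e'.symm⟩

variable [EnoughInjectives X.Modules]

/-- Bounded below complexes of injectives, as complexes. -/
noncomputable abbrev injCx : CochainComplex.Plus (InjectiveObject X.Modules) ⥤ CochainComplex X.Modules ℤ :=
  (InjectiveObject.ι X.Modules).mapCochainComplexPlus ⋙ CochainComplex.Plus.ι X.Modules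

/-- Bounded below complexes of injectives, in `D⁺`. -/
noncomputable abbrev injQ : HomotopyCategory.Plus (InjectiveObject X.Modules) ⥤ DerivedCategory.Plus X.Modules :=
  (InjectiveObject.ι X.Modules).mapHomotopyCategoryPlus ⋙ DerivedCategory.Plus.Qh

/-- Complexes of injectives see all morphisms of `D⁺`. -/
lemma full_injQ : (injQ (X := X)).Full := ⟨fun {K L} f => by
  let ιc := (InjectiveObject.ι X.Modules).mapHomologicalComplex (ComplexShape.up ℤ)
  obtain ⟨a, ha⟩ := (HomotopyCategory.plus_quotient_obj_iff _).1 L.property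
  haveI := ha
  haveI : CochainComplex.IsStrictlyGE (ιc.obj L.obj.as) a :=
    (CochainComplex.isStrictlyGE_iff _ _).2 fun n hn =>
      (InjectiveObject.ι X.Modules).map_isZero (CochainComplex.isZero_of_isStrictlyGE L.obj.as a n hn)
  haveI : ∀ n, Injective ((ιc.obj L.obj.as).X n) := fun n => (L.obj.as.X n).2
  haveI : CochainComplex.IsKInjective (ιc.obj L.obj.as) := CochainComplex.isKInjective_of_injective _ a
  let q := (DerivedCategory.quotientCompQhIso X.Modules)
  obtain ⟨g, hg⟩ := exists_Q_map (K := ιc.obj K.obj.as) (I := ιc.obj L.obj.as)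
    (q.inv.app _ ≫ DerivedCategory.Plus.ι.map f ≫ q.hom.app _)
  obtain ⟨g', rfl⟩ : ∃ g', ιc.map g' = g :=
    ⟨{ f := fun n => ObjectProperty.homMk (g.f n)
       comm' := fun n m h => ObjectProperty.hom_ext _ (g.comm' n m h) }, rfl⟩
  refine ⟨ObjectProperty.homMk ((HomotopyCategory.quotient _ _).map g'), DerivedCategory.Plus.ι.map_injective ?_⟩
  refine (cancel_mono (q.hom.app _)).1 ((q.hom.naturality (ιc.map g')).trans ?_)
  rw [hg, ← Category.assoc, Iso.hom_inv_id_app]
  exact Category.id_comp _⟩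

/-- `RHom(O_Z, -)` at complexes of injectives. -/
theorem nonempty_RHomOPlus_injQ :
    Nonempty (HomotopyCategory.Plus.quotient _ ⋙ injQ ⋙ Dual3.RHomOPlus i ⋙ DerivedCategory.Plus.ι ≅
      injCx ⋙ (Dual3.homO i).mapHomologicalComplex (ComplexShape.up ℤ) ⋙ DerivedCategory.Q) := by
  let G := Dual3.homO i
  let c : ∀ K, DerivedCategory.Q.obj ((G.mapHomologicalComplex (ComplexShape.up ℤ)).obj (injCx.obj K)) ≅
      ((Dual3.RHomOPlus i).obj (injQ.obj ((HomotopyCategory.Plus.quotient _).obj K))).obj := fun K =>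
    ((DerivedCategory.quotientCompQhIso Z.Modules).app _).symm ≪≫ DerivedCategory.Plus.ι.mapIso
      (asIso (G.rightDerivedFunctorPlusUnit.app
        ((HomotopyCategory.Plus.quotient X.Modules).obj ((InjectiveObject.ι X.Modules).mapCochainComplexPlus.obj K))))
  refine ⟨(NatIso.ofComponents c fun {K L} g => ?_).symm⟩
  have h1 := (DerivedCategory.quotientCompQhIso Z.Modules).inv.naturality
    ((G.mapHomologicalComplex (ComplexShape.up ℤ)).map (injCx.map g))
  have h2 := congrArg (fun z => DerivedCategory.Plus.ι.map z) (G.rightDerivedFunctorPlusUnit.naturality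
    ((HomotopyCategory.Plus.quotient X.Modules).map ((InjectiveObject.ι X.Modules).mapCochainComplexPlus.map g)))
  simp only [Functor.map_comp] at h2
  refine ((Category.assoc _ _ _).symm.trans (congrArg (· ≫ _) h1)).trans ?_
  exact ((Category.assoc _ _ _).trans (congrArg (_ ≫ ·) h2)).trans (Category.assoc _ _ _).symm

variable [PreservesFiniteLimits (Scheme.Modules.pushforward i)]
  [PreservesFiniteColimits (Scheme.Modules.pushforward i)]

/-- The comparison. -/
theorem nonempty_pushD_RHomOPlus_iso (E : CochainComplex X.Modules ℤ)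
    (eE : DCoh.toD X E ≅ DCoh.inD X ((Scheme.Modules.pushforward i).obj (Coh.structureModule Z)))
    [DCoh.HasLTensorCx E] [DCoh.HasRSheafHom E] :
    Nonempty (Dual3.RHomOPlus i ⋙ (DerivedCategory.Plus.ι : DerivedCategory.Plus Z.Modules ⥤ DCoh.D Z) ⋙
        Dual3.pushD i ≅ (DerivedCategory.Plus.ι : DerivedCategory.Plus X.Modules ⥤ DCoh.D X) ⋙
          DCoh.RSheafHom E) := by
  let P := (kRes X).obj (pushO i)
  let ψ : P ⟶ pushO i := (flatCover X).ψ.app (pushO i)
  haveI : QuasiIso ψ := (flatCover X).quasiIso_ψ (pushO i)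
  haveI := isIso_Q_map ψ inferInstance
  haveI := hasLTensorCx P
  haveI := hasRSheafHom_of_isKFlat P (isKFlat_kRes (pushO i))
  let eP : DerivedCategory.Q.obj P ≅ DerivedCategory.Q.obj E :=
    asIso (DerivedCategory.Q.map ψ) ≪≫
      ((DerivedCategory.singleFunctorIsoCompQ X.Modules 0).app _).symm ≪≫ eE.symm
  obtain ⟨eL⟩ := nonempty_LTensorCx_congr_D eP
  let eR : DCoh.RSheafHom P ≅ DCoh.RSheafHom E :=
    ((DCoh.RSheafHomAdj P).ofNatIsoLeft eL).rightAdjointUniq (DCoh.RSheafHomAdj E)
  haveI : ∀ K : CochainComplex.Plus (InjectiveObject X.Modules), ∀ n, Injective ((injCx.obj K).X n) :=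
    fun K n => (K.obj.X n).2
  haveI : ∀ K : CochainComplex.Plus (InjectiveObject X.Modules), (injCx.obj K).IsKInjective := fun K => by
    obtain ⟨a, ha⟩ := ((InjectiveObject.ι X.Modules).mapCochainComplexPlus.obj K).property
    haveI : (injCx.obj K).IsStrictlyGE a := ha
    exact CochainComplex.isKInjective_of_injective (injCx.obj K) a
  haveI : ∀ K, IsIso ((Functor.whiskerLeft injCx (Functor.whiskerRight
      (Inner.innerMap DCoh.tensorBi ψ) DerivedCategory.Q)).app K) := fun K =>
    isIso_Q_map _ (quasiIso_iHomMap ψ (injCx.obj K))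
  haveI : ∀ K, IsIso ((Functor.whiskerLeft injCx (iHomCmp P)).app K) := fun K =>
    isIso_iHomCmp P (isKFlat_kRes _) (injCx.obj K)
  haveI := NatIso.isIso_of_isIso_app (Functor.whiskerLeft injCx (Functor.whiskerRight
      (Inner.innerMap DCoh.tensorBi ψ) DerivedCategory.Q))
  haveI := NatIso.isIso_of_isIso_app (Functor.whiskerLeft injCx (iHomCmp P))
  obtain ⟨e₁⟩ := nonempty_RHomOPlus_injQ i
  obtain ⟨e₂⟩ := nonempty_push_homO_natIso i
  let push := Scheme.Modules.pushforward i
  let s₁ : ((Dual3.homO i).mapHomologicalComplex (ComplexShape.up ℤ) ⋙ DerivedCategory.Q) ⋙ Dual3.pushD i ≅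
      iHom (pushO i) ⋙ DerivedCategory.Q :=
    Functor.associator _ _ _ ≪≫ Functor.isoWhiskerLeft _ push.mapDerivedCategoryFactors ≪≫
      (Functor.associator _ _ _).symm ≪≫
      Functor.isoWhiskerRight ((Functor.mapHomologicalComplexCompIso (Iso.refl _) _) ≪≫ e₂) DerivedCategory.Q
  let N : (HomotopyCategory.Plus.quotient _ ⋙ injQ ⋙ Dual3.RHomOPlus i ⋙ DerivedCategory.Plus.ι) ⋙
        Dual3.pushD i ≅
      HomotopyCategory.Plus.quotient _ ⋙ injQ ⋙ DerivedCategory.Plus.ι ⋙ DCoh.RSheafHom E :=
    Functor.isoWhiskerRight e₁ _ ≪≫ Functor.associator _ _ _ ≪≫ Functor.isoWhiskerLeft injCx s₁ ≪≫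
      asIso (Functor.whiskerLeft injCx (Functor.whiskerRight
        (Inner.innerMap DCoh.tensorBi ψ) DerivedCategory.Q)) ≪≫
      asIso (Functor.whiskerLeft injCx (iHomCmp P)) ≪≫
      Functor.isoWhiskerLeft (injCx ⋙ DerivedCategory.Q) eR ≪≫
      Functor.isoWhiskerRight (Functor.isoWhiskerLeft injCx (DerivedCategory.quotientCompQhIso X.Modules).symm) _
  let M : injQ ⋙ Dual3.RHomOPlus i ⋙ DerivedCategory.Plus.ι ⋙ Dual3.pushD i ≅
      injQ ⋙ DerivedCategory.Plus.ι ⋙ DCoh.RSheafHom E :=
    NatIso.ofComponents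
      (fun K => N.app ⟨K.obj.as, (HomotopyCategory.plus_quotient_obj_iff _).1 K.property⟩)
      (fun {K L} g => by
        obtain ⟨g', hg'⟩ : ∃ g', (HomotopyCategory.quotient _ (ComplexShape.up ℤ)).map g' = g.hom :=
          (HomotopyCategory.quotient _ (ComplexShape.up ℤ)).map_surjective g.hom
        have h := N.hom.naturality (X := ⟨K.obj.as, (HomotopyCategory.plus_quotient_obj_iff _).1 K.property⟩)
          (Y := ⟨L.obj.as, (HomotopyCategory.plus_quotient_obj_iff _).1 L.property⟩) (ObjectProperty.homMk g')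
        have hg : (HomotopyCategory.Plus.quotient (InjectiveObject X.Modules)).map
            (X := ⟨K.obj.as, (HomotopyCategory.plus_quotient_obj_iff _).1 K.property⟩)
            (Y := ⟨L.obj.as, (HomotopyCategory.plus_quotient_obj_iff _).1 L.property⟩)
            (ObjectProperty.homMk g') = g := ObjectProperty.hom_ext _ hg'
        refine Eq.trans ?_ (h.trans ?_)
        · rw [← hg]; rfl
        · rw [← hg]; rfl)
  haveI := full_injQ (X := X)
  exact nonempty_iso_of_comp_iso (injQ (X := X)) M

end Groth.Agent.KExact.RHomO
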