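import Groth.Agent.KExact.ProjTilting
import Groth.Agent.S0889
import Groth.Agent.KExact.A1Shriek
import Groth.Agent.KFlatLib.Scheme.RpushPerfect
import Groth.Agent.H28.PnFlat
import Groth.Agent.Lib.SmoothPn
import Groth.Agent.H28.FlatPr

/-!
# Pseudo-coherent objects of projective space are detected by twists
-/

set_option linter.style.haveILetI false
set_option backward.isDefEq.respectTransparency false
set_option backward.isDefEq.respectTransparency.types false

universe u

open CategoryTheory CategoryTheory.Limits AlgebraicGeometry Pretriangulated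

attribute [local instance] HasDerivedCategory.standard
attribute [local instance] MvPolynomial.gradedAlgebra
attribute [local instance] Groth.Agent.H23.PicMul.clMonoid

namespace Groth.Agent.KExact.ProjPC

open Groth.Agent Groth.Agent.KFlatLib ProjTw ProjTilting

/-- Direct images of invertible twists of pseudo-coherent objects. -/
theorem locPC_rpush_twist {X S : Scheme.{u}} (f : X ⟶ S) [IsProper f] [Flat f] [LocallyOfFinitePresentation f]
    [DCoh.HasRpush f] (L : X.Modules) (hL : PicF.IsInvertible L)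
    [DCoh.HasLTensorCx ((HomologicalComplex.single X.Modules (ComplexShape.up ℤ) 0).obj L)]
    (E : DCoh.D X) (hE : ∀ m, LocPC m E) (m : ℤ) :
    LocPC m ((DCoh.Rpush f).obj
      ((DCoh.LTensorCx ((HomologicalComplex.single X.Modules (ComplexShape.up ℤ) 0).obj L)).obj E)) := by
  let G := (HomologicalComplex.single X.Modules (ComplexShape.up ℤ) 0).obj L
  have hLf := H23.PullPush.isFinLocFree_of_isInvertible hL
  have hG : ∀ i, FlatMod.IsFinLocFree (G.X i) := fun i => by
    by_cases hi : i = 0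
    · subst hi
      exact H23.PullPush.isFinLocFree_of_iso (HomologicalComplex.singleObjXSelf (ComplexShape.up ℤ) 0 L).symm hLf
    · exact isFinLocFree_of_isZero (HomologicalComplex.isZero_single_obj_X _ _ _ _ hi)
  refine (isPseudoCoherentD_iff _ _).1 (Groth.Agent.S7246.result f E (fun k => (isPseudoCoherentD_iff _ _).2 (hE k)) G
    ⟨0, fun i hi => HomologicalComplex.isZero_single_obj_X _ _ _ _ (by omega)⟩
    (fun i => QCoh.isFP_of_isFinLocFree (hG i)) (fun i => H28.FlatPr.isFlatOver_of_isFinLocFree f (hG i))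
    (fun i => isProperOver_of_isProper f (QCoh.isClosed_support_of_isFT (QCoh.isQCoh_of_isFinLocFree (hG i))
      (QCoh.isFT_of_isFP (QCoh.isFP_of_isFinLocFree (hG i))))) m)

/-- Derived direct image along the identity. -/
theorem nonempty_rpush_id (X : Scheme.{u}) [DCoh.HasRpush (𝟙 X)] : Nonempty (DCoh.Rpush (𝟙 X) ≅ 𝟭 _) := by
  haveI := hasLpull (𝟙 X)
  obtain ⟨adj, -⟩ := FlatBC.exists_adj (𝟙 X)
  obtain ⟨e⟩ := A1Shriek.nonempty_lpull_id (𝟙 X) rfl
  exact ⟨(adj.ofNatIsoLeft e).rightAdjointUniq Adjunction.id⟩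

/-- Projective space is smooth over the base. -/
theorem smooth_toSpec (n : ℕ) (A : Type u) [CommRing A] : Smooth (CohB1.ProjSpace.toSpec n A) := by
  haveI := SmoothPn.smoothOfRelativeDimension_toSpec n A
  exact SmoothOfRelativeDimension.smooth n _

variable {n : ℕ} {A : Type u} [CommRing A]

/-- Twisting preserves pseudo-coherence. -/
theorem locPC_tw (a : ℤ) (E : DCoh.D (CohB1.ProjSpace n A)) (hE : ∀ m, LocPC m E) (m : ℤ) :
    LocPC m ((tw n A a).obj E) := by
  let P := CohB1.ProjSpace n A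
  haveI := hasRpush_scheme (𝟙 P)
  haveI := hasLTensorCx ((HomologicalComplex.single P.Modules (ComplexShape.up ℤ) 0).obj (Twist.twistProjSpace n A a))
  obtain ⟨e⟩ := nonempty_rpush_id P
  obtain ⟨t⟩ := nonempty_tw_ltensorCx (n := n) (A := A) a E
  exact (locPC_rpush_twist (𝟙 P) _ (Synt29.PnEuler.isInvertible_O n A a) E hE m).of_iso (e.app _ ≪≫ t.symm)

variable [DCoh.HasRpush (CohB1.ProjSpace.toSpec n A)]

/-- Direct images of twists of pseudo-coherent objects are pseudo-coherent. -/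
theorem locPC_rpush_tw (a : ℤ) (E : DCoh.D (CohB1.ProjSpace n A)) (hE : ∀ m, LocPC m E) (m : ℤ) :
    LocPC m ((DCoh.Rpush (CohB1.ProjSpace.toSpec n A)).obj ((tw n A a).obj E)) := by
  let P := CohB1.ProjSpace n A
  haveI : IsProper (CohB1.ProjSpace.toSpec n A) := PnCoh.Chow.isProper_toSpec n A
  haveI := smooth_toSpec n A
  haveI := hasLTensorCx ((HomologicalComplex.single P.Modules (ComplexShape.up ℤ) 0).obj (Twist.twistProjSpace n A a))
  obtain ⟨t⟩ := nonempty_tw_ltensorCx (n := n) (A := A) a E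
  exact (locPC_rpush_twist (CohB1.ProjSpace.toSpec n A) _ (Synt29.PnEuler.isInvertible_O n A a) E hE m).of_iso
    ((DCoh.Rpush _).mapIso t.symm)

/-- The inductive descent along the twists. -/
theorem locPC_of_twists : ∀ (k j : ℕ), j + k = n + 1 → ∀ (D : DCoh.D (CohB1.ProjSpace n A)), DCoh.IsQCohD D →
    (∀ i : ℕ, 1 ≤ i → i ≤ j → IsZero ((DCoh.Rpush (CohB1.ProjSpace.toSpec n A)).obj ((tw n A (-(i : ℤ))).obj D))) →
    (∀ l : ℕ, l < k → ∀ m, LocPC m ((DCoh.Rpush (CohB1.ProjSpace.toSpec n A)).obj ((tw n A (l : ℤ)).obj D))) →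
    ∀ m, LocPC m D := by
  let π := CohB1.ProjSpace.toSpec n A
  haveI : IsProper π := PnCoh.Chow.isProper_toSpec n A
  haveI := hasLpull π
  obtain ⟨adj, -⟩ := FlatBC.exists_adj π
  obtain ⟨t0⟩ := nonempty_twZero (n := n) (A := A)
  intro k
  induction k with
  | zero =>
    intro j hj D hD hvan _
    obtain rfl : j = n + 1 := by omega
    let E := (tw n A (-((n : ℤ) + 1))).obj D
    have hE : IsZero E := by
      refine Groth.Agent.S1067.result n A E (isQCohD_tw _ hD) fun d hd m φ => ?_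
      haveI := hasLTensorMod (X := CohB1.ProjSpace n A) (Twist.twistProjSpace n A (d : ℤ))
      obtain ⟨eN⟩ := PnCoh.Finite.twist_tensor_iso (𝒜 := CohB1.polyGrading n A)
        (g := fun i : Fin (n + 1) => (MvPolynomial.X i : MvPolynomial (Fin (n + 1)) A)) (fun i => ProjPt.X_mem i)
        (top_le_iff.1 fun y _ => TopologicalSpace.Opens.mem_iSup.2 (ProjUPX.cov_X y)) (-(d : ℤ)) (d : ℤ)
      obtain ⟨e0⟩ := H23.PicMul.cl_eq_iff.1 (Synt29.PnEuler.tw_zero n A)
      refine AmpleTwist.orth_of_ltensor (Synt29.PnEuler.isInvertible_O n A _)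
        (eN ≪≫ eqToIso (congrArg (Twist.twistProjSpace n A) (neg_add_cancel (d : ℤ))) ≪≫ e0) E ?_ m φ
      refine fun m' ψ => ?_
      obtain ⟨c⟩ := nonempty_twComp (n := n) (A := A) (-((n : ℤ) + 1)) (d : ℤ) (-((n + 1 - d : ℕ) : ℤ)) (by omega)
      let e : (DCoh.LTensorMod (Twist.twistProjSpace n A (d : ℤ))).obj E ≅
          (tw n A (-((n + 1 - d : ℕ) : ℤ))).obj D := (ltensorTwIso (d : ℤ)).app E ≪≫ c.app D
      obtain ⟨u⟩ := SmoothShriek.nonempty_lpull_inD π
      have hz := hvan (n + 1 - d) (by omega) (by omega)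
      let W := (tw n A (-((n + 1 - d : ℕ) : ℤ))).obj D
      have key : ∀ (k : ℤ) (χ : DCoh.inD _ (Coh.structureModule (CohB1.ProjSpace n A)) ⟶ W⟦k⟧), χ = 0 := fun k χ => by
        obtain ⟨es⟩ := nonempty_rpush_shift π W k
        have hzk : IsZero ((DCoh.Rpush π).obj (W⟦k⟧)) := ((shiftFunctor _ k).map_isZero hz).of_iso es
        have h0 : u.inv ≫ χ = 0 := (adj.homEquiv _ _).injective (hzk.eq_of_tgt _ _)
        exact (cancel_epi u.inv).1 (h0.trans comp_zero.symm)
      refine (cancel_mono e.hom).1 (((shiftFunctor _ (-m')).map_injective ?_).trans zero_comp.symm)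
      rw [Functor.map_zero]
      exact (cancel_epi ((shiftFunctorCompIsoId _ m' (-m') (by omega)).inv.app _)).1
        ((key (-m') _).trans comp_zero.symm)
    obtain ⟨c⟩ := nonempty_twComp (n := n) (A := A) (-((n : ℤ) + 1)) ((n : ℤ) + 1) 0 (by omega)
    have hD0 : IsZero D :=
      ((tw n A ((n : ℤ) + 1)).map_isZero hE).of_iso ((c.app D ≪≫ t0.app D).symm)
    exact fun m => locPC_of_isZero m D fun i _ => (DerivedCategory.homologyFunctor _ i).map_isZero hD0
  | succ k ih =>
    intro j hj D hD hvan hpc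
    let M := (DCoh.Rpush π).obj D
    have hMpc : ∀ m, LocPC m M := fun m => (hpc 0 k.succ_pos m).of_iso ((DCoh.Rpush π).mapIso (t0.app D))
    have hMq : DCoh.IsQCohD M := isQCohD_rpush π hD
    let P := (DCoh.Lpull π).obj M
    have hPpc : ∀ m, LocPC m P := fun m => (isPseudoCoherentD_iff _ _).1
      (Groth.Agent.S0910.result π m M ((isPseudoCoherentD_iff _ _).2 (hMpc m)))
    have hPq : DCoh.IsQCohD P := Groth.Agent.S1054.result π M hMq
    let ε : P ⟶ D := adj.counit.app D
    obtain ⟨Z, g, δ, hT⟩ := distinguished_cocone_triangle ε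
    have hZq : DCoh.IsQCohD Z := isQCohD_obj₃ hT hPq hD
    have hε : IsIso ((DCoh.Rpush π).map ε) := by
      haveI := isIso_unit n A adj M hMq
      have h := adj.right_triangle_components D
      exact IsIso.of_isIso_fac_left h
    have hZ0 : IsZero ((DCoh.Rpush π).obj Z) := by
      obtain ⟨c, hc⟩ := TriNat.presTri_rpush π _ hT
      exact (Triangle.isZero₃_iff_isIso₁ _ hc).2 hε
    let D' := (tw n A 1).obj Z
    have hD'q : DCoh.IsQCohD D' := isQCohD_tw 1 hZq
    have hvan' : ∀ i : ℕ, 1 ≤ i → i ≤ j + 1 →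
        IsZero ((DCoh.Rpush π).obj ((tw n A (-(i : ℤ))).obj D')) := by
      intro i hi hij
      obtain ⟨c⟩ := nonempty_twComp (n := n) (A := A) 1 (-(i : ℤ)) (-((i - 1 : ℕ) : ℤ)) (by omega)
      refine IsZero.of_iso ?_ ((DCoh.Rpush π).mapIso (c.app Z))
      by_cases h1 : i = 1
      · subst h1
        exact hZ0.of_iso ((DCoh.Rpush π).mapIso (t0.app Z))
      · have hT' := (tw n A (-((i - 1 : ℕ) : ℤ))).map_distinguished _ hT
        obtain ⟨d, hd⟩ := TriNat.presTri_rpush π _ hT'
        exact Triangle.isZero₃_of_isIso₁ _ hd (IsIso.mk ⟨0,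
          (isZero_rpush_tw_lpull n A M hMq (i - 1) (by omega) (by omega)).eq_of_src _ _,
          (hvan (i - 1) (by omega) (by omega)).eq_of_src _ _⟩)
    have hpc' : ∀ l : ℕ, l < k → ∀ m, LocPC m ((DCoh.Rpush π).obj ((tw n A (l : ℤ)).obj D')) := by
      intro l hl m
      obtain ⟨c⟩ := nonempty_twComp (n := n) (A := A) 1 (l : ℤ) ((l + 1 : ℕ) : ℤ) (by push_cast; omega)
      refine LocPC.of_iso ((DCoh.Rpush π).mapIso (c.app Z)).symm ?_
      obtain ⟨d, hd⟩ := TriNat.presTri_rpush π _ ((tw n A ((l + 1 : ℕ) : ℤ)).map_distinguished _ hT)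
      exact (isPseudoCoherentD_iff _ _).1 ((Groth.Agent.S0889.result m _ hd).1
        ((isPseudoCoherentD_iff _ _).2 (locPC_rpush_tw _ P hPpc _))
        ((isPseudoCoherentD_iff _ _).2 (hpc (l + 1) (by omega) m)))
    have hD'pc := ih (j + 1) (by omega) D' hD'q hvan' hpc'
    obtain ⟨c⟩ := nonempty_twComp (n := n) (A := A) 1 (-1) 0 (by omega)
    have hZpc : ∀ m, LocPC m Z := fun m =>
      (locPC_tw (-1) D' hD'pc m).of_iso (c.app Z ≪≫ t0.app Z)
    exact fun m => (isPseudoCoherentD_iff _ _).1 ((Groth.Agent.S0889.result m _ hT).2.1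
      ((isPseudoCoherentD_iff _ _).2 (hPpc m)) ((isPseudoCoherentD_iff _ _).2 (hZpc m)))

end Groth.Agent.KExact.ProjPC
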