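import Groth.Agent.Lib.RegularResolution
import Groth.Agent.AmpleX.ExtendQS
import Groth.Agent.AmpleX.Basis
import Groth.Agent.KFlatLib.Perfect.LocFree
import Groth.Prelude.Def_KSix
import Groth.Prelude.Def_MoreMor
import Groth.Prelude.Def_PerfAux

/-!
# Resolutions by negative powers of an ample family
-/

set_option linter.style.haveILetI false
set_option backward.isDefEq.respectTransparency false
set_option backward.isDefEq.respectTransparency.types false
set_option maxHeartbeats 800000

universe u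

open CategoryTheory CategoryTheory.Limits AlgebraicGeometry TopologicalSpace MonoidalCategory
open Groth.Agent.H23.PicMul

attribute [local instance] Groth.Agent.QCoh.hasFiniteBiproducts

namespace Groth.Agent.KExact.AmpleFamily

open Groth.Agent Groth.Agent.AmpleVan

variable {X : Scheme.{u}}

/-- Affine generating loci covering the scheme make it quasi-separated. -/
theorem quasiSeparatedSpace_of_loci [CompactSpace X] {κ : Type*} (L : κ → X.Modules)
    (hL : ∀ k, PicF.IsInvertible (L k)) (s : ∀ k, Coh.structureModule X ⟶ L k)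
    (haff : ∀ k, IsAffineOpen (CohB1.genLocus (L k) (s k)))
    (hcov : ∀ x, ∃ k, x ∈ CohB1.genLocus (L k) (s k)) : QuasiSeparatedSpace X := by
  refine (quasiSeparatedSpace_iff_forall_affineOpens (X := X)).2 fun U V => ?_
  obtain ⟨t, ht⟩ := isCompact_univ.elim_finite_subcover
    (fun k => (CohB1.genLocus (L k) (s k) : Set X)) (fun k => (CohB1.genLocus (L k) (s k)).2)
    (fun x _ => Set.mem_iUnion.2 (hcov x))
  have h : ((U.1 : Set X) ∩ (V.1 : Set X)) =
      ⋃ k ∈ t, (((U.1 ⊓ CohB1.genLocus (L k) (s k) : X.Opens) : Set X) ∩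
        ((V.1 ⊓ CohB1.genLocus (L k) (s k) : X.Opens) : Set X)) := by
    ext x
    simp only [Set.mem_iUnion, Opens.coe_inf, Set.mem_inter_iff]
    constructor
    · rintro ⟨hU, hV⟩
      obtain ⟨k, hk, hx⟩ := Set.mem_iUnion₂.1 (ht (Set.mem_univ x))
      exact ⟨k, hk, ⟨hU, hx⟩, hV, hx⟩
    · rintro ⟨k, -, ⟨hU, -⟩, hV, -⟩
      exact ⟨hU, hV⟩
  rw [h]
  refine t.finite_toSet.isCompact_biUnion fun k _ => ?_
  exact (haff k).isQuasiSeparated _ _ Set.inter_subset_right (Opens.isOpen _)
    (AmpleX.isAffineOpen_inf_genLocus (hL k) U.2 (s k)).isCompact Set.inter_subset_right (Opens.isOpen _)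
    (AmpleX.isAffineOpen_inf_genLocus (hL k) V.2 (s k)).isCompact

/-- Finite biproducts of finite locally free modules are finite locally free. -/
theorem isFinLocFree_biproduct : ∀ {n : ℕ} (T : Fin n → X.Modules),
    (∀ j, FlatMod.IsFinLocFree (T j)) → FlatMod.IsFinLocFree (⨁ T)
  | 0, T, _ => fun x => by
    refine ⟨⊤, 0, trivial, ⟨?_⟩⟩
    have h : IsZero (⨁ T) := by
      rw [IsZero.iff_id_eq_zero]
      exact biproduct.hom_ext _ _ fun j => Fin.elim0 j
    have h' : IsZero (FlatMod.freeMod ((⊤ : X.Opens) : Scheme.{u}) 0) := by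
      rw [IsZero.iff_id_eq_zero]
      exact Sigma.hom_ext _ _ fun j => Fin.elim0 j
    exact ((Scheme.Modules.restrictFunctor (⊤ : X.Opens).ι).map_isZero h).iso h'
  | n + 1, T, hT => by
    let e : T 0 ⊞ (⨁ fun j : Fin n => T j.succ) ≅ ⨁ T :=
      { hom := biprod.desc (biproduct.ι T 0) (biproduct.desc fun j => biproduct.ι T j.succ)
        inv := biproduct.desc (Fin.cases (motive := fun i => T i ⟶ T 0 ⊞ (⨁ fun j : Fin n => T j.succ))
          biprod.inl (fun j => biproduct.ι (fun j : Fin n => T j.succ) j ≫ biprod.inr))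
        hom_inv_id := by
          apply biprod.hom_ext'
          · rw [biprod.inl_desc_assoc, biproduct.ι_desc, Category.comp_id]
            rfl
          · rw [biprod.inr_desc_assoc, Category.comp_id]
            refine biproduct.hom_ext' _ _ fun j => ?_
            rw [biproduct.ι_desc_assoc, biproduct.ι_desc]
            rfl
        inv_hom_id := by
          refine biproduct.hom_ext' _ _ fun i => ?_
          rw [biproduct.ι_desc_assoc, Category.comp_id]
          induction i using Fin.cases with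
          | zero => exact biprod.inl_desc _ _
          | succ j =>
            simp only [Fin.cases_succ, Category.assoc, biprod.inr_desc, biproduct.ι_desc] }
    exact H23.PullPush.isFinLocFree_of_iso e
      (KFlatLib.isFinLocFree_biprod (hT 0) (isFinLocFree_biproduct _ fun j => hT j.succ))

/-- A module of finite type receives a map from copies of a negative power, onto over the locus
of a section. -/
theorem exists_map_onto_locus [CompactSpace X] [QuasiSeparatedSpace X] {L M : X.Modules}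
    (hL : PicF.IsInvertible L) (hM : PicF.IsInvertible M) (hinv : PicF.cl L * PicF.cl M = 1)
    (s : Coh.structureModule X ⟶ L) (haff : IsAffineOpen (CohB1.genLocus L s))
    {F : X.Modules} (hF : Coh.IsQCoh F) (hF' : CohB1.IsFT F) :
    ∃ (c q : ℕ) (_ : 0 < q) (ψ : Fin c → (CohB1.tensorPow M q ⟶ F)),
      ∀ x ∈ CohB1.genLocus L s, Epi ((DerSch.stalkFunctor X x).map (biproduct.desc ψ)) := by
  classical
  obtain ⟨c, t, ht⟩ := Submodule.fg_iff_exists_fin_generating_family.1
    (QCoh.finite_of_isFT hF hF' haff).fg_top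
  choose n₀ hn₀ using fun j => AmpleX.exists_extend' hF hL s (t j)
  let q := Finset.univ.sup n₀ + 1
  choose T hT using fun j => hn₀ j q ((Finset.le_sup (Finset.mem_univ j)).trans (Nat.le_succ _))
  let G := CohB1.tensorMod F (CohB1.tensorPow L q)
  let P := CohB1.tensorPow M q
  have hP : PicF.IsInvertible P := InvX.isInvertible_tensorPow hM _
  obtain ⟨ψ⟩ : Nonempty ((tw P).obj G ≅ F) := cl_eq_iff.1 (by
    show PicF.cl (CohB1.tensorMod G P) = _
    rw [cl_tensor, cl_tensor, cl_tensorPow, cl_tensorPow, mul_assoc, ← mul_pow, hinv, one_pow, mul_one])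
  obtain ⟨ε⟩ : Nonempty (P ≅ (tw P).obj (Coh.structureModule X)) := cl_eq_iff.1 (by
    show _ = PicF.cl (CohB1.tensorMod (Coh.structureModule X) P)
    rw [cl_tensor, ← one_def, one_mul])
  let q₀ : (⨁ fun _ : Fin c => Coh.structureModule X) ⟶ G := biproduct.desc fun j => InvX.ofSect (T j)
  refine ⟨c, q, Nat.succ_pos _, fun j => ε.hom ≫ (tw P).map (InvX.ofSect (T j)) ≫ ψ.hom, fun x hx => ?_⟩
  have hspan : Submodule.span (X.presheaf.stalk x)
      (Set.range fun j => F.presheaf.germ (CohB1.genLocus L s) x hx (t j)) = ⊤ := by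
    letI := QCoh.stalkAlg (X := X) hx
    letI := QCoh.stalkModule F hx
    haveI := QCoh.isScalarTower_stalk F hx
    haveI := QCoh.isLocalization_stalk' haff hx
    haveI := QCoh.isLocalizedModule_germLin hF haff hx
    have h1 : Submodule.localized' (X.presheaf.stalk x) (haff.primeIdealOf ⟨x, hx⟩).asIdeal.primeCompl
        (QCoh.germLin F hx) (Submodule.span Γ(X, CohB1.genLocus L s) (Set.range t)) = ⊤ := by
      rw [ht, Submodule.localized'_top]
    rw [Submodule.localized'_span, ← Set.range_comp] at h1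
    exact h1
  have h2 := AmpleX.span_germ_tmul_eq_top hx t hspan
    (AmpleX.isFrame_powElt (AmpleX.res_genLocus_frame s) q)
  haveI : Epi ((DerSch.stalkFunctor X x).map q₀) := RegularResolution.epi_stalk_desc T x
    (top_le_iff.1 (h2.ge.trans (Submodule.span_mono (Set.range_subset_iff.2 fun j => ⟨j, by
      show G.presheaf.germ ⊤ x trivial (T j) = _
      rw [← hT j]
      exact (InvX.germ_res' le_top hx (T j)).symm⟩))))
  haveI hq : Epi ((DerSch.stalkFunctor X x).map ((tw P).map q₀)) := RegularResolution.epi_stalk_tw P q₀ x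
  -- compare with the sum of copies of the twist
  let θ : (tw P).obj (⨁ fun _ : Fin c => Coh.structureModule X) ⟶ ⨁ fun _ : Fin c => P :=
    biproduct.lift fun j => (tw P).map (biproduct.π (fun _ : Fin c => Coh.structureModule X) j) ≫ ε.inv
  have hθ : θ ≫ biproduct.desc (fun j => ε.hom ≫ (tw P).map (InvX.ofSect (T j)) ≫ ψ.hom) =
      (tw P).map q₀ ≫ ψ.hom := by
    rw [biproduct.lift_desc]
    have h3 : (tw P).map q₀ = ∑ j, (tw P).map (biproduct.π (fun _ : Fin c => Coh.structureModule X) j) ≫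
        (tw P).map (InvX.ofSect (T j)) := by
      conv_lhs => rw [← Category.id_comp ((tw P).map q₀), ← total_twSum hP c, Preadditive.sum_comp]
      refine Finset.sum_congr rfl fun j _ => ?_
      rw [Category.assoc, ← Functor.map_comp, biproduct.ι_desc]
    rw [h3, Preadditive.sum_comp]
    refine Finset.sum_congr rfl fun j _ => ?_
    simp only [Category.assoc, Iso.inv_hom_id_assoc]
  haveI : Epi ((DerSch.stalkFunctor X x).map ((tw P).map q₀ ≫ ψ.hom)) := by
    rw [Functor.map_comp]
    exact epi_comp _ _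
  exact epi_of_epi_fac (f := (DerSch.stalkFunctor X x).map θ)
    (h := (DerSch.stalkFunctor X x).map ((tw P).map q₀ ≫ ψ.hom)) (by rw [← Functor.map_comp, hθ])

/-- Modules of finite type are quotients of sums of negative powers of an ample family. -/
theorem exists_epi_inAddL {ι : Type*} (L : ι → X.Modules) (hL : KSix.IsAmpleFamily L)
    (F : X.Modules) (hF : Coh.IsQCoh F) (hF' : CohB1.IsFT F) :
    ∃ (M : X.Modules) (π : M ⟶ F), KSix.InAddL L M ∧ FlatMod.IsFinLocFree M ∧ Epi π := by
  classical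
  obtain ⟨hc, hqs, hinv, hx⟩ := hL
  choose i n s hs ha using hx
  choose D hD hD' using fun j => H23.PicInv.exists_inverse (hinv j)
  obtain ⟨S, hS⟩ := isCompact_univ.elim_finite_subcover
    (fun x => (CohB1.genLocus _ (s x) : Set X)) (fun x => (CohB1.genLocus _ (s x)).2)
    (fun x _ => Set.mem_iUnion.2 ⟨x, hs x⟩)
  have hcl : ∀ (j : ι) (m : ℕ), PicF.cl (CohB1.tensorPow (L j) m) * PicF.cl (CohB1.tensorPow (D j) m) = 1 :=
    fun j m => by
    obtain ⟨e⟩ := hD' j
    rw [cl_tensorPow, cl_tensorPow, ← mul_pow, ← cl_tensor, cl_eq_iff.2 ⟨e⟩, ← one_def, one_pow]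
  choose c q hq ψ hψ using fun x : S => exists_map_onto_locus
    (InvX.isInvertible_tensorPow (hinv (i x.1)) (n x.1 + 1))
    (InvX.isInvertible_tensorPow (hD (i x.1)) (n x.1 + 1)) (hcl _ _) (s x.1) (ha x.1) hF hF'
  let k := Fintype.card (Σ x : S, Fin (c x))
  let e : Fin k ≃ Σ x : S, Fin (c x) := (Fintype.equivFin _).symm
  let N : Fin k → X.Modules := fun j =>
    CohB1.tensorPow (CohB1.tensorPow (D (i (e j).1.1)) (n (e j).1.1 + 1)) (q (e j).1)
  refine ⟨⨁ N, biproduct.desc fun j => ψ (e j).1 (e j).2,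
    ⟨k, N, fun j => ⟨i (e j).1.1, (n (e j).1.1 + 1) * q (e j).1, Nat.mul_pos (Nat.succ_pos _) (hq _), ?_⟩,
      ⟨Iso.refl _⟩⟩,
    isFinLocFree_biproduct N fun j => H23.PullPush.isFinLocFree_of_isInvertible
      (InvX.isInvertible_tensorPow (InvX.isInvertible_tensorPow (hD _) _) _), ?_⟩
  · refine cl_eq_iff.1 ?_
    rw [cl_tensor, cl_tensorPow, cl_tensorPow, cl_tensorPow, ← pow_mul, ← mul_pow, mul_comm (PicF.cl (D _))]
    have h1 := hcl (i (e j).1.1) 1
    rw [cl_tensorPow, cl_tensorPow, pow_one, pow_one] at h1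
    rw [h1, one_pow, one_def]
  · refine RegularResolution.epi_of_stalk _ fun z => ?_
    obtain ⟨y, hy, hzy⟩ := Set.mem_iUnion₂.1 (hS (Set.mem_univ z))
    haveI := hψ ⟨y, hy⟩ z hzy
    suffices H : ∀ (x : S), ∃ θ, θ ≫ biproduct.desc (fun j => ψ (e j).1 (e j).2) = biproduct.desc (ψ x) by
      obtain ⟨θ, hθ⟩ := H ⟨y, hy⟩
      exact epi_of_epi_fac (f := (DerSch.stalkFunctor X z).map θ)
        (h := (DerSch.stalkFunctor X z).map (biproduct.desc (ψ ⟨y, hy⟩))) (by rw [← Functor.map_comp, hθ])
    intro x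
    have hm : ∀ a : Fin (c x), ∃ θ : CohB1.tensorPow (CohB1.tensorPow (D (i x.1)) (n x.1 + 1)) (q x) ⟶ ⨁ N,
        θ ≫ biproduct.desc (fun j => ψ (e j).1 (e j).2) = ψ x a := fun a => by
      obtain ⟨j, hj⟩ := e.surjective ⟨x, a⟩
      have : ∀ (p p' : Σ x : S, Fin (c x)), p = p' →
          ∃ φ : CohB1.tensorPow (CohB1.tensorPow (D (i p'.1.1)) (n p'.1.1 + 1)) (q p'.1) ⟶
            CohB1.tensorPow (CohB1.tensorPow (D (i p.1.1)) (n p.1.1 + 1)) (q p.1),
            φ ≫ ψ p.1 p.2 = ψ p'.1 p'.2 := by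
        rintro p _ rfl
        exact ⟨𝟙 _, Category.id_comp _⟩
      obtain ⟨φ, hφ⟩ := this _ _ hj
      exact ⟨φ ≫ biproduct.ι N j, (Category.assoc _ _ _).trans
        ((congrArg (φ ≫ ·) (biproduct.ι_desc _ j)).trans hφ)⟩
    choose θ hθ using hm
    exact ⟨biproduct.desc θ, biproduct.hom_ext' _ _ fun a => by
      rw [biproduct.ι_desc_assoc, hθ, biproduct.ι_desc]⟩

/-- A scheme with an ample family is quasi-separated and has an ample family in data form. -/
theorem isAmpleFamily_of_hasAmpleFamily (hX : MoreMor.HasAmpleFamily X) :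
    ∃ (ι : Type u) (L : ι → X.Modules), KSix.IsAmpleFamily L := by
  obtain ⟨hc, hx⟩ := hX
  choose L n s hinv hn hs ha using hx
  haveI := hc
  refine ⟨X, L, hc, quasiSeparatedSpace_of_loci (fun x => CohB1.tensorPow (L x) (n x))
    (fun x => InvX.isInvertible_tensorPow (hinv x) _) s ha (fun x => ⟨x, hs x⟩), hinv, fun x => ?_⟩
  obtain ⟨m, hm⟩ := Nat.exists_eq_add_of_le' (hn x)
  refine ⟨x, m, ?_⟩
  have h : ∀ (a b : ℕ), a = b → (∃ t : Coh.structureModule X ⟶ CohB1.tensorPow (L x) a,
      x ∈ CohB1.genLocus _ t ∧ IsAffineOpen (CohB1.genLocus _ t)) →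
      ∃ t : Coh.structureModule X ⟶ CohB1.tensorPow (L x) b,
      x ∈ CohB1.genLocus _ t ∧ IsAffineOpen (CohB1.genLocus _ t) := by
    rintro a _ rfl h
    exact h
  exact h _ _ hm ⟨s x, hs x, ha x⟩

theorem hasResolutionProperty (hX : MoreMor.HasAmpleFamily X) : PerfAux.HasResolutionProperty X := by
  obtain ⟨ι, L, hL⟩ := isAmpleFamily_of_hasAmpleFamily hX
  intro F hF hF'
  obtain ⟨M, π, -, hM, hπ⟩ := exists_epi_inAddL L hL F hF hF'
  exact ⟨M, π, hM, hπ⟩

end Groth.Agent.KExact.AmpleFamily
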