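import Groth.Agent.KExact.SPerfectMain
import Groth.Agent.KExact.AmpleFamily
import Groth.Agent.KFlatLib.Perfect.DLocal

/-!
# Resolutions of perfect objects by sums of negative powers of an ample family
-/

set_option linter.style.haveILetI false
set_option backward.isDefEq.respectTransparency false
set_option backward.isDefEq.respectTransparency.types false
set_option maxHeartbeats 1600000

universe u

open CategoryTheory CategoryTheory.Limits AlgebraicGeometry Pretriangulated CochainComplex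

attribute [local instance] HasDerivedCategory.standard

namespace Groth.Agent.KExact.SPerfect

open Groth.Agent Groth.Agent.KFlatLib
open scoped ZeroObject

variable {X : Scheme.{u}}

/-- Forms of a cone on a single module. -/
lemma cone_sg_terms {m : ℤ} {E : X.Modules} {P : CochainComplex X.Modules ℤ} (p : (Sg m).obj E ⟶ P)
    (hP : ∀ i, i < m → IsZero (P.X i)) :
    Nonempty ((mappingCone p).X (m - 1) ≅ E) ∧
      (∀ i, i ≠ m - 1 → Nonempty ((mappingCone p).X i ≅ P.X i)) ∧
      ∀ i, i < m - 1 → IsZero ((mappingCone p).X i) := by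
  have e : ∀ i : ℤ, (mappingCone p).X i ≅ ((Sg m).obj E).X (i + 1) ⊞ P.X i := fun i =>
    HomologicalComplex.homotopyCofiber.XIsoBiprod p i (i + 1) rfl
  have hz : ∀ i, i ≠ m → IsZero (((Sg m).obj E).X i) := fun i hi =>
    HomologicalComplex.isZero_single_obj_X (ComplexShape.up ℤ) m E i hi
  refine ⟨⟨e (m - 1) ≪≫ (isoBiprodZero (hP (m - 1) (by omega))).symm ≪≫
    eqToIso (congrArg ((Sg m).obj E).X (show m - 1 + 1 = m by omega)) ≪≫
    HomologicalComplex.singleObjXSelf (ComplexShape.up ℤ) m E⟩, fun i hi => ?_, fun i hi => ?_⟩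
  · exact ⟨e i ≪≫ (isoZeroBiprod (hz (i + 1) (by omega))).symm⟩
  · exact IsZero.of_iso ((biprod_isZero_iff _ _).2 ⟨hz (i + 1) (by omega), hP i (by omega)⟩) (e i)

variable [CompactSpace X] [QuasiSeparatedSpace X]

/-- Approximations whose terms lie in a class of modules covering all finite locally free ones. -/
theorem exists_approx' (hX : PerfAux.HasResolutionProperty X) (Cl : X.Modules → Prop)
    (hCl : ∀ E : X.Modules, FlatMod.IsFinLocFree E → ∃ (E' : X.Modules) (π : E' ⟶ E),
      FlatMod.IsFinLocFree E' ∧ Epi π ∧ Cl E')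
    (hiso : ∀ {A B : X.Modules}, (A ≅ B) → Cl A → Cl B) (hzero : ∀ {A : X.Modules}, IsZero A → Cl A)
    {K : DCoh.D X} (hK : DCoh.IsQCohD K) {b : ℤ}
    (hb : ∀ i, b < i → IsZero (DCoh.HD K i)) (hpc : ∀ m, LocPC m K) (n : ℕ) :
    ∃ (P : CochainComplex X.Modules ℤ) (φ : DerivedCategory.Q.obj P ⟶ K),
      DCoh.IsStrictlyPerfect P ∧ IsPcMap (b + 1 - n) φ ∧ (∀ i, Cl (P.X i)) ∧
      (∀ i, i < b + 1 - n → IsZero (P.X i)) ∧ ∀ i, b < i → IsZero (P.X i) := by
  have h0 : ∀ i, IsZero ((0 : CochainComplex X.Modules ℤ).X i) := fun i =>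
    (HomologicalComplex.eval X.Modules (ComplexShape.up ℤ) i).map_isZero (isZero_zero _)
  induction n with
  | zero => exact ⟨0, 0, isStrictlyPerfect_zero, by simpa using isPcMap_zero hb, fun i => hzero (h0 i),
      fun i _ => h0 i, fun i _ => h0 i⟩
  | succ n ih =>
    obtain ⟨P, φ, hP, hφ, hPcl, hlow, hhigh⟩ := ih
    obtain ⟨E, hE, p, c, -, hc⟩ := exists_step hX hK (hpc _) P hP φ hφ
    obtain ⟨E', π, hE', hπ, hcl⟩ := hCl E hE
    let d : Cover p := ⟨E', π, hE', hπ, (Sg _).map π ≫ p, rfl⟩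
    obtain ⟨⟨eE⟩, heq, hz⟩ := cone_sg_terms d.p' hlow
    refine ⟨mappingCone d.p', DerivedCategory.Q.map d.μ ≫ c,
      isStrictlyPerfect_cone d.p' (isStrictlyPerfect_sg hE' _) hP, ?_, fun i => ?_, fun i hi => hz i ?_, fun i hi => ?_⟩
    · rw [show b + 1 - ((n + 1 : ℕ) : ℤ) = b + 1 - n - 1 by push_cast; omega]
      exact hc d
    · by_cases hi : i = b + 1 - n - 1
      · subst hi
        exact hiso eE.symm hcl
      · exact hiso (heq i hi).some.symm (hPcl i)
    · push_cast at hi; omega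
    · exact (hhigh i hi).of_iso (heq i (by omega)).some

omit [CompactSpace X] [QuasiSeparatedSpace X] in
/-- A map from a complex which is an isomorphism in degrees `≥ a` to an object concentrated in degrees `≥ a`
identifies the latter with the truncation. -/
theorem exists_trunc_iso {P : CochainComplex X.Modules ℤ} {K : DCoh.D X} {a : ℤ} [hKge : DerivedCategory.IsGE K a]
    (φ : DerivedCategory.Q.obj P ⟶ K) (hφ : IsPcMap (a - 1) φ) :
    Nonempty (DerivedCategory.Q.obj (P.truncGE a) ≅ K) := by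
  have hπ : IsPcMap (a - 1) (DerivedCategory.Q.map (P.πTruncGE a)) := by
    have hiso' : ∀ i, a ≤ i → IsIso ((DerivedCategory.homologyFunctor X.Modules i).map
        (DerivedCategory.Q.map (P.πTruncGE a))) := fun i hi => by
      refine (NatIso.isIso_map_iff (DerivedCategory.homologyFunctorFactors X.Modules i) _).2 ?_
      show IsIso (HomologicalComplex.homologyMap (P.πTruncGE a) i)
      haveI : QuasiIsoAt (P.πTruncGE a) i :=
        HomologicalComplex.quasiIsoAt_πTruncGE _ _ (show ((ComplexShape.embeddingUpIntGE a).f (i - a).toNat) = i by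
          simp; omega)
      exact (quasiIsoAt_iff_isIso_homologyMap _ _).1 inferInstance
    refine ⟨fun i hi => hiso' i (by omega), ?_⟩
    exact ((ShortComplex.isZero_homology_of_isZero_X₂ _ ((P.truncGE a).isZero_of_isStrictlyGE a (a - 1) (by omega))).of_iso
      ((DerivedCategory.homologyFunctorFactors X.Modules (a - 1)).app (P.truncGE a))).epi _
  let t : Triangulated.TStructure (DCoh.D X) := DerivedCategory.TStructure.t
  haveI : t.IsGE K a := ⟨hKge.1⟩
  have hT := DerivedCategory.mappingCone_triangle_distinguished (P.πTruncGE a)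
  obtain ⟨χ, hχ⟩ : ∃ χ : DerivedCategory.Q.obj (P.truncGE a) ⟶ K,
      DerivedCategory.Q.map (P.πTruncGE a) ≫ χ = φ := by
    haveI hC : DerivedCategory.IsLE (DerivedCategory.Q.obj (mappingCone (P.πTruncGE a))) (a - 2) :=
      (DerivedCategory.isLE_iff _ _).2 fun i hi =>
        ((isPcMap_iff_cone (a - 1) _).1 hπ i (by omega)).of_iso
          ((DerivedCategory.homologyFunctorFactors X.Modules i).app _)
    have hTi := inv_rot_of_distTriang _ hT
    haveI : DerivedCategory.IsLE ((DerivedCategory.Q.obj (mappingCone (P.πTruncGE a)))⟦(-1 : ℤ)⟧) (a - 1) :=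
      (DerivedCategory.isLE_iff _ _).2 fun j hj => Window.isZero_hd_shift _ (-1) j
        (DerivedCategory.isZero_of_isLE _ (a - 2) (-1 + j) (by omega))
    haveI : t.IsLE (DerivedCategory.Q.mapTriangle.obj (mappingCone.triangle (P.πTruncGE a))).invRotate.obj₁ (a - 1) :=
      ⟨(inferInstance : DerivedCategory.IsLE ((DerivedCategory.Q.obj (mappingCone (P.πTruncGE a)))⟦(-1 : ℤ)⟧) (a - 1)).1⟩
    obtain ⟨χ, hχ⟩ := Triangle.yoneda_exact₂ _ hTi φ (t.zero _ (a - 1) a (by omega))
    exact ⟨χ, hχ.symm⟩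
  haveI : IsIso χ := by
    refine (DerivedCategory.isIso_iff (C := X.Modules) χ).2 fun i => ?_
    by_cases hi : a ≤ i
    · haveI := hπ.1 i (by omega)
      haveI : IsIso ((DerivedCategory.homologyFunctor X.Modules i).map (DerivedCategory.Q.map (P.πTruncGE a)) ≫
          (DerivedCategory.homologyFunctor X.Modules i).map χ) := by
        rw [← Functor.map_comp, hχ]; exact hφ.1 i (by omega)
      exact IsIso.of_isIso_comp_left ((DerivedCategory.homologyFunctor X.Modules i).map (DerivedCategory.Q.map (P.πTruncGE a))) _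
    · exact ⟨0, ((ShortComplex.isZero_homology_of_isZero_X₂ _
          ((P.truncGE a).isZero_of_isStrictlyGE a i (by omega))).of_iso
          ((DerivedCategory.homologyFunctorFactors X.Modules i).app (P.truncGE a))).eq_of_src _ _,
        (DerivedCategory.isZero_of_isGE K a i (by omega)).eq_of_src _ _⟩
  exact ⟨asIso χ⟩

/-- Representatives of perfect objects with controlled terms. -/
theorem exists_rep' (hX : PerfAux.HasResolutionProperty X) (Cl : X.Modules → Prop)
    (hCl : ∀ E : X.Modules, FlatMod.IsFinLocFree E → ∃ (E' : X.Modules) (π : E' ⟶ E),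
      FlatMod.IsFinLocFree E' ∧ Epi π ∧ Cl E')
    (hiso : ∀ {A B : X.Modules}, (A ≅ B) → Cl A → Cl B) (hzero : ∀ {A : X.Modules}, IsZero A → Cl A)
    {K : DCoh.D X} (hK : LocSP K) {a b : ℤ} (hab : a ≤ b) (hamp : DCoh.HasFlatAmplitudeIn a b K) :
    ∃ P : CochainComplex X.Modules ℤ, DCoh.VanishesOutside P a b ∧ (∀ i, a < i → Cl (P.X i)) ∧
      FlatMod.IsFinLocFree (P.X a) ∧ Nonempty (DerivedCategory.Q.obj P ≅ K) := by
  obtain ⟨F, hv, hflat, ⟨e⟩⟩ := hamp
  obtain ⟨P, φ, hP, hφ, hcl, -, hhigh⟩ := exists_approx' hX Cl hCl hiso hzero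
    (AffineLift.isQCohD_of_locSP hK) (b := b)
    (fun i hi => (ShortComplex.isZero_homology_of_isZero_X₂ _ (hv i (Or.inr hi))).of_iso
      ((DerivedCategory.homologyFunctor X.Modules i).mapIso e.symm ≪≫
        (DerivedCategory.homologyFunctorFactors X.Modules i).app F))
    (fun m => hK.locPC m) (b + 2 - a).toNat
  rw [show b + 1 - ((b + 2 - a).toNat : ℤ) = a - 1 by omega] at hφ
  haveI hKge : DerivedCategory.IsGE K a := (DerivedCategory.isGE_iff _ _).2 fun i hi =>
    (ShortComplex.isZero_homology_of_isZero_X₂ _ (hv i (Or.inl hi))).of_iso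
      ((DerivedCategory.homologyFunctor X.Modules i).mapIso e.symm ≪≫
        (DerivedCategory.homologyFunctorFactors X.Modules i).app F)
  obtain ⟨eχ⟩ := exists_trunc_iso φ hφ
  have hz' : DCoh.VanishesOutside (P.truncGE a) a b := by
    rintro i (hi | hi)
    · exact (P.truncGE a).isZero_of_isStrictlyGE a i hi
    · exact (hhigh i hi).of_iso (P.truncGEXIso a i (by omega))
  have hflat' : ∀ i, a < i → FlatMod.IsFlat ((P.truncGE a).X i) := fun i hi =>
    IsFlat.of_iso (P.truncGEXIso a i hi).symm (isFlat_of_isFinLocFree (hP.2 i))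
  have hbot : FlatMod.IsFlat ((P.truncGE a).X a) := isFlat_lowest hz' hflat' @fun M _ =>
    (torAmplitude_of_flatAmplitude ⟨F, hv, hflat, ⟨e ≪≫ eχ.symm⟩⟩ M (a - 1) (Or.inl (by omega)))
  let ec₀ := IsColimit.coconePointUniqueUpToIso (cokernelIsCokernel (P.d (a - 1) a))
    (P.opcyclesIsCokernel (a - 1) a (by simp))
  let ec : cokernel (P.d (a - 1) a) ≅ (P.truncGE a).X a := ec₀ ≪≫ (P.truncGEXIsoOpcycles a).symm
  exact ⟨P.truncGE a, hz', fun i hi => hiso (P.truncGEXIso a i hi).symm (hcl i),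
    H23.PullPush.isFinLocFree_of_iso ec (isFinLocFree_cokernel _ (hP.2 _) (hP.2 _) (IsFlat.of_iso ec.symm hbot)),
    ⟨eχ⟩⟩

omit [CompactSpace X] [QuasiSeparatedSpace X] in
lemma inAddL_of_iso {ι : Type u} {L : ι → X.Modules} {A B : X.Modules} (e : A ≅ B) (h : KSix.InAddL L A) :
    KSix.InAddL L B := by
  obtain ⟨k, N, hN, ⟨e'⟩⟩ := h
  exact ⟨k, N, hN, ⟨e.symm ≪≫ e'⟩⟩

omit [CompactSpace X] [QuasiSeparatedSpace X] in
lemma inAddL_of_isZero {ι : Type u} {L : ι → X.Modules} {A : X.Modules} (h : IsZero A) : KSix.InAddL L A :=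
  ⟨0, fun j => j.elim0, fun j => j.elim0, ⟨h.iso (by
    rw [IsZero.iff_id_eq_zero]
    exact biproduct.hom_ext _ _ fun j => j.elim0)⟩⟩

end Groth.Agent.KExact.SPerfect
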