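import Groth.Agent.KExact.AmpleFamily
import Groth.Agent.KExact.SPerfectFamily
import Groth.Agent.KFlatLib.BrutalTrunc
import Groth.Agent.S1008
import Groth.Agent.S1011
import Mathlib.Algebra.Homology.DerivedCategory.ShortExact

/-!
# Ample families generate
-/

set_option linter.style.haveILetI false
set_option backward.isDefEq.respectTransparency false
set_option backward.isDefEq.respectTransparency.types false

universe v u

open CategoryTheory CategoryTheory.Limits AlgebraicGeometry Pretriangulated

attribute [local instance] HasDerivedCategory.standard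

namespace Groth.Agent.KExact.AmpleGen

open Groth.Agent.KFlatLib

section Abstract

variable {C : Type u} [Category.{v} C] [Abelian C] [HasDerivedCategory C]

/-- `K` receives no nonzero map from any shift of `Z`. -/
def Orth (K Z : DerivedCategory C) : Prop := ∀ (n : ℤ) (φ : Z⟦n⟧ ⟶ K), φ = 0

lemma orth_of_iso {K Z Z' : DerivedCategory C} (e : Z ≅ Z') (h : Orth K Z) : Orth K Z' := fun n φ => by
  have h0 := h n ((shiftFunctor _ n).map e.hom ≫ φ)
  exact (cancel_epi ((shiftFunctor _ n).map e.hom)).1 (h0.trans comp_zero.symm)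

lemma orth_of_isZero {K Z : DerivedCategory C} (h : IsZero Z) : Orth K Z := fun n φ =>
  ((shiftFunctor _ n).map_isZero h).eq_of_src _ _

lemma orth_shift {K Z : DerivedCategory C} (h : Orth K Z) (m : ℤ) : Orth K (Z⟦m⟧) := fun n φ => by
  have h0 := h (m + n) ((shiftFunctorAdd _ m n).hom.app Z ≫ φ)
  exact (cancel_epi ((shiftFunctorAdd _ m n).hom.app Z)).1 (h0.trans comp_zero.symm)

lemma orth_obj₂ {K : DerivedCategory C} (T : Triangle (DerivedCategory C)) (hT : T ∈ distTriang _)
    (h₁ : Orth K T.obj₁) (h₃ : Orth K T.obj₃) : Orth K T.obj₂ := fun n φ => by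
  have hTn := Triangle.shift_distinguished T hT n
  obtain ⟨ψ, hψ⟩ := Triangle.yoneda_exact₂ _ hTn φ (h₁ n _)
  rw [hψ, show ψ = 0 from h₃ n ψ]
  exact comp_zero

/-- `K` receives no nonzero map from shifts of a bounded complex if none from shifts of its terms. -/
theorem orth_of_terms (K : DerivedCategory C) :
    ∀ (m : ℕ) (a : ℤ) (P : CochainComplex C ℤ), (∀ i, (i < a ∨ a + m ≤ i) → IsZero (P.X i)) →
      (∀ i, Orth K ((DerivedCategory.singleFunctor C 0).obj (P.X i))) → Orth K (DerivedCategory.Q.obj P)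
  | 0, a, P, hz, _ => orth_of_isZero (DerivedCategory.Q.map_isZero
      ((IsZero.iff_id_eq_zero _).2 (HomologicalComplex.hom_ext _ _ fun i =>
        (hz i (by omega)).eq_of_src _ _)))
  | m + 1, a, P, hz, hterm => by
    have hS := sigmaSES_shortExact P (a + m)
    refine orth_obj₂ _ (DerivedCategory.triangleOfSES_distinguished hS) ?_ ?_
    · let E₁ : CochainComplex C ℤ := P.stupidTrunc (ComplexShape.embeddingUpIntGE (a + (m : ℤ)))
      haveI : CochainComplex.IsStrictlyGE E₁ (a + m) := inferInstance
      haveI : CochainComplex.IsStrictlyLE E₁ (a + m) := by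
        rw [CochainComplex.isStrictlyLE_iff]
        intro i hi
        haveI := isIso_sigmaGEι_f P (a + m) i (by omega)
        exact (hz i (Or.inr (by omega))).of_iso (asIso ((sigmaGEι P (a + m)).f i))
      obtain ⟨M, ⟨e⟩⟩ := CochainComplex.exists_iso_single E₁ (a + m)
      haveI := isIso_sigmaGEι_f P (a + m) (a + m) le_rfl
      let eM : P.X (a + m) ≅ M := (asIso ((sigmaGEι P (a + m)).f (a + m))).symm ≪≫
        (HomologicalComplex.eval _ _ (a + (m : ℤ))).mapIso e ≪≫
          HomologicalComplex.singleObjXSelf (ComplexShape.up ℤ) (a + (m : ℤ)) M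
      refine orth_of_iso ?_ (orth_shift (hterm (a + m)) (-(a + m)))
      exact ((DerivedCategory.singleFunctors C).shiftIso (-(a + m)) (a + m) 0 (by omega)).app (P.X (a + m)) ≪≫
        (DerivedCategory.singleFunctor C (a + (m : ℤ))).mapIso eM ≪≫
        (((SingleFunctors.evaluation _ _ (a + (m : ℤ))).mapIso
          (DerivedCategory.singleFunctorsPostcompQIso C)).app M) ≪≫ DerivedCategory.Q.mapIso e.symm
    · have hle := isStrictlyLE_sigmaSES_X₃ P (a + m)
      rw [CochainComplex.isStrictlyLE_iff] at hle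
      have hlow : ∀ i, i < a + m → Nonempty (P.X i ≅ (sigmaSES P (a + m)).X₃.X i) :=
        fun i hi => nonempty_sigmaSES_X₃_iso P (a + m) i hi
      refine orth_of_terms K m a _ (fun i hi => ?_) fun i => ?_
      · by_cases h : i < a + m
        · exact (hz i (by omega)).of_iso (hlow i h).some.symm
        · exact hle i (by omega)
      · by_cases h : i < a + m
        · exact orth_of_iso ((DerivedCategory.singleFunctor C 0).mapIso (hlow i h).some) (hterm i)
        · exact orth_of_isZero ((DerivedCategory.singleFunctor C 0).map_isZero (hle i (by omega)))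

end Abstract

variable {X : Scheme.{u}}

/-- An object with quasi-coherent cohomology receiving no map from shifts of negative powers of an ample
family is zero. -/
theorem isZero_of_orth {ι : Type u} (L : ι → X.Modules) (hL : KSix.IsAmpleFamily L) (K : DCoh.D X)
    (hK : DCoh.IsQCohD K) (h : ∀ N : X.Modules, KSix.IsNegPower L N → Orth K (DCoh.inD X N)) : IsZero K := by
  haveI : CompactSpace X := hL.1
  haveI : QuasiSeparatedSpace X := hL.2.1
  obtain ⟨P, hP, hgen⟩ := Groth.Agent.S1008.result X
  refine (hgen K hK).2 fun n φ => ?_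
  have hres : PerfAux.HasResolutionProperty X := fun F hF hF' => by
    obtain ⟨M, π, -, hM, hπ⟩ := AmpleFamily.exists_epi_inAddL L hL F hF hF'
    exact ⟨M, π, hM, hπ⟩
  obtain ⟨a₀, b₀, -, hvan⟩ := (Groth.Agent.S1011.result X P hP).1
  have hsp := (KFlatLib.isPerfect_iff P).1 hP
  have hPq := AffineLift.isQCohD_of_locSP hsp
  obtain ⟨a, b, -, hamp⟩ := SPerfect.exists_amplitude hsp
  obtain ⟨F₀, hv₀, -, ⟨e₀⟩⟩ := hamp
  have hhighP : ∀ i, b < i → IsZero (DCoh.HD P i) := fun i hi =>
    (ShortComplex.isZero_homology_of_isZero_X₂ _ (hv₀ i (Or.inr hi))).of_iso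
      ((DerivedCategory.homologyFunctor X.Modules i).mapIso e₀.symm ≪≫
        (DerivedCategory.homologyFunctorFactors X.Modules i).app F₀)
  obtain ⟨Q, f, hQsp, hf, hcl, hlow, hhigh⟩ := SPerfect.exists_approx' hres
    (fun M => KSix.InAddL L M)
    (fun E hE => by
      obtain ⟨M, π, hM, hM', hπ⟩ := AmpleFamily.exists_epi_inAddL L hL E (QCoh.isQCoh_of_isFinLocFree hE)
        (QCoh.isFT_of_isFP (QCoh.isFP_of_isFinLocFree hE))
      exact ⟨M, π, hM', hπ, hM⟩)
    SPerfect.inAddL_of_iso SPerfect.inAddL_of_isZero hPq (b := b)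
    hhighP (fun m => hsp.locPC m) (b + 1 - a₀).toNat.succ
  obtain ⟨Z, g, δ, hT⟩ := distinguished_cocone_triangle f
  have hg : g = 0 := by
    refine hvan Z (isQCohD_obj₃ hT (SPerfect.isQCohD_toD (fun i => SPerfect.isQCoh_terms hQsp i)) hPq)
      (fun i h1 h2 => ?_) g
    let H := DerivedCategory.homologyFunctor X.Modules
    have hi : b + 1 - ((b + 1 - a₀).toNat.succ : ℤ) ≤ i := by omega
    haveI : Epi ((H i).map f) := by
      rcases eq_or_lt_of_le hi with h' | h'
      · subst h'; exact hf.2
      · haveI := hf.1 i h'; infer_instance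
    haveI : Mono ((H (i + 1)).map f) := by
      haveI := hf.1 (i + 1) (by omega); infer_instance
    exact (DerivedCategory.HomologySequence.exact₃ _ hT i (i + 1) rfl).isZero_X₂
      ((DerivedCategory.HomologySequence.epi_homologyMap_mor₁_iff _ hT i).1 ‹_›)
      ((DerivedCategory.HomologySequence.mono_homologyMap_mor₁_iff _ hT i (i + 1) rfl).1 ‹_›)
  obtain ⟨s, hs⟩ := Triangle.coyoneda_exact₂ _ hT (𝟙 P) (by rw [hg]; exact comp_zero)
  have horth : Orth K (DerivedCategory.Q.obj Q) := by
    refine orth_of_terms K (b - (b + 1 - ((b + 1 - a₀).toNat.succ : ℤ)) + 1).toNat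
      (b + 1 - ((b + 1 - a₀).toNat.succ : ℤ)) Q (fun i hi => ?_) fun i => ?_
    · rcases hi with hi | hi
      · exact hlow i hi
      · exact hhigh i (by omega)
    · obtain ⟨k, N, hN, ⟨e⟩⟩ := hcl i
      refine orth_of_iso ((DerivedCategory.singleFunctor X.Modules 0).mapIso e.symm) fun m ψ => ?_
      let F := DerivedCategory.singleFunctor X.Modules 0 ⋙ shiftFunctor (DCoh.D X) m
      haveI : PreservesFiniteBiproducts F := Functor.preservesFiniteBiproductsOfAdditive F
      refine (cancel_epi (F.mapBiproduct N).inv).1 (biproduct.hom_ext' _ _ fun j => ?_)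
      rw [comp_zero, comp_zero]
      exact h (N j) (hN j) m _
  have h1 := horth n ((shiftFunctor _ n).map f ≫ φ)
  calc φ = (shiftFunctor _ n).map (𝟙 P) ≫ φ := by simp
    _ = (shiftFunctor _ n).map s ≫ ((shiftFunctor _ n).map f ≫ φ) := by
      rw [hs, Functor.map_comp, Category.assoc]; rfl
    _ = 0 := by rw [h1, comp_zero]

end Groth.Agent.KExact.AmpleGen
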