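import Groth.Agent.KFlatLib.Scheme.ProjFormula
import Groth.Agent.KFlatLib.Scheme.SupportRightAdj
import Groth.Agent.KExact.DualConn
import Groth.Prelude.Def_Dual3

/-!
# The comparison `Lf^* K ⊗^L a(O) ⟶ a(K)` and its invertibility at shifts of the structure sheaf
-/

set_option autoImplicit false
set_option linter.style.haveILetI false
set_option linter.unusedSectionVars false
set_option backward.isDefEq.respectTransparency false
set_option backward.isDefEq.respectTransparency.types false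

universe u

open CategoryTheory CategoryTheory.Limits AlgebraicGeometry

attribute [local instance] HasDerivedCategory.standard

namespace Groth.Agent.KExact.AdjTensor

open KFlatLib

/-- `O[-m]`. -/
noncomputable abbrev Om (Y : Scheme.{u}) (m : ℤ) : CochainComplex Y.Modules ℤ :=
  (HomologicalComplex.single Y.Modules (ComplexShape.up ℤ) m).obj (Coh.structureModule Y)

lemma isKFlat_Om (Y : Scheme.{u}) (m : ℤ) : DCoh.IsKFlat (Om Y m) :=
  isKFlat_of_isStrictlyLE _ m (isFlat_single m isFlat_structureModule)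

variable {X Y : Scheme.{u}} (f : X ⟶ Y)

/-- `I ⊗^L Lf^* -` is `Lf^* - ⊗^L I`. -/
theorem nonempty_projH_iso_ltensor [DCoh.HasLpull f] (I : CochainComplex X.Modules ℤ) [DCoh.HasLTensorCx I] :
    Nonempty (projH f I ≅ DCoh.Lpull f ⋙ DCoh.LTensorCx I) := by
  let c := (DCoh.tensorCxQ I).totalLeftDerivedCounit DerivedCategory.Q (qisX X)
  haveI : ∀ K, IsIso ((Functor.whiskerLeft (kRes Y ⋙ pullCx f) c).app K) := fun K =>
    isIso_LTensorCx_counit I (isKFlat_pullback f (isKFlat_kRes K))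
  haveI : ∀ K, IsIso ((Functor.whiskerRight (Functor.whiskerLeft (kRes Y) (lpullComparison f))
      (DCoh.LTensorCx I)).app K) := fun K =>
    haveI := isIso_lpullComparison f (isKFlat_kRes (X := Y) K)
    inferInstanceAs (IsIso ((DCoh.LTensorCx I).map ((lpullComparison f).app ((kRes Y).obj K))))
  haveI : ∀ K, IsIso ((Functor.whiskerRight (Functor.whiskerRight (flatCover Y).ψ DerivedCategory.Q)
      (DCoh.Lpull f ⋙ DCoh.LTensorCx I)).app K) := fun K =>
    haveI := isIso_Q_map _ ((flatCover Y).quasiIso_ψ K)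
    inferInstanceAs (IsIso ((DCoh.Lpull f ⋙ DCoh.LTensorCx I).map
      (DerivedCategory.Q.map ((flatCover Y).ψ.app K))))
  haveI := NatIso.isIso_of_isIso_app (Functor.whiskerLeft (kRes Y ⋙ pullCx f) c)
  haveI := NatIso.isIso_of_isIso_app (Functor.whiskerRight (Functor.whiskerLeft (kRes Y) (lpullComparison f))
    (DCoh.LTensorCx I))
  haveI := NatIso.isIso_of_isIso_app (Functor.whiskerRight
    (Functor.whiskerRight (flatCover Y).ψ DerivedCategory.Q) (DCoh.Lpull f ⋙ DCoh.LTensorCx I))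
  letI : Localization.Lifting DerivedCategory.Q (qisX Y) (DerivedCategory.Q ⋙ projH f I) (projH f I) :=
    ⟨Iso.refl _⟩
  letI : Localization.Lifting DerivedCategory.Q (qisX Y)
      (DerivedCategory.Q ⋙ DCoh.Lpull f ⋙ DCoh.LTensorCx I) (DCoh.Lpull f ⋙ DCoh.LTensorCx I) :=
    ⟨Iso.refl _⟩
  exact ⟨Localization.liftNatIso DerivedCategory.Q (qisX Y) (DerivedCategory.Q ⋙ projH f I)
    (DerivedCategory.Q ⋙ DCoh.Lpull f ⋙ DCoh.LTensorCx I) _ _
    (kLiftFac (kRespects_pullTensor f I) ≪≫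
      Functor.isoWhiskerLeft (kRes Y) (Functor.isoWhiskerLeft (pullCx f) (Functor.isoWhiskerRight
        (symmIso (tensorBiFlipIso X) I).symm DerivedCategory.Q)) ≪≫
      (asIso (Functor.whiskerLeft (kRes Y ⋙ pullCx f) c)).symm ≪≫
      (asIso (Functor.whiskerRight (Functor.whiskerLeft (kRes Y) (lpullComparison f))
        (DCoh.LTensorCx I))).symm ≪≫
      asIso (Functor.whiskerRight (Functor.whiskerRight (flatCover Y).ψ DerivedCategory.Q)
        (DCoh.Lpull f ⋙ DCoh.LTensorCx I)))⟩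

section Abstract

variable {C : Type*} [Category C] {D : Type*} [Category D] {C' : Type*} [Category C'] {E : Type*} [Category E]

/-- The mate. -/
def mate {L : C ⥤ D} {G : D ⥤ C} (adj : L ⊣ G) {F₁ : C ⥤ C} {F₂ : D ⥤ D} (α : F₁ ⋙ L ≅ L ⋙ F₂) (T : D) :
    F₁.obj (G.obj T) ⟶ G.obj (F₂.obj T) :=
  adj.homEquiv (F₁.obj (G.obj T)) (F₂.obj T) (α.hom.app (G.obj T) ≫ F₂.map (adj.counit.app T))

/-- Naturality of mates. -/
lemma mate_naturality {L : C ⥤ D} {G : D ⥤ C} (adj : L ⊣ G) {F₁ : C ⥤ C} {F₂ : D ⥤ D}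
    (α : F₁ ⋙ L ≅ L ⋙ F₂) {T T' : D} (y : T ⟶ T') :
    mate adj α T ≫ G.map (F₂.map y) = F₁.map (G.map y) ≫ mate adj α T' := by
  simp only [mate]
  refine (adj.homEquiv_naturality_right _ _).symm.trans ?_
  refine Eq.trans ?_ (adj.homEquiv_naturality_left _ _)
  refine congrArg (adj.homEquiv _ _) ?_
  rw [Category.assoc, ← Functor.map_comp]
  erw [← adj.counit_naturality]
  rw [Functor.map_comp]
  exact ((reassoc_of% (α.hom.naturality (G.map y))) _).symm

/-- The projection composite is a conjugate of the universal one. -/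
lemma conj_proj {Q : C ⥤ E} {F : C ⥤ C} {S : E ⥤ E} (η : F ⋙ Q ≅ Q ⋙ S) (G : C' ⥤ C)
    {A B B' : C'} (j : A ⟶ B) (k : B ⟶ B') {T I : C'} (y : T ⟶ I) {R J : C} (a : R ⟶ G.obj I) (g : R ⟶ J)
    (m : F.obj (G.obj T) ⟶ G.obj B) (n : F.obj (G.obj I) ⟶ G.obj B') (p : F.obj R ⟶ G.obj B')
    (hm : m ≫ G.map k = F.map (G.map y) ≫ n) (hp : p = F.map a ≫ n)
    [IsIso (Q.map m)] [IsIso (Q.map p)] [IsIso (Q.map a)] :
    Q.map (G.map (j ≫ k)) ≫ inv (Q.map p) ≫ Q.map (F.map g) =
      (Q.map (G.map j) ≫ inv (Q.map m)) ≫ η.hom.app (G.obj T) ≫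
        S.map (Q.map (G.map y) ≫ inv (Q.map a) ≫ Q.map g) ≫ η.inv.app J := by
  haveI hFa : IsIso (Q.map (F.map a)) :=
    (NatIso.isIso_map_iff η a).2 (inferInstanceAs (IsIso (S.map (Q.map a))))
  have hn : Q.map (F.map a) ≫ Q.map n = Q.map p := by rw [hp, Functor.map_comp]
  haveI : IsIso (Q.map n) := by
    haveI : IsIso (Q.map (F.map a) ≫ Q.map n) := hn.symm ▸ inferInstance
    exact IsIso.of_isIso_comp_left (Q.map (F.map a)) _
  have h1 : Q.map (G.map k) ≫ inv (Q.map p) =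
      inv (Q.map m) ≫ Q.map (F.map (G.map y)) ≫ inv (Q.map (F.map a)) := by
    rw [IsIso.comp_inv_eq, ← hn]
    simp only [Category.assoc, IsIso.inv_hom_id_assoc]
    rw [IsIso.eq_inv_comp, ← Functor.map_comp, ← Functor.map_comp, hm]
  rw [Functor.map_comp, Functor.map_comp, Category.assoc, Category.assoc, reassoc_of% h1]
  refine congrArg (fun t => Q.map (G.map j) ≫ inv (Q.map m) ≫ t) ?_
  simp only [Functor.map_comp, Functor.map_inv, Category.assoc]
  rw [← cancel_mono (η.hom.app J)]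
  simp only [Category.assoc, Iso.inv_hom_id_app]
  erw [Category.comp_id, η.hom.naturality g]
  have h3 : inv (Q.map (F.map a)) ≫ η.hom.app R = η.hom.app (G.obj I) ≫ inv (S.map (Q.map a)) := by
    rw [IsIso.inv_comp_eq, ← Category.assoc, IsIso.eq_comp_inv]
    exact (η.hom.naturality a).symm
  erw [reassoc_of% h3, reassoc_of% (η.hom.naturality (G.map y))]
  rfl

/-- Universality moves along a pair of compatible equivalences. -/
lemma univ_conj {C'' : Type*} [Category C''] {E' : Type*} [Category E'] {Q : C ⥤ E} {Q' : C'' ⥤ E'}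
    {F₁ : C ⥤ C} {F₂ : C'' ⥤ C''} [F₂.Full] {S : E ⥤ E} [S.Full] [S.Faithful] {S' : E' ⥤ E'}
    (η : F₁ ⋙ Q ≅ Q ⋙ S) (η' : F₂ ⋙ Q' ≅ Q' ⋙ S') (G : C'' ⥤ C)
    (M : ∀ T, F₁.obj (G.obj T) ⟶ G.obj (F₂.obj T))
    (hM : ∀ {T T' : C''} (y : T ⟶ T'), M T ≫ G.map (F₂.map y) = F₁.map (G.map y) ≫ M T')
    {R J : C} {I T₀ JT : C''} (a : R ⟶ G.obj I) (g : R ⟶ J) (j : JT ≅ F₂.obj T₀)
    (p : F₁.obj R ⟶ G.obj (F₂.obj I)) (hp : p = F₁.map a ≫ M I)
    [IsIso (Q.map (M T₀))] [IsIso (Q.map p)] [IsIso (Q.map a)]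
    (hinj : ∀ y y' : T₀ ⟶ I, Q.map (G.map y) ≫ inv (Q.map a) ≫ Q.map g =
      Q.map (G.map y') ≫ inv (Q.map a) ≫ Q.map g → Q'.map y = Q'.map y')
    (hsurj : ∀ z, ∃ y : T₀ ⟶ I, Q.map (G.map y) ≫ inv (Q.map a) ≫ Q.map g = z) :
    (∀ h h' : JT ⟶ F₂.obj I, Q.map (G.map h) ≫ inv (Q.map p) ≫ Q.map (F₁.map g) =
        Q.map (G.map h') ≫ inv (Q.map p) ≫ Q.map (F₁.map g) → Q'.map h = Q'.map h') ∧
      ∀ z, ∃ h : JT ⟶ F₂.obj I, Q.map (G.map h) ≫ inv (Q.map p) ≫ Q.map (F₁.map g) = z := by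
  haveI : IsIso (Q.map (G.map j.hom)) := inferInstance
  refine ⟨fun h h' e => ?_, fun z => ?_⟩
  · obtain ⟨y, rfl⟩ : ∃ y, j.hom ≫ F₂.map y = h :=
      ⟨F₂.preimage (j.inv ≫ h), by rw [F₂.map_preimage]; exact j.hom_inv_id_assoc h⟩
    obtain ⟨y', rfl⟩ : ∃ y, j.hom ≫ F₂.map y = h' :=
      ⟨F₂.preimage (j.inv ≫ h'), by rw [F₂.map_preimage]; exact j.hom_inv_id_assoc h'⟩
    rw [conj_proj η G j.hom (F₂.map y) y a g (M T₀) (M I) p (hM y) hp,
      conj_proj η G j.hom (F₂.map y') y' a g (M T₀) (M I) p (hM y') hp, cancel_epi, cancel_epi,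
      cancel_mono] at e
    have hy := hinj y y' (S.map_injective e)
    have h2 : Q'.map (F₂.map y) = Q'.map (F₂.map y') :=
      (cancel_mono (η'.hom.app I)).1 ((η'.hom.naturality y).trans
        ((congrArg (fun t => η'.hom.app T₀ ≫ S'.map t) hy).trans (η'.hom.naturality y').symm))
    rw [Functor.map_comp, Functor.map_comp, h2]
  · obtain ⟨y, hy⟩ := hsurj (S.preimage (inv (η.hom.app (G.obj T₀)) ≫
      inv (Q.map (G.map j.hom) ≫ inv (Q.map (M T₀))) ≫ z ≫ η.hom.app J))
    refine ⟨j.hom ≫ F₂.map y, ?_⟩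
    rw [conj_proj η G j.hom (F₂.map y) y a g (M T₀) (M I) p (hM y) hp, hy, Functor.map_preimage]
    simp only [Category.assoc, IsIso.hom_inv_id_assoc, Iso.hom_inv_id_app, IsIso.inv_comp, IsIso.inv_inv,
      IsIso.inv_hom_id_assoc]
    exact Category.comp_id z

/-- Bookkeeping for transposes. -/
lemma transpose_comp {P₀ P₁ P₂ P₃ P₄ P₅ P₆ P₇ P₈ : C} (e : P₀ ⟶ P₁) (q : P₁ ⟶ P₂) (i : P₂ ⟶ P₃)
    (i' : P₃ ⟶ P₂) (hi : i ≫ i' = 𝟙 P₂) (r : P₄ ⟶ P₁) (r' : P₅ ⟶ P₂) [IsIso r] [IsIso r'] (q' : P₄ ⟶ P₅)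
    (hq : r ≫ q = q' ≫ r') (b : P₅ ⟶ P₆) (c : P₆ ⟶ P₇) (w : P₇ ⟶ P₈) :
    (e ≫ q ≫ i) ≫ i' ≫ inv r' ≫ b ≫ c ≫ w = (e ≫ inv r) ≫ (q' ≫ b ≫ c) ≫ w := by
  have h : q ≫ inv r' = inv r ≫ q' := by rw [IsIso.comp_inv_eq, Category.assoc, ← hq, IsIso.inv_hom_id_assoc]
  simp only [Category.assoc]
  rw [reassoc_of% hi, reassoc_of% h]

end Abstract

section Aug

variable {R J : CochainComplex Y.Modules ℤ} (g : R ⟶ J) (v : Om Y 0 ⟶ J) [QuasiIso v]
  (u : DCoh.tensorCx.obj (Om Y 0) ≅ 𝟭 (CochainComplex Y.Modules ℤ))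

lemma isIso_Q_tensor_map {P : CochainComplex Y.Modules ℤ} (hP : DCoh.IsKFlat P) :
    IsIso (DerivedCategory.Q.map ((DCoh.tensorCx.map v).app P)) := by
  have h := KFlat.quasiIso_map' (tensorBiFlipIso Y) hP v
  haveI : QuasiIso ((DCoh.tensorCx.map v).app P) :=
    (quasiIso_iff_of_arrow_mk_iso ((DCoh.tensorCx.map v).app P) ((DCoh.tensorCx.obj P).map v)
      (((Functor.mapArrowFunctor _ _).mapIso (symmIso (tensorBiFlipIso Y) P)).app (Arrow.mk v))).2 h
  exact isIso_Q_map _ inferInstance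

/-- The map `R ⊗ - ⟶ O ⊗ - = id` on K-flat resolutions. -/
noncomputable def augβ : kRes Y ⋙ DCoh.tensorCx.obj R ⋙ DerivedCategory.Q ⟶ DerivedCategory.Q :=
  haveI : ∀ K, IsIso ((Functor.whiskerLeft (kRes Y)
      (Functor.whiskerRight (DCoh.tensorCx.map v) DerivedCategory.Q)).app K) := fun K =>
    isIso_Q_tensor_map v (isKFlat_kRes K)
  haveI := NatIso.isIso_of_isIso_app (Functor.whiskerLeft (kRes Y)
    (Functor.whiskerRight (DCoh.tensorCx.map v) DerivedCategory.Q))
  Functor.whiskerLeft (kRes Y) (Functor.whiskerRight (DCoh.tensorCx.map g) DerivedCategory.Q) ≫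
    inv (Functor.whiskerLeft (kRes Y) (Functor.whiskerRight (DCoh.tensorCx.map v) DerivedCategory.Q)) ≫
    Functor.whiskerLeft (kRes Y) (Functor.whiskerRight u.hom DerivedCategory.Q) ≫
    Functor.whiskerRight (flatCover Y).ψ DerivedCategory.Q

/-- The augmentation `R ⊗^L - ⟶ id`. -/
noncomputable def aug : projF R ⟶ 𝟭 (DCoh.D Y) :=
  letI : Localization.Lifting DerivedCategory.Q (qisX Y) (DerivedCategory.Q ⋙ projF R) (projF R) :=
    ⟨Iso.refl _⟩
  letI : Localization.Lifting DerivedCategory.Q (qisX Y) DerivedCategory.Q (𝟭 (DCoh.D Y)) :=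
    ⟨Functor.rightUnitor _⟩
  Localization.liftNatTrans DerivedCategory.Q (qisX Y) (DerivedCategory.Q ⋙ projF R) DerivedCategory.Q _ _
    ((kLiftFac (kRespects_tensor R)).hom ≫ augβ g v u)

/-- The augmentation at a K-flat complex. -/
lemma aug_app {P : CochainComplex Y.Modules ℤ} (hP : DCoh.IsKFlat P)
    [IsIso (DerivedCategory.Q.map ((DCoh.tensorCx.map v).app P))] :
    (aug g v u).app (DerivedCategory.Q.obj P) =
      (kLiftε (kRespects_tensor R)).app P ≫ DerivedCategory.Q.map ((DCoh.tensorCx.map g).app P) ≫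
        inv (DerivedCategory.Q.map ((DCoh.tensorCx.map v).app P)) ≫
        DerivedCategory.Q.map (u.hom.app P) := by
  have h : (aug g v u).app (DerivedCategory.Q.obj P) =
      (kLiftFac (kRespects_tensor R)).hom.app P ≫ (augβ g v u).app P := by
    simp only [aug, Localization.liftNatTrans_app]
    exact (Category.id_comp _).trans (Category.comp_id _)
  rw [h]
  let p := (flatCover Y).ψ.app P
  haveI := isIso_Q_tensor_map v (isKFlat_kRes P)
  simp only [augβ, NatTrans.comp_app, Functor.whiskerLeft_app, Functor.whiskerRight_app, NatIso.isIso_inv_app,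
    kLiftε, Category.assoc]
  refine congrArg ((kLiftFac (kRespects_tensor R)).hom.app P ≫ ·) ?_
  have e1 : DerivedCategory.Q.map (u.hom.app ((kRes Y).obj P)) ≫ DerivedCategory.Q.map p =
      DerivedCategory.Q.map ((DCoh.tensorCx.obj (Om Y 0)).map p) ≫ DerivedCategory.Q.map (u.hom.app P) := by
    rw [← Functor.map_comp, ← Functor.map_comp]
    exact congrArg DerivedCategory.Q.map (u.hom.naturality p).symm
  have e2 : inv (DerivedCategory.Q.map ((DCoh.tensorCx.map v).app ((kRes Y).obj P))) ≫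
      DerivedCategory.Q.map ((DCoh.tensorCx.obj (Om Y 0)).map p) =
      DerivedCategory.Q.map ((DCoh.tensorCx.obj J).map p) ≫
        inv (DerivedCategory.Q.map ((DCoh.tensorCx.map v).app P)) := by
    rw [IsIso.inv_comp_eq, ← Category.assoc, IsIso.eq_comp_inv, ← Functor.map_comp, ← Functor.map_comp]
    exact congrArg DerivedCategory.Q.map ((DCoh.tensorCx.map v).naturality p)
  have e3 : DerivedCategory.Q.map ((DCoh.tensorCx.map g).app ((kRes Y).obj P)) ≫
      DerivedCategory.Q.map ((DCoh.tensorCx.obj J).map p) =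
      DerivedCategory.Q.map ((DCoh.tensorCx.obj R).map p) ≫
        DerivedCategory.Q.map ((DCoh.tensorCx.map g).app P) := by
    rw [← Functor.map_comp, ← Functor.map_comp]
    exact congrArg DerivedCategory.Q.map ((DCoh.tensorCx.map g).naturality p).symm
  dsimp only [p] at e1 e2 e3
  rw [e1, reassoc_of% e2, reassoc_of% e3]

end Aug

/-- `- ⊗ O[-m]`. -/
noncomputable abbrev F1 (Y : Scheme.{u}) (m : ℤ) : CochainComplex Y.Modules ℤ ⥤ CochainComplex Y.Modules ℤ :=
  Inner.tenX (DCoh.tensorBi (X := Y)) (Om Y m)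

/-- `- ⊗ f^* O[-m]`. -/
noncomputable abbrev F2 (m : ℤ) : CochainComplex X.Modules ℤ ⥤ CochainComplex X.Modules ℤ :=
  Inner.tenX (DCoh.tensorBi (X := X)) ((pullCx f).obj (Om Y m))

/-- `- ⊗ O[-m]` is the shift. -/
noncomputable def F1Iso (Y : Scheme.{u}) (m : ℤ) : F1 Y m ≅ shiftFunctor (CochainComplex Y.Modules ℤ) (-m) :=
  Inner.tensorUnitShiftIso (DCoh.tensorBi (X := Y)) (Coh.structureModule Y) (tensorStructureIso Y) m

/-- `- ⊗ f^* O[-m]` is the shift. -/
noncomputable def F2Iso (m : ℤ) : F2 f m ≅ shiftFunctor (CochainComplex X.Modules ℤ) (-m) :=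
  haveI : IsIso (SheafOfModules.pullbackObjUnitToUnit f.toRingCatSheafHom) := inferInstance
  let e : (Scheme.Modules.pullback f).obj (Coh.structureModule Y) ≅ Coh.structureModule X :=
    asIso (SheafOfModules.pullbackObjUnitToUnit f.toRingCatSheafHom)
  DCoh.tensorBi.map₂CochainComplex.flip.mapIso
    ((HomologicalComplex.singleMapHomologicalComplex (Scheme.Modules.pullback f) _ m).app _ ≪≫
      (HomologicalComplex.single _ _ m).mapIso e) ≪≫
    Inner.tensorUnitShiftIso (DCoh.tensorBi (X := X)) (Coh.structureModule X) (tensorStructureIso X) m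

instance (m : ℤ) : (F1 Y m).IsEquivalence := Functor.isEquivalence_of_iso (F1Iso Y m).symm

instance (m : ℤ) : (F2 f m).IsEquivalence := Functor.isEquivalence_of_iso (F2Iso f m).symm

/-- Pullback commutes with these functors. -/
noncomputable def alphaM (m : ℤ) : F1 Y m ⋙ pullCx f ≅ pullCx f ⋙ F2 f m :=
  (totalMapNatIso (pullTensorBiIso f) (Om Y m)).symm

/-- The mate of `alphaM`. -/
noncomputable def mateM (m : ℤ) (T : CochainComplex X.Modules ℤ) :
    (F1 Y m).obj ((pushCxF f).obj T) ⟶ (pushCxF f).obj ((F2 f m).obj T) :=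
  mate (pullPushCxAdj f) (alphaM f m) T

instance isIso_mateM (m : ℤ) (T : CochainComplex X.Modules ℤ) : IsIso (mateM f m T) :=
  isIso_mate (pullPushCxAdj f) (alphaM f m) T

lemma mateM_naturality (m : ℤ) {T T' : CochainComplex X.Modules ℤ} (y : T ⟶ T') :
    mateM f m T ≫ (pushCxF f).map ((F2 f m).map y) = (F1 Y m).map ((pushCxF f).map y) ≫ mateM f m T' :=
  mate_naturality (pullPushCxAdj f) (alphaM f m) y

lemma projCx_Om (R : CochainComplex Y.Modules ℤ) (I : CochainComplex X.Modules ℤ)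
    (av : R ⟶ (pushCxF f).obj I) (m : ℤ) :
    projCx f R I av (Om Y m) = (F1 Y m).map av ≫ mateM f m I :=
  adjunct_eq_mate (pullPushCxAdj f) (alphaM f m) av

section Tau

variable [QuasiCompact f] [QuasiSeparated f] [DCoh.HasRpush f] {hf : DCoh.RpushPreservesQCoh f}
  {a : DCoh.DQCoh Y ⥤ DCoh.DQCoh X} (adj : DCoh.RpushQ f hf ⊣ a)
  {R : CochainComplex Y.Modules ℤ} {I : CochainComplex X.Modules ℤ} [I.IsKInjective]
  (av : R ⟶ (pushCxF f).obj I) [QuasiIso av] (hR : DCoh.IsKFlat R)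
  (hI : DCoh.IsQCohD (DerivedCategory.Q.obj I))
  {J : CochainComplex Y.Modules ℤ} (g : R ⟶ J) (v : Om Y 0 ⟶ J) [QuasiIso v]
  (u : DCoh.tensorCx.obj (Om Y 0) ≅ 𝟭 (CochainComplex Y.Modules ℤ))

/-- `I ⊗^L Lf^* -` on `D_QCoh`. -/
noncomputable def G : DCoh.DQCoh Y ⥤ DCoh.DQCoh X :=
  ObjectProperty.lift _ (ObjectProperty.ι _ ⋙ projH f I) fun K =>
    SupportAdj.isQCohD_projH f hR I av hI K.property

include hR hI in
lemma isIso_projθ_obj {K : DCoh.D Y} (hK : DCoh.IsQCohD K) : IsIso ((projθ f I av).app K) := by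
  let e := DerivedCategory.Q.objObjPreimageIso K
  haveI := isIso_projθ f I av hR hI (DerivedCategory.Q.objPreimage K) (isQCohD_of_iso e.symm hK)
  exact (NatTrans.isIso_app_iff_of_iso (projθ f I av) e).1 inferInstance

/-- The transpose of the comparison. -/
noncomputable def sigma : G f av hR hI ⋙ DCoh.RpushQ f hf ⟶ 𝟭 (DCoh.DQCoh Y) where
  app K :=
    haveI := isIso_projθ_obj f av hR hI K.property
    ObjectProperty.homMk (inv ((projθ f I av).app K.obj) ≫ (aug g v u).app K.obj)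
  naturality K L φ := by
    haveI := isIso_projθ_obj f av hR hI K.property
    haveI := isIso_projθ_obj f av hR hI L.property
    apply ObjectProperty.hom_ext
    change (DCoh.Rpush f).map ((projH f I).map φ.hom) ≫ inv ((projθ f I av).app L.obj) ≫
        (aug g v u).app L.obj = (inv ((projθ f I av).app K.obj) ≫ (aug g v u).app K.obj) ≫ φ.hom
    have h1 : (DCoh.Rpush f).map ((projH f I).map φ.hom) ≫ inv ((projθ f I av).app L.obj) =
        inv ((projθ f I av).app K.obj) ≫ (projF R).map φ.hom := by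
      rw [IsIso.eq_inv_comp, ← Category.assoc, IsIso.comp_inv_eq]
      exact ((projθ f I av).naturality φ.hom).symm
    rw [reassoc_of% h1, Category.assoc]
    exact congrArg (_ ≫ ·) ((aug g v u).naturality φ.hom)

/-- The comparison `I ⊗^L Lf^* K ⟶ a K`. -/
noncomputable def tau : G f av hR hI ⟶ a where
  app K := adj.homEquiv _ _ ((sigma f (hf := hf) av hR hI g v u).app K)
  naturality K L φ := by
    rw [← adj.homEquiv_naturality_left, ← adj.homEquiv_naturality_right]
    exact congrArg _ ((sigma f (hf := hf) av hR hI g v u).naturality φ)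

lemma tau_adjunct {K : DCoh.DQCoh Y} {T : DCoh.DQCoh X} (x : T ⟶ (G f av hR hI).obj K) :
    (adj.homEquiv T K).symm (x ≫ (tau f adj av hR hI g v u).app K) =
      (DCoh.RpushQ f hf).map x ≫ (sigma f (hf := hf) av hR hI g v u).app K := by
  rw [adj.homEquiv_naturality_left_symm]
  exact congrArg (_ ≫ ·) ((adj.homEquiv _ _).symm_apply_apply _)

/-- `y ↦ f_* y` followed by the augmentation. -/
noncomputable def Φ (av : R ⟶ (pushCxF f).obj I) [QuasiIso av] (g : R ⟶ J)
    {T : CochainComplex X.Modules ℤ} (y : T ⟶ I) :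
    DerivedCategory.Q.obj ((pushCxF f).obj T) ⟶ DerivedCategory.Q.obj J :=
  haveI := isIso_Q_map av inferInstance
  DerivedCategory.Q.map ((pushCxF f).map y) ≫ inv (DerivedCategory.Q.map av) ≫ DerivedCategory.Q.map g

/-- `g` induces the universal map. -/
def Univ : Prop :=
  ∀ T : CochainComplex X.Modules ℤ, T.IsKInjective → DCoh.IsQCohD (DerivedCategory.Q.obj T) →
    (∀ y y' : T ⟶ I, Φ f av g y = Φ f av g y' → DerivedCategory.Q.map y = DerivedCategory.Q.map y') ∧
      ∀ z, ∃ y : T ⟶ I, Φ f av g y = z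

include hI in
/-- Universality holds for the map given by the counit. -/
lemma univ_of_counit (O : DCoh.DQCoh Y) (eO : O.obj ≅ DerivedCategory.Q.obj J)
    (eI : (a.obj O).obj ≅ DerivedCategory.Q.obj I)
    (hg : DerivedCategory.Q.map g = DerivedCategory.Q.map av ≫ (rpushUnit f).app I ≫
      (DCoh.Rpush f).map eI.inv ≫ (adj.counit.app O).hom ≫ eO.hom) :
    Univ f av g := by
  intro T hT hqT
  haveI := isIso_Q_map av inferInstance
  haveI := isIso_rpushUnit_of_kInjective f T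
  let T' : DCoh.DQCoh X := ⟨DerivedCategory.Q.obj T, hqT⟩
  have key : ∀ y : T ⟶ I, Φ f av g y = (rpushUnit f).app T ≫
      ((adj.homEquiv T' O).symm (ObjectProperty.homMk (DerivedCategory.Q.map y ≫ eI.inv))).hom ≫ eO.hom :=
    fun y => by
    rw [Φ, hg, IsIso.inv_hom_id_assoc]
    refine ((Category.assoc _ _ _).symm.trans (congrArg (· ≫ _) ((rpushUnit f).naturality y))).trans ?_
    rw [Category.assoc, adj.homEquiv_counit]
    refine congrArg (_ ≫ ·) ?_
    change (DCoh.Rpush f).map (DerivedCategory.Q.map y) ≫ _ =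
      ((DCoh.Rpush f).map (DerivedCategory.Q.map y ≫ eI.inv) ≫ (adj.counit.app O).hom) ≫ eO.hom
    rw [Functor.map_comp]
    simp only [Category.assoc]
  refine ⟨fun y y' h => ?_, fun z => ?_⟩
  · rw [key, key, cancel_epi, cancel_mono] at h
    exact (cancel_mono eI.inv).1 (congrArg
      (fun t : T' ⟶ a.obj O => t.hom) ((adj.homEquiv T' O).symm.injective (ObjectProperty.hom_ext _ h)))
  · let x := (adj.homEquiv T' O) (ObjectProperty.homMk
      (inv ((rpushUnit f).app T) ≫ z ≫ eO.inv))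
    obtain ⟨y, hy⟩ := exists_Q_map (x.hom ≫ eI.hom)
    refine ⟨y, ?_⟩
    have hx : ObjectProperty.homMk (DerivedCategory.Q.map y ≫ eI.inv) = x := ObjectProperty.hom_ext _
      ((congrArg (· ≫ eI.inv) hy).trans ((Category.assoc _ _ _).trans
        ((congrArg (x.hom ≫ ·) eI.hom_inv_id).trans (Category.comp_id _))))
    rw [key, hx, Equiv.symm_apply_apply]
    change (rpushUnit f).app T ≫ (inv ((rpushUnit f).app T) ≫ z ≫ eO.inv) ≫ eO.hom = z
    simp

include hI in
/-- The value of the transpose at a K-flat complex. -/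
lemma sigma_app {P : CochainComplex Y.Modules ℤ} (hP : DCoh.IsKFlat P)
    (hm : DCoh.IsQCohD (DerivedCategory.Q.obj P))
    [IsIso (DerivedCategory.Q.map ((DCoh.tensorCx.map v).app P))]
    [IsIso (DerivedCategory.Q.map (projCx f R I av P))]
    [IsIso ((rpushUnit f).app ((DCoh.tensorCx.obj I).obj ((pullCx f).obj P)))] :
    ((sigma f (hf := hf) av hR hI g v u).app ⟨DerivedCategory.Q.obj P, hm⟩).hom =
      (DCoh.Rpush f).map ((kLiftε (kRespects_pullTensor f I)).app P) ≫
        inv ((rpushUnit f).app ((DCoh.tensorCx.obj I).obj ((pullCx f).obj P))) ≫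
        inv (DerivedCategory.Q.map (projCx f R I av P)) ≫
        DerivedCategory.Q.map ((DCoh.tensorCx.map g).app P) ≫
        inv (DerivedCategory.Q.map ((DCoh.tensorCx.map v).app P)) ≫ DerivedCategory.Q.map (u.hom.app P) := by
  haveI := isIso_projθ_obj f av hR hI hm
  haveI := isIso_kLiftε (kRespects_tensor R) hP
  change inv ((projθ f I av).app (DerivedCategory.Q.obj P)) ≫ (aug g v u).app (DerivedCategory.Q.obj P) = _
  rw [IsIso.inv_comp_eq, aug_app g v u hP]
  have h := projθ_comp_ε f I av P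
  change _ = _ ≫ (DerivedCategory.Q.map (projCx f R I av P) ≫ (rpushUnit f).app _) at h
  refine Eq.trans ?_ ((congrArg (· ≫ _) h).symm.trans (Category.assoc _ _ _))
  simp only [Category.assoc, IsIso.hom_inv_id_assoc]

/-- Universality moves along the shifted structure sheaf. -/
theorem univ_Om (hu : Univ f av g) (m : ℤ) (JT : CochainComplex X.Modules ℤ) [JT.IsKInjective]
    (hJT : DCoh.IsQCohD (DerivedCategory.Q.obj JT)) :
    ∃ (_ : IsIso (DerivedCategory.Q.map (projCx f R I av (Om Y m)))),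
      ((DCoh.tensorCx.obj I).obj ((pullCx f).obj (Om Y m))).IsKInjective ∧
      (∀ h h' : JT ⟶ (DCoh.tensorCx.obj I).obj ((pullCx f).obj (Om Y m)),
        DerivedCategory.Q.map ((pushCxF f).map h) ≫ inv (DerivedCategory.Q.map (projCx f R I av (Om Y m))) ≫
            DerivedCategory.Q.map ((DCoh.tensorCx.map g).app (Om Y m)) =
          DerivedCategory.Q.map ((pushCxF f).map h') ≫ inv (DerivedCategory.Q.map (projCx f R I av (Om Y m))) ≫
            DerivedCategory.Q.map ((DCoh.tensorCx.map g).app (Om Y m)) →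
        DerivedCategory.Q.map h = DerivedCategory.Q.map h') ∧
      ∀ z, ∃ h : JT ⟶ (DCoh.tensorCx.obj I).obj ((pullCx f).obj (Om Y m)),
        DerivedCategory.Q.map ((pushCxF f).map h) ≫ inv (DerivedCategory.Q.map (projCx f R I av (Om Y m))) ≫
            DerivedCategory.Q.map ((DCoh.tensorCx.map g).app (Om Y m)) = z := by
  haveI := isIso_Q_map av inferInstance
  let eF : F1 Y m ⋙ DerivedCategory.Q ≅ DerivedCategory.Q ⋙ shiftFunctor (DCoh.D Y) (-m) :=
    Functor.isoWhiskerRight (F1Iso Y m) DerivedCategory.Q ≪≫ DerivedCategory.Q.commShiftIso (-m)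
  let eF₂ : F2 f m ⋙ DerivedCategory.Q ≅ DerivedCategory.Q ⋙ shiftFunctor (DCoh.D X) (-m) :=
    Functor.isoWhiskerRight (F2Iso f m) DerivedCategory.Q ≪≫ DerivedCategory.Q.commShiftIso (-m)
  have hinjE : ((F2 f m).obj I).IsKInjective :=
    haveI : ((shiftFunctor (CochainComplex X.Modules ℤ) (-m)).obj I).IsKInjective := inferInstance
    CochainComplex.isKInjective_of_iso ((F2Iso f m).app I).symm
  haveI hFa : IsIso (DerivedCategory.Q.map ((F1 Y m).map av)) :=
    (NatIso.isIso_map_iff eF av).2 (inferInstanceAs (IsIso ((DerivedCategory.Q.map av)⟦(-m : ℤ)⟧')))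
  haveI hQp : IsIso (DerivedCategory.Q.map (projCx f R I av (Om Y m))) := by
    rw [projCx_Om, Functor.map_comp]
    infer_instance
  let T₀ := (shiftFunctor (CochainComplex X.Modules ℤ) m).obj JT
  obtain ⟨hinj, hsurj⟩ := hu T₀ inferInstance (isQCohD_of_iso ((DerivedCategory.Q.commShiftIso m).app JT).symm
      (isQCohD_shift hJT m))
  let j : JT ≅ (F2 f m).obj T₀ :=
    ((shiftFunctorCompIsoId (CochainComplex X.Modules ℤ) m (-m) (by omega)).app JT).symm ≪≫ ((F2Iso f m).app T₀).symm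
  have h := univ_conj eF eF₂ (pushCxF f) (mateM f m) (mateM_naturality f m) av g j
    (projCx f R I av (Om Y m)) (projCx_Om f R I av m) hinj hsurj
  exact ⟨hQp, hinjE, h.1, h.2⟩

include hI in
/-- The comparison is invertible at shifts of the structure sheaf. -/
theorem isIso_tau_Om (hu : Univ f av g) (m : ℤ) (hm : DCoh.IsQCohD (DerivedCategory.Q.obj (Om Y m))) :
    IsIso ((tau f adj av hR hI g v u).app ⟨DerivedCategory.Q.obj (Om Y m), hm⟩) := by
  haveI := isIso_Q_tensor_map v (P := Om Y m) (isKFlat_Om Y m)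
  haveI := isIso_kLiftε (kRespects_pullTensor f I) (isKFlat_Om Y m)
  let εH : (projH f I).obj (DerivedCategory.Q.obj (Om Y m)) ≅
      DerivedCategory.Q.obj ((DCoh.tensorCx.obj I).obj ((pullCx f).obj (Om Y m))) :=
    asIso ((kLiftε (kRespects_pullTensor f I)).app (Om Y m))
  let W := inv (DerivedCategory.Q.map ((DCoh.tensorCx.map v).app (Om Y m))) ≫
    DerivedCategory.Q.map (u.hom.app (Om Y m))
  haveI : IsIso W := inferInstanceAs (IsIso (_ ≫ _))
  refine isIso_of_yoneda_map_bijective _ fun T => ?_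
  obtain ⟨JT, hJ, -, ⟨eT⟩⟩ := exists_kInjective_rep T.obj
  haveI := hJ
  haveI := isIso_rpushUnit_of_kInjective f JT
  obtain ⟨hQp, hE, hinj, hsurj⟩ := univ_Om f av g hu m JT (isQCohD_of_iso eT T.property)
  haveI := hE
  haveI : ((pullCx f ⋙ DCoh.tensorCx.obj I).obj (Om Y m)).IsKInjective := hE
  haveI : IsIso ((rpushUnit f).app ((pullCx f ⋙ DCoh.tensorCx.obj I).obj (Om Y m))) :=
    isIso_rpushUnit_of_kInjective f _
  haveI := isIso_rpushUnit_of_kInjective f ((DCoh.tensorCx.obj I).obj ((pullCx f).obj (Om Y m)))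
  let B := (DCoh.Rpush f).map eT.hom ≫ inv ((rpushUnit f).app JT)
  haveI : IsIso B := inferInstanceAs (IsIso (_ ≫ _))
  let K : DCoh.DQCoh Y := ⟨DerivedCategory.Q.obj (Om Y m), hm⟩
  let Ψ : (JT ⟶ (DCoh.tensorCx.obj I).obj ((pullCx f).obj (Om Y m))) → (T ⟶ (G f av hR hI).obj K) := fun h =>
    ObjectProperty.homMk (eT.hom ≫ DerivedCategory.Q.map h ≫ εH.inv)
  have hrep : ∀ x : T ⟶ (G f av hR hI).obj K, ∃ h, Ψ h = x := fun x => by
    obtain ⟨h, hh⟩ := exists_Q_map (eT.inv ≫ x.hom ≫ εH.hom)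
    refine ⟨h, ObjectProperty.hom_ext _ ?_⟩
    change eT.hom ≫ DerivedCategory.Q.map h ≫ εH.inv = x.hom
    rw [hh, Category.assoc, Category.assoc, εH.hom_inv_id, eT.hom_inv_id_assoc]
    exact Category.comp_id _
  have hcomp : ∀ h,
      ((adj.homEquiv T K).symm (Ψ h ≫ (tau f adj av hR hI g v u).app K)).hom =
        B ≫ (DerivedCategory.Q.map ((pushCxF f).map h) ≫
          inv (DerivedCategory.Q.map (projCx f R I av (Om Y m))) ≫
          DerivedCategory.Q.map ((DCoh.tensorCx.map g).app (Om Y m))) ≫ W := fun h => by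
    rw [tau_adjunct]
    change (DCoh.Rpush f).map (eT.hom ≫ DerivedCategory.Q.map h ≫ εH.inv) ≫
      ((sigma f (hf := hf) av hR hI g v u).app K).hom = _
    rw [sigma_app f av hR hI g v u (isKFlat_Om Y m) hm, Functor.map_comp, Functor.map_comp]
    exact transpose_comp ((DCoh.Rpush f).map eT.hom) _ ((DCoh.Rpush f).map εH.inv) ((DCoh.Rpush f).map εH.hom)
      ((DCoh.Rpush f).map_comp εH.inv εH.hom ▸
        (congrArg (DCoh.Rpush f).map εH.inv_hom_id).trans ((DCoh.Rpush f).map_id _))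
      ((rpushUnit f).app JT) ((rpushUnit f).app _) (DerivedCategory.Q.map ((pushCxF f).map h))
      ((rpushUnit f).naturality h).symm _ _ W
  refine ⟨fun x x' hx => ?_, fun z => ?_⟩
  · obtain ⟨h, rfl⟩ := hrep x
    obtain ⟨h', rfl⟩ := hrep x'
    have e := (hcomp h).symm.trans ((congrArg InducedCategory.Hom.hom
      (congrArg (adj.homEquiv T K).symm hx)).trans (hcomp h'))
    rw [cancel_epi, cancel_mono] at e
    refine ObjectProperty.hom_ext _ ?_
    change eT.hom ≫ DerivedCategory.Q.map h ≫ εH.inv = eT.hom ≫ DerivedCategory.Q.map h' ≫ εH.inv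
    rw [hinj h h' e]
  · obtain ⟨h, hh⟩ := hsurj (inv B ≫ ((adj.homEquiv T K).symm z).hom ≫ inv W)
    refine ⟨Ψ h, (adj.homEquiv T K).symm.injective (ObjectProperty.hom_ext _ ((hcomp h).trans ?_))⟩
    rw [hh]
    simp only [Category.assoc, IsIso.inv_hom_id, Category.comp_id, IsIso.hom_inv_id_assoc]

end Tau

end Groth.Agent.KExact.AdjTensor
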