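import Groth.Agent.KExact.AdjTensor
import Groth.Agent.KFlatLib.Scheme.BCMapIso
import Groth.Agent.KFlatLib.Scheme.AdjointCoproduct

/-!
# `Lf^* K ⊗^L a(O) ≅ a(K)` for a right adjoint preserving coproducts
-/

set_option autoImplicit false
set_option linter.style.haveILetI false
set_option linter.unusedSectionVars false
set_option backward.isDefEq.respectTransparency false
set_option backward.isDefEq.respectTransparency.types false

universe u

open CategoryTheory CategoryTheory.Limits CategoryTheory.Pretriangulated AlgebraicGeometry Opposite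

attribute [local instance] HasDerivedCategory.standard

namespace Groth.Agent.KExact.AdjTensor

open KFlatLib KFlatLib.SecPoint KFlatLib.BCLoc

variable {X Y : Scheme.{u}} (f : X ⟶ Y)
variable [CompactSpace X] [QuasiSeparatedSpace X] [CompactSpace Y] [QuasiSeparatedSpace Y]
variable [QuasiCompact f] [QuasiSeparated f] [DCoh.HasRpush f] {hf : DCoh.RpushPreservesQCoh f}
  {a : DCoh.DQCoh Y ⥤ DCoh.DQCoh X} (adj : DCoh.RpushQ f hf ⊣ a)
  {R : CochainComplex Y.Modules ℤ} {I : CochainComplex X.Modules ℤ} [I.IsKInjective]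
  (av : R ⟶ (pushCxF f).obj I) [QuasiIso av] (hR : DCoh.IsKFlat R)
  (hI : DCoh.IsQCohD (DerivedCategory.Q.obj I))
  {J : CochainComplex Y.Modules ℤ} (g : R ⟶ J) (v : Om Y 0 ⟶ J) [QuasiIso v]
  (u : DCoh.tensorCx.obj (Om Y 0) ≅ 𝟭 (CochainComplex Y.Modules ℤ))

local notation "𝐭" => tau f adj av hR hI g v u

include av hR hI in
/-- Quasi-coherence of `I ⊗^L Lf^* A`. -/
lemma isQCohD_projH_obj {A : DCoh.D Y} (hA : DCoh.IsQCohD A) : DCoh.IsQCohD ((projH f I).obj A) :=
  SupportAdj.isQCohD_projH f hR I av hI hA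

/-- Exactness of `pt`-valued points of values of the right adjoint. -/
lemma exact_a {W : X.Opens} (hW : IsAffineOpen W) (k : ℤ) (T : Triangle (DCoh.D Y))
    (hT : T ∈ distTriang (DCoh.D Y)) (h₁ : DCoh.IsQCohD T.obj₁) (h₂ : DCoh.IsQCohD T.obj₂)
    (h₃ : DCoh.IsQCohD T.obj₃) (φ : pt W k ⟶ (a.obj ⟨T.obj₂, h₂⟩).obj)
    (hφ : φ ≫ (a.map (ObjectProperty.homMk (X := ⟨T.obj₂, h₂⟩) (Y := ⟨T.obj₃, h₃⟩) T.mor₂)).hom = 0)
    (adj : DCoh.RpushQ f hf ⊣ a) :
    ∃ ψ : pt W k ⟶ (a.obj ⟨T.obj₁, h₁⟩).obj,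
      φ = ψ ≫ (a.map (ObjectProperty.homMk (X := ⟨T.obj₁, h₁⟩) (Y := ⟨T.obj₂, h₂⟩) T.mor₁)).hom := by
  let Q₁ : DCoh.DQCoh Y := ⟨T.obj₁, h₁⟩
  let Q₂ : DCoh.DQCoh Y := ⟨T.obj₂, h₂⟩
  let Q₃ : DCoh.DQCoh Y := ⟨T.obj₃, h₃⟩
  let m₁ : Q₁ ⟶ Q₂ := ObjectProperty.homMk T.mor₁
  let m₂ : Q₂ ⟶ Q₃ := ObjectProperty.homMk T.mor₂
  obtain ⟨P, i, β, hP, rfl⟩ := exists_lift_pt hW k (a.obj Q₂).property φ
  let PQ : DCoh.DQCoh X := ⟨P, AffineLift.isQCohD_of_locSP hP⟩
  rw [Category.assoc] at hφ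
  obtain ⟨P', i', γ, hP', hγi, hγ⟩ := exists_kill hW k PQ.property (a.obj Q₃).property i _ hφ
  let PQ' : DCoh.DQCoh X := ⟨P', AffineLift.isQCohD_of_locSP hP'⟩
  let χ : PQ' ⟶ a.obj Q₂ := ObjectProperty.homMk (γ ≫ β)
  have h0 : χ ≫ a.map m₂ = 0 := ObjectProperty.hom_ext _ ((Category.assoc _ _ _).trans hγ)
  have h0' : ((adj.homEquiv _ _).symm χ).hom ≫ T.mor₂ = 0 := by
    have h := adj.homEquiv_naturality_right_symm χ m₂
    rw [h0, adj.homEquiv_counit] at h
    haveI := rpush_additive f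
    refine (congrArg InducedCategory.Hom.hom h).symm.trans ?_
    change ((DCoh.RpushQ f hf).map (0 : PQ' ⟶ a.obj Q₃)).hom ≫ _ = 0
    rw [show ((DCoh.RpushQ f hf).map (0 : PQ' ⟶ a.obj Q₃)).hom = 0 from (DCoh.Rpush f).map_zero _ _, zero_comp]
  obtain ⟨s, hs⟩ := Triangle.coyoneda_exact₂ _ hT _ h0'
  let S : PQ' ⟶ a.obj Q₁ := adj.homEquiv _ _ (ObjectProperty.homMk s)
  have hS : S ≫ a.map m₁ = χ := by
    apply (adj.homEquiv _ _).symm.injective
    rw [adj.homEquiv_naturality_right_symm, Equiv.symm_apply_apply]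
    exact ObjectProperty.hom_ext _ hs.symm
  refine ⟨i' ≫ S.hom, ?_⟩
  refine Eq.trans ?_ (Category.assoc _ _ _).symm
  refine Eq.trans ?_ (congrArg (i' ≫ ·) (congrArg InducedCategory.Hom.hom hS)).symm
  change i ≫ β = i' ≫ γ ≫ β
  rw [← Category.assoc, hγi]

/-- Exactness of `pt`-valued points of `I ⊗^L Lf^*`. -/
lemma exact_G {W : X.Opens} (k : ℤ) (T : Triangle (DCoh.D Y)) (hT : T ∈ distTriang (DCoh.D Y))
    (I : CochainComplex X.Modules ℤ)
    (φ : pt W k ⟶ (projH f I).obj T.obj₂) (hφ : φ ≫ (projH f I).map T.mor₂ = 0) :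
    ∃ ψ : pt W k ⟶ (projH f I).obj T.obj₁, φ = ψ ≫ (projH f I).map T.mor₁ := by
  let H := preadditiveCoyoneda.obj (op (pt W k))
  haveI : (projH f I ⋙ H).IsHomological :=
    isHomological_kLift_comp (kRespects_pullTensor f I) (splitting_pullTensor f I) H
  have h := (ShortComplex.ab_exact_iff _).1 ((projH f I ⋙ H).map_distinguished_exact T hT) φ hφ
  obtain ⟨ψ, hψ⟩ := h
  exact ⟨ψ, hψ.symm⟩

/-- The comparison is bijective on `pt`-valued points. -/
def Bij (W : X.Opens) (A : DCoh.D Y) : Prop :=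
  ∃ hA : DCoh.IsQCohD A, ∀ k : ℤ,
    Function.Bijective (fun t : pt W k ⟶ (projH f I).obj A => t ≫ (𝐭.app ⟨A, hA⟩).hom)

/-- Invariance. -/
lemma bij_of_iso {W : X.Opens} {A B : DCoh.D Y} (e : A ≅ B) (h : Bij f adj av hR hI g v u W A) :
    Bij f adj av hR hI g v u W B := by
  obtain ⟨hA, h⟩ := h
  have hB : DCoh.IsQCohD B := isQCohD_of_iso e hA
  refine ⟨hB, fun k => ?_⟩
  let m : (⟨A, hA⟩ : DCoh.DQCoh Y) ≅ ⟨B, hB⟩ := ObjectProperty.isoMk _ e
  have hn : ∀ t : pt W k ⟶ (projH f I).obj B,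
      t ≫ (𝐭.app ⟨B, hB⟩).hom = ((t ≫ (projH f I).map e.inv) ≫ (𝐭.app ⟨A, hA⟩).hom) ≫ (a.map m.hom).hom := by
    intro t
    have hm := congrArg InducedCategory.Hom.hom ((𝐭).naturality m.hom)
    change (projH f I).map e.hom ≫ (𝐭.app ⟨B, hB⟩).hom = (𝐭.app ⟨A, hA⟩).hom ≫ (a.map m.hom).hom at hm
    rw [Category.assoc, Category.assoc, ← hm, ← (projH f I).map_comp_assoc, e.inv_hom_id,
      CategoryTheory.Functor.map_id, Category.id_comp]
  haveI : IsIso (a.map m.hom).hom := inferInstanceAs (IsIso ((ObjectProperty.ι _).map (a.map m.hom)))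
  have h1 : Function.Bijective (fun t : pt W k ⟶ (projH f I).obj B => t ≫ (projH f I).map e.inv) :=
    ((projH f I).mapIso e.symm).homToEquiv.bijective
  have h2 : Function.Bijective (fun t : pt W k ⟶ (a.obj ⟨A, hA⟩).obj => t ≫ (a.map m.hom).hom) :=
    ((asIso (a.map m.hom).hom).homToEquiv).bijective
  have := h2.comp ((h k).comp h1)
  convert this using 1
  exact funext hn

include adj in
/-- The five lemma. -/
lemma bij_obj₂ {W : X.Opens} (hW : IsAffineOpen W) (T : Triangle (DCoh.D Y)) (hT : T ∈ distTriang (DCoh.D Y))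
    (b0 : Bij f adj av hR hI g v u W (T.obj₃⟦(-1 : ℤ)⟧)) (b1 : Bij f adj av hR hI g v u W T.obj₁)
    (b3 : Bij f adj av hR hI g v u W T.obj₃) (b4 : Bij f adj av hR hI g v u W (T.obj₁⟦(1 : ℤ)⟧)) :
    Bij f adj av hR hI g v u W T.obj₂ := by
  obtain ⟨q0, c0⟩ := b0
  obtain ⟨q1, c1⟩ := b1
  obtain ⟨q3, c3⟩ := b3
  obtain ⟨q4, c4⟩ := b4
  have q2 : DCoh.IsQCohD T.obj₂ := isQCohD_obj₂ hT q1 q3
  haveI := preservesZeroMorphisms_kLift (kRespects_pullTensor f I)
  haveI := rpushQ_additive f hf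
  haveI := adj.right_adjoint_additive
  let P₀ : DCoh.DQCoh Y := ⟨T.invRotate.obj₁, q0⟩
  let P₁ : DCoh.DQCoh Y := ⟨T.obj₁, q1⟩
  let P₂ : DCoh.DQCoh Y := ⟨T.obj₂, q2⟩
  let P₃ : DCoh.DQCoh Y := ⟨T.obj₃, q3⟩
  let P₄ : DCoh.DQCoh Y := ⟨T.obj₁⟦(1 : ℤ)⟧, q4⟩
  let m₀ : P₀ ⟶ P₁ := ObjectProperty.homMk T.invRotate.mor₁
  let m₁ : P₁ ⟶ P₂ := ObjectProperty.homMk T.mor₁
  let m₂ : P₂ ⟶ P₃ := ObjectProperty.homMk T.mor₂
  let m₃ : P₃ ⟶ P₄ := ObjectProperty.homMk T.mor₃
  have hnat : ∀ {A B : DCoh.DQCoh Y} (m : A ⟶ B) {k : ℤ} (t : pt W k ⟶ (projH f I).obj A.obj),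
      (t ≫ (projH f I).map m.hom) ≫ (𝐭.app B).hom = (t ≫ (𝐭.app A).hom) ≫ (a.map m).hom := by
    intro A B m k t
    rw [Category.assoc, Category.assoc]
    exact congrArg (t ≫ ·) (congrArg InducedCategory.Hom.hom ((𝐭).naturality m))
  have haz : ∀ {A B C : DCoh.DQCoh Y} (m : A ⟶ B) (n : B ⟶ C), m.hom ≫ n.hom = 0 →
      (a.map m).hom ≫ (a.map n).hom = 0 := by
    intro A B C m n h
    change (a.map m ≫ a.map n).hom = 0
    rw [← a.map_comp, show m ≫ n = 0 from ObjectProperty.hom_ext _ h, a.map_zero]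
    rfl
  refine ⟨q2, fun k => ?_⟩
  have inj0 : ∀ φ : pt W k ⟶ (projH f I).obj T.obj₂, φ ≫ (𝐭.app P₂).hom = 0 → φ = 0 := by
    intro φ hφ
    have h2 : φ ≫ (projH f I).map T.mor₂ = 0 := (c3 k).1 (a₂ := 0) (by
      change (φ ≫ (projH f I).map m₂.hom) ≫ (𝐭.app P₃).hom = 0 ≫ _
      rw [hnat m₂, hφ, zero_comp, zero_comp])
    obtain ⟨ψ, rfl⟩ := exact_G f k T hT I φ h2
    have h3 : (ψ ≫ (𝐭.app P₁).hom) ≫ (a.map m₁).hom = 0 := (hnat m₁ ψ).symm.trans hφ
    obtain ⟨χ, hχ⟩ := exact_a f hW k T.invRotate (inv_rot_of_distTriang T hT) q0 q1 q2 _ h3 adj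
    obtain ⟨χ', rfl⟩ := (c0 k).2 χ
    have h4 : ψ = χ' ≫ (projH f I).map T.invRotate.mor₁ :=
      (c1 k).1 (hχ.trans (hnat m₀ χ').symm)
    rw [h4]
    refine (Category.assoc _ _ _).trans ?_
    refine Eq.trans (congrArg (χ' ≫ ·) ?_) comp_zero
    refine ((projH f I).map_comp T.invRotate.mor₁ T.mor₁).symm.trans ?_
    have hz : T.invRotate.mor₁ ≫ T.mor₁ = 0 := comp_distTriang_mor_zero₁₂ _ (inv_rot_of_distTriang T hT)
    exact (congrArg (projH f I).map hz).trans ((projH f I).map_zero _ _)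
  refine ⟨fun φ φ' h => ?_, fun φ' => ?_⟩
  · exact sub_eq_zero.1 (inj0 _ (by rw [Preadditive.sub_comp]; exact sub_eq_zero.2 h))
  · obtain ⟨ψ, hψ⟩ := (c3 k).2 (φ' ≫ (a.map m₂).hom)
    have hψ3 : ψ ≫ (projH f I).map T.mor₃ = 0 := (c4 k).1 (a₂ := 0) (by
      change (ψ ≫ (projH f I).map m₃.hom) ≫ (𝐭.app P₄).hom = 0 ≫ _
      rw [hnat m₃, zero_comp]
      refine (congrArg (· ≫ _) hψ).trans ?_
      rw [Category.assoc, haz m₂ m₃ (comp_distTriang_mor_zero₂₃ _ hT), comp_zero])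
    obtain ⟨φ₀, hφ⟩ := exact_G f k T.rotate (rot_of_distTriang T hT) I ψ hψ3
    let φ : pt W k ⟶ (projH f I).obj T.obj₂ := φ₀
    replace hφ : ψ = φ ≫ (projH f I).map T.mor₂ := hφ
    have h6 : (φ' - φ ≫ (𝐭.app P₂).hom) ≫ (a.map m₂).hom = 0 := by
      rw [Preadditive.sub_comp, sub_eq_zero]
      exact hψ.symm.trans ((congrArg (· ≫ _) hφ).trans (hnat m₂ φ))
    obtain ⟨η, hη⟩ := exact_a f hW k T hT q1 q2 q3 _ h6 adj
    obtain ⟨η', rfl⟩ := (c1 k).2 η
    refine ⟨φ + η' ≫ (projH f I).map T.mor₁, ?_⟩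
    change (φ + η' ≫ (projH f I).map m₁.hom) ≫ (𝐭.app P₂).hom = φ'
    rw [Preadditive.add_comp, hnat m₁]
    have := hη.symm
    dsimp only at this
    rw [this, add_sub_cancel]

/-- All shifts of the object are good. -/
def Good (W : X.Opens) (A : DCoh.D Y) : Prop := ∀ n : ℤ, Bij f adj av hR hI g v u W (A⟦n⟧)

lemma good_of_iso {W : X.Opens} {A B : DCoh.D Y} (e : A ≅ B) (h : Good f adj av hR hI g v u W A) :
    Good f adj av hR hI g v u W B := fun n => bij_of_iso f adj av hR hI g v u ((shiftFunctor _ n).mapIso e) (h n)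

lemma good_shift {W : X.Opens} {A : DCoh.D Y} (h : Good f adj av hR hI g v u W A) (m : ℤ) :
    Good f adj av hR hI g v u W (A⟦m⟧) := fun n =>
  bij_of_iso f adj av hR hI g v u ((shiftFunctorAdd (DCoh.D Y) m n).app A) (h (m + n))

lemma good_obj₂ {W : X.Opens} (hW : IsAffineOpen W) (T : Triangle (DCoh.D Y)) (hT : T ∈ distTriang (DCoh.D Y))
    (h₁ : Good f adj av hR hI g v u W T.obj₁) (h₃ : Good f adj av hR hI g v u W T.obj₃) :
    Good f adj av hR hI g v u W T.obj₂ := fun n =>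
  bij_obj₂ f adj av hR hI g v u hW ((Triangle.shiftFunctor _ n).obj T) (Triangle.shift_distinguished T hT n)
    (bij_of_iso f adj av hR hI g v u ((shiftFunctorAdd (DCoh.D Y) n (-1)).app _) (h₃ (n + -1))) (h₁ n) (h₃ n)
    (bij_of_iso f adj av hR hI g v u ((shiftFunctorAdd (DCoh.D Y) n 1).app _) (h₁ (n + 1)))

/-- Bijectivity on points and invertibility on `W`. -/
lemma bij_iff_isIso {W : X.Opens} (hW : IsAffineOpen W) {A : DCoh.D Y} (hA : DCoh.IsQCohD A) :
    Bij f adj av hR hI g v u W A ↔ IsIso ((rho W.ι).map (𝐭.app ⟨A, hA⟩).hom) := by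
  let E := (projH f I).obj A
  have hE : DCoh.IsQCohD E := isQCohD_projH_obj f av hR hI hA
  refine ⟨fun ⟨_, h⟩ => isIso_rho_of_el hE (a.obj _).property _ hW h, fun h => ⟨hA, fun k => ?_⟩⟩
  let τ : E ⟶ (a.obj ⟨A, hA⟩).obj := (𝐭.app ⟨A, hA⟩).hom
  let m := (DerivedCategory.homologyFunctor X.Modules k).map τ
  have hm : IsIso ((Scheme.Modules.restrictFunctor W.ι).map m) :=
    (NatIso.isIso_map_iff (mapDCHomologyIso (Scheme.Modules.restrictFunctor W.ι) k) τ).1
      (Functor.map_isIso (DerivedCategory.homologyFunctor _ k) ((rho W.ι).map τ))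
  have hb : Function.Bijective (m.app W) := by
    have h1 : Function.Bijective (m.app (W.ι ''ᵁ ⊤)) :=
      ConcreteCategory.bijective_of_isIso (((Scheme.Modules.restrictFunctor W.ι).map m).app ⊤)
    rwa [Scheme.Opens.ι_image_top] at h1
  refine (Function.Bijective.of_comp_iff' (el_bijective hW k (a.obj ⟨A, hA⟩).property) _).1 ?_
  have e : (el ∘ fun t : pt W k ⟶ E => t ≫ τ) = (fun s => m.app W s) ∘ el := funext fun t => el_comp t τ
  exact e ▸ hb.comp (el_bijective hW k hE)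

/-- A morphism invertible over an open transports goodness. -/
lemma good_iff_of_rho
    (hN : ∀ (E : DCoh.D X), LocSP E → ∀ (Q : DCoh.DQCoh Y) (P J : CochainComplex Y.Modules ℤ), DCoh.IsKFlat P →
      J.IsKInjective → (∀ n, Injective (J.X n)) →
      Nonempty (DerivedCategory.Q.obj P ≅ (DCoh.Rpush f).obj E) →
      Nonempty (Q.obj ≅ DerivedCategory.Q.obj J) →
      DCoh.IsQCohD (DerivedCategory.Q.obj ((iHom P).obj J)))
    {V : Y.Opens} {W : X.Opens} (hW : IsAffineOpen W) (hWV : W ≤ f ⁻¹ᵁ V) {A B : DCoh.D Y}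
    (hA : DCoh.IsQCohD A) (hB : DCoh.IsQCohD B) (w : A ⟶ B) (hw : IsIso ((rho V.ι).map w)) :
    Good f adj av hR hI g v u W A ↔ Good f adj av hR hI g v u W B := by
  refine forall_congr' fun n => ?_
  have hA' := isQCohD_shift hA n
  have hB' := isQCohD_shift hB n
  rw [bij_iff_isIso f adj av hR hI g v u hW hA', bij_iff_isIso f adj av hR hI g v u hW hB']
  let A' : DCoh.DQCoh Y := ⟨A⟦n⟧, hA'⟩
  let B' : DCoh.DQCoh Y := ⟨B⟦n⟧, hB'⟩
  let m : A' ⟶ B' := ObjectProperty.homMk (w⟦n⟧')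
  have hm : IsIso ((rho V.ι).map m.hom) :=
    (NatIso.isIso_map_iff ((rho V.ι).commShiftIso n) w).2 (Functor.map_isIso (shiftFunctor _ n) ((rho V.ι).map w))
  haveI : IsIso ((rho (f ⁻¹ᵁ V).ι).map ((projH f I).map m.hom)) := (isIso_restrictD_projFH f I V hR m.hom hm).2
  haveI := isIso_rho_a f adj hN m hm
  haveI i1 : IsIso ((rho W.ι).map ((projH f I).map m.hom)) := isIso_rho_of_le _ hWV
  haveI i2 : IsIso ((rho W.ι).map (a.map m).hom) := isIso_rho_of_le _ hWV
  have e := congrArg (fun t => (rho W.ι).map (InducedCategory.Hom.hom t)) ((𝐭).naturality m)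
  change (rho W.ι).map ((projH f I).map m.hom ≫ (𝐭.app B').hom) =
    (rho W.ι).map ((𝐭.app A').hom ≫ (a.map m).hom) at e
  rw [Functor.map_comp, Functor.map_comp] at e
  rw [← isIso_comp_right_iff ((rho W.ι).map (𝐭.app A').hom) ((rho W.ι).map (a.map m).hom), ← e, isIso_comp_left_iff]

/-- Goodness passes to coproducts. -/
lemma good_sigma [∀ J : Type u, PreservesColimitsOfShape (Discrete J) a] {W : X.Opens} (hW : IsAffineOpen W)
    {ι : Type u} (C : ι → DCoh.D Y) [HasCoproduct C] (h : ∀ i, Good f adj av hR hI g v u W (C i)) :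
    Good f adj av hR hI g v u W (∐ C) := by
  intro n
  haveI := AdjCoprod.closed_coproducts Y ι
  haveI := AdjCoprod.closed_coproducts X ι
  haveI : HasColimitsOfShape (Discrete ι) (DCoh.D X) := TriCat.hasColimitsOfShape_derivedCategory
  haveI : HasColimitsOfShape (Discrete ι) (DCoh.D Y) := TriCat.hasColimitsOfShape_derivedCategory
  let ιX := ObjectProperty.ι (DCoh.IsQCohD (X := X))
  let ιY := ObjectProperty.ι (DCoh.IsQCohD (X := Y))
  haveI : CreatesColimitsOfShape (Discrete ι) ιX := createsColimitsOfShapeFullSubcategoryInclusion _ _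
  haveI : CreatesColimitsOfShape (Discrete ι) ιY := createsColimitsOfShapeFullSubcategoryInclusion _ _
  haveI : HasColimitsOfShape (Discrete ι) (DCoh.DQCoh Y) := inferInstance
  haveI : PreservesColimitsOfShape (Discrete ι) ιX := inferInstance
  haveI : PreservesColimitsOfShape (Discrete ι) ιY := inferInstance
  let K : ι → DCoh.DQCoh Y := fun i => ⟨(C i)⟦n⟧, (h i n).1⟩
  let ec : (∐ K).obj ≅ (∐ C)⟦n⟧ :=
    PreservesCoproduct.iso ιY K ≪≫ (PreservesCoproduct.iso (shiftFunctor (DCoh.D Y) n) C).symm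
  refine bij_of_iso f adj av hR hI g v u ec ((bij_iff_isIso f adj av hR hI g v u hW (∐ K).property).2 ?_)
  haveI := preservesColimitsOfShape₂ DCoh.tensorBi (Discrete ι) I
  haveI : PreservesColimitsOfShape (Discrete ι) (pullCx f) :=
    ⟨fun {K} => ⟨fun {c} hc => ⟨HomologicalComplex.isColimitOfEval _ _ fun m =>
      isColimitOfPreserves (HomologicalComplex.eval Y.Modules (ComplexShape.up ℤ) m ⋙
        Scheme.Modules.pullback f) hc⟩⟩⟩
  haveI hW' : ∀ A : ι → DCoh.D X, PreservesColimit (Discrete.functor A) (rho W.ι) :=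
    fun A => preservesColimit_restrictD W.ι A
  haveI : PreservesColimit (Discrete.functor K ⋙ ιY) (projH f I) := by
    haveI := preservesColimit_kLift (kRespects_pullTensor f I) fun i => (K i).obj
    exact preservesColimit_of_iso_diagram (K₁ := Discrete.functor fun i => (K i).obj) _
      (Discrete.natIso fun i => Iso.refl _)
  haveI : PreservesColimit ((Discrete.functor K ⋙ ιY) ⋙ projH f I) (rho W.ι) :=
    preservesColimit_of_iso_diagram (K₁ := Discrete.functor fun i => (projH f I).obj (K i).obj) _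
      (Discrete.natIso fun i => Iso.refl _)
  haveI : PreservesColimit (Discrete.functor K ⋙ ιY) (projH f I ⋙ rho W.ι) := inferInstance
  haveI : PreservesColimit (Discrete.functor K) (G f av hR hI ⋙ ιX ⋙ rho W.ι) :=
    inferInstanceAs (PreservesColimit (Discrete.functor K) (ιY ⋙ projH f I ⋙ rho W.ι))
  haveI : PreservesColimit ((Discrete.functor K ⋙ a) ⋙ ιX) (rho W.ι) :=
    preservesColimit_of_iso_diagram (K₁ := Discrete.functor fun i => (a.obj (K i)).obj) _
      (Discrete.natIso fun i => Iso.refl _)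
  haveI : PreservesColimit (Discrete.functor K ⋙ a) (ιX ⋙ rho W.ι) := inferInstance
  haveI : PreservesColimit (Discrete.functor K) (a ⋙ ιX ⋙ rho W.ι) := inferInstance
  exact isIso_app_sigma (Functor.whiskerRight 𝐭 (ιX ⋙ rho W.ι)) K fun i =>
    (bij_iff_isIso f adj av hR hI g v u hW (K i).property).1 (h i n)

include hI in
/-- Shifts of the structure sheaf are good. -/
lemma good_Om (hu : Univ f av g) {W : X.Opens} (hW : IsAffineOpen W) (m : ℤ) :
    Good f adj av hR hI g v u W (DerivedCategory.Q.obj (Om Y m)) := fun n => by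
  have hO : DCoh.IsQCohD (DerivedCategory.Q.obj (Om Y (m - n))) := (isQCohD_Q_iff _).2
    (isQCoh_homology_of_terms _ fun i => by
      rcases eq_or_ne i (m - n) with rfl | hi
      · exact isQCoh_of_iso (HomologicalComplex.singleObjXSelf (ComplexShape.up ℤ) _ _).symm
          QCoh.isQCoh_structureModule
      · exact isQCoh_of_isZero (HomologicalComplex.isZero_single_obj_X _ _ _ _ hi))
  haveI := isIso_tau_Om f adj av hR hI g v u hu (m - n) hO
  refine bij_of_iso f adj av hR hI g v u ?_ ((bij_iff_isIso f adj av hR hI g v u hW hO).2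
    (inferInstanceAs (IsIso ((ObjectProperty.ι _ ⋙ rho W.ι).map (𝐭.app ⟨_, hO⟩)))))
  exact (((DerivedCategory.Q.commShiftIso n).app (Om Y m)).symm ≪≫ DerivedCategory.Q.mapIso
    ((((CochainComplex.singleFunctors Y.Modules).shiftIso n (m - n) m (by omega)).app _))).symm

/-- Everything is good over the preimage of an affine open. -/
theorem good_all [∀ J : Type u, PreservesColimitsOfShape (Discrete J) a] (hu : Univ f av g)
    (hN : ∀ (E : DCoh.D X), LocSP E → ∀ (Q : DCoh.DQCoh Y) (P J : CochainComplex Y.Modules ℤ), DCoh.IsKFlat P →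
      J.IsKInjective → (∀ n, Injective (J.X n)) →
      Nonempty (DerivedCategory.Q.obj P ≅ (DCoh.Rpush f).obj E) →
      Nonempty (Q.obj ≅ DerivedCategory.Q.obj J) →
      DCoh.IsQCohD (DerivedCategory.Q.obj ((iHom P).obj J)))
    {V : Y.Opens} (hV : IsAffineOpen V) {W : X.Opens} (hW : IsAffineOpen W) (hWV : W ≤ f ⁻¹ᵁ V)
    {K : DCoh.D Y} (hK : DCoh.IsQCohD K) : Good f adj av hR hI g v u W K := by
  let j := hV.fromSpec
  haveI : QuasiCompact j := quasiCompact_of_compactSpace j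
  haveI : QuasiSeparated j := QuasiSeparated.of_quasiSeparatedSpace j
  haveI := hasRpush_scheme j
  obtain ⟨adjj⟩ := nonempty_rho_adj j
  haveI := isIso_restrictD_counit j adjj
  let A := Γ(Y, V)
  let Φ := DCoh.tildeD A ⋙ DCoh.Rpush j
  have hΦ : ∀ M, DCoh.IsQCohD (Φ.obj M) := fun M => isQCohD_rpush j (isQCohD_tildeD A M)
  have hunit : ∀ {C : DCoh.D Y}, IsIso ((rho V.ι).map (adjj.unit.app C)) := fun {C} => by
    obtain ⟨r⟩ := AffineLift.nonempty_rhoCompNat hV.isoSpec.hom j V.ι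
      (show hV.isoSpec.hom ≫ hV.fromSpec = V.ι by rw [← hV.isoSpec_inv_ι]; exact Iso.hom_inv_id_assoc hV.isoSpec V.ι)
    refine (NatIso.isIso_map_iff r _).1 ?_
    haveI : IsIso ((rho j).map (adjj.unit.app C)) := by
      haveI : IsIso ((rho j).map (adjj.unit.app C) ≫ adjj.counit.app ((rho j).obj C)) := by
        erw [adjj.left_triangle_components C]; exact IsIso.id _
      exact IsIso.of_isIso_comp_right _ (adjj.counit.app _)
    exact inferInstanceAs (IsIso ((rho hV.isoSpec.hom).map ((rho j).map (adjj.unit.app C))))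
  let P : ObjectProperty (DerivedCategory (ModuleCat.{u} A)) := fun M => Good f adj av hR hI g v u W (Φ.obj M)
  haveI : P.IsClosedUnderIsomorphisms := ⟨fun e h => good_of_iso f adj av hR hI g v u (Φ.mapIso e) h⟩
  have hall : ∀ M, P M := fun M => by
    refine derived_induction P (fun T hT h₁ h₂ => ?_) (fun J C hC => ?_) (fun n => ?_) M
    · obtain ⟨c, hc⟩ := exists_rpush_triangle j _ ((DCoh.tildeD A).map_distinguished T hT)
      exact good_obj₂ f adj av hR hI g v u hW _ (rot_of_distTriang _ hc) h₂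
        (good_shift f adj av hR hI g v u h₁ 1)
    · haveI : (tilde.functor A).IsLeftAdjoint := inferInstance
      haveI : HasColimitsOfShape (Discrete J) (DCoh.D Y) := TriCat.hasColimitsOfShape_derivedCategory
      haveI : HasColimitsOfShape (Discrete J) (DCoh.D (Spec A)) := TriCat.hasColimitsOfShape_derivedCategory
      let T := (tilde.functor A).mapHomologicalComplex (ComplexShape.up ℤ)
      haveI : PreservesColimitsOfShape (Discrete J) T :=
        ⟨fun {K} => ⟨fun {c} hc => ⟨HomologicalComplex.isColimitOfEval _ _ fun m =>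
          isColimitOfPreserves (HomologicalComplex.eval _ (ComplexShape.up ℤ) m ⋙ tilde.functor A) hc⟩⟩⟩
      haveI := preservesColimit_Q fun k => T.obj (C k)
      let L : J → DCoh.D (Spec A) := fun k => (DCoh.tildeD A).obj (DerivedCategory.Q.obj (C k))
      haveI hsd : IsIso (sigmaComparison (DCoh.Rpush j) L) :=
        isIso_sigmaDesc_rpush j L fun k => isQCohD_tildeD A _
      haveI := PreservesCoproduct.of_iso_comparison (DCoh.Rpush j) L
      let e : (DCoh.tildeD A).obj (DerivedCategory.Q.obj (∐ C)) ≅ ∐ L :=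
        (tilde.functor A).mapDerivedCategoryFactors.app (∐ C) ≪≫
          DerivedCategory.Q.mapIso (PreservesCoproduct.iso T C) ≪≫ PreservesCoproduct.iso DerivedCategory.Q _ ≪≫
          Sigma.mapIso fun k => ((tilde.functor A).mapDerivedCategoryFactors.app (C k)).symm
      exact good_of_iso f adj av hR hI g v u
        (PreservesCoproduct.iso (DCoh.Rpush j) L).symm
        (good_sigma f adj av hR hI g v u hW (fun k => (DCoh.Rpush j).obj (L k)) hC) |>
          good_of_iso f adj av hR hI g v u ((DCoh.Rpush j).mapIso e.symm)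
    · let eO : (DCoh.tildeD A).obj (DerivedCategory.Q.obj
          ((HomologicalComplex.single (ModuleCat.{u} A) (ComplexShape.up ℤ) n).obj (ModuleCat.of A A))) ≅
          (rho j).obj (DerivedCategory.Q.obj (Om Y n)) :=
        (tilde.functor A).mapDerivedCategoryFactors.app _ ≪≫
          DerivedCategory.Q.mapIso ((HomologicalComplex.singleMapHomologicalComplex (tilde.functor A) _ n).app _ ≪≫
            (HomologicalComplex.single _ _ n).mapIso (tildeSelf ≪≫ (restrictStructureIso j).symm) ≪≫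
            ((HomologicalComplex.singleMapHomologicalComplex (Scheme.Modules.restrictFunctor j) _ n).app _).symm) ≪≫
          ((rhoQ j).app _).symm
      refine good_of_iso f adj av hR hI g v u ((DCoh.Rpush j).mapIso eO.symm) ?_
      have hq : DCoh.IsQCohD (DerivedCategory.Q.obj (Om Y n)) :=
        isQCohD_of_iso ((shiftFunctorZero (DCoh.D Y) ℤ).app _) (good_Om f adj av hR hI g v u hu hW n 0).1
      exact (good_iff_of_rho f adj av hR hI g v u hN hW hWV hq
        (isQCohD_rpush j (isQCohD_rho j hq)) (adjj.unit.app _) hunit).1 (good_Om f adj av hR hI g v u hu hW n)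
  obtain ⟨M, ⟨eM⟩⟩ := exists_tildeD_iso (R := A) (isQCohD_rho j hK)
  exact (good_iff_of_rho f adj av hR hI g v u hN hW hWV hK (isQCohD_rpush j (isQCohD_rho j hK))
    (adjj.unit.app K) hunit).2 (good_of_iso f adj av hR hI g v u ((DCoh.Rpush j).mapIso eM) (hall M))

/-- The comparison is invertible. -/
theorem isIso_tau [∀ J : Type u, PreservesColimitsOfShape (Discrete J) a] (hu : Univ f av g)
    (hN : ∀ (E : DCoh.D X), LocSP E → ∀ (Q : DCoh.DQCoh Y) (P J : CochainComplex Y.Modules ℤ), DCoh.IsKFlat P →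
      J.IsKInjective → (∀ n, Injective (J.X n)) →
      Nonempty (DerivedCategory.Q.obj P ≅ (DCoh.Rpush f).obj E) →
      Nonempty (Q.obj ≅ DerivedCategory.Q.obj J) →
      DCoh.IsQCohD (DerivedCategory.Q.obj ((iHom P).obj J)))
    (K : DCoh.DQCoh Y) : IsIso (𝐭.app K) := by
  haveI : IsIso ((ObjectProperty.ι (DCoh.IsQCohD (X := X))).map (𝐭.app K)) := by
    refine isIso_of_cover _ fun x => ?_
    obtain ⟨_, ⟨V, hV, rfl⟩, hy, -⟩ :=
      Y.isBasis_affineOpens.exists_subset_of_mem_open (Set.mem_univ (f.base x)) isOpen_univ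
    obtain ⟨_, ⟨W, hW, rfl⟩, hx, hWV⟩ :=
      X.isBasis_affineOpens.exists_subset_of_mem_open (show x ∈ f ⁻¹ᵁ V from hy) (f ⁻¹ᵁ V).2
    let W' : X.Opens := W
    refine ⟨W', hx, ?_⟩
    let e : (⟨K.obj⟦(0 : ℤ)⟧, isQCohD_shift K.property 0⟩ : DCoh.DQCoh Y) ≅ K :=
      ObjectProperty.isoMk _ ((shiftFunctorZero (DCoh.D Y) ℤ).app K.obj)
    exact (NatTrans.isIso_app_iff_of_iso (Functor.whiskerRight 𝐭 (ObjectProperty.ι _ ⋙ rho W'.ι)) e).1
      ((bij_iff_isIso f adj av hR hI g v u hW _).1 (good_all f adj av hR hI g v u hu hN hV (W := W') hW hWV K.property 0))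
  exact isIso_of_reflects_iso _ (ObjectProperty.ι (DCoh.IsQCohD (X := X)))

end Groth.Agent.KExact.AdjTensor
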