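import Groth.Agent.KFlatLib.Scheme.ExtBound
import Groth.Agent.FPEnough.Quot
import Groth.Agent.OmegaLib.IdealMod
import Groth.Agent.PPSheaf.Gr
import Groth.Agent.QCoh.FT
import Groth.Prelude.Def_PerfAux

/-!
# The resolution property implies affine diagonal
-/

set_option linter.style.haveILetI false
set_option backward.isDefEq.respectTransparency false
set_option backward.isDefEq.respectTransparency.types false

universe u

open CategoryTheory CategoryTheory.Limits AlgebraicGeometry TopologicalSpace Opposite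

namespace Groth.Agent.KExact.AffineInter

open Groth.Agent

variable {X : Scheme.{u}}

/-- Evaluation of morphisms at a section, as an additive map. -/
noncomputable def evalAt {M N : X.Modules} (U : X.Opens) (x : Γ(M, U)) : (M ⟶ N) →+ Γ(N, U) :=
  AddMonoidHom.mk' (fun φ => φ.app U x) fun _ _ => rfl

/-- Sections of a direct summand of a free module are combinations of global ones. -/
theorem span_res_eq_top_of_retract {F : X.Modules} {n : ℕ} (i : F ⟶ FlatMod.freeMod X n)
    (p : FlatMod.freeMod X n ⟶ F) (h : i ≫ p = 𝟙 F) (W : X.Opens) :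
    Submodule.span Γ(X, W) (Set.range fun m : Γ(F, ⊤) => F.presheaf.map (homOfLE le_top : W ⟶ ⊤).op m) = ⊤ := by
  classical
  haveI : HasBiproduct (fun _ : Fin n => Coh.structureModule X) := HasBiproduct.of_hasCoproduct _
  let O' := fun _ : Fin n => Coh.structureModule X
  let a : ∀ _ : Fin n, FlatMod.freeMod X n ⟶ Coh.structureModule X := fun k =>
    (biproduct.isoCoproduct O').inv ≫ biproduct.π O' k
  let b : ∀ _ : Fin n, Coh.structureModule X ⟶ F := fun k =>
    biproduct.ι O' k ≫ (biproduct.isoCoproduct O').hom ≫ p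
  have e : 𝟙 F = ∑ k : Fin n, i ≫ a k ≫ b k := by
    simp only [a, b, ← Preadditive.comp_sum, Category.assoc]
    simp only [← Category.assoc (biproduct.π _ _), ← Preadditive.sum_comp, biproduct.total, Category.id_comp]
    rw [Iso.inv_hom_id_assoc, h]
  refine top_le_iff.1 fun x _ => ?_
  have hx : x = ∑ k : Fin n, (i ≫ a k ≫ b k).app W x :=
    (congrArg (evalAt W x) e).trans (map_sum (evalAt W x) _ _)
  rw [hx]
  refine Submodule.sum_mem _ fun k _ => ?_
  let c : Γ(X, W) := (i ≫ a k).app W x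
  let one : ∀ U : X.Opens, Γ(Coh.structureModule X, U) := fun U => (1 : Γ(X, U))
  have h1 : (i ≫ a k ≫ b k).app W x = c • (b k).app W (one W) := by
    rw [← Scheme.Modules.Hom.app_smul]
    show (b k).app W ((i ≫ a k).app W x) = _
    exact congrArg (fun z => (b k).app W z) (mul_one c).symm
  rw [h1]
  refine Submodule.smul_mem _ _ (Submodule.subset_span ⟨(b k).app ⊤ (one ⊤), ?_⟩)
  have h2 := congrArg (fun z => z (one ⊤)) ((b k).mapPresheaf.naturality (homOfLE le_top : W ⟶ ⊤).op)
  refine h2.symm.trans (congrArg (fun z => (b k).app W z) ?_)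
  exact (X.presheaf.map (homOfLE le_top : W ⟶ ⊤).op).hom.map_one

/-- Sections of a finite locally free module inside an affine open are combinations of sections on it. -/
theorem span_res_eq_top {E : X.Modules} (hE : FlatMod.IsFinLocFree E) {V W : X.Opens} (hV : IsAffineOpen V)
    (hWV : W ≤ V) :
    Submodule.span Γ(X, W) (Set.range fun m : Γ(E, V) => E.presheaf.map (homOfLE hWV).op m) = ⊤ := by
  let g := hV.fromSpec
  obtain ⟨W', rfl⟩ : ∃ W' : (Spec Γ(X, V)).Opens, W = g ''ᵁ W' := ⟨g ⁻¹ᵁ W, by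
    rw [Scheme.Hom.image_preimage_eq_opensRange_inf, hV.opensRange_fromSpec, inf_eq_right.2 hWV]⟩
  obtain ⟨n, i, p, hip⟩ := KFlatLib.ExtBound.exists_retract_spec (F := E.restrict g)
    (H23.PullPush.isFinLocFree_of_iso ((Scheme.Modules.restrictFunctorIsoPullback g).app E).symm
      (KFlatLib.isFinLocFree_pullback g hE))
  have h := span_res_eq_top_of_retract i p hip W'
  refine top_le_iff.1 fun x _ => ?_
  have hx : (show Γ(E.restrict g, W') from x) ∈ (⊤ : Submodule Γ(Spec Γ(X, V), W') Γ(E.restrict g, W')) := trivial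
  rw [← h] at hx
  have key : ∀ z : Γ(E.restrict g, W'), z ∈ Submodule.span Γ(Spec Γ(X, V), W')
      (Set.range fun m : Γ(E.restrict g, ⊤) => (E.restrict g).presheaf.map (homOfLE le_top : W' ⟶ ⊤).op m) →
      (show Γ(E, g ''ᵁ W') from z) ∈ Submodule.span Γ(X, g ''ᵁ W')
        (Set.range fun m : Γ(E, V) => E.presheaf.map (homOfLE hWV).op m) := by
    intro z hz
    induction hz using Submodule.span_induction with
    | mem z hz =>
      obtain ⟨m, rfl⟩ := hz
      have e : g ''ᵁ ⊤ = V := g.image_top_eq_opensRange.trans hV.opensRange_fromSpec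
      refine Submodule.subset_span ⟨E.presheaf.map (homOfLE e.ge).op m, ?_⟩
      show E.presheaf.map (homOfLE hWV).op (E.presheaf.map (homOfLE e.ge).op m) = _
      rw [← CategoryTheory.comp_apply, ← Functor.map_comp]
      rfl
    | zero => exact Submodule.zero_mem _
    | add a b _ _ ha hb => exact Submodule.add_mem _ ha hb
    | smul r z _ hz => exact Submodule.smul_mem _ ((g.appIso W').inv r) hz
  exact key _ hx

/-- Affine opens meet in affine opens on a scheme with the resolution property. -/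
theorem isAffineOpen_inf [CompactSpace X] [QuasiSeparatedSpace X] (hX : PerfAux.HasResolutionProperty X)
    {U V : X.Opens} (hU : IsAffineOpen U) (hV : IsAffineOpen V) : IsAffineOpen (U ⊓ V) := by
  let Z : Closeds X := ⟨(U : Set X)ᶜ, U.isOpen.isClosed_compl⟩
  let J := Scheme.IdealSheafData.vanishingIdeal Z
  have hsupp : (J.support : Set X) = (U : Set X)ᶜ := Scheme.IdealSheafData.coe_support_vanishingIdeal _
  have h1 : (1 : Γ(X, U)) ∈ J.ideal ⟨U, hU⟩ := by
    by_contra hne
    obtain ⟨P, hP, hle⟩ := Ideal.exists_le_maximal _ (fun ht : J.ideal ⟨U, hU⟩ = ⊤ => hne (ht ▸ Submodule.mem_top))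
    let y := hU.fromSpec ⟨P, hP.isPrime⟩
    have hyU : y ∈ U := hU.opensRange_fromSpec.le ⟨_, rfl⟩
    have hy : y ∈ X.zeroLocus (U := U) (J.ideal ⟨U, hU⟩) ∩ U := ⟨by
      have : (⟨P, hP.isPrime⟩ : PrimeSpectrum Γ(X, U)) ∈ hU.fromSpec ⁻¹' X.zeroLocus (U := U) (J.ideal ⟨U, hU⟩) := by
        rw [hU.fromSpec_preimage_zeroLocus]; exact hle
      exact this, hyU⟩
    rw [← J.coe_support_inter ⟨U, hU⟩, hsupp] at hy
    exact hy.1 hyU
  obtain ⟨k₁, hk₁⟩ := OmegaLib.exists_of_mem J ⟨U, hU⟩ 1 h1
  obtain ⟨H, ψ, hH, hfp, hmem⟩ := FPEnough.exists_isFP_range (PPSheaf.isQCoh_idealMod J) ⟨U, hU⟩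
    (Set.finite_singleton k₁)
  obtain ⟨h₁, hh₁⟩ := hmem rfl
  obtain ⟨E, π, hE, hπ⟩ := hX H hH (QCoh.isFT_of_isFP hfp)
  haveI := hπ
  obtain ⟨e, he⟩ := QCoh.app_surjective_of_epi (QCoh.isQCoh_of_isFinLocFree hE) hH π hU h₁
  let φ := π ≫ ψ
  let val : ∀ W : X.Opens, Γ(E, W) → Γ(X, W) := fun W m => OmegaSh.idealSect J W (φ.app W m)
  have he1 : val U e = 1 := (congrArg (fun z => OmegaSh.idealSect J U (ψ.app U z)) he).trans
    ((congrArg (OmegaSh.idealSect J U) hh₁).trans hk₁)
  have hres : ∀ {A B : X.Opens} (hAB : A ≤ B) (m : Γ(E, B)),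
      val A (E.presheaf.map (homOfLE hAB).op m) = X.presheaf.map (homOfLE hAB).op (val B m) := fun hAB m => by
    show OmegaSh.idealSect J _ (φ.app _ _) = _
    rw [← OmegaLib.idealSect_map J hAB]
    exact congrArg _ (congrArg (fun z => z m) (φ.mapPresheaf.naturality (homOfLE hAB).op))
  let s : Set Γ(X, U ⊓ V) := Set.range fun m : Γ(E, V) => X.presheaf.map (homOfLE inf_le_right : U ⊓ V ⟶ V).op (val V m)
  refine isAffineOpen_of_isAffineOpen_basicOpen (U ⊓ V) s ((Ideal.eq_top_iff_one _).2 ?_) ?_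
  · have key : ∀ z ∈ Submodule.span Γ(X, U ⊓ V)
        (Set.range fun m : Γ(E, V) => E.presheaf.map (homOfLE (inf_le_right : U ⊓ V ≤ V)).op m),
        val (U ⊓ V) z ∈ Ideal.span s := by
      intro z hz
      induction hz using Submodule.span_induction with
      | mem z hz =>
        obtain ⟨m, rfl⟩ := hz
        exact Ideal.subset_span ⟨m, (hres inf_le_right m).symm⟩
      | zero => simp only [val, map_zero, Submodule.zero_mem]
      | add a b _ _ ha hb => simp only [val, map_add]; exact Submodule.add_mem _ ha hb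
      | smul r z _ hz =>
        simp only [val, Scheme.Modules.Hom.app_smul, OmegaLib.idealSect_smul]
        exact Ideal.mul_mem_left _ r hz
    have h2 := key (E.presheaf.map (homOfLE (inf_le_left : U ⊓ V ≤ U)).op e)
      ((span_res_eq_top hE hV inf_le_right).ge trivial)
    rwa [hres, he1, map_one] at h2
  · rintro _ ⟨m, rfl⟩
    have hle : X.basicOpen (val V m) ≤ U := fun x hx => by
      by_contra hxU
      have hxs : x ∈ (J.support : Set X) ∩ V := ⟨hsupp ▸ hxU, X.basicOpen_le _ hx⟩
      rw [J.coe_support_inter ⟨V, hV⟩] at hxs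
      exact (Scheme.mem_zeroLocus_iff _ _ _).1 hxs.1 _ (OmegaLib.idealSect_mem J ⟨V, hV⟩ (φ.app V m)) hx
    rw [Scheme.basicOpen_res, inf_eq_right.2 (le_inf hle (X.basicOpen_le _))]
    exact hV.basicOpen _

end Groth.Agent.KExact.AffineInter
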