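import Groth.Agent.KFlatLib.Scheme.RHomBounded
import Groth.Agent.KFlatLib.Scheme.RHomExists
import Groth.Agent.KFlatLib.Scheme.CohD

/-!
# `RSheafHom` into a bounded complex of injectives with coherent cohomology
-/

set_option autoImplicit false
set_option linter.style.haveILetI false
set_option backward.isDefEq.respectTransparency false
set_option backward.isDefEq.respectTransparency.types false

universe u

open CategoryTheory CategoryTheory.Limits CategoryTheory.Pretriangulated AlgebraicGeometry

attribute [local instance] HasDerivedCategory.standard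

namespace Groth.Agent.KExact

open KFlatLib

variable {X : Scheme.{u}}

/-- High degree cohomology of `iHom` from a bounded below into a bounded above complex vanishes. -/
theorem isZero_homology_iHom_high (C J : CochainComplex X.Modules ℤ) (c b : ℤ) [C.IsStrictlyGE c]
    [J.IsStrictlyLE b] (k : ℤ) (hk : b < k + c) : IsZero (((iHom C).obj J).homology k) := by
  let A := (iHom C).obj J
  have hA : IsZero (A.cycles k) := by
    let g : (HomologicalComplex.single X.Modules (ComplexShape.up ℤ) k).obj (A.cycles k) ⟶ A :=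
      HomologicalComplex.mkHomFromSingle (A.iCycles k) (fun i _ => A.iCycles_d k i)
    have hg : g = 0 := by
      refine ((iHomAdj C).homEquiv _ _).symm.injective
        (HomologicalComplex.hom_ext _ _ fun n => ?_)
      by_cases hn : b < n
      · exact (J.isZero_of_isStrictlyLE b n hn).eq_of_tgt _ _
      · refine HomologicalComplex.mapBifunctor.hom_ext (fun p q h => ?_)
        change p + q = n at h
        refine IsZero.eq_of_src ?_ _ _
        by_cases hp : p = k
        · exact Functor.map_isZero _ (C.isZero_of_isStrictlyGE c q (by omega))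
        · exact Functor.map_isZero ((DCoh.tensorBi (X := X)).flip.obj (C.X q))
            (HomologicalComplex.isZero_single_obj_X _ _ _ _ hp)
    have h := congrArg (fun φ : _ ⟶ A => φ.f k) hg
    simp only [g, HomologicalComplex.mkHomFromSingle_f, HomologicalComplex.zero_f] at h
    rw [IsZero.iff_id_eq_zero, ← cancel_mono (A.iCycles k), Category.id_comp, zero_comp,
      ← cancel_epi (HomologicalComplex.singleObjXSelf (ComplexShape.up ℤ) k (A.cycles k)).hom,
      comp_zero]
    exact h
  exact IsZero.of_epi (A.homologyπ k) hA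

/-- The same, for complexes bounded below up to quasi-isomorphism. -/
theorem isZero_homology_iHom_high' (C J : CochainComplex X.Modules ℤ) (c b : ℤ) [C.IsGE c]
    [J.IsKInjective] [∀ n, Injective (J.X n)] [J.IsStrictlyLE b] (k : ℤ) (hk : b < k + c) :
    IsZero (((iHom C).obj J).homology k) := by
  haveI : QuasiIso (C.πTruncGE c) := (C.quasiIso_πTruncGE_iff c).2 inferInstance
  haveI := quasiIso_iHomMap (C.πTruncGE c) J
  exact (isZero_homology_iHom_high (C.truncGE c) J c b k hk).of_iso
    (asIso (HomologicalComplex.homologyMap ((iHomMap (C.πTruncGE c)).app J) k)).symm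

/-- A map with cone in high degrees induces isomorphisms on cohomology of `iHom`. -/
theorem nonempty_homology_iHom_iso_high {E B : CochainComplex X.Modules ℤ} (φ : E ⟶ B) (c : ℤ)
    [CochainComplex.IsGE (CochainComplex.mappingCone φ) c]
    (J : CochainComplex X.Modules ℤ) [J.IsKInjective] [∀ n, Injective (J.X n)] (b : ℤ)
    [J.IsStrictlyLE b] (i : ℤ) (hi : b < i + c) :
    Nonempty (((iHom B).obj J).homology i ≅ ((iHom (E⟦(1 : ℤ)⟧)).obj J).homology (i + 1)) := by
  let C := CochainComplex.mappingCone φ
  obtain ⟨hw, hse⟩ := Inner.innerHom_shortExact (DCoh.tensorBi (X := X)) (coneSeq φ)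
    (fun n => ⟨coneSeqSplitting φ n⟩) J
  haveI := hse.isIso_δ i (i + 1) rfl (isZero_homology_iHom_high' C J c b i (by omega))
    (isZero_homology_iHom_high' C J c b (i + 1) (by omega))
  exact ⟨asIso (hse.δ i (i + 1) rfl)⟩

/-- The cone of a map is exact where the map is a quasi-isomorphism in two consecutive degrees. -/
theorem isZero_homology_cone {E B : CochainComplex X.Modules ℤ} (φ : E ⟶ B) (k : ℤ)
    [QuasiIsoAt φ k] [QuasiIsoAt φ (k + 1)] :
    IsZero ((CochainComplex.mappingCone φ).homology k) := by
  let T : Triangle (DerivedCategory X.Modules) :=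
    DerivedCategory.Q.mapTriangle.obj (CochainComplex.mappingCone.triangle φ)
  have hT : T ∈ distinguishedTriangles :=
    (DerivedCategory.mem_distTriang_iff T).2 ⟨_, _, φ, ⟨Iso.refl _⟩⟩
  let H := DerivedCategory.homologyFunctor X.Modules
  have h : ∀ i, QuasiIsoAt φ i → IsIso ((H i).map T.mor₁) := fun i hi => by
    haveI : IsIso ((HomologicalComplex.homologyFunctor X.Modules (ComplexShape.up ℤ) i).map φ) :=
      (quasiIsoAt_iff_isIso_homologyMap φ i).1 hi
    exact (NatIso.isIso_map_iff (DerivedCategory.homologyFunctorFactors X.Modules i) φ).2 inferInstance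
  haveI := h k inferInstance
  haveI := h (k + 1) inferInstance
  refine IsZero.of_iso ?_ ((DerivedCategory.homologyFunctorFactors X.Modules k).app _).symm
  exact (DerivedCategory.HomologySequence.exact₃ T hT k (k + 1) rfl).isZero_X₂
    ((DerivedCategory.HomologySequence.epi_homologyMap_mor₁_iff T hT k).1 inferInstance)
    ((DerivedCategory.HomologySequence.mono_homologyMap_mor₁_iff T hT k (k + 1) rfl).1
      inferInstance)

/-- Truncating the source from above does not change a given cohomology of `iHom`. -/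
theorem nonempty_homology_iHom_truncLE (L : CochainComplex X.Modules ℤ) (N : ℤ)
    (J : CochainComplex X.Modules ℤ) [J.IsKInjective] [∀ n, Injective (J.X n)] (b : ℤ)
    [J.IsStrictlyLE b] (i : ℤ) (hi : b < i + N) :
    Nonempty (((iHom L).obj J).homology i ≅ ((iHom (L.truncLE N)).obj J).homology i) := by
  haveI hge : CochainComplex.IsGE (CochainComplex.mappingCone (L.ιTruncLE N)) N := by
    rw [CochainComplex.isGE_iff]
    intro k hk
    rw [HomologicalComplex.exactAt_iff_isZero_homology]
    haveI := L.quasiIsoAt_ιTruncLE N k (by omega)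
    haveI := L.quasiIsoAt_ιTruncLE N (k + 1) (by omega)
    exact isZero_homology_cone _ k
  haveI : CochainComplex.IsGE (CochainComplex.mappingCone (𝟙 (L.truncLE N))) N := by
    rw [CochainComplex.isGE_iff]
    exact fun k _ => (HomologicalComplex.exactAt_iff_isZero_homology _ k).2
      (isZero_homology_cone _ k)
  obtain ⟨e₁⟩ := nonempty_homology_iHom_iso_high (L.ιTruncLE N) N J b i hi
  obtain ⟨e₂⟩ := nonempty_homology_iHom_iso_high (𝟙 (L.truncLE N)) N J b i hi
  exact ⟨e₁ ≪≫ e₂.symm⟩

/-- Cohomology of `RSheafHom` into a bounded below object with coherent cohomology. -/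
theorem isCoh_hd_RSheafHom [IsLocallyNoetherian X] (K : CochainComplex X.Modules ℤ) [DCoh.HasLTensorCx K]
    [DCoh.HasRSheafHom K] (L : DCoh.D X) (hL : DCoh.IsCohD L) (a : ℤ) [L.IsGE a] (i : ℤ)
    (hK : DCoh.IsPseudoCoherentD (a - i - 1) (DCoh.toD X K)) :
    Coh.IsCoh (DCoh.HD ((DCoh.RSheafHom K).obj L) i) := by
  refine isCoh_of_local fun x => ?_
  obtain ⟨U, j, hj, hx, h⟩ := exists_local_model K L a i hK x
  haveI : IsLocallyNoetherian U := isLocallyNoetherian_of_isOpenImmersion j
  haveI : (DCoh.IsCohD (X := U)).IsClosedUnderIsomorphisms := ⟨isCohD_of_iso⟩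
  obtain ⟨Z, hZ, ⟨e⟩⟩ := h DCoh.IsCohD (fun C hC i => isCoh_of_isZero (Functor.map_isZero _ hC))
    (fun T hT h₁ h₃ => isCohD_obj₂ hT h₁ h₃) fun n => isCohD_shift (isCohD_rho j hL) n
  exact ⟨U, j, hj, hx, isCoh_of_iso (e ≪≫ restrictHDIso j _ i) (hZ (i + 1))⟩

/-- `RSheafHom` from an object with coherent cohomology into a bounded complex of injectives with
coherent cohomology. -/
theorem rhom_coherent_bounded [IsNoetherian X] (I : CochainComplex X.Modules ℤ)
    (hI : ∀ i : ℤ, Injective (I.X i)) (a b : ℤ) [I.IsStrictlyGE a] [I.IsStrictlyLE b]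
    (K : DCoh.D X) (eK : DCoh.toD X I ≅ K) (hK : DCoh.IsCohD K)
    (L : CochainComplex X.Modules ℤ) (hL : DCoh.IsCohD (DCoh.toD X L))
    [DCoh.HasLTensorCx L] [DCoh.HasRSheafHom L] :
    (∀ i : ℤ, Coh.IsCoh (DCoh.HD ((DCoh.RSheafHom L).obj K) i)) ∧
      (∀ c : ℤ, (DCoh.toD X L).IsGE c → ∀ i : ℤ, b - c < i → IsZero (DCoh.HD ((DCoh.RSheafHom L).obj K) i)) ∧
      (∀ c : ℤ, (DCoh.toD X L).IsLE c → ∀ i : ℤ, i < a - c → IsZero (DCoh.HD ((DCoh.RSheafHom L).obj K) i)) := by
  haveI := hI
  haveI : I.IsKInjective := CochainComplex.isKInjective_of_injective I a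
  haveI : K.IsGE a := by
    haveI : (DCoh.toD X I).IsGE a := (DerivedCategory.isGE_Q_obj_iff I a).2 inferInstance
    exact DerivedCategory.TStructure.t.isGE_of_iso eK a
  have hiso : ∀ (M : CochainComplex X.Modules ℤ) [DCoh.HasLTensorCx M] [DCoh.HasRSheafHom M] (i : ℤ),
      Nonempty (DCoh.HD ((DCoh.RSheafHom M).obj K) i ≅ ((iHom M).obj I).homology i) := fun M _ _ i => by
    obtain ⟨e⟩ := nonempty_RSheafHom_iso M I
    exact ⟨(DerivedCategory.homologyFunctor X.Modules i).mapIso ((DCoh.RSheafHom M).mapIso eK.symm ≪≫ e) ≪≫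
      (DerivedCategory.homologyFunctorFactors X.Modules i).app _⟩
  refine ⟨fun i => ?_, fun c hc i hi => ?_, fun c hc i hi => ?_⟩
  · let N : ℤ := b - i + 1
    obtain ⟨e⟩ := nonempty_homology_iHom_truncLE L N I b i (by omega)
    obtain ⟨eL⟩ := hiso L i
    let M := (kRes X).obj (L.truncLE N)
    haveI := (flatCover X).quasiIso_ψ (L.truncLE N)
    haveI := hasLTensorCx M
    haveI := hasRSheafHom_of_isKFlat M (isKFlat_kRes _)
    haveI := quasiIso_iHomMap ((flatCover X).ψ.app (L.truncLE N)) I
    obtain ⟨eM⟩ := hiso M i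
    have hpc : DCoh.IsPseudoCoherentD (a - i - 1) (DCoh.toD X M) := by
      haveI := isIso_Q_map ((flatCover X).ψ.app (L.truncLE N)) inferInstance
      let eQ : DCoh.toD X M ≅ DerivedCategory.Q.obj (L.truncLE N) :=
        asIso (DerivedCategory.Q.map ((flatCover X).ψ.app (L.truncLE N)))
      have hc : DCoh.IsCohD (DerivedCategory.Q.obj (L.truncLE N)) := fun k => by
        refine isCoh_of_iso ((DerivedCategory.homologyFunctorFactors X.Modules k).app _).symm ?_
        by_cases hk : k ≤ N
        · haveI := L.quasiIsoAt_ιTruncLE N k hk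
          exact isCoh_of_iso ((DerivedCategory.homologyFunctorFactors X.Modules k).app L ≪≫
            (isoOfQuasiIsoAt (L.ιTruncLE N) k).symm) (hL k)
        · exact isCoh_of_isZero ((HomologicalComplex.exactAt_iff_isZero_homology _ k).1
            ((L.truncLE N).exactAt_of_isLE N k (by omega)))
      haveI : (DerivedCategory.Q.obj (L.truncLE N)).IsLE N :=
        (DerivedCategory.isLE_Q_obj_iff _ N).2 inferInstance
      refine (isPseudoCoherentD_iff _ _).2 ((locPC_of_coh (isCohD_isQCohD hc) (fun k _ => hc k) N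
        fun k hk => DerivedCategory.isZero_of_isLE _ N k hk).of_iso eQ.symm)
    exact isCoh_of_iso (eL ≪≫ e ≪≫
      asIso (HomologicalComplex.homologyMap ((iHomMap ((flatCover X).ψ.app (L.truncLE N))).app I) i) ≪≫
        eM.symm).symm (isCoh_hd_RSheafHom M K hK a i hpc)
  · haveI := hc
    haveI : L.IsGE c := (DerivedCategory.isGE_Q_obj_iff L c).1 hc
    obtain ⟨eL⟩ := hiso L i
    exact (isZero_homology_iHom_high' L I c b i (by omega)).of_iso eL
  · haveI := hc
    haveI := isGE_RSheafHom L c K a
    exact DerivedCategory.isZero_of_isGE _ (a - c) i hi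

end Groth.Agent.KExact
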