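import Groth.Agent.KExact.TildeTensorCx
import Groth.Agent.KExact.RHomCoherent
import Groth.Agent.KFlatLib.TotalMapFlip
import Groth.Agent.KFlatLib.Scheme.Tilde
import Groth.Agent.KFlatLib.Ring.RHomCxBridge
import Groth.Agent.H9Misc.TildeInjective

/-!
# `RSheafHom` of quasi-coherent objects on an affine scheme
-/

set_option autoImplicit false
set_option linter.style.haveILetI false
set_option backward.isDefEq.respectTransparency false
set_option backward.isDefEq.respectTransparency.types false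

universe u

open CategoryTheory CategoryTheory.Limits AlgebraicGeometry MonoidalCategory

attribute [local instance] HasDerivedCategory.standard

namespace Groth.Agent.KExact.AffineRHom

open KFlatLib TildeTensor

/-- Cohomology of `RSheafHom` from an object with coherent cohomology into a bounded complex of
injectives with quasi-coherent cohomology. -/
theorem isQCoh_homology_iHom {X : Scheme.{u}} [IsNoetherian X] (L : CochainComplex X.Modules ℤ)
    (hL : DCoh.IsCohD (DCoh.toD X L))
    (I : CochainComplex X.Modules ℤ) [∀ n, Injective (I.X n)] (a b : ℤ) [I.IsStrictlyGE a]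
    [I.IsStrictlyLE b] (hI : DCoh.IsQCohD (DerivedCategory.Q.obj I)) (i : ℤ) :
    Coh.IsQCoh (((iHom L).obj I).homology i) := by
  haveI : I.IsKInjective := CochainComplex.isKInjective_of_injective I a
  haveI : (DerivedCategory.Q.obj I).IsGE a := inferInstance
  let N : ℤ := b - i + 1
  obtain ⟨e⟩ := nonempty_homology_iHom_truncLE L N I b i (by omega)
  let M := (kRes X).obj (L.truncLE N)
  haveI := (flatCover X).quasiIso_ψ (L.truncLE N)
  haveI := hasLTensorCx M
  haveI := hasRSheafHom_of_isKFlat M (isKFlat_kRes _)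
  haveI := quasiIso_iHomMap ((flatCover X).ψ.app (L.truncLE N)) I
  obtain ⟨eM⟩ := nonempty_RSheafHom_iso M I
  haveI := isIso_Q_map ((flatCover X).ψ.app (L.truncLE N)) inferInstance
  have hpc : DCoh.IsPseudoCoherentD (a - i - 1) (DCoh.toD X M) := by
    let eQ : DCoh.toD X M ≅ DerivedCategory.Q.obj (L.truncLE N) :=
      asIso (DerivedCategory.Q.map ((flatCover X).ψ.app (L.truncLE N)))
    have hc : DCoh.IsCohD (DerivedCategory.Q.obj (L.truncLE N)) := fun k => by
      refine isCoh_of_iso ((DerivedCategory.homologyFunctorFactors X.Modules k).app _).symm ?_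
      by_cases hk : k ≤ N
      · haveI := L.quasiIsoAt_ιTruncLE N k hk
        exact isCoh_of_iso ((DerivedCategory.homologyFunctorFactors X.Modules k).app L ≪≫
          (isoOfQuasiIsoAt (L.ιTruncLE N) k).symm) (hL k)
      · exact isCoh_of_isZero ((HomologicalComplex.exactAt_iff_isZero_homology _ k).1
          ((L.truncLE N).exactAt_of_isLE N k (by omega)))
    haveI : (DerivedCategory.Q.obj (L.truncLE N)).IsLE N :=
      (DerivedCategory.isLE_Q_obj_iff _ N).2 inferInstance
    refine (isPseudoCoherentD_iff _ _).2 ((locPC_of_coh (isCohD_isQCohD hc) (fun k _ => hc k) N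
      fun k hk => DerivedCategory.isZero_of_isLE _ N k hk).of_iso eQ.symm)
  exact KFlatLib.isQCoh_of_iso (e ≪≫
      asIso (HomologicalComplex.homologyMap ((iHomMap ((flatCover X).ψ.app (L.truncLE N))).app I) i) ≪≫
      ((DerivedCategory.homologyFunctor X.Modules i).mapIso eM ≪≫
        (DerivedCategory.homologyFunctorFactors X.Modules i).app _).symm).symm
    (isQCoh_HD_RSheafHom M (DerivedCategory.Q.obj I) hI a i hpc)

variable {R : CommRingCat.{u}}

/-- `- ⊗ P^~` and `~` commute. -/
noncomputable def tildeTenIso (P : CochainComplex (ModuleCat.{u} R) ℤ) :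
    (tilde.functor R).mapHomologicalComplex (ComplexShape.up ℤ) ⋙
        Inner.tenX DCoh.tensorBi (((tilde.functor R).mapHomologicalComplex (ComplexShape.up ℤ)).obj P) ≅
      tenCx P ⋙ (tilde.functor R).mapHomologicalComplex (ComplexShape.up ℤ) :=
  totalMapNatIso (tildeTensorBiIso R) P

/-- `Γ` on complexes is right adjoint to `~`. -/
noncomputable def tildeCxAdj :
    (tilde.functor R).mapHomologicalComplex (ComplexShape.up ℤ) ⊣ gammaCx (R := R) :=
  haveI : (moduleSpecΓFunctor (R := R)).Additive :=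
    (tilde.adjunction (R := R)).right_adjoint_additive
  adjCx (tilde.adjunction (R := R)) (ComplexShape.up ℤ)

/-- `Γ Hom(P^~, I) = Hom•(P, Γ I)`. -/
noncomputable def gammaIHomIso (P : CochainComplex (ModuleCat.{u} R) ℤ) :
    iHom (((tilde.functor R).mapHomologicalComplex (ComplexShape.up ℤ)).obj P) ⋙ gammaCx ≅
      gammaCx ⋙ DRing.homCxFunctor P :=
  ((tildeCxAdj.comp (iHomAdj _)).ofNatIsoLeft (tildeTenIso P)).rightAdjointUniq
    ((homCxAdj P).comp tildeCxAdj)

variable [PreservesFiniteLimits (tilde.functor R)]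

/-- An isomorphism in `D(Spec R)` between objects in the image of `~` comes from one of modules. -/
lemma nonempty_iso_of_tildeD {M N : DerivedCategory (ModuleCat.{u} R)}
    (e : (DCoh.tildeD R).obj M ≅ (DCoh.tildeD R).obj N) : Nonempty (M ≅ N) := by
  obtain ⟨a, ha⟩ := (tildeD_map_bijective M N).2 e.hom
  obtain ⟨b, hb⟩ := (tildeD_map_bijective N M).2 e.inv
  exact ⟨⟨a, b, (tildeD_map_bijective M M).1 (by rw [Functor.map_comp, ha, hb, e.hom_inv_id, CategoryTheory.Functor.map_id]),
    (tildeD_map_bijective N N).1 (by rw [Functor.map_comp, ha, hb, e.inv_hom_id, CategoryTheory.Functor.map_id])⟩⟩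

/-- The counit is invertible on K-injective complexes with quasi-coherent cohomology. -/
lemma isIso_counitQ (I : CochainComplex (Spec R).Modules ℤ) [I.IsKInjective]
    (hI' : DCoh.IsQCohD (DerivedCategory.Q.obj I)) : IsIso (counitQ I) := by
  have hT := isQCohD_tildeD R (DerivedCategory.Q.obj (gammaCx.obj I))
  refine (DerivedCategory.isIso_iff _ (counitQ I)).2 fun n =>
    isIso_of_bijective_comp_qcoh (hT n) (hI' n) _ ?_
  let e := ((tilde.functor R).mapDerivedCategorySingleFunctor n).app (ModuleCat.of R R)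
  have hA := adj_bijective ((DerivedCategory.singleFunctor (ModuleCat.{u} R) n).obj
    (ModuleCat.of R R)) I
  have hb := tildeD_map_bijective ((DerivedCategory.singleFunctor (ModuleCat.{u} R) n).obj
    (ModuleCat.of R R)) (DerivedCategory.Q.obj (gammaCx.obj I))
  have b₁ := bijective_psiC_tildeR hT n
  have b₂ := bijective_psiC_tildeR hI' n
  have h : Function.Bijective (fun φ : (DerivedCategory.singleFunctor (Spec R).Modules n).obj
      ((tilde.functor R).obj (ModuleCat.of R R)) ⟶ _ => φ ≫ counitQ I) := by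
    refine ⟨fun a b hab => (cancel_epi e.hom).1 ?_, fun y => ?_⟩
    · obtain ⟨a', ha'⟩ := hb.2 (e.hom ≫ a)
      obtain ⟨b', hb'⟩ := hb.2 (e.hom ≫ b)
      rw [← ha', ← hb', hA.1 (a₁ := a') (a₂ := b') ?_]
      simp only at hab ⊢
      rw [ha', hb', Category.assoc, Category.assoc, hab]
    · obtain ⟨c, hc⟩ := hA.2 (e.hom ≫ y)
      refine ⟨e.inv ≫ (DCoh.tildeD R).map c, (cancel_epi e.hom).1 ?_⟩
      simp only at hc ⊢
      rw [Category.assoc, hc, Iso.inv_hom_id_assoc]
  refine ⟨fun x y hxy => ?_, fun z => ?_⟩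
  · obtain ⟨a, rfl⟩ := b₁.2 x
    obtain ⟨b, rfl⟩ := b₁.2 y
    simp only [← psiC_comp] at hxy
    rw [h.1 (b₂.1 hxy)]
  · obtain ⟨c, rfl⟩ := b₂.2 z
    obtain ⟨a, rfl⟩ := h.2 c
    exact ⟨_, (psiC_comp a _).symm⟩


/-- `RSheafHom(K^~, L^~) = RHom(K, L)^~`. -/
theorem nonempty_RSheafHom_tilde_iso [IsNoetherianRing R] (K : DRing.Cx R)
    (hK : ∀ i : ℤ, Module.Finite R (Dual.HD R (DRing.toD K) i)) [DRing.HasRHomCx K]
    (L : Dual.D R) (hL : DRing.HasFiniteInjDim R L) (E : CochainComplex (Spec R).Modules ℤ)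
    (eE : DCoh.toD (Spec R) E ≅ (DCoh.tildeD R).obj (DRing.toD K))
    [DCoh.HasLTensorCx E] [DCoh.HasRSheafHom E] :
    Nonempty ((DCoh.RSheafHom E).obj ((DCoh.tildeD R).obj L) ≅
      (DCoh.tildeD R).obj ((DRing.RHomCx K).obj L)) := by
  haveI : IsNoetherian (Spec R) := inferInstance
  haveI : (tilde.functor R).Additive := tilde_additive _
  let t := (tilde.functor R).mapHomologicalComplex (ComplexShape.up ℤ)
  obtain ⟨a, b, J, hv, hinj, ⟨eJ⟩⟩ := hL
  let I : CochainComplex (Spec R).Modules ℤ := t.obj J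
  haveI : ∀ n, Injective (I.X n) := fun n =>
    H9Misc.TildeInjective.injective_tilde (J.X n) (hinj n)
  haveI : I.IsStrictlyGE a := (CochainComplex.isStrictlyGE_iff _ a).2 fun n hn =>
    (tilde.functor R).map_isZero (hv n (Or.inl hn))
  haveI : I.IsStrictlyLE b := (CochainComplex.isStrictlyLE_iff _ b).2 fun n hn =>
    (tilde.functor R).map_isZero (hv n (Or.inr hn))
  haveI : I.IsKInjective := CochainComplex.isKInjective_of_injective I a
  haveI : ∀ n, Injective ((gammaCx.obj I).X n) := fun n =>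
    Injective.injective_of_adjoint (tilde.adjunction (R := R)) (I.X n)
  let eI : (DCoh.tildeD R).obj L ≅ DerivedCategory.Q.obj I :=
    (DCoh.tildeD R).mapIso eJ.symm ≪≫ tildeQ J
  let P := (ringCover R).P.obj K
  let π : P ⟶ K := (ringCover R).ψ.app K
  haveI : QuasiIso π := (ringCover R).quasiIso_ψ K
  haveI : IsIso (DerivedCategory.Q.map π) :=
    (DerivedCategory.isIso_Q_map_iff_quasiIso _ _).2 inferInstance
  have hP : DCoh.IsKFlat (t.obj P) := isKFlat_tilde P (kFlat_ringRes K)
  let eP : DerivedCategory.Q.obj (t.obj P) ≅ DerivedCategory.Q.obj E :=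
    (tildeQ P).symm ≪≫ (DCoh.tildeD R).mapIso (asIso (DerivedCategory.Q.map π)) ≪≫ eE.symm
  have hcoh : DCoh.IsCohD (DCoh.toD (Spec R) E) := isCohD_of_iso eE.symm fun i =>
    isCoh_of_iso ((mapDCHomologyIso (tilde.functor R) i).app (DRing.toD K)).symm
      ((isCoh_tilde_iff _).2 (hK i))
  have hI : DCoh.IsQCohD (DerivedCategory.Q.obj I) := isQCohD_of_iso eI (isQCohD_tildeD R L)
  let A := (iHom (t.obj P)).obj I
  obtain ⟨e₁⟩ := nonempty_RSheafHom_iso E I
  obtain ⟨e₂⟩ := nonempty_iHom_iso_of_iso eP I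
  haveI : A.IsKInjective := isKInjective_iHom hP I
  have hA : DCoh.IsQCohD (DerivedCategory.Q.obj A) := by
    refine isQCohD_of_iso e₂.symm ((isQCohD_Q_iff _).2 fun i => ?_)
    exact isQCoh_homology_iHom E hcoh I a b hI i
  haveI := isIso_counitQ A hA
  obtain ⟨eΓ⟩ := nonempty_iso_of_tildeD (M := DerivedCategory.Q.obj (gammaCx.obj I)) (N := L)
    ((@asIso _ _ _ _ (counitQ I) (isIso_counitQ I hI)) ≪≫ eI.symm)
  haveI := isKInjective_gamma I
  haveI := H9Misc.DRingHomCx.quasiIso_homCxPre_of_isKInjective π (gammaCx.obj I)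
  haveI : IsIso (DerivedCategory.Q.map (H9Misc.DRingHomCx.homCxPre π (gammaCx.obj I))) :=
    (DerivedCategory.isIso_Q_map_iff_quasiIso _ _).2 inferInstance
  let r : (DRing.RHomCx K).obj L ≅ DerivedCategory.Q.obj (gammaCx.obj A) :=
    (DRing.RHomCx K).mapIso eΓ.symm ≪≫ (H9Misc.DRingHomCx.isoOfKInjective K (gammaCx.obj I)).symm ≪≫
      asIso (DerivedCategory.Q.map (H9Misc.DRingHomCx.homCxPre π (gammaCx.obj I))) ≪≫
      DerivedCategory.Q.mapIso ((gammaIHomIso P).app I).symm
  exact ⟨(DCoh.RSheafHom E).mapIso eI ≪≫ e₁ ≪≫ e₂.symm ≪≫ (asIso (counitQ A)).symm ≪≫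
    (DCoh.tildeD R).mapIso r.symm⟩

end Groth.Agent.KExact.AffineRHom
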