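import Groth.Agent.KFlatLib.Scheme.ProjPerfect
import Groth.Agent.KFlatLib.Scheme.RGammaPush
import Groth.Agent.KFlatLib.Scheme.ProjLocFree
import Groth.Agent.H9Misc.KernelCx
import Groth.Agent.KExact.ExternalBdd
import Groth.Agent.H9Misc.DualNat
import Groth.Agent.H9Misc.DiagKernelBC
import Groth.Prelude.Def_DualFM

/-!
# The pairing of the two transforms of a kernel
-/

set_option autoImplicit false
set_option linter.style.haveILetI false
set_option backward.isDefEq.respectTransparency false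
set_option backward.isDefEq.respectTransparency.types false
set_option maxHeartbeats 1000000

universe u

open CategoryTheory CategoryTheory.Limits AlgebraicGeometry

attribute [local instance] HasDerivedCategory.standard

namespace Groth.Agent.KExact.KernelPairing

open KFlatLib H9Misc

/-- Global sections have a derived functor. -/
theorem hasRΓ (X : Scheme.{u}) : DCoh.HasRΓ X := by
  haveI := TriCat.qh_isLeftAdjoint_of_exists_resolution (A := X.Modules) exists_kInjective_res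
  let adjQ := Adjunction.ofIsLeftAdjoint (DerivedCategory.Qh (C := X.Modules))
  let W := HomotopyCategory.quasiIso X.Modules (ComplexShape.up ℤ)
  haveI := TriCat.isRightDerivedFunctor_of_adjunction adjQ W (DCoh.gammaKh X)
  exact Functor.HasRightDerivedFunctor.mk' (L := DerivedCategory.Qh)
    (DerivedCategory.Qh.rightAdjoint ⋙ DCoh.gammaKh X) (Functor.whiskerRight adjQ.unit (DCoh.gammaKh X))
    (W := W)

/-- `RΓ(X, E ⊗ Rp_* W) = RΓ(Z, W ⊗ Lp^* E)`. -/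
theorem nonempty_gamma_proj {Z X : Scheme.{u}} (p : Z ⟶ X) [DCoh.HasRpush p] [DCoh.HasLpull p]
    [DCoh.HasRΓ X] [DCoh.HasRΓ Z] (E : CochainComplex X.Modules ℤ) (hE : DCoh.IsPerfect (DCoh.toD X E))
    [DCoh.HasLTensorCx E] (E' : CochainComplex Z.Modules ℤ) [DCoh.HasLTensorCx E']
    (eE' : DCoh.toD Z E' ≅ (DCoh.Lpull p).obj (DCoh.toD X E)) (W : DCoh.D Z) :
    Nonempty ((DCoh.RΓ X).obj ((DCoh.LTensorCx E).obj ((DCoh.Rpush p).obj W)) ≅
      (DCoh.RΓ Z).obj ((DCoh.LTensorCx E').obj W)) := by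
  let P := (kRes X).obj E
  have hP : DCoh.IsKFlat P := isKFlat_kRes E
  let eP : DCoh.toD X P ≅ DCoh.toD X E := (resQIso X).app E
  haveI := hasLTensorCx P
  haveI := hasLTensorCx ((pullCx p).obj P)
  obtain ⟨e₁⟩ := nonempty_projection_perfect p P hP (isPerfect_congr eP.symm hE) W
  obtain ⟨c₁⟩ := nonempty_LTensorCx_congr_D eP
  obtain ⟨c₂⟩ := nonempty_LTensorCx_congr_D (P := (pullCx p).obj P) (E := E')
    ((lpullIso p hP).symm ≪≫ (DCoh.Lpull p).mapIso eP ≪≫ eE'.symm)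
  obtain ⟨r⟩ := nonempty_rpush_RΓ_iso p
  exact ⟨(DCoh.RΓ X).mapIso ((c₁.app _).symm ≪≫ e₁ ≪≫ (DCoh.Rpush p).mapIso (c₂.app W)) ≪≫ r.app _⟩

variable {S X Y : Scheme.{u}} (a : X ⟶ S) (b : Y ⟶ S)

/-- `RΓ(X, E ⊗ Ψ F) = RΓ(Y, F ⊗ Φ E)`. -/
theorem nonempty_pairing (P : CochainComplex (pullback a b).Modules ℤ)
    [DCoh.HasLpull (pullback.fst a b)] [DCoh.HasLpull (pullback.snd a b)] [DCoh.HasLTensorCx P]
    [DCoh.HasRpush (pullback.fst a b)] [DCoh.HasRpush (pullback.snd a b)]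
    [DCoh.HasRΓ X] [DCoh.HasRΓ Y]
    (E : CochainComplex X.Modules ℤ) (hE : DCoh.IsPerfect (DCoh.toD X E)) [DCoh.HasLTensorCx E]
    (F : CochainComplex Y.Modules ℤ) (hF : DCoh.IsPerfect (DCoh.toD Y F)) [DCoh.HasLTensorCx F] :
    Nonempty ((DCoh.RΓ X).obj ((DCoh.LTensorCx E).obj
        ((DCoh.Lpull (pullback.snd a b) ⋙ DCoh.LTensorCx P ⋙ DCoh.Rpush (pullback.fst a b)).obj (DCoh.toD Y F))) ≅
      (DCoh.RΓ Y).obj ((DCoh.LTensorCx F).obj ((FMK.phi a b P).obj (DCoh.toD X E)))) := by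
  let Z := pullback a b
  haveI := hasRΓ Z
  obtain ⟨E', ⟨eE⟩⟩ : ∃ E' : CochainComplex Z.Modules ℤ, Nonempty (DCoh.toD Z E' ≅
      (DCoh.Lpull (pullback.fst a b)).obj (DCoh.toD X E)) := ⟨_, ⟨DerivedCategory.Q.objObjPreimageIso _⟩⟩
  obtain ⟨F', ⟨eF⟩⟩ : ∃ F' : CochainComplex Z.Modules ℤ, Nonempty (DCoh.toD Z F' ≅
      (DCoh.Lpull (pullback.snd a b)).obj (DCoh.toD Y F)) := ⟨_, ⟨DerivedCategory.Q.objObjPreimageIso _⟩⟩
  haveI := hasLTensorCx E'
  haveI := hasLTensorCx F'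
  obtain ⟨N, ⟨eN⟩⟩ : ∃ N : CochainComplex Z.Modules ℤ, Nonempty (DCoh.toD Z N ≅
      (DCoh.LTensorCx F').obj (DCoh.toD Z P)) := ⟨_, ⟨DerivedCategory.Q.objObjPreimageIso _⟩⟩
  haveI := hasLTensorCx N
  obtain ⟨g₁⟩ := nonempty_gamma_proj (pullback.fst a b) E hE E' eE
    ((DCoh.LTensorCx P).obj ((DCoh.Lpull (pullback.snd a b)).obj (DCoh.toD Y F)))
  obtain ⟨g₂⟩ := nonempty_gamma_proj (pullback.snd a b) F hF F' eF
    ((DCoh.LTensorCx P).obj ((DCoh.Lpull (pullback.fst a b)).obj (DCoh.toD X E)))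
  obtain ⟨t⟩ := nonempty_ltensorCx_ltensorCx P F' N eN
  obtain ⟨s₁⟩ := nonempty_ltensor_swap F' P
  obtain ⟨s₂⟩ := nonempty_ltensor_swap N E'
  exact ⟨g₁ ≪≫ (DCoh.RΓ Z).mapIso
    ((DCoh.LTensorCx E').mapIso ((DCoh.LTensorCx P).mapIso eF.symm ≪≫ s₁ ≪≫ eN.symm) ≪≫ s₂ ≪≫
      (t.app _).symm ≪≫ (DCoh.LTensorCx F').mapIso ((DCoh.LTensorCx P).mapIso eE)) ≪≫ g₂.symm⟩

end Groth.Agent.KExact.KernelPairing
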