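import Groth.Agent.KExact.GammaAcyclic
import Groth.Agent.KExact.InvShift
import Groth.Agent.KExact.KernelPairing
import Groth.Agent.KExact.SPerfectMain
import Groth.Agent.KFlatLib.PsiC
import Groth.Agent.KFlatLib.Scheme.CohD
import Groth.Agent.KFlatLib.Scheme.ProperFlatPerfect
import Groth.Agent.AmpleVan.Uniform
import Groth.Agent.AmpleX.Generated
import Groth.Agent.InvX.GenEpi
import Groth.Agent.H28.PerfGen
import Groth.Agent.H9Misc.PhiEquiv
import Groth.Agent.FlatMisc.DimConstr

/-!
# Large ample twists detect cohomology sheaves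
-/

set_option autoImplicit false
set_option linter.style.haveILetI false
set_option backward.isDefEq.respectTransparency false
set_option backward.isDefEq.respectTransparency.types false
set_option maxHeartbeats 1000000

universe u

open CategoryTheory CategoryTheory.Limits AlgebraicGeometry

attribute [local instance] HasDerivedCategory.standard

noncomputable section

namespace Groth.Agent.KExact.AmpleDetect

open KFlatLib H9Misc

variable {X : Scheme.{u}}

/-- Cohomology of a twist by an invertible module. -/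
theorem nonempty_hd_ltensor {D : X.Modules} (hD : PicF.IsInvertible D)
    [DCoh.HasLTensorCx ((HomologicalComplex.single X.Modules (ComplexShape.up ℤ) 0).obj D)]
    (W : DCoh.D X) (i : ℤ) :
    Nonempty (DCoh.HD ((DCoh.LTensorCx ((HomologicalComplex.single X.Modules (ComplexShape.up ℤ) 0).obj D)).obj W) i ≅
      CohB1.tensorMod (DCoh.HD W i) D) := by
  let F := DCoh.tensorBi.flip.obj D
  haveI := H23.Chern.isEquivalence_ten hD
  haveI : F.IsEquivalence := Functor.isEquivalence_of_iso ((tensorBiFlipIso X).app D).symm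
  haveI : PreservesFiniteLimits F := inferInstance
  haveI : PreservesFiniteColimits F := inferInstance
  let Fd := F.mapDerivedCategory
  let S := (HomologicalComplex.single X.Modules (ComplexShape.up ℤ) 0).obj D
  let eQ : DerivedCategory.Q ⋙ Fd ⋙ shiftFunctor (DCoh.D X) (-(0 : ℤ)) ≅ DCoh.tensorCxQ S :=
    Functor.isoWhiskerRight F.mapDerivedCategoryFactors (shiftFunctor (DCoh.D X) (-(0 : ℤ))) ≪≫
      Functor.isoWhiskerLeft (F.mapHomologicalComplex (ComplexShape.up ℤ))
        (DerivedCategory.Q.commShiftIso (-(0 : ℤ))).symm ≪≫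
      Functor.isoWhiskerRight (InvShift.tenSingleIso D 0).symm DerivedCategory.Q
  haveI := Functor.isLeftDerivedFunctor_of_inverts (F := DCoh.tensorCxQ S)
    (HomologicalComplex.quasiIso X.Modules (ComplexShape.up ℤ)) (Fd ⋙ shiftFunctor (DCoh.D X) (-(0 : ℤ))) eQ
  let eT : DCoh.LTensorCx S ≅ Fd ⋙ shiftFunctor (DCoh.D X) (-(0 : ℤ)) :=
    Functor.leftDerivedUnique _ _
      ((DCoh.tensorCxQ S).totalLeftDerivedCounit DerivedCategory.Q
        (HomologicalComplex.quasiIso X.Modules (ComplexShape.up ℤ))) eQ.hom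
      (HomologicalComplex.quasiIso X.Modules (ComplexShape.up ℤ))
  exact ⟨(DerivedCategory.homologyFunctor X.Modules i).mapIso
      (eT.app W ≪≫ (shiftFunctorZero' (DCoh.D X) (-(0 : ℤ)) neg_zero).app _) ≪≫
    (mapDCHomologyIso F i).app W⟩

/-- Schemes of finite type over a field have finite dimension. -/
theorem exists_dim_le {k : Type u} [Field k] (b : X ⟶ Spec (CommRingCat.of k)) [LocallyOfFinitePresentation b]
    [QuasiCompact b] : ∃ g : ℕ, topologicalKrullDim X ≤ g := by
  let pt : ↥(Spec (CommRingCat.of k)) := (default : PrimeSpectrum k)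
  obtain ⟨g, hg⟩ := FlatMisc.DimConstr.exists_dim_le b pt
  refine ⟨g, le_of_eq_of_le ?_ hg⟩
  haveI : Subsingleton ↥(Spec (CommRingCat.of k)) := inferInstanceAs (Subsingleton (PrimeSpectrum k))
  exact (IsHomeomorph.topologicalKrullDim_eq _ (isHomeomorph_iff_isEmbedding_surjective.2
    ⟨(b.fiberι pt).isEmbedding, fun x => by
      have : x ∈ Set.range (b.fiberι pt) := by rw [Scheme.Hom.range_fiberι]; exact Subsingleton.elim _ _
      exact this⟩)).symm

/-- A generated module without sections is zero. -/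
theorem isZero_of_generated {F : X.Modules} (h : Curv2.IsGloballyGenerated F)
    (h0 : ∀ σ : Coh.structureModule X ⟶ F, σ = 0) : IsZero F := by
  obtain ⟨ι, p, hp⟩ := h
  have hp0 : p = 0 := Sigma.hom_ext _ _ fun i => (h0 _).trans (h0 _).symm
  exact (IsZero.iff_id_eq_zero F).2 ((cancel_epi p).1 (by rw [hp0]; simp))

/-- For large twists, hypercohomology detects cohomology sheaves. -/
theorem exists_detect (k : Type u) [Field k] {Y : Scheme.{u}} (b : Y ⟶ Spec (CommRingCat.of k)) [IsProper b]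
    [DCoh.HasRΓ Y] {L : Y.Modules} (hL : CohB1.IsAmple L) (C : DCoh.D Y) (hC : ∀ i, Coh.IsCoh (DCoh.HD C i))
    (lo hi : ℤ) (hb : ∀ i, i < lo ∨ hi < i → IsZero (DCoh.HD C i)) :
    ∃ n₀ : ℕ, ∀ n, n₀ ≤ n →
      ∀ [DCoh.HasLTensorCx ((HomologicalComplex.single Y.Modules (ComplexShape.up ℤ) 0).obj (CohB1.tensorPow L n))]
        (i : ℤ), IsZero ((DerivedCategory.homologyFunctor AddCommGrpCat.{u} i).obj ((DCoh.RΓ Y).obj
          ((DCoh.LTensorCx ((HomologicalComplex.single Y.Modules (ComplexShape.up ℤ) 0).obj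
            (CohB1.tensorPow L n))).obj C))) ↔ IsZero (DCoh.HD C i) := by
  classical
  letI : Y.Over (Spec (CommRingCat.of k)) := ⟨b⟩
  haveI : IsProper (Y ↘ Spec (CommRingCat.of k)) := ‹IsProper b›
  haveI : IsNoetherian Y := BCNat.isNoetherian_of_ft b
  haveI : Y.IsSeparated := AmpleVan.isSeparated_of_proper (X := Y) (A := k)
  choose nv hnv using fun i : ℤ => AmpleVan.exists_vanishing (A := k) hL (hC i)
  choose ng hng using fun i : ℤ => AmpleX.eventually_isGloballyGenerated hL (hC i).1 (hC i).2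
  refine ⟨(Finset.Icc lo hi).sup fun i => max (nv i) (ng i), fun n hn _ i => ?_⟩
  have hle : ∀ j ∈ Finset.Icc lo hi, nv j ≤ n ∧ ng j ≤ n := fun j hj =>
    ⟨(le_max_left _ _).trans ((Finset.le_sup (f := fun i => max (nv i) (ng i)) hj).trans hn),
      (le_max_right _ _).trans ((Finset.le_sup (f := fun i => max (nv i) (ng i)) hj).trans hn)⟩
  have hinv := InvX.isInvertible_tensorPow hL.1 n
  let F := DCoh.tensorBi.flip.obj (CohB1.tensorPow L n)
  haveI := H23.Chern.isEquivalence_ten hinv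
  haveI : F.IsEquivalence := Functor.isEquivalence_of_iso ((tensorBiFlipIso Y).app (CohB1.tensorPow L n)).symm
  have hz : ∀ j, IsZero (DCoh.HD C j) → IsZero (CohB1.tensorMod (DCoh.HD C j) (CohB1.tensorPow L n)) :=
    fun j h => F.map_isZero h
  let W := (DCoh.LTensorCx ((HomologicalComplex.single Y.Modules (ComplexShape.up ℤ) 0).obj
    (CohB1.tensorPow L n))).obj C
  have hW : ∀ j, GammaAcyclic.Acyc (DCoh.HD W j) := fun j p hp => by
    obtain ⟨e⟩ := nonempty_hd_ltensor hinv C j
    obtain ⟨q, rfl⟩ := Nat.exists_eq_add_of_le' hp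
    refine QCoh.subsingleton_HH_of_iso e.symm _ ?_
    by_cases hj : j ∈ Finset.Icc lo hi
    · exact hnv j n (hle j hj).1 q
    · exact Euler.subsingleton_HH_of_isZero (hz j (hb j (by simp at hj; omega))) _
  obtain ⟨g, hg⟩ : ∃ g : ℕ, topologicalKrullDim Y ≤ g :=
    exists_dim_le b
  rw [GammaAcyclic.isZero_RΓ_iff g (GammaAcyclic.subsingleton_HH_of_dim hg) W hW i]
  obtain ⟨e⟩ := nonempty_hd_ltensor hinv C i
  constructor
  · intro h
    by_cases hj : i ∈ Finset.Icc lo hi
    · have h0 := isZero_of_generated (hng i n (hle i hj).2) fun σ => zero_of_comp_mono e.inv (h _)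
      exact (IsZero.iff_id_eq_zero _).2 (F.map_injective (by rw [Functor.map_zero]; exact h0.eq_of_src _ _))
    · exact hb i (by simp at hj; omega)
  · intro h σ
    exact ((hz i h).of_iso e).eq_of_tgt _ _

/-- A perfect object on a noetherian scheme has bounded coherent cohomology. -/
theorem coherent_bounded [IsNoetherian X] {C : DCoh.D X} (hC : DCoh.IsPerfect C) :
    (∀ i, Coh.IsCoh (DCoh.HD C i)) ∧ ∃ lo hi : ℤ, ∀ i, i < lo ∨ hi < i → IsZero (DCoh.HD C i) := by
  have h := (isPerfect_iff C).1 hC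
  refine ⟨fun i => isCoh_of_locPC (AffineLift.isQCohD_of_locSP h) (h.locPC i) i le_rfl, ?_⟩
  obtain ⟨a, b, -, F, hv, -, ⟨e⟩⟩ := SPerfect.exists_amplitude h
  exact ⟨a, b, fun i hi => (ShortComplex.isZero_homology_of_isZero_X₂ _ (hv i hi)).of_iso
    ((DerivedCategory.homologyFunctor X.Modules i).mapIso e.symm ≪≫
      (DerivedCategory.homologyFunctorFactors X.Modules i).app F)⟩

/-- For large twists, the transforms of a kernel detect each other's cohomology. -/
theorem exists_detect_kernel (k : Type u) [Field k] {X Y : Scheme.{u}} (a : X ⟶ Spec (CommRingCat.of k))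
    (b : Y ⟶ Spec (CommRingCat.of k)) [IsProper a] [IsProper b]
    (P : CochainComplex (pullback a b).Modules ℤ) (hP : DCoh.IsPerfect (DCoh.toD (pullback a b) P))
    [DCoh.HasLpull (pullback.fst a b)] [DCoh.HasLpull (pullback.snd a b)] [DCoh.HasLTensorCx P]
    [DCoh.HasRpush (pullback.fst a b)] [DCoh.HasRpush (pullback.snd a b)] [DCoh.HasRΓ X]
    {L : Y.Modules} (hL : CohB1.IsAmple L)
    (F : CochainComplex X.Modules ℤ) (hF : DCoh.IsPerfect (DCoh.toD X F)) [DCoh.HasLTensorCx F] :
    ∃ n₀ : ℕ, ∀ n : ℕ, n₀ ≤ n → ∀ i : ℤ,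
      (IsZero (DCoh.HD ((FMK.phi a b P).obj (DCoh.toD X F)) i) ↔
        IsZero ((DerivedCategory.homologyFunctor AddCommGrpCat.{u} i).obj ((DCoh.RΓ X).obj
          ((DCoh.LTensorCx F).obj ((DCoh.Lpull (pullback.snd a b) ⋙ DCoh.LTensorCx P ⋙
            DCoh.Rpush (pullback.fst a b)).obj (DCoh.inD Y (CohB1.tensorPow L n))))))) := by
  let Z := pullback a b
  haveI : IsNoetherian Y := BCNat.isNoetherian_of_ft b
  haveI := KernelPairing.hasRΓ Y
  obtain ⟨E, ⟨eE⟩⟩ : ∃ E : CochainComplex Z.Modules ℤ, Nonempty (DCoh.toD Z E ≅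
      (DCoh.Lpull (pullback.fst a b)).obj (DCoh.toD X F)) := ⟨_, ⟨DerivedCategory.Q.objObjPreimageIso _⟩⟩
  have hE : DCoh.IsPerfect (DCoh.toD Z E) := isPerfect_congr eE.symm (isPerfect_lpull _ hF)
  have hC : DCoh.IsPerfect ((FMK.phi a b P).obj (DCoh.toD X F)) :=
    (isPerfect_iff _).2 (TorBC.locSP_rpush_properFlat (pullback.snd a b) ((isPerfect_iff _).1
      (isPerfect_congr ((DCoh.LTensorCx P).mapIso eE) (isPerfect_ltensor' P hP hE))))
  obtain ⟨hcoh, lo, hi, hb⟩ := coherent_bounded hC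
  obtain ⟨n₀, h⟩ := exists_detect k b hL _ hcoh lo hi hb
  refine ⟨n₀, fun n hn i => ?_⟩
  let M := (HomologicalComplex.single Y.Modules (ComplexShape.up ℤ) 0).obj (CohB1.tensorPow L n)
  haveI := hasLTensorCx M
  let eM : DCoh.inD Y (CohB1.tensorPow L n) ≅ DCoh.toD Y M :=
    (DerivedCategory.singleFunctorIsoCompQ Y.Modules 0).app _
  have hM : DCoh.IsPerfect (DCoh.toD Y M) := isPerfect_congr eM
    (H28.PerfGen.locSP_lf (H23.PullPush.isFinLocFree_of_isInvertible (InvX.isInvertible_tensorPow hL.1 n)))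
  obtain ⟨p⟩ := KernelPairing.nonempty_pairing a b P F hF M hM
  rw [← h n hn i]
  refine Iso.isZero_iff ((DerivedCategory.homologyFunctor AddCommGrpCat.{u} i).mapIso (p.symm ≪≫
    (DCoh.RΓ X).mapIso ((DCoh.LTensorCx F).mapIso ((DCoh.Lpull (pullback.snd a b) ⋙ DCoh.LTensorCx P ⋙
      DCoh.Rpush (pullback.fst a b)).mapIso eM.symm))))

end Groth.Agent.KExact.AmpleDetect
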