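import Groth.Agent.KExact.AmpleGen
import Groth.Agent.KExact.InvShift
import Groth.Agent.KFlatLib.Scheme.RGammaPush
import Groth.Agent.KFlatLib.Scheme.Derived

/-!
# Cohomology of twists detects objects
-/

set_option linter.style.haveILetI false
set_option backward.isDefEq.respectTransparency false
set_option backward.isDefEq.respectTransparency.types false

universe u

open CategoryTheory CategoryTheory.Limits AlgebraicGeometry Pretriangulated

attribute [local instance] HasDerivedCategory.standard

namespace Groth.Agent.KExact.AmpleTwist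

open Groth.Agent.KFlatLib

variable {X : Scheme.{u}}

/-- An object without hypercohomology receives no map from shifts of the structure sheaf. -/
theorem orth_structure_of_isZero_RΓ [DCoh.HasRΓ X] (M : DCoh.D X)
    (h : ∀ p : ℤ, IsZero ((DerivedCategory.homologyFunctor AddCommGrpCat.{u} p).obj ((DCoh.RΓ X).obj M))) :
    AmpleGen.Orth M (DCoh.inD X (Coh.structureModule X)) := by
  let c := ComplexShape.up ℤ
  let q := HomotopyCategory.quotient X.Modules c
  let O := Coh.structureModule X
  obtain ⟨I, s, hI, hs⟩ := exists_kInjective_res (DerivedCategory.Q.objPreimage M)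
  haveI := hI
  haveI := hs
  haveI : IsIso (DerivedCategory.Q.map s) := inferInstance
  let eI : DerivedCategory.Q.obj I ≅ M :=
    (asIso (DerivedCategory.Q.map s)).symm ≪≫ DerivedCategory.Q.objObjPreimageIso M
  haveI := isIso_rightDerivedUnit_of_kInjective (DCoh.gammaKh X) I
  have hex : ∀ p : ℤ, IsZero ((((DCoh.gammaAb X).mapHomologicalComplex c).obj I).homology p) := by
    intro p
    refine ((h p).of_iso ?_).of_iso ((DerivedCategory.homologyFunctorFactors AddCommGrpCat.{u} p).app _).symm
    refine (DerivedCategory.homologyFunctor AddCommGrpCat.{u} p).mapIso ?_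
    exact (asIso (((DCoh.gammaKh X).totalRightDerivedUnit DerivedCategory.Qh
      (HomotopyCategory.quasiIso X.Modules c)).app (q.obj I))) ≪≫
      (DCoh.RΓ X).mapIso eI
  intro m φ
  let e : (DerivedCategory.Q.obj ((HomologicalComplex.single X.Modules c (-m)).obj O)) ≅
      (DCoh.inD X O)⟦m⟧ :=
    (((SingleFunctors.evaluation _ _ (-m)).mapIso
      (DerivedCategory.singleFunctorsPostcompQIso X.Modules)).app O).symm ≪≫
    (((DerivedCategory.singleFunctors X.Modules).shiftIso m (-m) 0 (by omega)).app O).symm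
  obtain ⟨ψ, hψ⟩ := (CochainComplex.IsKInjective.Qh_map_bijective
    (q.obj ((HomologicalComplex.single X.Modules c (-m)).obj O)) I).2 (e.hom ≫ φ ≫ eI.inv)
  obtain ⟨ψ, rfl⟩ := q.map_surjective ψ
  suffices h0 : q.map ψ = 0 by
    rw [h0, Functor.map_zero] at hψ
    exact (cancel_mono eI.inv).1 ((cancel_epi e.hom).1 (hψ.symm.trans (by simp)))
  let σ := (HomologicalComplex.singleObjXSelf c (-m) O).inv ≫ ψ.f (-m)
  have hσ : σ ≫ I.d (-m) (-m + 1) = 0 := by
    rw [Category.assoc, ψ.comm, HomologicalComplex.single_obj_d, zero_comp, comp_zero]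
  have hexact : (((DCoh.gammaAb X).mapHomologicalComplex c).obj I).ExactAt (-m) :=
    (HomologicalComplex.exactAt_iff_isZero_homology _ _).2 (hex (-m))
  rw [HomologicalComplex.exactAt_iff' _ (-m - 1) (-m) (-m + 1) (by simp [c]) (by simp [c]),
    ShortComplex.ab_exact_iff] at hexact
  obtain ⟨y, hy⟩ := hexact (topEquiv (I.X (-m)) σ)
    ((topEquiv_naturality σ _).symm.trans ((congrArg (topEquiv _) hσ).trans (topEquiv_zero _)))
  obtain ⟨η, rfl⟩ := (topEquiv (I.X (-m - 1))).surjective y
  have hη : σ = η ≫ I.d (-m - 1) (-m) :=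
    (topEquiv _).injective (hy.symm.trans (topEquiv_naturality η _).symm)
  let P := (HomologicalComplex.single X.Modules c (-m)).obj O
  let g : ∀ i j, c.Rel j i → (P.X i ⟶ I.X j) := fun i j _ =>
    if h : i = -m ∧ j = -m - 1 then (HomologicalComplex.singleObjXIsoOfEq c (-m) O i h.1).hom ≫ η ≫
      (I.XIsoOfEq h.2.symm).hom else 0
  rw [← Functor.map_zero q P I]
  refine HomotopyCategory.eq_of_homotopy _ _ (Homotopy.trans (Homotopy.ofEq ?_)
    (Homotopy.nullHomotopy' g))
  apply HomologicalComplex.from_single_hom_ext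
  rw [Homotopy.nullHomotopicMap'_f (show c.Rel (-m - 1) (-m) by simp [c]) (show c.Rel (-m) (-m + 1) from rfl),
    HomologicalComplex.single_obj_d, zero_comp, zero_add]
  have : ψ.f (-m) = (HomologicalComplex.singleObjXSelf c (-m) O).hom ≫ η ≫ I.d (-m - 1) (-m) := by
    rw [← hη, Iso.hom_inv_id_assoc]
  rw [this]
  simp [g, HomologicalComplex.XIsoOfEq_rfl]
  rfl

/-- If `D ⊗ N` is trivial, maps out of `N` are detected after tensoring with `D`. -/
theorem orth_of_ltensor {D N : X.Modules} (hD : PicF.IsInvertible D)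
    (eN : CohB1.tensorMod N D ≅ Coh.structureModule X) [DCoh.HasLTensorMod D] (K : DCoh.D X)
    (h : AmpleGen.Orth ((DCoh.LTensorMod D).obj K) (DCoh.inD X (Coh.structureModule X))) :
    AmpleGen.Orth K (DCoh.inD X N) := by
  let F := DCoh.tensorRightMod D
  haveI := H23.Chern.isEquivalence_ten hD
  haveI : (DCoh.tensorBi.flip.obj D).IsEquivalence :=
    Functor.isEquivalence_of_iso ((tensorBiFlipIso X).app D).symm
  haveI : F.IsEquivalence := Functor.isEquivalence_of_iso
    (NatIso.ofComponents (fun M => Iso.refl _) (fun f => (Category.comp_id _).trans (Category.id_comp _).symm) :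
      DCoh.tensorBi.flip.obj D ≅ F)
  let E := F.asEquivalence
  let G := E.inverse
  haveI : G.Additive := E.inverse.additive_of_preserves_binary_products
  haveI : PreservesFiniteLimits F := inferInstance
  haveI : PreservesFiniteColimits F := inferInstance
  haveI : PreservesFiniteLimits G := inferInstance
  haveI : PreservesFiniteColimits G := inferInstance
  let Fd := F.mapDerivedCategory
  let Gd := G.mapDerivedCategory
  let W₁ := HomologicalComplex.quasiIso X.Modules (ComplexShape.up ℤ)
  let eC : F.mapHomologicalComplex (ComplexShape.up ℤ) ⋙ G.mapHomologicalComplex (ComplexShape.up ℤ) ≅ 𝟭 _ :=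
    (NatIso.mapHomologicalComplex E.unitIso.symm (ComplexShape.up ℤ) :) ≪≫
      Functor.mapHomologicalComplexIdIso _ _
  letI : Localization.Lifting DerivedCategory.Q W₁ DerivedCategory.Q (Fd ⋙ Gd) :=
    ⟨Functor.isoWhiskerRight F.mapDerivedCategoryFactors Gd ≪≫
      Functor.isoWhiskerLeft (F.mapHomologicalComplex (ComplexShape.up ℤ)) G.mapDerivedCategoryFactors ≪≫
      Functor.isoWhiskerRight eC DerivedCategory.Q⟩
  letI : Localization.Lifting DerivedCategory.Q W₁ DerivedCategory.Q (𝟭 (DCoh.D X)) := ⟨Iso.refl _⟩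
  let eI : Fd ⋙ Gd ≅ 𝟭 (DCoh.D X) :=
    Localization.liftNatIso DerivedCategory.Q W₁ DerivedCategory.Q DerivedCategory.Q (Fd ⋙ Gd) (𝟭 _) (Iso.refl _)
  haveI := Functor.isLeftDerivedFunctor_of_inverts (F := DCoh.tensorModKh D)
    (HomotopyCategory.quasiIso X.Modules (ComplexShape.up ℤ)) Fd
    (F.mapDerivedCategoryFactorsh)
  let eT : DCoh.LTensorMod D ≅ Fd :=
    Functor.leftDerivedUnique _ _
      ((DCoh.tensorModKh D).totalLeftDerivedCounit DerivedCategory.Qh
        (HomotopyCategory.quasiIso X.Modules (ComplexShape.up ℤ))) F.mapDerivedCategoryFactorsh.hom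
      (HomotopyCategory.quasiIso X.Modules (ComplexShape.up ℤ))
  let s := DerivedCategory.singleFunctorIsoCompQ X.Modules 0
  let eO : Fd.obj (DCoh.inD X N) ≅ DCoh.inD X (Coh.structureModule X) :=
    Fd.mapIso (s.app N) ≪≫ F.mapDerivedCategoryFactors.app _ ≪≫
      DerivedCategory.Q.mapIso ((HomologicalComplex.singleMapHomologicalComplex F (ComplexShape.up ℤ) 0).app N ≪≫
        (HomologicalComplex.single X.Modules (ComplexShape.up ℤ) 0).mapIso eN) ≪≫
      (s.app (Coh.structureModule X)).symm
  intro n φ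
  have h1 := h n ((shiftFunctor _ n).map eO.inv ≫ (Fd.commShiftIso n).inv.app _ ≫ Fd.map φ ≫ eT.inv.app K)
  have h2 : Fd.map φ = 0 := by
    refine (cancel_mono (eT.inv.app K)).1 ?_
    refine (cancel_epi ((Fd.commShiftIso n).inv.app _)).1 ?_
    refine (cancel_epi ((shiftFunctor _ n).map eO.inv)).1 ?_
    simpa using h1
  have h3 : Gd.map (Fd.map φ) = 0 := by rw [h2, Functor.map_zero]
  have h4 := eI.hom.naturality φ
  simp only [Functor.comp_map, h3, zero_comp, Functor.id_map] at h4
  exact (cancel_epi (eI.hom.app _)).1 (h4.symm.trans comp_zero.symm)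

/-- Cohomology of the twists by an ample module detects objects with quasi-coherent cohomology. -/
theorem exists_cohomology_ne_zero {L : X.Modules} (hL : CohB1.IsAmple L) [DCoh.HasRΓ X]
    [∀ n : ℕ, DCoh.HasLTensorMod (CohB1.tensorPow L n)]
    (K : DCoh.D X) (hK : DCoh.IsQCohD K) (hK0 : ¬ IsZero K) :
    ∃ (n : ℕ) (p : ℤ), ¬ IsZero ((DerivedCategory.homologyFunctor AddCommGrpCat.{u} p).obj
      ((DCoh.RΓ X).obj ((DCoh.LTensorMod (CohB1.tensorPow L n)).obj K))) := by
  by_contra hcon
  push Not at hcon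
  obtain ⟨hinv, hc, hx⟩ := hL
  haveI := hc
  choose n s hs ha using hx
  have hqs : QuasiSeparatedSpace X :=
    AmpleFamily.quasiSeparatedSpace_of_loci (fun x => CohB1.tensorPow L (n x + 1))
      (fun x => InvX.isInvertible_tensorPow hinv _) s ha (fun x => ⟨x, hs x⟩)
  refine hK0 (AmpleGen.isZero_of_orth (ι := PUnit.{u + 1}) (fun _ => L)
    ⟨hc, hqs, fun _ => hinv, fun x => ⟨⟨⟩, n x, s x, hs x, ha x⟩⟩ K hK fun N hN => ?_)
  obtain ⟨i, k, -, ⟨e⟩⟩ := id hN
  exact orth_of_ltensor (InvX.isInvertible_tensorPow hinv k) e K (orth_structure_of_isZero_RΓ _ (hcon k))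

end Groth.Agent.KExact.AmpleTwist
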