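import Groth.Agent.TriCat.ResolveOp
import Mathlib.RingTheory.Filtration
import Mathlib.RingTheory.Flat.Stability
import Mathlib.Algebra.Category.ModuleCat.Monoidal.Basic
import Mathlib.Algebra.Category.ModuleCat.Projective
import Mathlib.Algebra.Category.ModuleCat.Abelian
import Mathlib.Algebra.Homology.ShortComplex.ModuleCat
import Mathlib.Algebra.Homology.Homotopy
import Mathlib.Algebra.Homology.DerivedCategory.Basic

/-!
# Powers of an ideal killing the cohomology of a complex, in the derived category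
-/

set_option linter.style.haveILetI false
set_option backward.isDefEq.respectTransparency false

universe w u

open CategoryTheory CategoryTheory.Limits MonoidalCategory TensorProduct

namespace Groth.Agent.KExact.ArtinReesHomotopy

variable {A : Type u} [CommRing A] [IsNoetherianRing A]
  (K : CochainComplex (ModuleCat.{u} A) ℤ) (J : Ideal A)

/-- One step: cycles deep in the filtration are boundaries deep in the filtration. -/
theorem exists_step (q : ℤ) [Module.Finite A (K.X q)]
    (hJ : ∀ x ∈ J, ∀ c : ↑(K.homology q), x • c = 0) :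
    ∃ c : ℕ, ∀ M : ℕ, c ≤ M → ∀ z : K.X q, z ∈ J ^ M • (⊤ : Submodule A (K.X q)) →
      (K.d q (q + 1)).hom z = 0 →
        ∃ y : K.X (q - 1), y ∈ J ^ (M - c) • (⊤ : Submodule A (K.X (q - 1))) ∧
          (K.d (q - 1) q).hom y = z := by
  let Z := LinearMap.ker (K.d q (q + 1)).hom
  let B := LinearMap.range (K.d (q - 1) q).hom
  have hZB : J • Z ≤ B := by
    refine Submodule.smul_le.2 fun x hx z hz => ?_
    let S := K.sc' (q - 1) q (q + 1)
    let e := K.homologyIsoSc' (q - 1) q (q + 1) (by simp) (by simp)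
    let z' := S.moduleCatCyclesIso.inv.hom ⟨z, hz⟩
    have hz' : S.iCycles.hom z' = z :=
      congr($(S.moduleCatCyclesIso_inv_iCycles) ⟨z, hz⟩)
    have h0 : x • S.homologyπ.hom z' = 0 := by
      apply (ModuleCat.mono_iff_injective e.inv).1 inferInstance
      show e.inv.hom (x • S.homologyπ.hom z') = e.inv.hom 0
      rw [map_smul, map_zero]
      exact hJ x hx _
    refine (S.moduleCat_pOpcycles_eq_zero_iff (x • z)).1 ?_
    have h1 : S.pOpcycles.hom (S.iCycles.hom z') = S.homologyι.hom (S.homologyπ.hom z') :=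
      congr($(S.homology_π_ι.symm) z')
    show S.pOpcycles.hom (x • z) = 0
    rw [map_smul, ← hz', h1, ← map_smul, h0, map_zero]
  obtain ⟨k, hk⟩ := Ideal.exists_pow_inf_eq_pow_smul J Z
  refine ⟨k + 1, fun M hM z hz hdz => ?_⟩
  have h : z ∈ Submodule.map (K.d (q - 1) q).hom (J ^ (M - (k + 1)) • ⊤) := by
    rw [Submodule.map_smul'', Submodule.map_top]
    have h1 : z ∈ J ^ M • (⊤ : Submodule A (K.X q)) ⊓ Z := ⟨hz, hdz⟩
    rw [hk M (by omega)] at h1
    refine (Submodule.smul_mono le_rfl (hZB : J • Z ≤ B)) ?_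
    rw [← smul_assoc, smul_eq_mul, ← pow_succ, show M - (k + 1) + 1 = M - k by omega]
    exact Submodule.smul_mono le_rfl inf_le_right h1
  obtain ⟨y, hy, rfl⟩ := h
  exact ⟨y, hy, rfl⟩

variable (hfin : ∀ q, Module.Finite A (K.X q))
  (hJ : ∀ q, ∀ x ∈ J, ∀ c : ↑(K.homology q), x • c = 0)

include hfin hJ in
/-- Descending construction of a null-homotopy. -/
theorem exists_homotopy_above (b : ℤ) (hb : ∀ q, b < q → IsZero (K.X q)) (d : ℕ) :
    ∃ N : ℕ, ∀ (M : ℕ), N ≤ M → ∀ (P : CochainComplex (ModuleCat.{u} A) ℤ),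
      (∀ q, Module.Projective A (P.X q)) → ∀ g : P ⟶ K,
      (∀ q x, (g.f q).hom x ∈ J ^ M • (⊤ : Submodule A (K.X q))) →
      ∃ h : ∀ i j : ℤ, (j + 1 = i) → (P.X i →ₗ[A] K.X j),
        (∀ i j hij x, h i j hij x ∈ J ^ (M - N) • (⊤ : Submodule A (K.X j))) ∧
        ∀ q, b + 1 - d ≤ q → ∀ x, (g.f q).hom x =
          h (q + 1) q rfl ((P.d q (q + 1)).hom x) + (K.d (q - 1) q).hom (h q (q - 1) (by omega) x) := by
  induction d with
  | zero =>
    refine ⟨0, fun M _ P _ g _ => ⟨fun _ _ _ => 0, fun i j hij x => ?_, fun q hq x => ?_⟩⟩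
    · exact Submodule.zero_mem _
    · haveI := ModuleCat.subsingleton_of_isZero (hb q (by omega))
      exact Subsingleton.elim _ _
  | succ d ih =>
    obtain ⟨N, hN⟩ := ih
    let q := b - d
    haveI := hfin q
    obtain ⟨c, hc⟩ := exists_step K J q (hJ q)
    refine ⟨N + c, fun M hM P hP g hg => ?_⟩
    obtain ⟨h, hh, heq⟩ := hN M (by omega) P hP g hg
    let r : P.X q →ₗ[A] K.X q := (g.f q).hom - (h (q + 1) q rfl).comp (P.d q (q + 1)).hom
    have hr : ∀ x, r x ∈ J ^ (M - N) • (⊤ : Submodule A (K.X q)) := fun x =>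
      Submodule.sub_mem _ (Submodule.smul_mono (Ideal.pow_le_pow_right (by omega)) le_rfl (hg q x))
        (hh _ _ _ _)
    have hdr : ∀ x, (K.d q (q + 1)).hom (r x) = 0 := by
      intro x
      have h1 : (K.d q (q + 1)).hom ((g.f q).hom x) = (g.f (q + 1)).hom ((P.d q (q + 1)).hom x) :=
        congr($(g.comm q (q + 1)) x)
      have h2 := heq (q + 1) (by omega) ((P.d q (q + 1)).hom x)
      have h3 : (P.d (q + 1) (q + 1 + 1)).hom ((P.d q (q + 1)).hom x) = 0 :=
        congr($(P.d_comp_d q (q + 1) (q + 1 + 1)) x)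
      have key : ∀ (j : ℤ) (hj : j + 1 = q + 1) (y : P.X (q + 1)),
          (K.d j (q + 1)).hom (h (q + 1) j hj y) = (K.d q (q + 1)).hom (h (q + 1) q rfl y) := by
        intro j hj y
        obtain rfl : j = q := by omega
        rfl
      rw [h3, map_zero, zero_add, key] at h2
      show (K.d q (q + 1)).hom ((g.f q).hom x - h (q + 1) q rfl ((P.d q (q + 1)).hom x)) = 0
      rw [map_sub, h1, h2, sub_self]
    let S : Submodule A (K.X (q - 1)) := J ^ (M - N - c) • ⊤
    let dS : S →ₗ[A] K.X q := (K.d (q - 1) q).hom.comp S.subtype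
    have hrange : ∀ x, r x ∈ LinearMap.range dS := fun x => by
      obtain ⟨y, hy, hy'⟩ := hc (M - N) (by omega) (r x) (hr x) (hdr x)
      exact ⟨⟨y, hy⟩, hy'⟩
    haveI := hP q
    obtain ⟨s, hs⟩ := Module.projective_lifting_property dS.rangeRestrict
      (r.codRestrict _ hrange) dS.surjective_rangeRestrict
    let h' : ∀ i j : ℤ, (j + 1 = i) → (P.X i →ₗ[A] K.X j) := fun i j hij =>
      if e : i = q then
        (show P.X q →ₗ[A] K.X (q - 1) from S.subtype.comp s) |> fun t => by
          obtain rfl := e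
          obtain rfl : j = q - 1 := by omega
          exact t
      else h i j hij
    have hne : ∀ i j hij, i ≠ q → h' i j hij = h i j hij := fun i j hij e => dif_neg e
    have hq : h' q (q - 1) (by omega) = S.subtype.comp s := by simp [h']
    refine ⟨h', fun i j hij x => ?_, fun k hk x => ?_⟩
    · by_cases e : i = q
      · subst e
        obtain rfl : j = q - 1 := by omega
        rw [hq, show M - (N + c) = M - N - c by omega]
        exact (s x).2
      · rw [hne _ _ _ e]
        exact Submodule.smul_mono (Ideal.pow_le_pow_right (by omega)) le_rfl (hh i j hij x)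
    · by_cases e : k = q
      · subst e
        rw [hne (q + 1) q rfl (by omega), hq]
        have h4 : (K.d (q - 1) q).hom (s x) = r x :=
          congrArg Subtype.val (LinearMap.congr_fun hs x)
        show _ = _ + (K.d (q - 1) q).hom (s x).1
        rw [h4]
        exact (add_sub_cancel _ _).symm
      · rw [hne (k + 1) k rfl (by omega), hne k (k - 1) (by omega) e]
        exact heq k (by push_cast at hk; omega) x

end Groth.Agent.KExact.ArtinReesHomotopy

namespace Groth.Agent.KExact.ArtinReesHomotopy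

variable {A : Type u} [CommRing A]

/-- `I ⊗ K ⟶ K`. -/
noncomputable def mu (K : CochainComplex (ModuleCat.{u} A) ℤ) (I : Ideal A) :
    (((curriedTensor (ModuleCat.{u} A)).obj (ModuleCat.of A I)).mapHomologicalComplex (ComplexShape.up ℤ)).obj K ⟶ K where
  f q := ModuleCat.ofHom (TensorProduct.lift ((LinearMap.lsmul A (K.X q)).comp I.subtype))
  comm' i j _ := by
    ext : 1
    refine TensorProduct.ext' fun r x => ?_
    exact (K.d i j).hom.map_smul (r : A) x

lemma mu_injective (K : CochainComplex (ModuleCat.{u} A) ℤ) (I : Ideal A) (q : ℤ)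
    [Module.Projective A (K.X q)] : Function.Injective ((mu K I).f q).hom := by
  have h : (TensorProduct.lift ((LinearMap.lsmul A (K.X q)).comp I.subtype)) =
      (TensorProduct.lid A (K.X q)).toLinearMap.comp (I.subtype.rTensor (K.X q)) :=
    TensorProduct.ext' fun r x => by simp
  show Function.Injective (TensorProduct.lift ((LinearMap.lsmul A (K.X q)).comp I.subtype))
  rw [h]
  exact (TensorProduct.lid A (K.X q)).injective.comp
    (Module.Flat.rTensor_preserves_injective_linearMap I.subtype Subtype.val_injective)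

lemma mu_range (K : CochainComplex (ModuleCat.{u} A) ℤ) (I : Ideal A) (q : ℤ) :
    LinearMap.range ((mu K I).f q).hom = I • (⊤ : Submodule A (K.X q)) := by
  refine le_antisymm ?_ (Submodule.smul_le.2 fun r hr x _ => ⟨(⟨r, hr⟩ : I) ⊗ₜ x, rfl⟩)
  rintro _ ⟨t, rfl⟩
  induction t using TensorProduct.induction_on with
  | zero => rw [map_zero]; exact Submodule.zero_mem _
  | tmul r x => exact Submodule.smul_mem_smul r.2 trivial
  | add x y hx hy => rw [map_add]; exact Submodule.add_mem _ hx hy

variable [IsNoetherianRing A]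

/-- The inclusions `J^(n+m) ⊗ K ⟶ J^m ⊗ K` vanish in the derived category. -/
theorem exists_map_eq_zero [HasDerivedCategory.{w} (ModuleCat.{u} A)]
    (K : CochainComplex (ModuleCat.{u} A) ℤ) (a b : ℤ)
    (hK : ∀ q : ℤ, q < a ∨ b < q → Limits.IsZero (K.X q))
    (hfin : ∀ q : ℤ, Module.Finite A (K.X q)) (hproj : ∀ q : ℤ, Module.Projective A (K.X q))
    (J : Ideal A) (hJ : ∀ q : ℤ, ∀ x ∈ J, ∀ c : ↑(K.homology q), x • c = 0) :
    ∃ n : ℕ, ∀ m : ℕ,
      DerivedCategory.Q.map
        ((NatTrans.mapHomologicalComplex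
          ((curriedTensor (ModuleCat.{u} A)).map
            (ModuleCat.ofHom (Submodule.inclusion (p := J ^ (n + m)) (p' := J ^ m)
              (Ideal.pow_le_pow_right (Nat.le_add_left m n)))))
          (ComplexShape.up ℤ)).app K) = 0 := by
  obtain ⟨N, hN⟩ := exists_homotopy_above K J hfin hJ b (fun q hq => hK q (Or.inr hq)) (b + 1 - a).toNat
  refine ⟨N, fun m => ?_⟩
  let T : Ideal A → CochainComplex (ModuleCat.{u} A) ℤ := fun I =>
    (((curriedTensor (ModuleCat.{u} A)).obj (ModuleCat.of A I)).mapHomologicalComplex (ComplexShape.up ℤ)).obj K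
  let ι : T (J ^ (N + m)) ⟶ T (J ^ m) := (NatTrans.mapHomologicalComplex
    ((curriedTensor (ModuleCat.{u} A)).map (ModuleCat.ofHom (Submodule.inclusion
      (Ideal.pow_le_pow_right (I := J) (Nat.le_add_left m N))))) (ComplexShape.up ℤ)).app K
  show DerivedCategory.Q.map ι = 0
  haveI : (T (J ^ (N + m))).IsStrictlyLE b := (CochainComplex.isStrictlyLE_iff _ b).2 fun q hq =>
    ((curriedTensor (ModuleCat.{u} A)).obj _).map_isZero (hK q (Or.inr hq))
  obtain ⟨P, α, -, hP, -, hα⟩ := TriCat.exists_quasiIso_left_resolution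
    (fun X : ModuleCat.{u} A => Module.Projective A X)
    ⟨ModuleCat.of A PUnit.{u + 1}, ModuleCat.isZero_of_subsingleton _, inferInstance⟩
    (fun X => ⟨ModuleCat.of A (X →₀ A), ModuleCat.ofHom (Finsupp.linearCombination A id),
      inferInstance, (ModuleCat.epi_iff_surjective _).2
        (Finsupp.linearCombination_id_surjective A X)⟩) (T (J ^ (N + m))) b
  obtain ⟨h, hh, heq⟩ := hN (N + m) (Nat.le_add_right _ _) P hP (α ≫ mu K (J ^ (N + m))) fun q x => by
    rw [← mu_range K]
    exact ⟨(α.f q).hom x, rfl⟩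
  have hlift : ∀ i j (hij : j + 1 = i), ∃ t : P.X i ⟶ (T (J ^ m)).X j,
      ∀ x, ((mu K (J ^ m)).f j).hom (t.hom x) = h i j hij x := fun i j hij => by
    haveI := hP i
    obtain ⟨t, ht⟩ := Module.projective_lifting_property ((mu K (J ^ m)).f j).hom.rangeRestrict
      ((h i j hij).codRestrict (LinearMap.range ((mu K (J ^ m)).f j).hom) fun x => by
        rw [mu_range]
        have := hh i j hij x
        rwa [Nat.add_sub_cancel_left] at this) (LinearMap.surjective_rangeRestrict _)
    exact ⟨ModuleCat.ofHom t, fun x => congrArg Subtype.val (LinearMap.congr_fun ht x)⟩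
  choose t ht using hlift
  let H : ∀ i j : ℤ, (ComplexShape.up ℤ).Rel j i → (P.X i ⟶ (T (J ^ m)).X j) := fun i j r => t i j r
  have key : α ≫ ι = Homotopy.nullHomotopicMap' H := by
    ext q : 1
    haveI := hproj q
    rw [Homotopy.nullHomotopicMap'_f (show (ComplexShape.up ℤ).Rel (q - 1) q from by simp)
      (show (ComplexShape.up ℤ).Rel q (q + 1) from rfl)]
    ext x
    refine mu_injective K (J ^ m) q ?_
    have hμι : ∀ y, ((mu K (J ^ m)).f q).hom ((ι.f q).hom y) = ((mu K (J ^ (N + m))).f q).hom y := fun y =>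
      LinearMap.congr_fun (show ((mu K (J ^ m)).f q).hom.comp (ι.f q).hom =
        ((mu K (J ^ (N + m))).f q).hom from TensorProduct.ext' fun r x => rfl) y
    show ((mu K (J ^ m)).f q).hom ((ι.f q).hom ((α.f q).hom x)) =
      ((mu K (J ^ m)).f q).hom ((t (q + 1) q rfl).hom ((P.d q (q + 1)).hom x) +
        ((T (J ^ m)).d (q - 1) q).hom ((t q (q - 1) (by omega)).hom x))
    rw [hμι, map_add, ht]
    have h1 : ((mu K (J ^ m)).f q).hom (((T (J ^ m)).d (q - 1) q).hom ((t q (q - 1) (by omega)).hom x)) =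
        (K.d (q - 1) q).hom (((mu K (J ^ m)).f (q - 1)).hom ((t q (q - 1) (by omega)).hom x)) :=
      congr($((mu K (J ^ m)).comm (q - 1) q) ((t q (q - 1) (by omega)).hom x)).symm
    rw [h1, ht]
    by_cases hq : a ≤ q
    · exact heq q (by omega) x
    · haveI := ModuleCat.subsingleton_of_isZero (hK q (Or.inl (by omega)))
      exact Subsingleton.elim _ _
  have h0 : DerivedCategory.Q.map α ≫ DerivedCategory.Q.map ι = 0 := by
    rw [← Functor.map_comp, key, DerivedCategory.Q_map_eq_of_homotopy _ (Homotopy.nullHomotopy' H),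
      Functor.map_zero]
  haveI : IsIso (DerivedCategory.Q.map α) := (DerivedCategory.isIso_Q_map_iff_quasiIso _ α).2 hα
  rw [← cancel_epi (DerivedCategory.Q.map α), h0, comp_zero]

end Groth.Agent.KExact.ArtinReesHomotopy
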