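import Groth.Agent.KFlatLib.Scheme.BCMapMain
import Groth.Agent.KFlatLib.Scheme.SupportProper
import Groth.Prelude.Def_Dual3

/-!
# Flat base change of the right adjoint on bounded below objects
-/

set_option autoImplicit false
set_option linter.style.haveILetI false
set_option linter.unusedSectionVars false
set_option linter.unusedVariables false
set_option backward.isDefEq.respectTransparency false

universe u

open CategoryTheory CategoryTheory.Limits AlgebraicGeometry Opposite TopologicalSpace Pretriangulated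
open scoped TensorProduct

attribute [local instance] HasDerivedCategory.standard
attribute [local instance] Groth.Agent.KFlatLib.ScalarD.linMod

namespace Groth.Agent.KExact.BCBdd

open KFlatLib KFlatLib.BCLoc KFlatLib.ScalarD KFlatLib.SecPoint

variable {X Y X' Y' : Scheme.{u}}

lemma isBddBelowQ_shift (K : DCoh.DQCoh Y) (n : ℤ) (hK : Dual3.IsBddBelowQ Y K) :
    Dual3.IsBddBelowQ Y ⟨K.obj⟦n⟧, isQCohD_shift K.property n⟩ := by
  obtain ⟨c, hc⟩ := hK
  haveI := hc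
  exact ⟨c - n, DerivedCategory.TStructure.t.isGE_shift K.obj c n (c - n) (by omega)⟩

lemma isBddBelowQ_cone {K K' : DCoh.DQCoh Y} {C : DCoh.D Y} {u : K.obj ⟶ K'.obj} {v : K'.obj ⟶ C}
    {w : C ⟶ K.obj⟦(1 : ℤ)⟧} (hT : Triangle.mk u v w ∈ distTriang (DCoh.D Y)) (hC : DCoh.IsQCohD C)
    (hK : Dual3.IsBddBelowQ Y K) (hK' : Dual3.IsBddBelowQ Y K') : Dual3.IsBddBelowQ Y ⟨C, hC⟩ := by
  obtain ⟨c, hc⟩ := hK
  obtain ⟨c', hc'⟩ := hK'
  haveI := hc
  haveI := hc'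
  let t : CategoryTheory.Triangulated.TStructure (DCoh.D Y) := DerivedCategory.TStructure.t
  let n := min c' (c - 1)
  haveI h₁ : t.IsGE K'.obj n := t.isGE_of_ge K'.obj n c' (by omega)
  haveI : t.IsGE (K.obj⟦(1 : ℤ)⟧) (c - 1) := t.isGE_shift K.obj c 1 (c - 1) (by omega)
  haveI h₃ : t.IsGE (K.obj⟦(1 : ℤ)⟧) n := t.isGE_of_ge _ n (c - 1) (by omega)
  exact ⟨n, t.isGE₂ _ (rot_of_distTriang _ hT) n h₁ h₃⟩

lemma isBddBelowQ_rho (V : Y.Opens) (K : DCoh.DQCoh Y) (hK : Dual3.IsBddBelowQ Y K) :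
    Dual3.IsBddBelowQ (V : Scheme.{u}) (ZObj V K) := by
  obtain ⟨c, hc⟩ := hK
  haveI := hc
  exact ⟨c, (DerivedCategory.isGE_iff _ _).2 fun i hi => ((Scheme.Modules.restrictFunctor V.ι).map_isZero
    (DerivedCategory.isZero_of_isGE K.obj c i hi)).of_iso (restrictHDIso V.ι K.obj i)⟩

lemma isBddBelowQ_LQ (g : Y' ⟶ Y) [Flat g] (K : DCoh.DQCoh Y) (hK : Dual3.IsBddBelowQ Y K) :
    Dual3.IsBddBelowQ Y' ((LQ g).obj K) := by
  obtain ⟨c, hc⟩ := hK
  haveI := hc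
  exact ⟨c, (DerivedCategory.isGE_iff _ _).2 fun i hi => ((Scheme.Modules.pullback g).map_isZero
    (DerivedCategory.isZero_of_isGE K.obj c i hi)).of_iso
      ((mapDCHomologyIso (Scheme.Modules.pullback g) i).app K.obj)⟩

lemma isBddBelowQ_jObj (V : Y.Opens) [QuasiCompact V.ι] [DCoh.HasRpush V.ι]
    (hj : DCoh.RpushPreservesQCoh V.ι) (Z : DCoh.DQCoh (V : Scheme.{u}))
    (hZ : Dual3.IsBddBelowQ (V : Scheme.{u}) Z) : Dual3.IsBddBelowQ Y (RALocal.jObj V hj Z) := by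
  obtain ⟨c, hc⟩ := hZ
  haveI := hc
  exact ⟨c, isGE_rpush V.ι Z.obj c⟩

variable (f : X ⟶ Y)

/-- The right adjoint keeps invertibility over an open between bounded below objects. -/
theorem isIso_rho_a_bdd [CompactSpace X] [QuasiSeparatedSpace X] [QuasiCompact f] [QuasiSeparated f] [DCoh.HasRpush f]
    {hf : DCoh.RpushPreservesQCoh f} {a : DCoh.DQCoh Y ⥤ DCoh.DQCoh X} (adj : DCoh.RpushQ f hf ⊣ a)
    {V : Y.Opens}
    (hN : ∀ (E : DCoh.D X), LocSP E → ∀ (Q : DCoh.DQCoh Y), Dual3.IsBddBelowQ Y Q → ∀ (P J : CochainComplex Y.Modules ℤ), DCoh.IsKFlat P →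
      J.IsKInjective → (∀ n, Injective (J.X n)) →
      Nonempty (DerivedCategory.Q.obj P ≅ (DCoh.Rpush f).obj E) →
      Nonempty (Q.obj ≅ DerivedCategory.Q.obj J) →
      DCoh.IsQCohD (DerivedCategory.Q.obj ((iHom P).obj J)))
    {K K' : DCoh.DQCoh Y} (hK : Dual3.IsBddBelowQ Y K) (hK' : Dual3.IsBddBelowQ Y K') (u : K ⟶ K') (hu : IsIso ((rho V.ι).map u.hom)) :
    IsIso ((rho (f ⁻¹ᵁ V).ι).map (a.map u).hom) := by
  obtain ⟨C, v, w, hT⟩ := distinguished_cocone_triangle u.hom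
  have hCq : DCoh.IsQCohD C := isQCohD_obj₃ hT K.property K'.property
  have hCV : IsZero ((rho V.ι).obj C) :=
    (Triangle.isZero₃_iff_isIso₁ _ ((rho V.ι).map_distinguished _ hT)).2 hu
  let CQ : DCoh.DQCoh Y := ⟨C, hCq⟩
  let CQ' : DCoh.DQCoh Y := ⟨C⟦(-1 : ℤ)⟧, isQCohD_shift hCq (-1)⟩
  have hCV' : IsZero ((rho V.ι).obj CQ'.obj) :=
    ((shiftFunctor _ (-1 : ℤ)).map_isZero hCV).of_iso (((rho V.ι).commShiftIso (-1 : ℤ)).app C)
  let aQ := (a.obj K).obj
  have hCb : Dual3.IsBddBelowQ Y CQ := isBddBelowQ_cone hT hCq hK hK'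
  have hCb' : Dual3.IsBddBelowQ Y CQ' := isBddBelowQ_shift CQ (-1) hCb
  refine isIso_of_cover _ fun x => ?_
  obtain ⟨_, ⟨O, hO, rfl⟩, hxO, -⟩ :=
    (f ⁻¹ᵁ V : X.Opens).toScheme.isBasis_affineOpens.exists_subset_of_mem_open (Set.mem_univ x) isOpen_univ
  let W : X.Opens := (f ⁻¹ᵁ V).ι ''ᵁ O
  have hW : IsAffineOpen W := IsAffineOpen.image_of_isOpenImmersion hO _
  have hWU : W ≤ f ⁻¹ᵁ V := fun z hz => by
    obtain ⟨z, -, rfl⟩ := hz; exact z.2
  refine ⟨O, hxO, ?_⟩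
  haveI : IsIso ((rho W.ι).map (a.map u).hom) := by
    refine isIso_rho_of_el (a.obj K).property (a.obj K').property _ hW fun k => ⟨?_, fun t => ?_⟩
    · intro t₁ t₂ h12
      rw [← sub_eq_zero]
      have h0 : (t₁ - t₂) ≫ (a.map u).hom = 0 := by
        rw [Preadditive.sub_comp]; exact sub_eq_zero.2 h12
      generalize t₁ - t₂ = t at h0
      obtain ⟨R, i, β, hR, rfl⟩ := exists_lift_pt hW k (a.obj K).property t
      let RQ : DCoh.DQCoh X := ⟨R, AffineLift.isQCohD_of_locSP hR⟩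
      let βQ : RQ ⟶ a.obj K := ObjectProperty.homMk β
      rw [Category.assoc] at h0
      obtain ⟨R', i', γ, hR', hγi, hγ⟩ := exists_kill hW k RQ.property (a.obj K').property i _ h0
      let RQ' : DCoh.DQCoh X := ⟨R', AffineLift.isQCohD_of_locSP hR'⟩
      let χ : RQ' ⟶ a.obj K := ObjectProperty.homMk (γ ≫ β)
      have h1 : χ ≫ a.map u = 0 := ObjectProperty.hom_ext _ ((Category.assoc _ _ _).trans hγ)
      have h2 : ((adj.homEquiv _ _).symm χ).hom ≫ u.hom = 0 := by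
        have := adj.homEquiv_naturality_right_symm χ u
        rw [h1, adj.homEquiv_counit] at this
        have hz : ((DCoh.RpushQ f hf).map (0 : RQ' ⟶ a.obj K')).hom = 0 := by
          haveI := rpush_additive f
          exact (DCoh.Rpush f).map_zero _ _
        refine (congrArg InducedCategory.Hom.hom this).symm.trans ?_
        change ((DCoh.RpushQ f hf).map (0 : RQ' ⟶ a.obj K')).hom ≫ _ = 0
        rw [hz, zero_comp]
      obtain ⟨s, hs⟩ := Triangle.coyoneda_exact₂ _ (inv_rot_of_distTriang _ hT)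
        ((adj.homEquiv _ _).symm χ).hom h2
      let S : RQ' ⟶ a.obj CQ' := adj.homEquiv _ _ (ObjectProperty.homMk s)
      have hS := SupportAdj.rho_map_eq_zero (f := f) hf a adj V CQ' hCV' RQ' S (hN R' hR' CQ' hCb')
      obtain ⟨R'', i'', δ, hR'', hδi, hδ⟩ := exists_kill hW k RQ'.property (a.obj CQ').property i' S.hom
        (pt_comp_eq_zero hW hWU k (a.obj CQ').property _ hS i')
      let δQ : (⟨R'', AffineLift.isQCohD_of_locSP hR''⟩ : DCoh.DQCoh X) ⟶ RQ' := ObjectProperty.homMk δ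
      have h3 : (DCoh.RpushQ f hf).map δQ ≫ ObjectProperty.homMk s = (0 : _ ⟶ CQ') := by
        have h4 : δQ ≫ S = 0 := ObjectProperty.hom_ext _ hδ
        apply (adj.homEquiv _ _).injective
        rw [adj.homEquiv_naturality_left]
        change δQ ≫ S = _
        rw [h4]
        haveI := rpushQ_additive f hf
        haveI := adj.right_adjoint_additive
        rw [adj.homEquiv_unit, Functor.map_zero, comp_zero]
      have h5 : δQ ≫ χ = 0 := by
        apply (adj.homEquiv _ _).symm.injective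
        rw [adj.homEquiv_naturality_left_symm]
        haveI := rpushQ_additive f hf
        rw [adj.homEquiv_counit (g := (0 : _ ⟶ a.obj K)), Functor.map_zero, zero_comp]
        apply ObjectProperty.hom_ext
        refine (congrArg (((DCoh.RpushQ f hf).map δQ).hom ≫ ·) hs).trans ?_
        refine (Category.assoc _ _ _).symm.trans ?_
        exact (congrArg (· ≫ _) (congrArg InducedCategory.Hom.hom h3)).trans zero_comp
      have h6 : δ ≫ γ ≫ β = 0 := congrArg InducedCategory.Hom.hom h5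
      calc i ≫ β = (i'' ≫ δ) ≫ γ ≫ β := by rw [hδi, ← Category.assoc, hγi]
        _ = 0 := by rw [Category.assoc, h6, comp_zero]
    · obtain ⟨R, i, β, hR, hiβ⟩ := exists_lift_pt hW k (a.obj K').property t
      let RQ : DCoh.DQCoh X := ⟨R, AffineLift.isQCohD_of_locSP hR⟩
      let β₀ := (adj.homEquiv RQ K').symm (ObjectProperty.homMk β)
      let S : RQ ⟶ a.obj CQ := adj.homEquiv _ _ (β₀ ≫ ObjectProperty.homMk v)
      have hS := SupportAdj.rho_map_eq_zero (f := f) hf a adj V CQ hCV RQ S (hN R hR CQ hCb)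
      obtain ⟨R', i', γ, hR', hγi, hγ⟩ := exists_kill hW k RQ.property (a.obj CQ).property i S.hom
        (pt_comp_eq_zero hW hWU k (a.obj CQ).property _ hS i)
      let RQ' : DCoh.DQCoh X := ⟨R', AffineLift.isQCohD_of_locSP hR'⟩
      let γQ : RQ' ⟶ RQ := ObjectProperty.homMk γ
      have h3 : ((DCoh.RpushQ f hf).map γQ ≫ β₀).hom ≫ v = 0 := by
        have h4 : γQ ≫ S = 0 := ObjectProperty.hom_ext _ hγ
        rw [← adj.homEquiv_naturality_left] at h4
        haveI := rpushQ_additive f hf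
        haveI := adj.right_adjoint_additive
        have h5 : (DCoh.RpushQ f hf).map γQ ≫ β₀ ≫ ObjectProperty.homMk v = (0 : _ ⟶ CQ) :=
          (adj.homEquiv _ _).injective (h4.trans (by rw [adj.homEquiv_unit, Functor.map_zero, comp_zero]))
        exact (Category.assoc _ _ _).trans (congrArg InducedCategory.Hom.hom h5)
      obtain ⟨s, hs⟩ := Triangle.coyoneda_exact₂ _ hT _ h3
      let σ : RQ' ⟶ a.obj K := adj.homEquiv _ _ (ObjectProperty.homMk s)
      have h6 : σ ≫ a.map u = γQ ≫ ObjectProperty.homMk β := by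
        apply (adj.homEquiv _ _).symm.injective
        rw [adj.homEquiv_naturality_right_symm, adj.homEquiv_naturality_left_symm, Equiv.symm_apply_apply]
        exact ObjectProperty.hom_ext _ hs.symm
      refine ⟨i' ≫ σ.hom, ?_⟩
      change (i' ≫ σ.hom) ≫ (a.map u).hom = t
      refine (Category.assoc _ _ _).trans ?_
      refine (congrArg (i' ≫ ·) (congrArg InducedCategory.Hom.hom h6)).trans ?_
      change i' ≫ γ ≫ β = t
      rw [← Category.assoc, hγi, hiβ]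
  let O' : (f ⁻¹ᵁ V : X.Opens).toScheme.Opens := O
  obtain ⟨r₁⟩ := AffineLift.nonempty_rhoCompNat O'.ι (f ⁻¹ᵁ V).ι (O'.ι ≫ (f ⁻¹ᵁ V).ι) rfl
  obtain ⟨r₂⟩ := AffineLift.nonempty_rhoCompNat ((f ⁻¹ᵁ V).ι.isoImage O').hom W.ι (O'.ι ≫ (f ⁻¹ᵁ V).ι)
    (Scheme.Hom.isoImage_hom_ι _ _)
  refine (NatIso.isIso_map_iff (r₁ ≪≫ r₂.symm) _).2 ?_
  exact inferInstanceAs (IsIso ((rho ((f ⁻¹ᵁ V).ι.isoImage O').hom).map ((rho W.ι).map (a.map u).hom)))

variable {f} {g : Y' ⟶ Y} {f' : X' ⟶ Y'} {g' : X' ⟶ X} [Flat g] [Flat g']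
variable [DCoh.HasRpush f] [DCoh.HasRpush f'] {hf : DCoh.RpushPreservesQCoh f}
  {hf' : DCoh.RpushPreservesQCoh f'} {a : DCoh.DQCoh Y ⥤ DCoh.DQCoh X}
  {a' : DCoh.DQCoh Y' ⥤ DCoh.DQCoh X'}
variable (adj : DCoh.RpushQ f hf ⊣ a) (adj' : DCoh.RpushQ f' hf' ⊣ a')
  (bcI : DCoh.RpushQ f hf ⋙ LQ g ≅ LQ g' ⋙ DCoh.RpushQ f' hf')

/-- The base change map is invertible on a chart. -/
theorem isIso_rho_mMap_chart_bdd (hsq : IsPullback g' f' f g) [CompactSpace X] [QuasiSeparatedSpace X]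
    [QuasiCompact g'] [QuasiSeparated g'] [DCoh.HasRpush g']
    {V : Y.Opens} (hV : IsAffineOpen V) {V' : Y'.Opens} (hV' : IsAffineOpen V') (hle : V' ≤ g ⁻¹ᵁ V)
    [QuasiCompact V.ι] [QuasiCompact V'.ι] [QuasiCompact (f ⁻¹ᵁ V).ι] [QuasiCompact (f' ⁻¹ᵁ V').ι]
    (hX : ∀ {Q Q' : DCoh.DQCoh Y}, Dual3.IsBddBelowQ Y Q → Dual3.IsBddBelowQ Y Q' → ∀ (u : Q ⟶ Q'), IsIso ((rho V.ι).map u.hom) →
      IsIso ((rho (f ⁻¹ᵁ V).ι).map (a.map u).hom))
    (hX' : ∀ {Q Q' : DCoh.DQCoh Y'}, Dual3.IsBddBelowQ Y' Q → Dual3.IsBddBelowQ Y' Q' → ∀ (u : Q ⟶ Q'), IsIso ((rho V'.ι).map u.hom) →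
      IsIso ((rho (f' ⁻¹ᵁ V').ι).map (a'.map u).hom))
    (K : DCoh.DQCoh Y) (hK : Dual3.IsBddBelowQ Y K)
    (hΨ : ∀ R : DCoh.D X, LocSP R → LocSP ((rho V.ι).obj ((DCoh.Rpush f).obj R)) ∨
      ((∀ m, LocPC m ((rho V.ι).obj ((DCoh.Rpush f).obj R))) ∧ ∃ n, ((rho V.ι).obj K.obj).IsGE n))
    {W : X.Opens} (hW : IsAffineOpen W) (hWV : W ≤ f ⁻¹ᵁ V) :
    IsIso ((rho (g' ⁻¹ᵁ W ⊓ f' ⁻¹ᵁ V').ι).map (mMap adj adj' bcI K).hom) := by
  haveI := hasRpush_scheme V.ι
  haveI := hasRpush_scheme V'.ι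
  haveI : HasInjectiveResolutions (V : Scheme.{u}).Modules := hasInjectiveResolutions_modules
  haveI : HasInjectiveResolutions (V' : Scheme.{u}).Modules := hasInjectiveResolutions_modules
  let hj : DCoh.RpushPreservesQCoh V.ι := fun E hE => isQCohD_rpush V.ι hE
  let hj' : DCoh.RpushPreservesQCoh V'.ι := fun E hE => isQCohD_rpush V'.ι hE
  obtain ⟨adjV⟩ := nonempty_rho_adj V.ι
  obtain ⟨adjV'⟩ := nonempty_rho_adj V'.ι
  let h := g.resLE V V' hle
  obtain ⟨c⟩ := nonempty_rho_pullD g V.ι V'.ι h (Scheme.Hom.resLE_comp_ι _ _)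
  have hw : g' ≫ f = f' ≫ g := hsq.w
  let V₁ := V.ι ''ᵁ ⊤
  let W₁ := V'.ι ''ᵁ ⊤
  have eV : V₁ = V := Scheme.Opens.ι_image_top V
  have eW : W₁ = V' := Scheme.Opens.ι_image_top V'
  have hle₁ : W₁ ≤ g ⁻¹ᵁ V₁ := by rw [eV, eW]; exact hle
  letI : Algebra Γ(Y, V₁) Γ(Y', W₁) := (g.appLE V₁ W₁ hle₁).hom.toAlgebra
  let φV : Γ(Y, V₁) →+* Γ((V : Scheme.{u}), ⊤) := RingHom.id _
  let ψV : Γ(Y', W₁) →+* Γ((V' : Scheme.{u}), ⊤) := RingHom.id _
  have hc : ∀ x, h.appTop (φV x) = ψV (algebraMap _ _ x) := fun x => by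
    have e : h.appTop = g.appLE V₁ W₁ hle₁ := by
      rw [Scheme.Hom.appTop, Scheme.Hom.app_eq_appLE, Scheme.Hom.resLE_appLE]
      rfl
    exact ConcreteCategory.congr_hom e x
  haveI : IsAffine (V : Scheme.{u}) := hV
  haveI : IsAffine (V' : Scheme.{u}) := hV'
  haveI : Module.Flat Γ(Y, V₁) Γ(Y', W₁) :=
    g.flat_appLE (eV.symm ▸ hV) (eW.symm ▸ hV') hle₁
  have hTop : FlatBC.IsBC (AffineHomBC.topDatum h φV ψV hc) := by
    letI : Algebra Γ((V : Scheme.{u}), ⊤) Γ((V' : Scheme.{u}), ⊤) :=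
      (inferInstance : Algebra Γ(Y, V₁) Γ(Y', W₁))
    exact FlatBC.isBC_dG (g := h) (V := ⊤) (W₀ := ⊤) le_top
      (fun x => by
        refine (hc x).symm.trans ?_
        simp [Scheme.Hom.appLE, Scheme.Hom.appTop]
        rfl)
      (isAffineOpen_top _) (isAffineOpen_top _)
  have hWV₁ : W ≤ f ⁻¹ᵁ V₁ := by rw [eV]; exact hWV
  obtain ⟨hW'a, hBC⟩ := FlatBC.isBC_dA hw hle₁ (fun _ => rfl) hsq (eV.symm ▸ hV) (eW.symm ▸ hV') hWV₁ hW
  have hΨ' : ∀ R : DCoh.D X, LocSP R → AffineHomBC.Good h φV ψV hc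
      ((rho V.ι).obj ((DCoh.Rpush f).obj R)) ((rho V.ι).obj K.obj) := fun R hR => by
    rcases hΨ R hR with hP | ⟨hP, n, hn⟩
    · exact AffineHomBC.good_of_locSP h φV ψV hc hTop hP (isQCohD_rho V.ι K.property)
    · haveI := hn
      exact AffineHomBC.good_of_locPC h φV ψV hc hTop
        (isQCohD_rho V.ι (hf R (AffineLift.isQCohD_of_locSP hR))) hP (isQCohD_rho V.ι K.property) n
  let Z := ZObj V K
  let K1 := RALocal.jObj V hj Z
  have bZ : Dual3.IsBddBelowQ (V : Scheme.{u}) Z := isBddBelowQ_rho V K hK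
  have bK1 : Dual3.IsBddBelowQ Y K1 := isBddBelowQ_jObj V hj Z bZ
  have bgK : Dual3.IsBddBelowQ Y' ((LQ g).obj K) := isBddBelowQ_LQ g K hK
  have bgK1 : Dual3.IsBddBelowQ Y' ((LQ g).obj K1) := isBddBelowQ_LQ g K1 bK1
  have bN : Dual3.IsBddBelowQ Y' (RALocal.jObj V' hj' (MObj (g.resLE V V' hle) K)) :=
    isBddBelowQ_jObj V' hj' _ (isBddBelowQ_LQ (g.resLE V V' hle) Z bZ)
  let T := tau adj adj' bcI (hj := hj) (hj' := hj') adjV adjV' h c K
  haveI hτ : IsIso ((rho (g' ⁻¹ᵁ W ⊓ f' ⁻¹ᵁ W₁).ι).map T.hom) :=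
    isIso_rho_of_el (isQCohD_pullD g' (a.obj K1).property) (a'.obj _).property T.hom hW'a fun k =>
      bijective_comp_tau adj adj' bcI hj hj' adjV adjV' hw h c φV ψV (fun _ => rfl) (fun _ => rfl) hc hle₁
        (fun _ => rfl) K hΨ' hW hWV₁ hW'a hBC k
  let uK : K ⟶ K1 := ObjectProperty.homMk (adjV.unit.app K.obj)
  haveI := isIso_restrictD_counit V.ι adjV
  haveI huK : IsIso ((rho V.ι).map uK.hom) := by
    haveI : IsIso ((rho V.ι).map (adjV.unit.app K.obj) ≫ adjV.counit.app ((rho V.ι).obj K.obj)) := by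
      erw [adjV.left_triangle_components K.obj]; exact IsIso.id _
    exact IsIso.of_isIso_comp_right ((rho V.ι).map (adjV.unit.app K.obj)) (adjV.counit.app _)
  let U := f ⁻¹ᵁ V
  let U' := f' ⁻¹ᵁ V'
  have hU : U' ≤ g' ⁻¹ᵁ U := by
    rw [← Scheme.Hom.comp_preimage, hw, Scheme.Hom.comp_preimage]
    exact fun z hz => hle hz
  let O := g' ⁻¹ᵁ W ⊓ f' ⁻¹ᵁ V'
  have hO : O ≤ U' := inf_le_right
  haveI h1 : IsIso ((rho O.ι).map ((LQ g').map (a.map uK)).hom) := by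
    obtain ⟨c'⟩ := nonempty_rho_pullD g' U.ι U'.ι (g'.resLE U U' hU) (Scheme.Hom.resLE_comp_ι _ _)
    haveI := hX hK bK1 uK huK
    haveI : IsIso ((rho U'.ι).map ((pullD g').map (a.map uK).hom)) :=
      (NatIso.isIso_map_iff c' (a.map uK).hom).2
        (inferInstanceAs (IsIso ((pullD (g'.resLE U U' hU)).map ((rho U.ι).map (a.map uK).hom))))
    exact isIso_rho_of_le ((pullD g').map (a.map uK).hom) hO
  have h2' : IsIso ((rho V'.ι).map ((LQ g).map uK).hom) :=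
    (NatIso.isIso_map_iff c uK.hom).2 (inferInstanceAs (IsIso ((pullD h).map ((rho V.ι).map uK.hom))))
  haveI h2 : IsIso ((rho O.ι).map (a'.map ((LQ g).map uK)).hom) := by
    haveI := hX' bgK bgK1 _ h2'
    exact isIso_rho_of_le _ hO
  haveI h3 : IsIso ((rho O.ι).map (a'.map (etaN (g := g) (hj := hj) (hj' := hj') adjV adjV' h c K)).hom) := by
    haveI := hX' bgK1 bN _ (isIso_rho_etaN (g := g) (hj := hj) (hj' := hj') adjV adjV' h c K)
    exact isIso_rho_of_le _ hO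
  haveI h4 : IsIso ((rho O.ι).map T.hom) :=
    isIso_rho_of_le T.hom (show O ≤ g' ⁻¹ᵁ W ⊓ f' ⁻¹ᵁ W₁ by rw [eW])
  haveI h5 : IsIso ((rho O.ι).map (mMap adj adj' bcI K1).hom) := by
    have e := congrArg (fun z => (rho O.ι).map (InducedCategory.Hom.hom z))
      (mMap_etaN adj adj' bcI (hj := hj) (hj' := hj') adjV adjV' h c K)
    change (rho O.ι).map ((mMap adj adj' bcI K1).hom ≫ (a'.map (etaN adjV adjV' h c K)).hom) = _ at e
    rw [Functor.map_comp] at e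
    haveI : IsIso ((rho O.ι).map (mMap adj adj' bcI K1).hom ≫
        (rho O.ι).map (a'.map (etaN (g := g) (hj := hj) (hj' := hj') adjV adjV' h c K)).hom) := e ▸ h4
    exact IsIso.of_isIso_comp_right ((rho O.ι).map (mMap adj adj' bcI K1).hom)
      ((rho O.ι).map (a'.map (etaN (g := g) (hj := hj) (hj' := hj') adjV adjV' h c K)).hom)
  have e := congrArg (fun z => (rho O.ι).map (InducedCategory.Hom.hom z)) (mMap_natural adj adj' bcI uK)
  change (rho O.ι).map (((LQ g').map (a.map uK)).hom ≫ (mMap adj adj' bcI K1).hom) =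
    (rho O.ι).map ((mMap adj adj' bcI K).hom ≫ (a'.map ((LQ g).map uK)).hom) at e
  rw [Functor.map_comp, Functor.map_comp] at e
  haveI : IsIso ((rho O.ι).map (mMap adj adj' bcI K).hom ≫ (rho O.ι).map (a'.map ((LQ g).map uK)).hom) :=
    e ▸ IsIso.comp_isIso' h1 h5
  exact IsIso.of_isIso_comp_right ((rho O.ι).map (mMap adj adj' bcI K).hom)
    ((rho O.ι).map (a'.map ((LQ g).map uK)).hom)

variable (f) in
/-- For a proper morphism to a noetherian scheme `RHom(Rf_* E, Q)` is quasi-coherent for `Q` bounded below. -/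
theorem hN_proper [IsNoetherian Y] [IsProper f] (E : DCoh.D X) (hE : LocSP E) (Q : DCoh.DQCoh Y)
    (hQ : Dual3.IsBddBelowQ Y Q) (P J : CochainComplex Y.Modules ℤ) (hP : DCoh.IsKFlat P)
    (hJ : J.IsKInjective) (hJi : ∀ n, Injective (J.X n))
    (e₁ : Nonempty (DerivedCategory.Q.obj P ≅ (DCoh.Rpush f).obj E))
    (e₂ : Nonempty (Q.obj ≅ DerivedCategory.Q.obj J)) :
    DCoh.IsQCohD (DerivedCategory.Q.obj ((iHom P).obj J)) := by
  haveI := hJ
  haveI := hJi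
  obtain ⟨c, hc⟩ := hQ
  haveI := hc
  exact SupportAdj.isQCohD_iHom_of_locPC hP
    (fun m => (SupportAdj.locPC_rpush_of_locSP f hE m).of_iso e₁.some.symm) Q.property e₂.some c

/-- Base change is invertible at bounded below objects. -/
theorem isIso_mMap_bdd (hsq : IsPullback g' f' f g) [IsNoetherian Y] [IsNoetherian Y'] [IsProper f] [IsProper f']
    [CompactSpace X] [QuasiSeparatedSpace X] [CompactSpace X'] [QuasiSeparatedSpace X'] [QuasiCompact g']
    [QuasiSeparated g'] [DCoh.HasRpush g']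
    (K : DCoh.DQCoh Y) (hK : Dual3.IsBddBelowQ Y K) : IsIso (mMap adj adj' bcI K) := by
  haveI : IsIso ((ObjectProperty.ι (DCoh.IsQCohD (X := X'))).map (mMap adj adj' bcI K)) := by
    refine isIso_of_cover _ fun x' => ?_
    obtain ⟨_, ⟨V₀, hV, rfl⟩, hyV, -⟩ :=
      Y.isBasis_affineOpens.exists_subset_of_mem_open (Set.mem_univ (g.base (f'.base x'))) isOpen_univ
    obtain ⟨_, ⟨V₀', hV', rfl⟩, hyV', hle⟩ :=
      Y'.isBasis_affineOpens.exists_subset_of_mem_open (show f'.base x' ∈ g ⁻¹ᵁ V₀ from hyV) (g ⁻¹ᵁ V₀).2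
    let V : Y.Opens := V₀
    let V' : Y'.Opens := V₀'
    haveI : QuasiCompact V.ι := inferInstance
    haveI : QuasiCompact V'.ι := inferInstance
    haveI : QuasiCompact (f ⁻¹ᵁ V).ι :=
      MorphismProperty.of_isPullback (P := @QuasiCompact) (isPullback_morphismRestrict f V) ‹QuasiCompact V.ι›
    haveI : QuasiCompact (f' ⁻¹ᵁ V').ι :=
      MorphismProperty.of_isPullback (P := @QuasiCompact) (isPullback_morphismRestrict f' V') ‹QuasiCompact V'.ι›
    have hx : g'.base x' ∈ f ⁻¹ᵁ V := by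
      have h1 : f.base (g'.base x') = g.base (f'.base x') :=
        congrArg (fun z : X' ⟶ Y => z.base x') hsq.w
      change f.base (g'.base x') ∈ V
      rw [h1]
      exact hyV
    obtain ⟨_, ⟨W, hW, rfl⟩, hxW, hWV⟩ :=
      X.isBasis_affineOpens.exists_subset_of_mem_open hx (f ⁻¹ᵁ V).2
    refine ⟨g' ⁻¹ᵁ W ⊓ f' ⁻¹ᵁ V', ⟨hxW, hyV'⟩,
      isIso_rho_mMap_chart_bdd adj adj' bcI hsq hV hV' hle
        (fun {_ _} h h' u hu => isIso_rho_a_bdd f adj (hN_proper f) h h' u hu)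
        (fun {_ _} h h' u hu => isIso_rho_a_bdd f' adj' (hN_proper f') h h' u hu) K hK
        (fun R hR => Or.inr ⟨fun m => (SupportAdj.locPC_rpush_of_locSP f hR m).restrict V.ι, ?_⟩) hW hWV⟩
    exact isBddBelowQ_rho V K hK
  exact isIso_of_reflects_iso _ (ObjectProperty.ι (DCoh.IsQCohD (X := X')))

end Groth.Agent.KExact.BCBdd
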