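import Groth.Agent.KExact.BCNat

/-!
# Composition, base change and étale morphisms for the twisted inverse image
-/

set_option autoImplicit false
set_option linter.style.haveILetI false
set_option linter.unusedSectionVars false
set_option linter.unusedVariables false
set_option backward.isDefEq.respectTransparency false

universe u

open CategoryTheory CategoryTheory.Limits AlgebraicGeometry Opposite TopologicalSpace Pretriangulated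

attribute [local instance] HasDerivedCategory.standard

namespace Groth.Agent.KExact.BCComp

open KFlatLib KFlatLib.BCLoc KFlatLib.SecPoint BCNat

variable {X Y : Scheme.{u}}

/-- Composition of pullbacks along flat maps. -/
theorem nonempty_LQ_comp {U V : Scheme.{u}} (i : V ⟶ U) [Flat i] (j : U ⟶ X) [Flat j]
    (k : V ⟶ X) [Flat k] (h : i ≫ j = k) : Nonempty (LQ j ⋙ LQ i ≅ LQ k) := by
  subst h
  haveI := hasLpull i
  haveI := hasLpull j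
  haveI := hasLpull (i ≫ j)
  obtain ⟨e⟩ := nonempty_lpull_comp i j
  let e' : pullD j ⋙ pullD i ≅ pullD (i ≫ j) :=
    Functor.isoWhiskerRight (lpullPullIso j).symm _ ≪≫
      Functor.isoWhiskerLeft _ (lpullPullIso i).symm ≪≫ e ≪≫ lpullPullIso (i ≫ j)
  exact ⟨liftIso (F := LQ j ⋙ LQ i) (G := LQ (i ≫ j)) (Functor.isoWhiskerLeft (ObjectProperty.ι _) e' :)⟩

/-- Two compactifications of a morphism of noetherian schemes compute the same twisted inverse image. -/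
theorem nonempty_indep {W₁ W₂ : Scheme.{u}} (j₁ : X ⟶ W₁) [IsOpenImmersion j₁] (φ₁ : W₁ ⟶ Y) [IsProper φ₁]
    (j₂ : X ⟶ W₂) [IsOpenImmersion j₂] (φ₂ : W₂ ⟶ Y) [IsProper φ₂] (hfac : j₁ ≫ φ₁ = j₂ ≫ φ₂)
    [IsNoetherian Y] [IsNoetherian X] [DCoh.HasRpush φ₁] [DCoh.HasRpush φ₂]
    {h₁ : DCoh.RpushPreservesQCoh φ₁} {h₂ : DCoh.RpushPreservesQCoh φ₂}
    {a₁ : DCoh.DQCoh Y ⥤ DCoh.DQCoh W₁} {a₂ : DCoh.DQCoh Y ⥤ DCoh.DQCoh W₂}
    (adj₁ : DCoh.RpushQ φ₁ h₁ ⊣ a₁) (adj₂ : DCoh.RpushQ φ₂ h₂ ⊣ a₂) :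
    Nonempty (Dual3.bddι Y ⋙ a₁ ⋙ rQ j₁ ≅ Dual3.bddι Y ⋙ a₂ ⋙ rQ j₂) := by
  let k : X ⟶ pullback φ₁ φ₂ := pullback.lift j₁ j₂ hfac
  haveI : IsImmersion (k ≫ pullback.fst φ₁ φ₂) := by
    rw [show k ≫ pullback.fst φ₁ φ₂ = j₁ from pullback.lift_fst _ _ _]; infer_instance
  haveI : IsImmersion k := IsImmersion.of_comp k (pullback.fst φ₁ φ₂)
  haveI : IsNoetherian W₁ := isNoetherian_of_ft φ₁
  haveI : IsNoetherian (pullback φ₁ φ₂) := isNoetherian_of_ft (pullback.fst φ₁ φ₂)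
  haveI : QuasiCompact k := inferInstance
  let π₁ := k.imageι ≫ pullback.fst φ₁ φ₂
  let π₂ := k.imageι ≫ pullback.snd φ₁ φ₂
  have hj₁ : k.toImage ≫ π₁ = j₁ := by
    rw [Scheme.Hom.toImage_imageι_assoc]; exact pullback.lift_fst _ _ _
  have hj₂ : k.toImage ≫ π₂ = j₂ := by
    rw [Scheme.Hom.toImage_imageι_assoc]; exact pullback.lift_snd _ _ _
  let t := π₁ ≫ φ₁
  have ht : π₂ ≫ φ₂ = t := by
    simp only [π₁, π₂, t, Category.assoc, pullback.condition]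
  haveI := hasRpush_scheme t
  have h : DCoh.RpushPreservesQCoh t := fun K hK => isQCohD_rpush t hK
  haveI : IsNoetherian k.image := isNoetherian_of_ft t
  obtain ⟨aZ, ⟨adjZ⟩⟩ := exists_adj t h
  obtain ⟨e₁⟩ := nonempty_dominate k.toImage π₁ j₁ hj₁ φ₁ t rfl adj₁ adjZ
  obtain ⟨e₂⟩ := nonempty_dominate k.toImage π₂ j₂ hj₂ φ₂ t ht adj₂ adjZ
  exact ⟨e₁ ≪≫ e₂.symm⟩

/-- The twisted inverse image of a composition. -/
theorem nonempty_comp {Z Xb Yb W : Scheme.{u}} (j : X ⟶ Xb) [IsOpenImmersion j] (φ : Xb ⟶ Y) [IsProper φ]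
    (k : Y ⟶ Yb) [IsOpenImmersion k] (ψ : Yb ⟶ Z) [IsProper ψ] (l : X ⟶ W) [IsOpenImmersion l]
    (θ : W ⟶ Z) [IsProper θ] (hfac : l ≫ θ = j ≫ φ ≫ k ≫ ψ)
    [IsNoetherian X] [IsNoetherian Y] [IsNoetherian Z]
    [DCoh.HasRpush φ] [DCoh.HasRpush ψ] [DCoh.HasRpush θ] {hφ : DCoh.RpushPreservesQCoh φ}
    {hψ : DCoh.RpushPreservesQCoh ψ} {hθ : DCoh.RpushPreservesQCoh θ} {a : DCoh.DQCoh Y ⥤ DCoh.DQCoh Xb}
    {b : DCoh.DQCoh Z ⥤ DCoh.DQCoh Yb} {c : DCoh.DQCoh Z ⥤ DCoh.DQCoh W}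
    (adjφ : DCoh.RpushQ φ hφ ⊣ a) (adjψ : DCoh.RpushQ ψ hψ ⊣ b) (adjθ : DCoh.RpushQ θ hθ ⊣ c) :
    Nonempty (Dual3.bddι Z ⋙ c ⋙ rQ l ≅ Dual3.bddι Z ⋙ b ⋙ rQ k ⋙ a ⋙ rQ j) := by
  let f' : X ⟶ Yb := (j ≫ φ) ≫ k
  have hh : l ≫ θ = f' ≫ ψ := by simp only [f', hfac, Category.assoc]
  let v : X ⟶ pullback θ ψ := pullback.lift l f' hh
  haveI : IsImmersion (v ≫ pullback.fst θ ψ) := by
    rw [show v ≫ pullback.fst θ ψ = l from pullback.lift_fst _ _ _]; infer_instance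
  haveI : IsImmersion v := IsImmersion.of_comp v (pullback.fst θ ψ)
  haveI : IsNoetherian W := isNoetherian_of_ft θ
  haveI : IsNoetherian Yb := isNoetherian_of_ft ψ
  haveI : IsNoetherian (pullback θ ψ) := isNoetherian_of_ft (pullback.fst θ ψ)
  haveI : QuasiCompact v := inferInstance
  let π₁ := v.imageι ≫ pullback.fst θ ψ
  let π₂ := v.imageι ≫ pullback.snd θ ψ
  have hj₁ : v.toImage ≫ π₁ = l := by
    rw [Scheme.Hom.toImage_imageι_assoc]; exact pullback.lift_fst _ _ _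
  have hj₂ : v.toImage ≫ π₂ = f' := by
    rw [Scheme.Hom.toImage_imageι_assoc]; exact pullback.lift_snd _ _ _
  let t := π₁ ≫ θ
  have ht : π₂ ≫ ψ = t := by
    simp only [π₁, π₂, t, Category.assoc, pullback.condition]
  haveI := hasRpush_scheme t
  haveI := hasRpush_scheme π₂
  have h : DCoh.RpushPreservesQCoh t := fun K hK => isQCohD_rpush t hK
  have h₂ : DCoh.RpushPreservesQCoh π₂ := fun K hK => isQCohD_rpush π₂ hK
  haveI : IsNoetherian v.image := isNoetherian_of_ft t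
  obtain ⟨aT, ⟨adjT⟩⟩ := exists_adj t h
  obtain ⟨a₂, ⟨adj₂⟩⟩ := exists_adj π₂ h₂
  obtain ⟨E1⟩ := nonempty_dominate v.toImage π₁ l hj₁ θ t rfl adjθ adjT
  obtain ⟨cc⟩ := nonempty_rpushQ_comp π₂ ψ t ht h₂ hψ h
  let E2 : b ⋙ a₂ ≅ aT := ((adj₂.comp adjψ).ofNatIsoLeft cc).rightAdjointUniq adjT
  let p := pullback.snd π₂ k
  let r := pullback.fst π₂ k
  let u' : X ⟶ pullback π₂ k := pullback.lift v.toImage (j ≫ φ) hj₂
  have hur : u' ≫ r = v.toImage := pullback.lift_fst _ _ _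
  have hup : u' ≫ p = j ≫ φ := pullback.lift_snd _ _ _
  haveI : IsOpenImmersion (u' ≫ r) := by rw [hur]; infer_instance
  haveI : IsOpenImmersion u' := IsOpenImmersion.of_comp u' r
  haveI := hasRpush_scheme p
  have hp : DCoh.RpushPreservesQCoh p := fun K hK => isQCohD_rpush p hK
  haveI : IsNoetherian (pullback π₂ k) := isNoetherian_of_ft p
  obtain ⟨ap, ⟨adjp⟩⟩ := exists_adj p hp
  obtain ⟨B⟩ := nonempty_bc_iso (IsPullback.of_hasPullback π₂ k) adj₂ adjp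
  obtain ⟨I⟩ := nonempty_indep j φ u' p hup.symm adjφ adjp
  obtain ⟨lr⟩ := nonempty_LQ_iso_rQ r
  obtain ⟨lk⟩ := nonempty_LQ_iso_rQ k
  obtain ⟨rc⟩ := nonempty_rQ_comp u' r v.toImage hur
  let G : (Dual3.IsBddBelowQ Z).FullSubcategory ⥤ (Dual3.IsBddBelowQ Yb).FullSubcategory :=
    ObjectProperty.lift _ (Dual3.bddι Z ⋙ b) fun K => isBddBelowQ_a ψ adjψ _ K.property
  let G' : (Dual3.IsBddBelowQ Z).FullSubcategory ⥤ (Dual3.IsBddBelowQ Y).FullSubcategory :=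
    ObjectProperty.lift _ (Dual3.bddι Z ⋙ b ⋙ rQ k) fun K =>
      isBddBelowQ_rQ k _ (isBddBelowQ_a ψ adjψ _ K.property)
  let B' : Dual3.bddι Yb ⋙ a₂ ⋙ rQ r ≅ Dual3.bddι Yb ⋙ rQ k ⋙ ap :=
    Functor.isoWhiskerLeft (Dual3.bddι Yb ⋙ a₂) lr.symm ≪≫ B ≪≫
      Functor.isoWhiskerLeft (Dual3.bddι Yb) (Functor.isoWhiskerRight lk ap)
  exact ⟨E1 ≪≫ Functor.isoWhiskerLeft (Dual3.bddι Z)
      (Functor.isoWhiskerRight E2.symm (rQ v.toImage) ≪≫ Functor.isoWhiskerLeft (b ⋙ a₂) rc.symm) ≪≫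
    Functor.isoWhiskerLeft G (Functor.isoWhiskerRight B' (rQ u')) ≪≫
    Functor.isoWhiskerLeft G' I.symm⟩

/-- Flat base change of the twisted inverse image. -/
theorem nonempty_bc {X' Y' Xb Xb' : Scheme.{u}} {f : X ⟶ Y} {g : Y' ⟶ Y} {f' : X' ⟶ Y'} {g' : X' ⟶ X}
    (hsq : IsPullback g' f' f g) [Flat g] [Flat g'] [IsNoetherian Y] [IsNoetherian Y'] [IsNoetherian X]
    [IsNoetherian X'] [QuasiCompact g] [QuasiSeparated g]
    (j : X ⟶ Xb) [IsOpenImmersion j] (φ : Xb ⟶ Y) [IsProper φ] (hj : j ≫ φ = f)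
    (j' : X' ⟶ Xb') [IsOpenImmersion j'] (φ' : Xb' ⟶ Y') [IsProper φ'] (hj' : j' ≫ φ' = f')
    [DCoh.HasRpush φ] [DCoh.HasRpush φ'] {hφ : DCoh.RpushPreservesQCoh φ}
    {hφ' : DCoh.RpushPreservesQCoh φ'} {a : DCoh.DQCoh Y ⥤ DCoh.DQCoh Xb}
    {a' : DCoh.DQCoh Y' ⥤ DCoh.DQCoh Xb'} (adj : DCoh.RpushQ φ hφ ⊣ a) (adj' : DCoh.RpushQ φ' hφ' ⊣ a') :
    Nonempty (Dual3.bddι Y ⋙ a ⋙ rQ j ⋙ LQ g' ≅ Dual3.bddι Y ⋙ LQ g ⋙ a' ⋙ rQ j') := by
  let r := pullback.fst φ g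
  let p := pullback.snd φ g
  let e : X' ⟶ pullback φ g := pullback.lift (g' ≫ j) f' (by rw [Category.assoc, hj]; exact hsq.w)
  have her : e ≫ r = g' ≫ j := pullback.lift_fst _ _ _
  have hep : e ≫ p = f' := pullback.lift_snd _ _ _
  have hs : IsPullback g' (e ≫ p) (j ≫ φ) g := by rw [hep, hj]; exact hsq
  haveI : IsOpenImmersion e :=
    MorphismProperty.of_isPullback (P := @IsOpenImmersion)
      (hs.of_bot her.symm (IsPullback.of_hasPullback φ g)) ‹IsOpenImmersion j›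
  haveI : IsNoetherian (pullback φ g) := isNoetherian_of_ft p
  haveI : IsNoetherian Xb := isNoetherian_of_ft φ
  haveI := hasRpush_scheme p
  have hp : DCoh.RpushPreservesQCoh p := fun K hK => isQCohD_rpush p hK
  obtain ⟨ap, ⟨adjp⟩⟩ := exists_adj p hp
  obtain ⟨B⟩ := nonempty_bc_iso (IsPullback.of_hasPullback φ g) adj adjp
  obtain ⟨I⟩ := nonempty_indep e p j' φ' (hep.trans hj'.symm) adjp adj'
  obtain ⟨lj⟩ := nonempty_LQ_iso_rQ j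
  obtain ⟨le⟩ := nonempty_LQ_iso_rQ e
  obtain ⟨c₁⟩ := nonempty_LQ_comp g' j (g' ≫ j) rfl
  obtain ⟨c₂⟩ := nonempty_LQ_comp e r (g' ≫ j) her
  let C : rQ j ⋙ LQ g' ≅ LQ r ⋙ rQ e :=
    Functor.isoWhiskerRight lj.symm _ ≪≫ c₁ ≪≫ c₂.symm ≪≫ Functor.isoWhiskerLeft _ le
  let G : (Dual3.IsBddBelowQ Y).FullSubcategory ⥤ (Dual3.IsBddBelowQ Y').FullSubcategory :=
    ObjectProperty.lift _ (Dual3.bddι Y ⋙ LQ g) fun K => BCBdd.isBddBelowQ_LQ g _ K.property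
  exact ⟨Functor.isoWhiskerLeft (Dual3.bddι Y ⋙ a) C ≪≫ Functor.isoWhiskerRight B (rQ e) ≪≫
    Functor.isoWhiskerLeft G I⟩

/-- The twisted inverse image of a separated étale morphism is the pullback. -/
theorem nonempty_etale {Xb : Scheme.{u}} (f : X ⟶ Y) [Etale f] [IsSeparated f] [QuasiCompact f]
    (j : X ⟶ Xb) [IsOpenImmersion j] (φ : Xb ⟶ Y) [IsProper φ] (hj : j ≫ φ = f)
    [IsNoetherian X] [IsNoetherian Y]
    [DCoh.HasRpush φ] {hφ : DCoh.RpushPreservesQCoh φ} {a : DCoh.DQCoh Y ⥤ DCoh.DQCoh Xb}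
    (adj : DCoh.RpushQ φ hφ ⊣ a) :
    Nonempty (Dual3.bddι Y ⋙ a ⋙ rQ j ≅ Dual3.bddι Y ⋙ LQ f) := by
  let r := pullback.fst φ f
  let p := pullback.snd φ f
  let s : X ⟶ pullback φ f := pullback.lift j (𝟙 X) (by rw [hj, Category.id_comp])
  have hsr : s ≫ r = j := pullback.lift_fst _ _ _
  have hsp : s ≫ p = 𝟙 X := pullback.lift_snd _ _ _
  haveI : Etale (s ≫ r) := by rw [hsr]; infer_instance
  haveI : Etale s := Etale.of_comp s r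
  haveI : IsSplitMono s := ⟨⟨⟨p, hsp⟩⟩⟩
  haveI : IsOpenImmersion s := IsOpenImmersion.of_flat_of_mono s
  haveI : IsNoetherian (pullback φ f) := isNoetherian_of_ft p
  haveI : IsNoetherian Xb := isNoetherian_of_ft φ
  haveI := hasRpush_scheme p
  have hp : DCoh.RpushPreservesQCoh p := fun K hK => isQCohD_rpush p hK
  obtain ⟨ap, ⟨adjp⟩⟩ := exists_adj p hp
  obtain ⟨B⟩ := nonempty_bc_iso (IsPullback.of_hasPullback φ f) adj adjp
  obtain ⟨L⟩ := nonempty_section_iso s p (𝟙 X) hsp adjp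
  obtain ⟨i1⟩ := nonempty_rQ_id (𝟙 X) rfl
  obtain ⟨lj⟩ := nonempty_LQ_iso_rQ j
  obtain ⟨ls⟩ := nonempty_LQ_iso_rQ s
  obtain ⟨c⟩ := nonempty_LQ_comp s r j hsr
  let G : (Dual3.IsBddBelowQ Y).FullSubcategory ⥤ (Dual3.IsBddBelowQ X).FullSubcategory :=
    ObjectProperty.lift _ (Dual3.bddι Y ⋙ LQ f) fun K => BCBdd.isBddBelowQ_LQ f _ K.property
  exact ⟨Functor.isoWhiskerLeft (Dual3.bddι Y ⋙ a) (lj.symm ≪≫ c.symm ≪≫ Functor.isoWhiskerLeft _ ls) ≪≫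
    Functor.isoWhiskerRight B (rQ s) ≪≫ Functor.isoWhiskerLeft G L ≪≫
    Functor.isoWhiskerLeft (Dual3.bddι Y ⋙ LQ f) i1⟩

end Groth.Agent.KExact.BCComp
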