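import Mathlib.CategoryTheory.Adjunction.Unique
import Mathlib.CategoryTheory.Adjunction.Mates

/-!
# Base change maps of squares of adjunctions

For `e : G' ⋙ R ≅ R' ⋙ G` with `L ⊣ G`, `L' ⊣ G'`, the map `L R ⟶ R' L'`: independence of the adjunctions,
transport along isomorphisms of the functors, and horizontal and vertical composition of squares.
-/

universe v₁ v₂ v₃ v₄ v₅ v₆ u₁ u₂ u₃ u₄ u₅ u₆

open CategoryTheory

namespace Groth.Agent.KExact.BCMate

variable {CX : Type u₁} [Category.{v₁} CX] {CS : Type u₂} [Category.{v₂} CS]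
  {CX' : Type u₃} [Category.{v₃} CX'] {CS' : Type u₄} [Category.{v₄} CS']
  {R : CX ⥤ CS} {R' : CX' ⥤ CS'} {G : CS' ⥤ CS} {G' : CX' ⥤ CX} {L : CS ⥤ CS'} {L' : CX ⥤ CX'}

/-- The base change map of a square of adjunctions. -/
def bc (A : L ⊣ G) (A' : L' ⊣ G') (e : G' ⋙ R ≅ R' ⋙ G) (K : CX) :
    L.obj (R.obj K) ⟶ R'.obj (L'.obj K) :=
  (A.homEquiv _ _).symm (R.map (A'.unit.app K) ≫ e.hom.app (L'.obj K))

variable (A : L ⊣ G) (A' : L' ⊣ G') (e : G' ⋙ R ≅ R' ⋙ G)

lemma homEquiv_bc (K : CX) :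
    A.homEquiv _ _ (bc A A' e K) = R.map (A'.unit.app K) ≫ e.hom.app (L'.obj K) :=
  Equiv.apply_symm_apply _ _

/-- The base change map as a natural transformation. -/
def bcTrans : R ⋙ L ⟶ L' ⋙ R' where
  app K := bc A A' e K
  naturality {K₁ K₂} i := by
    refine (A.homEquiv _ _).injective ?_
    dsimp only [Functor.comp_map, Functor.comp_obj]
    rw [A.homEquiv_naturality_left, A.homEquiv_naturality_right, homEquiv_bc, homEquiv_bc]
    have h : i ≫ A'.unit.app K₂ = A'.unit.app K₁ ≫ G'.map (L'.map i) := A'.unit.naturality i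
    rw [← R.map_comp_assoc, h, R.map_comp_assoc, Category.assoc]
    exact congrArg (R.map (A'.unit.app K₁) ≫ ·) (e.hom.naturality (L'.map i))

/-- Invertibility does not depend on the adjunctions. -/
theorem isIso_bc_iff {L₂ : CS ⥤ CS'} {L₂' : CX ⥤ CX'} (B : L₂ ⊣ G) (B' : L₂' ⊣ G') (K : CX) :
    IsIso (bc A A' e K) ↔ IsIso (bc B B' e K) := by
  let σ := A.leftAdjointUniq B
  let σ' := A'.leftAdjointUniq B'
  have h : bc A A' e K ≫ R'.map (σ'.hom.app K) = σ.hom.app (R.obj K) ≫ bc B B' e K := by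
    refine (A.homEquiv _ _).injective ?_
    rw [A.homEquiv_naturality_right, homEquiv_bc]
    have h1 : A.homEquiv _ _ (σ.hom.app (R.obj K) ≫ bc B B' e K) = B.homEquiv _ _ (bc B B' e K) := by
      rw [A.homEquiv_unit, B.homEquiv_unit, G.map_comp, ← Category.assoc]
      exact congrArg (· ≫ G.map (bc B B' e K)) (Adjunction.unit_leftAdjointUniq_hom_app A B _)
    rw [h1, homEquiv_bc, ← Adjunction.unit_leftAdjointUniq_hom_app A' B' K, R.map_comp]
    simp only [Category.assoc]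
    exact congrArg (R.map (A'.unit.app K) ≫ ·) (e.hom.naturality (σ'.hom.app K)).symm
  constructor
  · intro hi
    haveI : IsIso (σ.hom.app (R.obj K) ≫ bc B B' e K) := h ▸ inferInstance
    exact IsIso.of_isIso_comp_left (σ.hom.app (R.obj K)) _
  · intro hi
    haveI : IsIso (bc A A' e K ≫ R'.map (σ'.hom.app K)) := h ▸ inferInstance
    exact IsIso.of_isIso_comp_right _ (R'.map (σ'.hom.app K))

/-- Transport along isomorphisms of the four functors. -/
theorem isIso_bc_transport {R₂ : CX ⥤ CS} {R₂' : CX' ⥤ CS'} {G₂ : CS' ⥤ CS} {G₂' : CX' ⥤ CX}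
    (d : R ≅ R₂) (d' : R' ≅ R₂') (c : G ≅ G₂) (c' : G' ≅ G₂') (e₂ : G₂' ⋙ R₂ ≅ R₂' ⋙ G₂)
    (h : ∀ M, R.map (c'.hom.app M) ≫ d.hom.app (G₂'.obj M) ≫ e₂.hom.app M =
      e.hom.app M ≫ G.map (d'.hom.app M) ≫ c.hom.app (R₂'.obj M))
    {L₂ : CS ⥤ CS'} {L₂' : CX ⥤ CX'} (B : L₂ ⊣ G₂) (B' : L₂' ⊣ G₂') (K : CX) :
    IsIso (bc A A' e K) ↔ IsIso (bc B B' e₂ K) := by
  let A₂ := A.ofNatIsoRight c
  let A₂' := A'.ofNatIsoRight c'
  rw [← isIso_bc_iff A₂ A₂' e₂ B B' K]
  have hu : ∀ {X : CS} {Y : CS'} (φ : L.obj X ⟶ Y), A₂.homEquiv X Y φ = A.homEquiv X Y φ ≫ c.hom.app Y :=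
    fun φ => A.homEquiv_ofNatIsoRight_apply c φ
  have hv : A₂'.unit.app K = A'.unit.app K ≫ c'.hom.app (L'.obj K) := by
    rw [← A₂'.homEquiv_id, ← A'.homEquiv_id]
    exact A'.homEquiv_ofNatIsoRight_apply c' _
  have key : L.map (d.hom.app K) ≫ bc A₂ A₂' e₂ K = bc A A' e K ≫ d'.hom.app (L'.obj K) := by
    refine (A₂.homEquiv _ _).injective ?_
    rw [A₂.homEquiv_naturality_left, homEquiv_bc, hu, A.homEquiv_naturality_right, homEquiv_bc, hv]
    rw [← Category.assoc (d.hom.app K), ← d.hom.naturality, R.map_comp]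
    simp only [Category.assoc]
    exact congrArg (R.map (A'.unit.app K) ≫ ·) (h (L'.obj K))
  constructor
  · intro hi
    haveI : IsIso (L.map (d.hom.app K) ≫ bc A₂ A₂' e₂ K) := key ▸ inferInstance
    exact IsIso.of_isIso_comp_left (L.map (d.hom.app K)) _
  · intro hi
    haveI : IsIso (bc A A' e K ≫ d'.hom.app (L'.obj K)) := key ▸ inferInstance
    exact IsIso.of_isIso_comp_right _ (d'.hom.app (L'.obj K))

section Horizontal

variable {CX'' : Type u₅} [Category.{v₅} CX''] {CS'' : Type u₆} [Category.{v₆} CS''] {R'' : CX'' ⥤ CS''}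
  {V : CS'' ⥤ CS'} {V' : CX'' ⥤ CX'} {M : CS' ⥤ CS''} {M' : CX' ⥤ CX''}
  (B : M ⊣ V) (B' : M' ⊣ V') (ev : V' ⋙ R' ≅ R'' ⋙ V)

/-- Horizontal composition of squares. -/
def hcomp : (V' ⋙ G') ⋙ R ≅ R'' ⋙ (V ⋙ G) :=
  Functor.associator _ _ _ ≪≫ Functor.isoWhiskerLeft V' e ≪≫ (Functor.associator _ _ _).symm ≪≫
    Functor.isoWhiskerRight ev G ≪≫ Functor.associator _ _ _

lemma hcomp_app (N : CX'') : (hcomp e ev).hom.app N = e.hom.app (V'.obj N) ≫ G.map (ev.hom.app N) := by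
  simp [hcomp]

/-- Base change of a horizontal composite. -/
theorem bc_hcomp (K : CX) : bc (A.comp B) (A'.comp B') (hcomp e ev) K =
    M.map (bc A A' e K) ≫ bc B B' ev (L'.obj K) := by
  refine ((A.comp B).homEquiv _ _).injective ?_
  rw [homEquiv_bc, hcomp_app, A.comp_homEquiv B]
  dsimp only [Equiv.trans_apply, Functor.comp_obj, Functor.comp_map]
  rw [B.homEquiv_naturality_left, A.homEquiv_naturality_right, homEquiv_bc, homEquiv_bc]
  have hu : (A'.comp B').unit.app K = A'.unit.app K ≫ G'.map (B'.unit.app (L'.obj K)) := by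
    simp [Adjunction.comp_unit_app]
  rw [hu]
  erw [R.map_comp]
  simp only [Category.assoc, Functor.map_comp]
  refine congrArg (R.map (A'.unit.app K) ≫ ·) ?_
  exact (reassoc_of% (e.hom.naturality (B'.unit.app (L'.obj K)))) _

end Horizontal

section Vertical

variable {CW : Type u₅} [Category.{v₅} CW] {CW' : Type u₆} [Category.{v₆} CW']
  {J : CW ⥤ CX} {J' : CW' ⥤ CX'} {H : CW' ⥤ CW} {N : CW ⥤ CW'} (C : N ⊣ H) (ej : H ⋙ J ≅ J' ⋙ G')

/-- Vertical composition of squares. -/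
def vcomp : H ⋙ (J ⋙ R) ≅ (J' ⋙ R') ⋙ G :=
  (Functor.associator _ _ _).symm ≪≫ Functor.isoWhiskerRight ej R ≪≫ Functor.associator _ _ _ ≪≫
    Functor.isoWhiskerLeft J' e ≪≫ (Functor.associator _ _ _).symm

lemma vcomp_app (P : CW') : (vcomp e ej).hom.app P = R.map (ej.hom.app P) ≫ e.hom.app (J'.obj P) := by
  simp [vcomp]

/-- Base change of a vertical composite. -/
theorem bc_vcomp (F : CW) : bc A C (vcomp e ej) F = bc A A' e (J.obj F) ≫ R'.map (bc A' C ej F) := by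
  refine (A.homEquiv _ _).injective ?_
  rw [homEquiv_bc, vcomp_app, A.homEquiv_naturality_right]
  rw [show A.homEquiv ((J ⋙ R).obj F) _ (bc A A' e (J.obj F)) = _ from homEquiv_bc A A' e (J.obj F)]
  have h1 : J.map (C.unit.app F) ≫ ej.hom.app (N.obj F) =
      A'.unit.app (J.obj F) ≫ G'.map (bc A' C ej F) :=
    (homEquiv_bc A' C ej F).symm.trans (A'.homEquiv_unit ..)
  dsimp only [Functor.comp_map, Functor.comp_obj]
  rw [← Category.assoc, ← R.map_comp, h1, R.map_comp]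
  simp only [Category.assoc]
  exact congrArg (R.map (A'.unit.app (J.obj F)) ≫ ·) (e.hom.naturality (bc A' C ej F))

end Vertical

end Groth.Agent.KExact.BCMate
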