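import Groth.Agent.KExact.BidualCharts
import Groth.Agent.KFlatLib.Scheme.LocalDevissage
import Groth.Agent.KFlatLib.Scheme.CohD

/-!
# Biduality into a dualizing complex of a scheme
-/

set_option autoImplicit false
set_option linter.style.haveILetI false
set_option backward.isDefEq.respectTransparency false
set_option backward.isDefEq.respectTransparency.types false

universe u

open CategoryTheory CategoryTheory.Limits AlgebraicGeometry

attribute [local instance] HasDerivedCategory.standard

namespace Groth.Agent.KExact.Bidual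

open KFlatLib DualConn

variable {X : Scheme.{u}}

/-- An isomorphism on cohomology in one degree can be checked locally. -/
lemma isIso_homologyMap_of_local {A B : CochainComplex X.Modules ℤ} (φ : A ⟶ B) (i : ℤ)
    (h : ∀ x : X, ∃ (U : Scheme.{u}) (j : U ⟶ X) (_ : IsOpenImmersion j),
      x ∈ Set.range j.base ∧ IsIso (HomologicalComplex.homologyMap ((rCx j).map φ) i)) :
    IsIso (HomologicalComplex.homologyMap φ i) := by
  refine isIso_of_stalk _ fun x => ?_
  obtain ⟨U, j, hj, ⟨v, rfl⟩, hq⟩ := h x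
  have hi : IsIso ((Scheme.Modules.restrictFunctor j).map (HomologicalComplex.homologyMap φ i)) := by
    have h₁ : IsIso (((Scheme.Modules.restrictFunctor j).mapShortComplex ⋙
        ShortComplex.homologyFunctor U.Modules).map
          ((HomologicalComplex.shortComplexFunctor X.Modules (ComplexShape.up ℤ) i).map φ)) := hq
    exact (NatIso.isIso_map_iff (ShortComplex.homologyFunctorIso (Scheme.Modules.restrictFunctor j))
      ((HomologicalComplex.shortComplexFunctor X.Modules (ComplexShape.up ℤ) i).map φ)).1 h₁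
  have hb := ConcreteCategory.bijective_of_isIso ((DerSch.stalkFunctor U v).map
    ((Scheme.Modules.restrictFunctor j).map (HomologicalComplex.homologyMap φ i)))
  exact (ConcreteCategory.isIso_iff_bijective _).2
    ⟨injective_stalk_of_restrict j _ v hb.1, surjective_stalk_of_restrict j _ v hb.2⟩

/-- Quasi-isomorphisms are detected degreewise. -/
lemma quasiIso_iff_isIso_homologyMap {C : Type*} [Category C] [Abelian C] {A B : CochainComplex C ℤ}
    (g : A ⟶ B) : QuasiIso g ↔ ∀ i, IsIso (HomologicalComplex.homologyMap g i) :=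
  ⟨fun _ i => (quasiIsoAt_iff_isIso_homologyMap g i).1 inferInstance,
    fun h => ⟨fun i => (quasiIsoAt_iff_isIso_homologyMap g i).2 (h i)⟩⟩

variable (J : CochainComplex X.Modules ℤ) [J.IsKInjective] [∀ n, Injective (J.X n)]
  (c : (DCoh.tensorCx.obj ((HomologicalComplex.single X.Modules (ComplexShape.up ℤ) 0).obj
    (Coh.structureModule X))).obj J ⟶ J)

/-- The coevaluation map is a quasi-isomorphism at extensions by zero of bounded free complexes. -/
lemma quasiIso_coevalMap_lsh (hc : QuasiIso ((iHomAdj J).homEquiv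
      ((HomologicalComplex.single X.Modules (ComplexShape.up ℤ) 0).obj (Coh.structureModule X)) J c))
    {W : Scheme.{u}} (l : W ⟶ X) [IsOpenImmersion l] (P : CochainComplex W.Modules ℤ) (lo hi : ℤ)
    (hz : ∀ k, (k < lo ∨ hi < k) → IsZero (P.X k)) (hfree : ∀ k, ∃ n, Nonempty (P.X k ≅ FlatMod.freeMod W n)) :
    QuasiIso ((rCx l).map (coevalMap _ J J c ((lshCx l).obj P))) := by
  let O := (HomologicalComplex.single X.Modules (ComplexShape.up ℤ) 0).obj (Coh.structureModule X)
  let Φ : ObjectProperty (CochainComplex X.Modules ℤ) := fun P =>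
    QuasiIso ((rCx l).map (coevalMap O J J c P))
  have hq : ∀ {A B : CochainComplex X.Modules ℤ} (g : A ⟶ B), QuasiIso ((rCx l).map g) → (Φ A ↔ Φ B) :=
    fun {A B} g hg => by
      haveI := hg
      refine (quasiIso_iff_isIso_homologyMap _).trans (Iff.trans ?_ (quasiIso_iff_isIso_homologyMap _).symm)
      exact forall_congr' fun i => isIso_coevalMap_iff_of_quasiIso g i
  haveI : Φ.IsClosedUnderIsomorphisms := ⟨fun {A B} e h =>
    (hq e.hom (haveI : IsIso ((rCx l).map e.hom) := inferInstance; inferInstance)).1 h⟩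
  have hR : ∀ p, FlatMod.IsFlat (O.X p) := fun p =>
    isFlat_single 0 (IsFlat.of_iso (coproductUniqueIso (fun _ : Fin 1 => Coh.structureModule X))
      (isFlat_freeMod 1)) p
  have h0 : ∀ P, IsZero P → Φ P := fun P hP =>
    quasiIso_of_isZero _ ((rCx l).map_isZero ((DCoh.tensorCx.obj O).map_isZero hP))
      ((rCx l).map_isZero (isZero_iHom (isZero_iHom hP J) J))
  have h1 : ∀ n, Φ ((HomologicalComplex.single X.Modules (ComplexShape.up ℤ) n).obj
      (Coh.structureModule X)) := fun n => by
    haveI := quasiIso_coevalMap_single O J J c hc n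
    change QuasiIso ((rCx l).map _)
    infer_instance
  have h2 : ∀ S : ShortComplex (CochainComplex X.Modules ℤ),
      (∀ n, Nonempty (S.map (HomologicalComplex.eval _ _ n)).Splitting) →
        (∀ i, FlatMod.IsFlat (S.X₃.X i)) → Φ S.X₁ → Φ S.X₃ → Φ S.X₂ := fun S hS hF hl hr => by
    obtain ⟨w₁, hH⟩ := Inner.innerHom_shortExact (DCoh.tensorBi (X := X)) S hS J
    let T := ShortComplex.mk ((iHomMap S.g).app J) ((iHomMap S.f).app J) w₁
    haveI : ∀ n, Injective (T.X₁.X n) := fun n =>
      Inner.injective_innerHom_X (DCoh.tensorBi (X := X)) S.X₃ (fun q => flatObj_of_isFlat (hF q)) J n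
    obtain ⟨w₂, hJ⟩ := Inner.innerHom_shortExact (DCoh.tensorBi (X := X)) T
      (fun n => haveI : Injective ((T.map (HomologicalComplex.eval X.Modules (ComplexShape.up ℤ) n)).X₁) :=
          inferInstanceAs (Injective (T.X₁.X n))
        ⟨splittingOfInjective (hH.map_of_exact (HomologicalComplex.eval _ _ n))⟩) J
    let T₁ := S.map (DCoh.tensorBi.map₂CochainComplex.obj O)
    have hS' : S.ShortExact := HomologicalComplex.shortExact_of_degreewise_shortExact S
      fun n => (hS n).some.shortExact
    let T₂ := ShortComplex.mk ((iHomMap T.g).app J) ((iHomMap T.f).app J) w₂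
    let φ : T₁.map (rCx l) ⟶ T₂.map (rCx l) :=
      { τ₁ := (rCx l).map (coevalMap O J J c S.X₁)
        τ₂ := (rCx l).map (coevalMap O J J c S.X₂)
        τ₃ := (rCx l).map (coevalMap O J J c S.X₃)
        comm₁₂ := by
          refine ((rCx l).map_comp _ _).symm.trans (Eq.trans ?_ ((rCx l).map_comp _ _))
          exact congrArg _ (coevalMap_naturality O J J c S.f).symm
        comm₂₃ := by
          refine ((rCx l).map_comp _ _).symm.trans (Eq.trans ?_ ((rCx l).map_comp _ _))
          exact congrArg _ (coevalMap_naturality O J J c S.g).symm }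
    exact quasiIso_τ₂' φ ((shortExact_tensorCx_of_flat O hR hS').map_of_exact _)
      (hJ.map_of_exact _) hl hr
  let Ψ : ObjectProperty (CochainComplex W.Modules ℤ) := fun C => Φ ((lshCx l).obj C)
  haveI : Ψ.IsClosedUnderIsomorphisms := ⟨fun e h => Φ.prop_of_iso ((lshCx l).mapIso e) h⟩
  refine cx_devissage Ψ (fun C hC => h0 _ (Functor.map_isZero _ hC))
    (fun S hS hF h₁ h₃ => h2 (S.map (lshCx l)) (fun n => ⟨((hS n).some.map (lsh l))⟩)
      (fun i => isFlat_lsh l (hF i)) h₁ h₃)
    (fun n => ?_) lo ((hi + 1 - lo).toNat) P (fun k hk => hz k (by omega)) hfree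
  let e₁ : (rCx l).obj ((HomologicalComplex.single X.Modules (ComplexShape.up ℤ) n).obj
      (Coh.structureModule X)) ≅
      (HomologicalComplex.single W.Modules (ComplexShape.up ℤ) n).obj (Coh.structureModule W) :=
    (HomologicalComplex.singleMapHomologicalComplex (Scheme.Modules.restrictFunctor l) _ n).app _ ≪≫
      (HomologicalComplex.single _ _ n).mapIso (restrictStructureIso l)
  exact Φ.prop_of_iso ((lshCx l).mapIso e₁)
    ((hq ((lshCxAdj l).counit.app _)
      (haveI := isIso_rCx_map_lshCx_counit l ((HomologicalComplex.single X.Modules (ComplexShape.up ℤ) n).obj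
        (Coh.structureModule X)); inferInstance)).2 (h1 n))

/-- Biduality: the coevaluation map at an object with coherent cohomology is a quasi-isomorphism. -/
theorem quasiIso_coevalMap_of_isCohD [IsLocallyNoetherian X] (hc : QuasiIso ((iHomAdj J).homEquiv
      ((HomologicalComplex.single X.Modules (ComplexShape.up ℤ) 0).obj (Coh.structureModule X)) J c))
    (hb : ∀ x : X, ∃ (U : Scheme.{u}) (j : U ⟶ X) (_ : IsOpenImmersion j),
      x ∈ Set.range j.base ∧ ∃ a b, BoundedOn j J a b)
    (L : CochainComplex X.Modules ℤ) (hL : DCoh.IsCohD (DCoh.toD X L)) :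
    QuasiIso (coevalMap _ J J c L) := by
  refine (quasiIso_iff_isIso_homologyMap _).2 fun i => isIso_homologyMap_of_local _ i fun x => ?_
  obtain ⟨U, j, hj, ⟨y, rfl⟩, a, b, hJ⟩ := hb x
  let N : ℤ := i + max (b - a) 0 + 10
  let m : ℤ := i - max (b - a) 0 - 10
  let L' := L.truncLE N
  have hcoh : DCoh.IsCohD (DerivedCategory.Q.obj L') := fun k => by
    refine isCoh_of_iso ((DerivedCategory.homologyFunctorFactors X.Modules k).app _).symm ?_
    by_cases hk : k ≤ N
    · haveI := L.quasiIsoAt_ιTruncLE N k hk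
      exact isCoh_of_iso ((DerivedCategory.homologyFunctorFactors X.Modules k).app L ≪≫
        (isoOfQuasiIsoAt (L.ιTruncLE N) k).symm) (hL k)
    · exact isCoh_of_isZero ((HomologicalComplex.exactAt_iff_isZero_homology _ k).1
        ((L.truncLE N).exactAt_of_isLE N k (by omega)))
  haveI : (DerivedCategory.Q.obj L').IsLE N := (DerivedCategory.isLE_Q_obj_iff _ N).2 inferInstance
  have hpc := (locPC_of_coh (isCohD_isQCohD hcoh) (fun k _ => hcoh k) (m := m) N
    fun k hk => DerivedCategory.isZero_of_isLE _ N k hk).restrict j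
  obtain ⟨V, i₀, _, ⟨v, hv⟩, P, α, hP, hα⟩ := hpc y
  obtain ⟨W, hvW, hW⟩ := exists_free_nhd_sp hP v
  let l : (W : Scheme.{u}) ⟶ X := (W.ι ≫ i₀) ≫ j
  refine ⟨W, l, inferInstance, ⟨⟨v, hvW⟩, ?_⟩, ?_⟩
  · change j.base (i₀.base v) = _
    rw [hv]
  have hJl : BoundedOn l J a b := boundedOn_comp (W.ι ≫ i₀) l rfl hJ
  -- the truncation
  have hι : LoIso l (L.ιTruncLE N) N := fun k hk => by
    have h := (quasiIsoAt_iff_isIso_homologyMap _ _).1 (L.quasiIsoAt_ιTruncLE N k hk.le)
    haveI : IsIso (((HomologicalComplex.shortComplexFunctor X.Modules (ComplexShape.up ℤ) k) ⋙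
        ShortComplex.homologyFunctor X.Modules).map (L.ιTruncLE N)) := h
    exact (NatIso.isIso_map_iff (Functor.isoWhiskerLeft
      (HomologicalComplex.shortComplexFunctor X.Modules (ComplexShape.up ℤ) k)
      (ShortComplex.homologyFunctorIso (Scheme.Modules.restrictFunctor l))) (L.ιTruncLE N)).2
      (inferInstanceAs (IsIso ((Scheme.Modules.restrictFunctor l).map
        (HomologicalComplex.homologyMap (L.ιTruncLE N) k))))
  refine (isIso_coevalMap_iff_of_loIso hJl _ hι i (by omega) (by omega)).1 ?_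
  -- a free model
  let P' := (rCx W.ι).obj P
  let e : (rho W.ι).obj ((rho i₀).obj ((rho j).obj (DerivedCategory.Q.obj L'))) ≅
      DerivedCategory.Q.obj ((rCx l).obj L') :=
    rhoComp W.ι i₀ (W.ι ≫ i₀) rfl _ ≪≫ rhoComp (W.ι ≫ i₀) j l rfl _ ≪≫ (rhoQ l).app L'
  let α' : DerivedCategory.Q.obj P' ⟶ DerivedCategory.Q.obj ((rCx l).obj L') :=
    ((rhoQ W.ι).app P).inv ≫ (rho W.ι).map α ≫ e.hom
  have hα' : IsPcMap m α' := (hα.map_exact _).comp_iso _ _
  obtain ⟨B, s, hB, hs⟩ := exists_kInjective_res ((rCx l).obj L')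
  haveI := hs
  haveI := isIso_Q_map s hs
  obtain ⟨a₀, ha₀⟩ := exists_Q_map (α' ≫ DerivedCategory.Q.map s)
  have hpcm : IsPcMap m (DerivedCategory.Q.map a₀) := ha₀ ▸ hα'.comp (isPcMap_of_isIso m _)
  haveI : ∀ C, IsIso ((lshCxAdj l).unit.app C) := fun C =>
    haveI : ∀ i, IsIso (((lshCxAdj l).unit.app C).f i) := fun i =>
      inferInstanceAs (IsIso ((lshAdj l).unit.app _))
    HomologicalComplex.Hom.isIso_of_components _
  haveI := NatIso.isIso_of_isIso_app (lshCxAdj l).unit
  have hg : HiIso l ((lshCx l).map a₀) m := fun k hk =>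
    (NatIso.isIso_map_iff (Functor.isoWhiskerRight (asIso (lshCxAdj l).unit)
      (HomologicalComplex.homologyFunctor (W : Scheme.{u}).Modules (ComplexShape.up ℤ) k)) a₀).1
      ((NatIso.isIso_map_iff (DerivedCategory.homologyFunctorFactors (W : Scheme.{u}).Modules k) a₀).1
        (hpcm.1 k hk))
  haveI := isIso_rCx_map_lshCx_counit l L'
  haveI := quasiIso_rCx_map_lshCx l s
  refine (isIso_coevalMap_iff_of_quasiIso ((lshCxAdj l).counit.app L') i).1
    ((isIso_coevalMap_iff_of_quasiIso ((lshCx l).map s) i).2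
      ((isIso_coevalMap_iff_of_hiIso hJl ((lshCx l).map a₀) hg i (by omega) (by omega)).1 ?_))
  obtain ⟨lo, hi, hab⟩ := hP.1
  haveI := quasiIso_coevalMap_lsh J c hc l P' lo hi
    (fun k hk => Functor.map_isZero (Scheme.Modules.restrictFunctor W.ι) (hab k hk)) hW
  exact (quasiIso_iff_isIso_homologyMap _).1 inferInstance i

end Groth.Agent.KExact.Bidual
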