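import Groth.Agent.KExact.AffineRHom
import Groth.Agent.KFlatLib.Ring.Dualizing
import Groth.Agent.KExact.DualConn

/-!
# The unit of `iHom(J, J)` for a complex representing a dualizing complex of an affine scheme
-/

set_option autoImplicit false
set_option linter.style.haveILetI false
set_option backward.isDefEq.respectTransparency false
set_option backward.isDefEq.respectTransparency.types false

universe u

open CategoryTheory CategoryTheory.Limits AlgebraicGeometry MonoidalCategory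

attribute [local instance] HasDerivedCategory.standard

namespace Groth.Agent.KExact.Bidual

open KFlatLib TildeTensor AffineRHom

/-- Transport of split monomorphisms along isomorphisms. -/
lemma isSplitMono_of_comp_eq {C : Type*} [Category C] {A B A' B' : C} (e₁ : A ≅ A') (e₂ : B ≅ B')
    (f : A ⟶ B) (g : A' ⟶ B') (w : f ≫ e₂.hom = e₁.hom ≫ g) [IsSplitMono f] : IsSplitMono g := by
  have hg : g = e₁.inv ≫ f ≫ e₂.hom := by rw [w, Iso.inv_hom_id_assoc]
  refine IsSplitMono.mk' ⟨e₂.inv ≫ retraction f ≫ e₁.hom, ?_⟩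
  rw [hg]
  simp

/-- The first of two maps with split monic composite is a split monomorphism. -/
lemma isSplitMono_left {C : Type*} [Category C] {A B D : C} (f : A ⟶ B) (g : B ⟶ D)
    (h : IsSplitMono (f ≫ g)) : IsSplitMono f :=
  IsSplitMono.mk' ⟨g ≫ retraction (f ≫ g), by rw [← Category.assoc, IsSplitMono.id]⟩

/-- Transport of split monomorphisms along a natural isomorphism. -/
lemma isSplitMono_natIso {C D : Type*} [Category C] [Category D] {F G : C ⥤ D} (α : F ≅ G) {X Y : C}
    (f : X ⟶ Y) (h : IsSplitMono (F.map f)) : IsSplitMono (G.map f) :=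
  @isSplitMono_of_comp_eq _ _ _ _ _ _ (α.app X) (α.app Y) _ _ (α.hom.naturality f) h

variable {R : CommRingCat.{u}}

/-- A scalar which is a split monomorphism on a dualizing complex is a unit. -/
lemma isUnit_of_isSplitMono {ω : Dual.D R} (hω : Dual.IsDualizing R ω) (a : R)
    [IsSplitMono (a • 𝟙 ω)] : IsUnit a := by
  obtain ⟨b, hb⟩ := hω.toEnd_bijective.2 (retraction (a • 𝟙 ω))
  have h : (a • 𝟙 ω) ≫ retraction (a • 𝟙 ω) = 𝟙 ω := IsSplitMono.id _
  simp only at hb
  rw [← hb, Linear.smul_comp, Category.id_comp, smul_smul] at h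
  exact .of_mul_eq_one b (hω.toEnd_bijective.1 (h.trans (one_smul R (𝟙 ω)).symm))

/-- An endomorphism of `A[0]` is a scalar. -/
lemma exists_smul_eq (f : DerivedCategory.Q.obj ((HomologicalComplex.single (ModuleCat.{u} R)
      (ComplexShape.up ℤ) 0).obj (ModuleCat.of R R)) ⟶ DerivedCategory.Q.obj
        ((HomologicalComplex.single (ModuleCat.{u} R) (ComplexShape.up ℤ) 0).obj (ModuleCat.of R R))) :
    ∃ a : R, DerivedCategory.Q.map (a • 𝟙 _) = f := by
  let e := (DerivedCategory.singleFunctorIsoCompQ (ModuleCat.{u} R) 0).app (ModuleCat.of R R)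
  obtain ⟨g, hg⟩ := (DerivedCategory.singleFunctor (ModuleCat.{u} R) 0).map_surjective
    (e.hom ≫ f ≫ e.inv)
  let a : R := g.hom (1 : R)
  have hg' : g = a • 𝟙 (ModuleCat.of R R) := ModuleCat.hom_ext (LinearMap.ext_ring (by simp [a]))
  refine ⟨a, ?_⟩
  have h := (DerivedCategory.singleFunctorIsoCompQ (ModuleCat.{u} R) 0).hom.naturality g
  rw [hg, Category.assoc, Category.assoc] at h
  erw [e.inv_hom_id, Category.comp_id, cancel_epi e.hom] at h
  rw [h, hg']
  change DerivedCategory.Q.map _ = DerivedCategory.Q.map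
    ((HomologicalComplex.single (ModuleCat.{u} R) (ComplexShape.up ℤ) 0).map (a • 𝟙 (ModuleCat.of R R)))
  congr 1
  refine HomologicalComplex.from_single_hom_ext ?_
  rw [HomologicalComplex.single_map_f_self, HomologicalComplex.smul_f_apply, HomologicalComplex.id_f,
    Linear.smul_comp, Linear.comp_smul, Category.id_comp, Iso.hom_inv_id]

/-- `- ⊗ P` is linear. -/
lemma tenCx_map_smul (P : DRing.Cx R) {Z Z' : DRing.Cx R} (g : Z' ⟶ Z) (a : R) :
    (tenCx P).map (a • g) = a • (tenCx P).map g := by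
  refine HomologicalComplex.hom_ext _ _ fun n => H9Misc.DRingHomTensor.hom_ext fun p q h x y => ?_
  rw [HomologicalComplex.smul_f_apply]
  refine (tenCx_map_pure (P := P) (a • g) p q n h x y).trans ?_
  refine Eq.trans ?_ (congrArg (a • ·) (tenCx_map_pure (P := P) g p q n h x y)).symm
  simp [HomologicalComplex.smul_f_apply]

variable [PreservesFiniteLimits (tilde.functor R)] [IsNoetherianRing R]

set_option maxHeartbeats 1000000 in
/-- The unit of `iHom(J, J)` is a quasi-isomorphism if it becomes a split monomorphism after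
tensoring with `J`. -/
theorem quasiIso_unit {ω : Dual.D R} (hω : Dual.IsDualizing R ω)
    (J : CochainComplex (Spec R).Modules ℤ) [J.IsKInjective] [∀ n, Injective (J.X n)]
    (eJ : DerivedCategory.Q.obj J ≅ (DCoh.tildeD R).obj ω)
    {H : CochainComplex (Spec R).Modules ℤ}
    (t : (HomologicalComplex.single (Spec R).Modules (ComplexShape.up ℤ) 0).obj
      (Coh.structureModule (Spec R)) ⟶ H)
    (eH : DerivedCategory.Q.obj H ≅ DerivedCategory.Q.obj ((iHom J).obj J))
    (hsplit : IsSplitMono ((Inner.tenX DCoh.tensorBi J).map t)) : QuasiIso t := by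
  haveI := hasLTen (R : Type u)
  haveI := hasRHom (A := (R : Type u))
  haveI : (tilde.functor R).Additive := tilde_additive _
  let T : CochainComplex (ModuleCat.{u} R) ℤ ⥤ CochainComplex (Spec R).Modules ℤ :=
    (tilde.functor R).mapHomologicalComplex (ComplexShape.up ℤ)
  let R₀ := (HomologicalComplex.single (ModuleCat.{u} R) (ComplexShape.up ℤ) 0).obj (ModuleCat.of R R)
  let P₀ := DerivedCategory.Q.objPreimage ω
  let P' := (ringCover R).P.obj P₀
  haveI := (ringCover R).quasiIso_ψ P₀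
  haveI : IsIso (DerivedCategory.Q.map ((ringCover R).ψ.app P₀)) :=
    (DerivedCategory.isIso_Q_map_iff_quasiIso _ _).2 inferInstance
  let eω : DerivedCategory.Q.obj P' ≅ ω :=
    asIso (DerivedCategory.Q.map ((ringCover R).ψ.app P₀)) ≪≫ DerivedCategory.Q.objObjPreimageIso ω
  let P : CochainComplex (Spec R).Modules ℤ := T.obj P'
  have hP : DCoh.IsKFlat P := isKFlat_tilde P' (kFlat_ringRes P₀)
  let eP : DerivedCategory.Q.obj P ≅ DerivedCategory.Q.obj J :=
    (tildeQ P').symm ≪≫ (DCoh.tildeD R).mapIso eω ≪≫ eJ.symm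
  obtain ⟨ψ, hψ⟩ := exists_Q_map eP.hom
  haveI : QuasiIso ψ :=
    (DerivedCategory.isIso_Q_map_iff_quasiIso _ _).1 (hψ ▸ inferInstance)
  -- `iHom(J, J)` is `A^~`
  haveI := hasLTensorCx P
  haveI := hasRSheafHom_of_isKFlat P hP
  haveI := H9Misc.DRingHomCx.hasRHomCx P'
  have hfin : ∀ i : ℤ, Module.Finite R (Dual.HD R (DRing.toD P') i) := fun i =>
    haveI := hω.finite_cohomology i
    Module.Finite.equiv ((DerivedCategory.homologyFunctor _ i).mapIso eω.symm).toLinearEquiv
  obtain ⟨a, b, hab⟩ := finiteInjDim_of_isDualizing hω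
  obtain ⟨e₁⟩ := nonempty_RSheafHom_tilde_iso P' hfin ω ⟨a, b, hab⟩ P (tildeQ P').symm
  obtain ⟨e₂⟩ := nonempty_RHomCx_iso P' ω
  obtain ⟨e₃⟩ := nonempty_RHom_self_iso hω
  obtain ⟨e₄⟩ := nonempty_RSheafHom_iso P J
  haveI := quasiIso_iHomMap ψ J
  haveI := isIso_Q_map ((iHomMap ψ).app J) inferInstance
  let s : DerivedCategory.Q.obj H ≅ DerivedCategory.Q.obj (T.obj R₀) :=
    eH ≪≫ asIso (DerivedCategory.Q.map ((iHomMap ψ).app J)) ≪≫ e₄.symm ≪≫
      (DCoh.RSheafHom P).mapIso eJ ≪≫ e₁ ≪≫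
      (DCoh.tildeD R).mapIso (e₂ ≪≫ ((DTen.RHom R).mapIso eω.symm.op).app ω ≪≫ e₃) ≪≫ tildeQ R₀
  -- the map, read on `A[0]^~`
  let O := (HomologicalComplex.single (Spec R).Modules (ComplexShape.up ℤ) 0).obj
    (Coh.structureModule (Spec R))
  let ρ : T.obj R₀ ≅ O :=
    (HomologicalComplex.singleMapHomologicalComplex (tilde.functor R) _ 0).app _ ≪≫
      (HomologicalComplex.single _ _ 0).mapIso tildeSelf
  let ρQ := DerivedCategory.Q.mapIso ρ
  obtain ⟨f, hf⟩ := (tildeD_map_bijective _ _).2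
    ((tildeQ R₀).hom ≫ ρQ.hom ≫ DerivedCategory.Q.map t ≫ s.hom ≫ (tildeQ R₀).inv)
  obtain ⟨r, rfl⟩ := exists_smul_eq f
  have hmid : DerivedCategory.Q.map (T.map (r • 𝟙 R₀)) = ρQ.hom ≫ DerivedCategory.Q.map t ≫ s.hom := by
    have h := tildeQ_naturality (r • 𝟙 R₀)
    rw [hf] at h
    simp only [Category.assoc, Iso.inv_hom_id, Category.comp_id, cancel_epi] at h
    exact h.symm
  -- after tensoring
  let F := Inner.tenX DCoh.tensorBi P
  haveI := fun N => isIso_LTensorCx_counit_of_isKFlat_right P hP N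
  let cP := (DCoh.tensorCxQ P).totalLeftDerivedCounit DerivedCategory.Q (qisX (Spec R))
  have hFt : IsSplitMono (DerivedCategory.Q.map (F.map t)) := by
    obtain ⟨u⟩ := DualConn.nonempty_unitTensorIso (Spec R)
    haveI : QuasiIso ((DCoh.tensorCx.obj O).map ψ) :=
      (quasiIso_iff_of_arrow_mk_iso ψ _ (((Functor.mapArrowFunctor _ _).mapIso u).app (Arrow.mk ψ)).symm).1
        inferInstance
    haveI : IsIso (DerivedCategory.Q.map ((DCoh.tensorCx.obj O).map ψ)) := isIso_Q_map _ inferInstance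
    haveI := hsplit
    haveI h' : IsSplitMono (DerivedCategory.Q.map ((Inner.tenX DCoh.tensorBi J).map t)) := inferInstance
    refine isSplitMono_left _ (DerivedCategory.Q.map ((DCoh.tensorCx.obj H).map ψ)) ?_
    have w : F.map t ≫ (DCoh.tensorCx.obj H).map ψ =
        (DCoh.tensorCx.obj O).map ψ ≫ (Inner.tenX DCoh.tensorBi J).map t :=
      ((DCoh.tensorCx.map t).naturality ψ).symm
    rw [← Functor.map_comp, w, Functor.map_comp]
    exact IsSplitMono.mk' ⟨@retraction _ _ _ _ _ h' ≫ inv (DerivedCategory.Q.map ((DCoh.tensorCx.obj O).map ψ)), by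
      rw [Category.assoc, ← Category.assoc _ (@retraction _ _ _ _ _ h'), @IsSplitMono.id _ _ _ _ _ h']
      exact (congrArg (_ ≫ ·) (Category.id_comp _)).trans (IsIso.hom_inv_id _)⟩
  haveI := NatIso.isIso_of_isIso_app cP
  let α : DerivedCategory.Q ⋙ DCoh.LTensorCx P ≅ DCoh.tensorCxQ P := asIso cP
  have hr : IsSplitMono (DerivedCategory.Q.map (F.map (T.map (r • 𝟙 R₀)))) := by
    haveI : IsSplitMono ((DCoh.LTensorCx P).map (DerivedCategory.Q.map t)) :=
      isSplitMono_natIso α.symm t hFt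
    haveI h : IsSplitMono ((DCoh.LTensorCx P).map (DerivedCategory.Q.map (T.map (r • 𝟙 R₀)))) := by
      rw [hmid, Functor.map_comp, Functor.map_comp]
      infer_instance
    exact isSplitMono_natIso α (T.map (r • 𝟙 R₀)) h
  let Z := (tenCx P').obj R₀
  have hZ : IsSplitMono (r • 𝟙 (DerivedCategory.Q.obj Z)) := by
    have h₁ : IsSplitMono (DerivedCategory.Q.map (T.map ((tenCx P').map (r • 𝟙 R₀)))) :=
      isSplitMono_natIso (Functor.isoWhiskerRight (tildeTenIso P') DerivedCategory.Q) (r • 𝟙 R₀) hr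
    have hm : IsSplitMono ((DCoh.tildeD R).map (DerivedCategory.Q.map ((tenCx P').map (r • 𝟙 R₀)))) :=
      isSplitMono_natIso (tilde.functor R).mapDerivedCategoryFactors.symm _ h₁
    rw [tenCx_map_smul, CategoryTheory.Functor.map_id, Functor.map_smul,
      CategoryTheory.Functor.map_id] at hm
    obtain ⟨z, hz⟩ := (tildeD_map_bijective _ _).2 (@retraction _ _ _ _ _ hm)
    refine IsSplitMono.mk' ⟨z, (tildeD_map_bijective _ _).1 ?_⟩
    rw [Functor.map_comp, hz, @IsSplitMono.id _ _ _ _ _ hm, CategoryTheory.Functor.map_id]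
  obtain ⟨eZ⟩ : Nonempty (DerivedCategory.Q.obj Z ≅ ω) := by
    obtain ⟨u⟩ := DualConn.nonempty_unitTensorIso (Spec R)
    refine nonempty_iso_of_tildeD ?_
    let i₁ : T.obj Z ≅ F.obj (T.obj R₀) := ((tildeTenIso P').app R₀).symm
    let i₂ : F.obj O ≅ P := u.app P
    exact tildeQ Z ≪≫ DerivedCategory.Q.mapIso (i₁ ≪≫ F.mapIso ρ ≪≫ i₂) ≪≫
      (tildeQ P').symm ≪≫ (DCoh.tildeD R).mapIso eω
  haveI : IsSplitMono (r • 𝟙 ω) :=
    @isSplitMono_of_comp_eq _ _ _ _ _ _ eZ eZ _ _
      (by rw [Linear.smul_comp, Linear.comp_smul, Category.id_comp, Category.comp_id]) hZ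
  have hu := isUnit_of_isSplitMono hω r
  -- conclusion
  haveI : IsIso (r • 𝟙 R₀) := ⟨hu.unit.inv • 𝟙 R₀, by simp [smul_smul], by simp [smul_smul]⟩
  haveI : IsIso (ρQ.hom ≫ DerivedCategory.Q.map t ≫ s.hom) := by rw [← hmid]; infer_instance
  haveI : IsIso (DerivedCategory.Q.map t ≫ s.hom) := IsIso.of_isIso_comp_left ρQ.hom _
  exact (DerivedCategory.isIso_Q_map_iff_quasiIso _ _).1 (IsIso.of_isIso_comp_right _ s.hom)

end Groth.Agent.KExact.Bidual
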