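import Groth.Agent.KExact.RHomOClosed
import Groth.Agent.S1767

/-!
# The right adjoint of `Ri_*` on `D_QCoh` is `RHom(O_Z, -)` on bounded below objects
-/

set_option autoImplicit false
set_option linter.style.haveILetI false
set_option linter.unusedSectionVars false
set_option backward.isDefEq.respectTransparency false
set_option backward.isDefEq.respectTransparency.types false

universe w v u

open CategoryTheory CategoryTheory.Limits AlgebraicGeometry

attribute [local instance] HasDerivedCategory.standard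

namespace Groth.Agent.KExact.RHomO

open KFlatLib

section Gen

variable {A : Type u} [Category.{v} A] [Abelian A] [HasDerivedCategory.{w} A]
  {B : Type u} [Category.{v} B] [Abelian B] [HasDerivedCategory.{w} B]
  (F : A ⥤ B) [F.Additive] [PreservesFiniteLimits F] [PreservesFiniteColimits F]

/-- An exact functor on `D⁺` is the restriction of the one on `D`. -/
theorem nonempty_plusι_iso [EnoughInjectives A] :
    Nonempty (F.rightDerivedFunctorPlus ⋙ DerivedCategory.Plus.ι ≅
      DerivedCategory.Plus.ι ⋙ F.mapDerivedCategory) := by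
  haveI : IsIso F.rightDerivedFunctorPlusUnit :=
    Functor.isIso_of_isRightDerivedFunctor_of_inverts (W := HomotopyCategory.Plus.quasiIso A) _ _
      H9Misc.PlusRB.inverts_of_exact
  refine ⟨Localization.liftNatIso DerivedCategory.Plus.Qh (HomotopyCategory.Plus.quasiIso A)
    (DerivedCategory.Plus.Qh ⋙ F.rightDerivedFunctorPlus ⋙ DerivedCategory.Plus.ι)
    (DerivedCategory.Plus.Qh ⋙ DerivedCategory.Plus.ι ⋙ F.mapDerivedCategory) _ _ ?_⟩
  exact (Functor.associator _ _ _).symm ≪≫
    Functor.isoWhiskerRight (asIso F.rightDerivedFunctorPlusUnit).symm _ ≪≫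
    Functor.associator _ _ _ ≪≫
    Functor.isoWhiskerLeft F.mapHomotopyCategoryPlus (DerivedCategory.Plus.QhCompιIsoιCompQh B) ≪≫
    NatIso.ofComponents (fun X => Iso.refl _) (fun f => (Category.comp_id _).trans (Category.id_comp _).symm) ≪≫
    Functor.isoWhiskerLeft (HomotopyCategory.Plus.ι A) F.mapDerivedCategoryFactorsh.symm ≪≫
    (Functor.associator _ _ _).symm ≪≫
    Functor.isoWhiskerRight (DerivedCategory.Plus.QhCompιIsoιCompQh A).symm _ ≪≫
    Functor.associator _ _ _

end Gen

variable {X Z : Scheme.{u}} (i : Z ⟶ X) [IsClosedImmersion i]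

/-- `Ri_*` is `i_*` applied to complexes. -/
theorem nonempty_rpush_iso [DCoh.HasRpush i] [PreservesFiniteLimits (Scheme.Modules.pushforward i)]
    [PreservesFiniteColimits (Scheme.Modules.pushforward i)] :
    Nonempty (DCoh.Rpush i ≅ (Scheme.Modules.pushforward i).mapDerivedCategory) := by
  let F := Scheme.Modules.pushforward i
  let W := HomotopyCategory.quasiIso Z.Modules (ComplexShape.up ℤ)
  let η := (DCoh.pushKh i).totalRightDerivedUnit DerivedCategory.Qh W
  have hinv : W.IsInvertedBy (DCoh.pushKh i) := fun K L g hg =>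
    (NatIso.isIso_map_iff F.mapDerivedCategoryFactorsh g).1
      (haveI := Localization.inverts (DerivedCategory.Qh (C := Z.Modules)) W g hg
       inferInstanceAs (IsIso (F.mapDerivedCategory.map (DerivedCategory.Qh.map g))))
  haveI : IsIso η := Functor.isIso_of_isRightDerivedFunctor_of_inverts (W := W) _ η hinv
  exact ⟨Localization.liftNatIso DerivedCategory.Qh W (DerivedCategory.Qh ⋙ DCoh.Rpush i)
    (DerivedCategory.Qh ⋙ F.mapDerivedCategory) _ _ ((asIso η).symm ≪≫ F.mapDerivedCategoryFactorsh.symm)⟩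

variable [Dual3.HasHomO i] [EnoughInjectives X.Modules] [IsNoetherian X]

/-- The comparison. -/
theorem nonempty_rightAdjoint_iso [DCoh.HasRpush i] (hf : DCoh.RpushPreservesQCoh i)
    (a : DCoh.DQCoh X ⥤ DCoh.DQCoh Z) (adj : DCoh.RpushQ i hf ⊣ a) :
    Nonempty (Dual3.bddι X ⋙ a ⋙ ObjectProperty.ι _ ≅
      Dual3.bddToPlus X ⋙ Dual3.RHomOPlus i ⋙
        (DerivedCategory.Plus.ι : DerivedCategory.Plus Z.Modules ⥤ DCoh.D Z)) := by
  haveI : IsLocallyNoetherian Z := LocallyOfFiniteType.isLocallyNoetherian i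
  haveI : CompactSpace Z := QuasiCompact.compactSpace_of_compactSpace i
  haveI : EnoughInjectives Z.Modules := inferInstance
  haveI := ClosedShriek.preservesFiniteColimits_push i
  haveI : PreservesFiniteLimits (Scheme.Modules.pushforward i) := by
    haveI := (Scheme.Modules.pullbackPushforwardAdjunction i).isRightAdjoint
    infer_instance
  obtain ⟨A⟩ := H9Misc.PlusRB.nonempty_adj (Dual3.homOAdj i)
  obtain ⟨π⟩ := nonempty_plusι_iso (Scheme.Modules.pushforward i)
  obtain ⟨ρ⟩ := nonempty_rpush_iso i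
  let P := (Dual3.IsBddBelowQ X).FullSubcategory
  let H : P ⥤ DCoh.DQCoh Z := ObjectProperty.lift _
    (Dual3.bddToPlus X ⋙ Dual3.RHomOPlus i ⋙ DerivedCategory.Plus.ι)
    fun K => isQCohD_RHomOPlus i _ K.obj.property
  let σ : DerivedCategory.Plus.ι ⋙ DCoh.Rpush i ≅
      (Scheme.Modules.pushforward i).rightDerivedFunctorPlus ⋙ DerivedCategory.Plus.ι :=
    Functor.isoWhiskerLeft _ ρ ≪≫ π.symm
  let ε : ∀ K : P, (DCoh.Rpush i).obj (H.obj K).obj ⟶ K.obj.obj := fun K =>
    σ.hom.app ((Dual3.RHomOPlus i).obj ((Dual3.bddToPlus X).obj K)) ≫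
      DerivedCategory.Plus.ι.map (A.counit.app ((Dual3.bddToPlus X).obj K))
  have εnat : ∀ {K L : P} (g : K ⟶ L),
      (DCoh.Rpush i).map (H.map g).hom ≫ ε L = ε K ≫ g.hom.hom := fun {K L} g => by
    have h1 := σ.hom.naturality ((Dual3.RHomOPlus i).map ((Dual3.bddToPlus X).map g))
    have h2 : DerivedCategory.Plus.ι.map
          ((Scheme.Modules.pushforward i).rightDerivedFunctorPlus.map
            ((Dual3.RHomOPlus i).map ((Dual3.bddToPlus X).map g))) ≫
        DerivedCategory.Plus.ι.map (A.counit.app ((Dual3.bddToPlus X).obj L)) =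
      DerivedCategory.Plus.ι.map (A.counit.app ((Dual3.bddToPlus X).obj K)) ≫
        DerivedCategory.Plus.ι.map ((Dual3.bddToPlus X).map g) := by
      rw [← Functor.map_comp, ← Functor.map_comp]
      exact congrArg _ (A.counit.naturality ((Dual3.bddToPlus X).map g))
    refine (Category.assoc _ _ _).symm.trans ((congrArg (· ≫ _) h1).trans ?_)
    refine (Category.assoc _ _ _).trans ((congrArg (_ ≫ ·) h2).trans ?_)
    exact (Category.assoc _ _ _).symm
  let η : H ⟶ Dual3.bddι X ⋙ a :=
    { app := fun K => adj.homEquiv (H.obj K) K.obj (ObjectProperty.homMk (ε K))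
      naturality := fun K L g => by
        change H.map g ≫ adj.homEquiv _ _ _ = adj.homEquiv _ _ _ ≫ a.map g.hom
        rw [← adj.homEquiv_naturality_left, ← adj.homEquiv_naturality_right]
        refine congrArg _ (ObjectProperty.hom_ext _ ?_)
        exact εnat g }
  have key : ∀ (K : P) (T : DCoh.DQCoh Z), (∃ n : ℤ, DerivedCategory.IsGE T.obj n) →
      Function.Bijective (fun z : T ⟶ H.obj K => z ≫ η.app K) := fun K T hT => by
    let T' : DerivedCategory.Plus Z.Modules := ⟨T.obj, hT⟩
    let K' := (Dual3.bddToPlus X).obj K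
    have heq : (fun z : T ⟶ H.obj K => z ≫ η.app K) =
        (adj.homEquiv T K.obj) ∘ (fun w : (Scheme.Modules.pushforward i).rightDerivedFunctorPlus.obj T' ⟶ K' =>
          ObjectProperty.homMk (σ.hom.app T' ≫ DerivedCategory.Plus.ι.map w)) ∘
          (A.homEquiv T' K').symm ∘ (fun z => ObjectProperty.homMk z.hom) := funext fun z => by
      change z ≫ adj.homEquiv _ _ _ = adj.homEquiv _ _ _
      rw [← adj.homEquiv_naturality_left]
      refine congrArg _ (ObjectProperty.hom_ext _ ?_)
      change (DCoh.Rpush i).map z.hom ≫ ε K = σ.hom.app T' ≫ DerivedCategory.Plus.ι.map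
        ((A.homEquiv T' K').symm (ObjectProperty.homMk z.hom))
      have h1 := σ.hom.naturality (ObjectProperty.homMk z.hom : T' ⟶ (Dual3.RHomOPlus i).obj K')
      rw [A.homEquiv_counit, Functor.map_comp]
      exact (Category.assoc _ _ _).symm.trans ((congrArg (· ≫ _) h1).trans (Category.assoc _ _ _))
    rw [heq]
    refine (adj.homEquiv _ _).bijective.comp (Function.Bijective.comp ?_
      ((A.homEquiv T' K').symm.bijective.comp ⟨fun x y h => ?_, fun y => ⟨ObjectProperty.homMk y.hom, rfl⟩⟩))
    · refine ⟨fun x y h => ?_, fun y => ?_⟩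
      · exact DerivedCategory.Plus.ι.map_injective
          ((cancel_epi (σ.hom.app T')).1 (congrArg InducedCategory.Hom.hom h))
      · let y' : (DerivedCategory.Plus.ι ⋙ DCoh.Rpush i).obj T' ⟶ DerivedCategory.Plus.ι.obj K' := y.hom
        obtain ⟨x, hx⟩ := DerivedCategory.Plus.ι.map_surjective (σ.inv.app T' ≫ y')
        refine ⟨x, ObjectProperty.hom_ext _ ?_⟩
        change σ.hom.app T' ≫ DerivedCategory.Plus.ι.map x = y'
        rw [hx, Iso.hom_inv_id_app_assoc]
    · exact ObjectProperty.hom_ext _ (congrArg InducedCategory.Hom.hom h :)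
  haveI : ∀ K, IsIso (η.app K) := fun K => by
    obtain ⟨n, hn⟩ := K.property
    obtain ⟨N, hN⟩ := Groth.Agent.S1767.result Z X i hf a adj
    have hb : ∃ m : ℤ, DerivedCategory.IsGE (a.obj K.obj).obj m :=
      ⟨n - 1 - N + 1, (DerivedCategory.isGE_iff _ _).2 fun j hj => hN K.obj (n - 1)
        (fun k hk => DerivedCategory.isZero_of_isGE K.obj.obj n k (by omega)) j (by omega)⟩
    obtain ⟨z, hz⟩ := (key K (a.obj K.obj) hb).2 (𝟙 _)
    refine ⟨z, (key K (H.obj K) ((Dual3.RHomOPlus i).obj ((Dual3.bddToPlus X).obj K)).property).1 ?_, hz⟩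
    change (η.app K ≫ z) ≫ η.app K = 𝟙 _ ≫ η.app K
    rw [Category.assoc, Category.id_comp]
    exact (congrArg (η.app K ≫ ·) hz).trans (Category.comp_id _)
  haveI := NatIso.isIso_of_isIso_app η
  exact ⟨Functor.isoWhiskerRight (asIso η).symm (ObjectProperty.ι _) ≪≫
    ObjectProperty.liftCompιIso _ _ _⟩

end Groth.Agent.KExact.RHomO
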