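import Groth.Agent.KExact.RHomOClosed
import Groth.Agent.Lib.DivisorExt
import Groth.Agent.Lib.RegExtFormula
import Groth.Agent.Lib.CurveOnSurf
import Groth.Agent.H26.IdealCl
import Mathlib.CategoryTheory.Abelian.Injective.Extend

/-!
# `RHom(O_D, O_X)` for an effective Cartier divisor
-/

set_option autoImplicit false
set_option linter.style.haveILetI false
set_option linter.unusedSectionVars false
set_option backward.isDefEq.respectTransparency false
set_option backward.isDefEq.respectTransparency.types false

universe u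

open CategoryTheory CategoryTheory.Limits AlgebraicGeometry

attribute [local instance] HasDerivedCategory.standard

namespace Groth.Agent.KExact.RHomOCartier

open KFlatLib SheafHomX DivisorExt

variable {X : Scheme.{u}}

/-- A functor applied to the extension of a complex to negative degrees. -/
lemma nonempty_map_extend_iso {C D : Type*} [Category C] [Category D] [Abelian C] [Abelian D]
    (H : C ⥤ D) [H.Additive] (K : CochainComplex C ℕ) :
    Nonempty ((H.mapHomologicalComplex (ComplexShape.up ℤ)).obj (K.extend ComplexShape.embeddingUpNat) ≅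
      HomologicalComplex.extend ((H.mapHomologicalComplex (ComplexShape.up ℕ)).obj K)
        ComplexShape.embeddingUpNat) := by
  let L := (H.mapHomologicalComplex (ComplexShape.up ℕ)).obj K
  let c : ∀ n : ℤ, H.obj ((K.extend ComplexShape.embeddingUpNat).X n) ≅
      (L.extend ComplexShape.embeddingUpNat).X n := fun n =>
    match n with
    | Int.ofNat k => H.mapIso (K.extendXIso _ (i := k) rfl) ≪≫
        (L.extendXIso ComplexShape.embeddingUpNat (i := k) rfl).symm
    | Int.negSucc k => (H.map_isZero (K.isZero_extend_X _ (Int.negSucc k) fun i h => by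
        simp [ComplexShape.embeddingUpNat] at h)).iso (L.isZero_extend_X _ _ fun i h => by
        simp [ComplexShape.embeddingUpNat] at h)
  refine ⟨HomologicalComplex.Hom.isoOfComponents c fun a b hab => ?_⟩
  match a, b with
  | Int.negSucc k, _ =>
    exact (H.map_isZero (K.isZero_extend_X _ (Int.negSucc k) fun i h => by
      simp [ComplexShape.embeddingUpNat] at h)).eq_of_src _ _
  | Int.ofNat k, Int.negSucc l =>
    simp at hab
    omega
  | Int.ofNat k, Int.ofNat l =>
    show (H.map (K.extendXIso _ (i := k) rfl).hom ≫ (L.extendXIso ComplexShape.embeddingUpNat (i := k) rfl).inv) ≫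
        (L.extend ComplexShape.embeddingUpNat).d ((k : ℕ) : ℤ) ((l : ℕ) : ℤ) =
      H.map ((K.extend ComplexShape.embeddingUpNat).d ((k : ℕ) : ℤ) ((l : ℕ) : ℤ)) ≫
        H.map (K.extendXIso _ (i := l) rfl).hom ≫ (L.extendXIso ComplexShape.embeddingUpNat (i := l) rfl).inv
    have h₁ := K.extend_d_eq ComplexShape.embeddingUpNat (i' := ((k : ℕ) : ℤ)) (j' := ((l : ℕ) : ℤ)) (i := k) (j := l) rfl rfl
    have h₂ := L.extend_d_eq ComplexShape.embeddingUpNat (i' := ((k : ℕ) : ℤ)) (j' := ((l : ℕ) : ℤ)) (i := k) (j := l) rfl rfl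
    erw [h₁, h₂]
    simp only [Category.assoc, Iso.inv_hom_id_assoc, Functor.map_comp]
    rw [← H.map_comp_assoc (K.extendXIso _ (i := l) rfl).inv, Iso.inv_hom_id, CategoryTheory.Functor.map_id, Category.id_comp]
    rfl

variable (I : X.IdealSheafData) (L : X.Modules)

/-- `O = hom(O, O) → hom(I, O)` is a monomorphism. -/
theorem mono_homMap_ideal (hL : ClSub.IsInverseOf L (ClSub.idealMod I)) :
    Mono ((homMap (ClSub.idealModι I)).app (Coh.structureModule X)) := by
  haveI := isIso_toHomUnit (Coh.structureModule X)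
  suffices h : Mono (toHomUnit (Coh.structureModule X) ≫ (homMap (ClSub.idealModι I)).app (Coh.structureModule X)) by
    exact mono_comp_iff_of_isIso _ _ |>.1 h
  haveI := isEquivalence_ten hL
  haveI : Mono (ClSub.idealModι I) := (ideal_shortExact I).mono_f
  haveI : (DCoh.tensorBi.obj (Coh.structureModule X)).IsEquivalence :=
    Functor.isEquivalence_of_iso
      (((KFlatLib.tensorBiFlipIso X).app (Coh.structureModule X)).symm ≪≫ KFlatLib.tensorStructureIso X).symm
  haveI : Mono (mulIdeal I (Coh.structureModule X)) := inferInstance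
  refine Preadditive.mono_of_cancel_zero _ fun {Z} b hb => ?_
  have h1 := homEquiv_homMap (ClSub.idealModι I) (b ≫ toHomUnit (Coh.structureModule X))
  rw [Category.assoc, hb, Adjunction.homEquiv_counit, Functor.map_zero, zero_comp,
    Adjunction.homEquiv_naturality_left_symm] at h1
  have h2 : (ten (ClSub.idealMod I)).map b ≫ mulIdeal I (Coh.structureModule X) = 0 := by
    rw [h1]
    refine ((Category.assoc _ _ _).symm.trans (congrArg (· ≫ _)
      (((DCoh.tensorBi (X := X)).flip.map (ClSub.idealModι I)).naturality b))).trans ?_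
    refine (Category.assoc _ _ _).trans (congrArg (_ ≫ ·) ?_)
    exact congrArg (_ ≫ ·) (((adj (Coh.structureModule X)).homEquiv _ _).symm_apply_apply _).symm
  refine (ten (ClSub.idealMod I)).map_injective ?_
  rw [Functor.map_zero]
  exact zero_of_comp_mono _ h2

variable {I L}

/-- The cokernel of `O → hom(I, O)`. -/
theorem nonempty_cokernel_iso (hL : ClSub.IsInverseOf L (ClSub.idealMod I)) :
    Nonempty (cokernel ((homMap (ClSub.idealModι I)).app (Coh.structureModule X)) ≅
      (Scheme.Modules.pushforward I.subschemeι).obj ((Scheme.Modules.pullback I.subschemeι).obj L)) := by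
  obtain ⟨e₁⟩ := exists_cokernel_iso I (Coh.structureModule X) L hL
  obtain ⟨e₂⟩ := nonempty_cokernel_mulIdeal I ((DCoh.tensorBi.obj L).obj (Coh.structureModule X))
  exact ⟨e₁ ≪≫ e₂ ≪≫ (ClosedShriek.tenPushIso I.subschemeι).app _ ≪≫
    (Scheme.Modules.pullback I.subschemeι ⋙ Scheme.Modules.pushforward I.subschemeι).mapIso (tensorUnitIso L)⟩

/-- The local Ext sheaves out of the divisor. -/
theorem homology_cx_quot (hL : ClSub.IsInverseOf L (ClSub.idealMod I))
    (J : InjectiveResolution (Coh.structureModule X)) :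
    (∀ q : ℕ, q ≠ 1 → IsZero ((ExtShShift.cx J (ClSub.quotMod I)).homology q)) ∧
      Nonempty ((ExtShShift.cx J (ClSub.quotMod I)).homology 1 ≅
        (Scheme.Modules.pushforward I.subschemeι).obj ((Scheme.Modules.pullback I.subschemeι).obj L)) := by
  let O := Coh.structureModule X
  haveI : (ten O).IsEquivalence := Functor.isEquivalence_of_iso (KFlatLib.tensorStructureIso X).symm
  haveI : (hom O).IsEquivalence :=
    Functor.isEquivalence_of_iso ((ten O).asEquivalence.toAdjunction.rightAdjointUniq (adj O))
  haveI := isEquivalence_ten hL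
  haveI : (hom (ClSub.idealMod I)).IsEquivalence :=
    Functor.isEquivalence_of_iso
      ((ten (ClSub.idealMod I)).asEquivalence.toAdjunction.rightAdjointUniq (adj (ClSub.idealMod I)))
  have hO : ∀ q : ℕ, IsZero ((ExtShShift.cx J O).homology (q + 1)) := fun q =>
    ExtShShift.isZero_of_exact J O (fun u hu => by haveI := hu; exact Functor.map_epi _ u) q
  have hI : ∀ q : ℕ, IsZero ((ExtShShift.cx J (ClSub.idealMod I)).homology (q + 1)) := fun q =>
    ExtShShift.isZero_of_exact J _ (fun u hu => by haveI := hu; exact Functor.map_epi _ u) q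
  have hS := ideal_shortExact I
  refine ⟨fun q hq => ?_, ?_⟩
  · match q, hq with
    | 0, _ =>
      haveI := hS.epi_g
      haveI := mono_homMap_ideal I L hL
      obtain ⟨w, hm, -⟩ := ExtShShift.homMap_exact hS.exact O
      haveI := hm
      refine IsZero.of_iso ?_ (ExtShShift.zeroIso J (ClSub.quotMod I)).symm
      exact IsZero.of_mono_eq_zero _ (zero_of_comp_mono ((homMap (ClSub.idealModι I)).app O) w)
    | 1, h => exact absurd rfl h
    | (q + 2), _ => exact (ExtShShift.isZero_succ_succ_iff J hS q (hO q) (hO (q + 1))).2 (hI q)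
  · obtain ⟨e₁⟩ := DivisorExt.nonempty_homology_iso I J
    obtain ⟨e₂⟩ := nonempty_cokernel_iso hL
    exact ⟨e₁ ≪≫ e₂⟩

variable [Dual3.HasHomO I.subschemeι] [EnoughInjectives X.Modules]

/-- The cohomology of `RHom(O_D, O_X)`. -/
theorem main (hI : BlowUp.IsEffCartierIdeal I) (hL : ClSub.IsInverseOf L (ClSub.idealMod I))
    (O : DerivedCategory.Plus X.Modules) (eO : O.obj ≅ DCoh.inD X (Coh.structureModule X)) :
    (∀ j : ℤ, j ≠ 1 → IsZero (DCoh.HD ((Dual3.RHomOPlus I.subschemeι).obj O).obj j)) ∧
      Nonempty (DCoh.HD ((Dual3.RHomOPlus I.subschemeι).obj O).obj 1 ≅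
        (Scheme.Modules.pullback I.subschemeι).obj L) := by
  let i := I.subschemeι
  haveI : HasInjectiveResolutions X.Modules := inferInstance
  let J := InjectiveResolution.of (Coh.structureModule X)
  let J' : CochainComplex X.Modules ℤ := J.cochainComplex
  let K₀ : CochainComplex.Plus X.Modules := ⟨J', 0, inferInstance⟩
  haveI : ∀ n, Injective (K₀.obj.X n) := fun n => inferInstanceAs (Injective (J.cochainComplex.X n))
  haveI := isIso_Q_map J.ι' inferInstance
  let eQ : (DerivedCategory.Plus.Qh.obj ((HomotopyCategory.Plus.quotient X.Modules).obj K₀)).obj ≅ O.obj :=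
    (DerivedCategory.quotientCompQhIso X.Modules).app J' ≪≫ (asIso (DerivedCategory.Q.map J.ι')).symm ≪≫
      ((DerivedCategory.singleFunctorIsoCompQ X.Modules 0).app _).symm ≪≫ eO.symm
  let G := Dual3.homO i
  haveI := ClosedShriek.preservesHomology_push i
  let eR : DerivedCategory.Q.obj ((G.mapHomologicalComplex (ComplexShape.up ℤ)).obj J') ≅
      ((Dual3.RHomOPlus i).obj O).obj :=
    ((DerivedCategory.quotientCompQhIso _).app _).symm ≪≫ DerivedCategory.Plus.ι.mapIso
      (asIso (G.rightDerivedFunctorPlusUnit.app ((HomotopyCategory.Plus.quotient X.Modules).obj K₀)) ≪≫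
        (G.rightDerivedFunctorPlus).mapIso (DerivedCategory.Plus.ι.preimageIso eQ))
  let e₀ : G ⋙ Scheme.Modules.pushforward i ≅ hom (ClSub.quotMod I) :=
    Functor.isoWhiskerRight ((Dual3.homOAdj i).rightAdjointUniq (ClosedShriek.shriekAdj i)) _ ≪≫
      (ClosedShriek.shriekPushIso i).symm
  let M := (G ⋙ Scheme.Modules.pushforward i).mapHomologicalComplex (ComplexShape.up ℕ) |>.obj J.cocomplex
  obtain ⟨eX⟩ := nonempty_map_extend_iso (G ⋙ Scheme.Modules.pushforward i) J.cocomplex
  let push : ∀ j : ℤ, (Scheme.Modules.pushforward i).obj (DCoh.HD ((Dual3.RHomOPlus i).obj O).obj j) ≅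
      (HomologicalComplex.extend M ComplexShape.embeddingUpNat).homology j := fun j =>
    (Scheme.Modules.pushforward i).mapIso ((DerivedCategory.homologyFunctor _ j).mapIso eR.symm ≪≫
      (DerivedCategory.homologyFunctorFactors _ j).app _) ≪≫
    ((((G.mapHomologicalComplex (ComplexShape.up ℤ)).obj J').sc j).mapHomologyIso
      (Scheme.Modules.pushforward i)).symm ≪≫ HomologicalComplex.homologyMapIso eX j
  let pushN : ∀ q : ℕ, (Scheme.Modules.pushforward i).obj (DCoh.HD ((Dual3.RHomOPlus i).obj O).obj (q : ℤ)) ≅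
      (ExtShShift.cx J (ClSub.quotMod I)).homology q := fun q =>
    push q ≪≫ M.extendHomologyIso ComplexShape.embeddingUpNat (j := q) rfl ≪≫
      HomologicalComplex.homologyMapIso ((NatIso.mapHomologicalComplex e₀ _).app J.cocomplex) q
  obtain ⟨hz, ⟨e1⟩⟩ := homology_cx_quot hL J
  constructor
  · intro j hj
    refine ClosedShriek.isZero_of_push i ?_
    obtain ⟨q, rfl⟩ | hneg : (∃ q : ℕ, (q : ℤ) = j) ∨ j < 0 := by
      rcases lt_or_ge j 0 with h | h
      · exact .inr h
      · exact .inl ⟨j.toNat, Int.toNat_of_nonneg h⟩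
    · exact (hz q (by omega)).of_iso (pushN q)
    · refine IsZero.of_iso ?_ (push j)
      exact (HomologicalComplex.exactAt_iff_isZero_homology _ j).1
        (M.extend_exactAt ComplexShape.embeddingUpNat j fun k hk => by
          change (k : ℤ) = j at hk
          omega)
  · have hLq : Coh.IsQCoh L := RegExtFormula.isQCoh_inv
      (CurveOnSurf.isInvertible_of_inverse (H26.IdealCl.isInvertible_idealMod hI) hL).1
    let T := (Scheme.Modules.pushforward i).obj ((Scheme.Modules.pullback i).obj L)
    have hT : Coh.IsQCoh T := QCoh.isQCoh_pushforward i (QCoh.isQCoh_pullback i hLq)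
    let e : (Scheme.Modules.pushforward i).obj (DCoh.HD ((Dual3.RHomOPlus i).obj O).obj 1) ≅ T :=
      pushN 1 ≪≫ e1
    haveI := KZ.ClosedDev.isIso_counit i hT
    haveI := KZ.ClosedDev.isIso_counit i (KFlatLib.isQCoh_of_iso e.symm hT)
    exact ⟨(asIso ((Scheme.Modules.pullbackPushforwardAdjunction i).counit.app _)).symm ≪≫
      (Scheme.Modules.pullback i).mapIso e ≪≫
      asIso ((Scheme.Modules.pullbackPushforwardAdjunction i).counit.app _)⟩

end Groth.Agent.KExact.RHomOCartier
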