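import Groth.Agent.KExact.BCComp
import Groth.Agent.KExact.RHomOCartier
import Groth.Agent.KExact.RHomOAdjoint
import Groth.Agent.KExact.AdjTensor
import Groth.Agent.S3676
import Groth.Agent.S1510
import Groth.Agent.KFlatLib.Scheme.ProjAffineFlat
import Groth.Agent.PnCoh.Unit

/-!
# The twisted inverse image of a divisor with trivial ideal
-/

set_option autoImplicit false
set_option linter.style.haveILetI false
set_option linter.unusedSectionVars false
set_option backward.isDefEq.respectTransparency false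
set_option backward.isDefEq.respectTransparency.types false

universe u

open CategoryTheory CategoryTheory.Limits AlgebraicGeometry

attribute [local instance] HasDerivedCategory.standard

namespace Groth.Agent.KExact.CartierShriek

open KFlatLib BCNat

variable {W : Scheme.{u}}

/-- Tensoring with `O[-m]` is a shift. -/
theorem nonempty_ltensor_Om (W : Scheme.{u}) (m : ℤ) [DCoh.HasLTensorCx (AdjTensor.Om W m)] :
    Nonempty (DCoh.LTensorCx (AdjTensor.Om W m) ≅ shiftFunctor (DCoh.D W) (-m)) := by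
  let e : DerivedCategory.Q ⋙ shiftFunctor (DCoh.D W) (-m) ≅ DCoh.tensorCxQ (AdjTensor.Om W m) :=
    (DerivedCategory.Q.commShiftIso (-m)).symm ≪≫
      Functor.isoWhiskerRight (AdjTensor.F1Iso W m).symm DerivedCategory.Q
  haveI := Functor.isLeftDerivedFunctor_of_inverts (F := DCoh.tensorCxQ (AdjTensor.Om W m))
    (HomologicalComplex.quasiIso W.Modules (ComplexShape.up ℤ)) (shiftFunctor (DCoh.D W) (-m)) e
  exact ⟨Functor.leftDerivedUnique _ _
    ((DCoh.tensorCxQ (AdjTensor.Om W m)).totalLeftDerivedCounit DerivedCategory.Q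
      (HomologicalComplex.quasiIso W.Modules (ComplexShape.up ℤ))) e.hom
    (HomologicalComplex.quasiIso W.Modules (ComplexShape.up ℤ))⟩

/-- For a divisor with trivial ideal, which is a section of a smooth morphism, `i^! ≅ Li^*[-1]`. -/
theorem nonempty_shriek_iso [IsNoetherian W] (I : W.IdealSheafData) (hI : BlowUp.IsEffCartierIdeal I)
    (hO : Nonempty (ClSub.idealMod I ≅ Coh.structureModule W)) (hperf : MoreMor.IsPerfectMor I.subschemeι)
    [DCoh.HasRpush I.subschemeι] {hf : DCoh.RpushPreservesQCoh I.subschemeι}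
    {a : DCoh.DQCoh W ⥤ DCoh.DQCoh I.subscheme} (adj : DCoh.RpushQ I.subschemeι hf ⊣ a)
    [DCoh.HasLpull I.subschemeι] :
    Nonempty (Dual3.bddι W ⋙ a ⋙ ObjectProperty.ι _ ≅
      Dual3.bddι W ⋙ ObjectProperty.ι _ ⋙ DCoh.Lpull I.subschemeι ⋙ shiftFunctor (DCoh.D I.subscheme) (-1 : ℤ)) := by
  let i := I.subschemeι
  let O₁ := Coh.structureModule I.subscheme
  haveI : Dual3.HasHomO i := (ClosedShriek.shriekAdj i).isLeftAdjoint
  haveI : IsNoetherian I.subscheme := isNoetherian_of_ft i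
  haveI : HasInjectiveResolutions W.Modules := hasInjectiveResolutions_modules
  let OW : DCoh.D W := DCoh.inD W (Coh.structureModule W)
  have hOq : DCoh.IsQCohD OW := isQCohD_inD_of_isQCoh (PnCoh.isQCoh_structureModule W)
  haveI : OW.IsGE 0 := inferInstanceAs (((DerivedCategory.singleFunctor W.Modules 0).obj _).IsGE 0)
  let O : DCoh.DQCoh W := ⟨OW, hOq⟩
  let Ob : (Dual3.IsBddBelowQ W).FullSubcategory := ⟨O, 0, inferInstanceAs (OW.IsGE 0)⟩
  obtain ⟨eR⟩ := RHomO.nonempty_rightAdjoint_iso i hf a adj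
  obtain ⟨eI⟩ := hO
  have hL : ClSub.IsInverseOf (Coh.structureModule W) (ClSub.idealMod I) :=
    ⟨(show (DCoh.tensorBi.obj (Coh.structureModule W)).obj (ClSub.idealMod I) ≅ Coh.structureModule W from
      (DCoh.tensorBi.obj (Coh.structureModule W)).mapIso eI ≪≫ tensorUnitIso (Coh.structureModule W))⟩
  obtain ⟨hz, ⟨e1⟩⟩ := RHomOCartier.main hI hL ((Dual3.bddToPlus W).obj Ob) (Iso.refl _)
  let R := ((Dual3.RHomOPlus i).obj ((Dual3.bddToPlus W).obj Ob)).obj
  haveI : R.IsGE 1 := (DerivedCategory.isGE_iff _ _).2 fun k hk => hz k (by omega)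
  haveI : R.IsLE 1 := (DerivedCategory.isLE_iff _ _).2 fun k hk => hz k (by omega)
  obtain ⟨M, ⟨eM⟩⟩ := DerivedCategory.exists_iso_singleFunctor_obj_of_isGE_of_isLE R 1
  haveI : IsIso (SheafOfModules.pullbackObjUnitToUnit i.toRingCatSheafHom) := inferInstance
  let eP : (Scheme.Modules.pullback i).obj (Coh.structureModule W) ≅ O₁ :=
    asIso (SheafOfModules.pullbackObjUnitToUnit i.toRingCatSheafHom)
  let eM' : M ≅ O₁ :=
    ((DerivedCategory.singleFunctorCompHomologyFunctorIso I.subscheme.Modules 1).app M).symm ≪≫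
      (DerivedCategory.homologyFunctor _ 1).mapIso eM.symm ≪≫ e1 ≪≫ eP
  let eE : DCoh.toD I.subscheme (AdjTensor.Om I.subscheme 1) ≅ (a.obj O).obj :=
    ((DerivedCategory.singleFunctorIsoCompQ I.subscheme.Modules 1).app O₁).symm ≪≫
      (DerivedCategory.singleFunctor _ 1).mapIso eM'.symm ≪≫ eM.symm ≪≫ (eR.app Ob).symm
  haveI := hasLTensorCx (AdjTensor.Om I.subscheme 1)
  obtain ⟨e⟩ := S3676.result I.subscheme W i hperf hf a adj O ⟨Iso.refl _⟩ (AdjTensor.Om I.subscheme 1) ⟨eE⟩
  obtain ⟨sh⟩ := nonempty_ltensor_Om I.subscheme 1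
  exact ⟨Functor.isoWhiskerLeft (Dual3.bddι W) (e ≪≫
    Functor.isoWhiskerLeft (ObjectProperty.ι _ ⋙ DCoh.Lpull i) sh)⟩

end Groth.Agent.KExact.CartierShriek
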