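import Groth.Agent.CxSuppLib.Support
import Groth.Agent.KFlatLib.Scheme.TildePush
import Groth.Agent.KFlatLib.Scheme.AffineRpush
import Groth.Agent.H9Misc.ExtCechTors
import Groth.Prelude.Def_Wider

/-!
# The extended Čech complex computes sections with support on an affine scheme
-/

set_option autoImplicit false
set_option linter.style.haveILetI false
set_option linter.unusedSectionVars false
set_option backward.isDefEq.respectTransparency false
set_option backward.isDefEq.respectTransparency.types false

universe u

open CategoryTheory CategoryTheory.Limits AlgebraicGeometry Opposite Pretriangulated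

attribute [local instance] HasDerivedCategory.standard

namespace Groth.Agent.KExact.CechTilde

open KFlatLib CxSuppLib

variable {A : Type u} [CommRing A]

/-- The localised complex over the localised ring. -/
noncomputable def locB (g : A) (C : DRing.Cx A) :
    CochainComplex (ModuleCat.{u} (Localization.Away g)) ℤ where
  X n := ModuleCat.of (Localization.Away g) (LocalizedModule (Submonoid.powers g) (C.X n))
  d i j := ModuleCat.ofHom (LinearMap.extendScalarsOfIsLocalization (Submonoid.powers g) (Localization.Away g)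
    (((DerCA.locCx (Submonoid.powers g)).obj C).d i j).hom)
  shape i j h := by
    ext x
    exact LinearMap.congr_fun (congrArg ModuleCat.Hom.hom (((DerCA.locCx (Submonoid.powers g)).obj C).shape i j h)) x
  d_comp_d' i j k _ _ := by
    ext x
    exact LinearMap.congr_fun (congrArg ModuleCat.Hom.hom (((DerCA.locCx (Submonoid.powers g)).obj C).d_comp_d i j k)) x

/-- Restricting back gives the localised complex. -/
theorem nonempty_locB_iso (g : A) (C : DRing.Cx A) :
    Nonempty (((ModuleCat.restrictScalars.{u} (algebraMap A (Localization.Away g))).mapHomologicalComplex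
      (ComplexShape.up ℤ)).obj (locB g C) ≅ (DerCA.locCx (Submonoid.powers g)).obj C) :=
  ⟨HomologicalComplex.Hom.isoOfComponents (fun n => (LinearEquiv.ofBijective
      ({ toFun := fun x => x
         map_add' := fun _ _ => rfl
         map_smul' := fun r x => by
           let y : LocalizedModule (Submonoid.powers g) (C.X n) := x
           show algebraMap A (Localization.Away g) r • y = r • y
           exact IsScalarTower.algebraMap_smul (Localization.Away g) r y } :
        ((ModuleCat.restrictScalars (algebraMap A (Localization.Away g))).obj ((locB g C).X n) : Type u) →ₗ[A]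
          LocalizedModule (Submonoid.powers g) (C.X n)) Function.bijective_id).toModuleIso)
    (fun i j _ => by ext x; rfl)⟩

/-- A torsion tilde has no stalk. -/
theorem subsingleton_stalk {R : CommRingCat.{u}} (N : ModuleCat.{u} R) (x : PrimeSpectrum R)
    (h : ∀ n : N, ∃ s ∈ x.asIdeal.primeCompl, s • n = 0) : Subsingleton ((tilde N).presheaf.stalk x) := by
  haveI : Subsingleton (LocalizedModule x.asIdeal.primeCompl N) := LocalizedModule.subsingleton_iff.2 h
  exact (IsLocalizedModule.iso x.asIdeal.primeCompl (tilde.toStalk N x).hom).symm.toEquiv.subsingleton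

variable [PreservesFiniteLimits (tilde.functor (CommRingCat.of A))]

/-- The tilde of a complex in which `g` is invertible is orthogonal to what vanishes on an open containing `D(g)`. -/
theorem isOrth_loc (U : (Spec (CommRingCat.of A)).Opens) (g : A)
    (hg : ∀ p : PrimeSpectrum A, g ∉ p.asIdeal → p ∈ U) (C : DRing.Cx A) :
    IsOrth U.ι ((DCoh.tildeD (CommRingCat.of A)).obj
      (DerivedCategory.Q.obj ((DerCA.locCx (Submonoid.powers g)).obj C))) := by
  let φ : CommRingCat.of A ⟶ CommRingCat.of (Localization.Away g) :=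
    CommRingCat.ofHom (algebraMap A (Localization.Away g))
  haveI : IsOpenImmersion (Spec.map φ) := IsOpenImmersion.of_isLocalization g
  haveI := hasRpush_scheme (Spec.map φ)
  haveI : PreservesFiniteLimits (tilde.functor (CommRingCat.of (Localization.Away g))) := QCoh.tilde_preservesFiniteLimits
  obtain ⟨t⟩ := nonempty_tildeD_rpush_iso φ
  obtain ⟨e⟩ := nonempty_locB_iso g C
  refine IsOrth.of_iso U.ι ?_ (IsOrth.mono (Spec.map φ) U.ι ?_
    (isOrth_rpush (Spec.map φ) ((DCoh.tildeD (CommRingCat.of (Localization.Away g))).obj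
      (DerivedCategory.Q.obj (locB g C)))))
  · exact t.app _ ≪≫ (DCoh.tildeD (CommRingCat.of A)).mapIso
      (((ModuleCat.restrictScalars.{u} φ.hom).mapDerivedCategoryFactors).app (locB g C) ≪≫
        DerivedCategory.Q.mapIso e)
  · rintro p ⟨q, rfl⟩
    rw [Scheme.Opens.range_ι]
    refine hg _ ?_
    have h : PrimeSpectrum.comap (algebraMap A (Localization.Away g)) q ∈
        (PrimeSpectrum.basicOpen g : Set (PrimeSpectrum A)) := by
      rw [← PrimeSpectrum.localization_away_comap_range (Localization.Away g) g]
      exact Set.mem_range_self q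
    exact h

/-- The Čech complex vanishes on `D(f)`. -/
theorem isZero_restrict_extCech (U : (Spec (CommRingCat.of A)).Opens) (fs : List A) (M : ModuleCat.{u} A)
    (hU : ∀ p : PrimeSpectrum A, p ∈ U → ∃ f ∈ fs, f ∉ p.asIdeal) :
    IsZero ((DCoh.restrictD U.ι).obj ((DCoh.tildeD (CommRingCat.of A)).obj
      (DRing.toD (DerCA.extCech M fs)))) := by
  haveI : PreservesFiniteColimits (tilde.functor (CommRingCat.of A)) := QCoh.tilde_preservesFiniteColimits
  haveI : (tilde.functor (CommRingCat.of A)).Additive := tilde_additive _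
  refine (isSuppD_iff U.ι _).1 fun i x hx hr => ?_
  rw [Scheme.Opens.range_ι] at hr
  obtain ⟨f, hf, hfx⟩ := hU x hr
  apply hx
  let N : ModuleCat.{u} A := DerCA.extCechH fs M i
  let e : DCoh.HD ((DCoh.tildeD (CommRingCat.of A)).obj (DRing.toD (DerCA.extCech M fs))) i ≅
      (tilde.functor (CommRingCat.of A)).obj N :=
    (mapDCHomologyIso (tilde.functor (CommRingCat.of A)) i).app _ ≪≫
      (tilde.functor (CommRingCat.of A)).mapIso ((DerivedCategory.homologyFunctorFactors _ i).app _)
  have hN : Subsingleton ((tilde (R := CommRingCat.of A) N).presheaf.stalk x) :=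
    subsingleton_stalk (R := CommRingCat.of A) N x fun n => by
      obtain ⟨k, hk⟩ := Groth.Agent.H9Misc.ExtCechTors.tors_extCech M fs hf i n
      exact ⟨f ^ k, x.asIdeal.primeCompl.pow_mem hfx k, hk⟩
  exact (((DerSch.stalkFunctor _ x).mapIso e).toLinearEquiv.toEquiv.subsingleton_congr).2 hN

/-- The universal map out of the Čech complex. -/
theorem exists_universal (U : (Spec (CommRingCat.of A)).Opens) (M : ModuleCat.{u} A) :
    ∀ fs : List A, (∀ f ∈ fs, ∀ p : PrimeSpectrum A, f ∉ p.asIdeal → p ∈ U) →
      ∃ μ : (DCoh.tildeD (CommRingCat.of A)).obj (DRing.toD (DerCA.extCech M fs)) ⟶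
          (DCoh.tildeD (CommRingCat.of A)).obj (DRing.toD ((HomologicalComplex.single (ModuleCat.{u} A) (ComplexShape.up ℤ) 0).obj M)),
        ∀ C : DCoh.D (Spec (CommRingCat.of A)), IsZero ((DCoh.restrictD U.ι).obj C) →
          Function.Bijective fun g : C ⟶ (DCoh.tildeD (CommRingCat.of A)).obj (DRing.toD (DerCA.extCech M fs)) => g ≫ μ
  | [], _ => ⟨𝟙 _, fun C _ => ⟨fun a b h => (cancel_mono (𝟙 _)).1 h, fun y => ⟨y, Category.comp_id y⟩⟩⟩
  | f :: fs, h => by
    haveI : PreservesFiniteColimits (tilde.functor (CommRingCat.of A)) := QCoh.tilde_preservesFiniteColimits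
    haveI : (tilde.functor (CommRingCat.of A)).Additive := tilde_additive _
    obtain ⟨μ, hμ⟩ := exists_universal U M fs fun g hg => h g (List.mem_cons_of_mem f hg)
    let φ := DerCA.locCxUnit (Submonoid.powers f) (DerCA.extCech M fs)
    let T := (DCoh.tildeD (CommRingCat.of A)).mapTriangle.obj
      (DerivedCategory.Q.mapTriangle.obj (CochainComplex.mappingCocone.triangle φ))
    have hT : T ∈ distTriang _ :=
      (DCoh.tildeD (CommRingCat.of A)).map_distinguished _ (DerivedCategory.mappingCocone_triangle_distinguished φ)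
    refine ⟨T.mor₁ ≫ μ, fun C hC => ?_⟩
    have h1 := bijective_of_triangle U.ι T hT (isOrth_loc U f (h f (List.mem_cons_self)) _) hC
    have h2 := (hμ C hC).comp h1
    simp only [Function.comp_def, Category.assoc] at h2
    exact h2

/-- The Čech complex is sections with support. -/
theorem nonempty_iso (fs : List A) (M : ModuleCat.{u} A)
    [CxOX.HasRgammaZ (LocCoh.puncturedOpen A (Ideal.span {a | a ∈ fs})).ι] :
    Nonempty ((DCoh.tildeD (CommRingCat.of A)).obj (DRing.toD (DerCA.extCech M fs)) ≅
      (CxOX.RgammaZ (LocCoh.puncturedOpen A (Ideal.span {a | a ∈ fs})).ι).obj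
        ((DCoh.tildeD (CommRingCat.of A)).obj (Dual.inD A M))) := by
  let U := LocCoh.puncturedOpen A (Ideal.span {a | a ∈ fs})
  have hmem : ∀ p : PrimeSpectrum A, p ∈ U ↔ ∃ f ∈ fs, f ∉ p.asIdeal := fun p => by
    change ¬ (Ideal.span {a | a ∈ fs} : Set A) ⊆ p.asIdeal ↔ _
    rw [SetLike.coe_subset_coe, Ideal.span_le, Set.not_subset]
    rfl
  have h1 := isZero_restrict_extCech U fs M fun p hp => (hmem p).1 hp
  obtain ⟨μ, hμ⟩ := exists_universal U M fs fun f hf p hp => (hmem p).2 ⟨f, hf, hp⟩
  let s := (DCoh.tildeD (CommRingCat.of A)).mapIso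
    ((DerivedCategory.singleFunctorIsoCompQ (ModuleCat.{u} A) 0).app M).symm
  have hμ' : ∀ C, IsZero ((DCoh.restrictD U.ι).obj C) → Function.Bijective
      fun g : C ⟶ (DCoh.tildeD (CommRingCat.of A)).obj (DRing.toD (DerCA.extCech M fs)) => g ≫ μ ≫ s.hom := fun C hC => by
    have h2 : Function.Bijective fun g : C ⟶ _ => g ≫ s.hom :=
      ⟨fun a b h => (cancel_mono s.hom).1 h, fun y => ⟨y ≫ s.inv, by simp⟩⟩
    simpa [Function.comp_def] using h2.comp (hμ C hC)
  let ν := (CxOX.RgammaZToId U.ι).app ((DCoh.tildeD (CommRingCat.of A)).obj (Dual.inD A M))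
  obtain ⟨ψ, hψ⟩ := (bijective_toId U.ι h1 ((DCoh.tildeD (CommRingCat.of A)).obj (Dual.inD A M))).2 (μ ≫ s.hom)
  haveI := isIso_of_bijective U.ι _ _ h1 (isZero_restrictD_RgammaZ U.ι _) hμ'
    (fun C hC => bijective_toId U.ι hC _) ψ hψ
  exact ⟨asIso ψ⟩

end Groth.Agent.KExact.CechTilde
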