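import Groth.Agent.Lib.ExtShLocal
import Groth.Agent.Lib.ExtGlobal
import Groth.Agent.LC.ExtDim
import Groth.Agent.SuppDim5.Basic
import Groth.Agent.Codepth5.Module
import Groth.Agent.AssLib.OpenRestrict
import Groth.Agent.KFlatLib.Ghost
import Groth.Agent.KFlatLib.Scheme.CohD
import Groth.Agent.QCoh.Support
import Groth.Agent.H9Misc.TFactor
import Mathlib.Algebra.Homology.DerivedCategory.Ext.Basic

/-!
# Maps into a Cohen–Macaulay sheaf and codimension of supports
-/

set_option autoImplicit false
set_option linter.style.haveILetI false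
set_option linter.overlappingInstances false
set_option backward.isDefEq.respectTransparency false
set_option backward.isDefEq.respectTransparency.types false
set_option maxHeartbeats 1000000

universe w v u

open CategoryTheory CategoryTheory.Limits CategoryTheory.Pretriangulated AlgebraicGeometry TopologicalSpace
open CategoryTheory.Abelian

noncomputable section

namespace Groth.Agent.KExact.CodimExt

section Derived

open DerivedCategory DerivedCategory.TStructure

variable {A : Type u} [Category.{v} A] [Abelian A] [HasDerivedCategory.{w} A]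

lemma hom_eq_zero_of_iso {M M' : A} (e : M ≅ M') (j : ℤ) (T : DerivedCategory A)
    (h : ∀ f : (singleFunctor A j).obj M ⟶ T, f = 0) (f : (singleFunctor A j).obj M' ⟶ T) : f = 0 :=
  zero_of_epi_comp ((singleFunctor A j).map e.hom) (h _)

/-- A map out of a bounded object vanishes if the maps out of its cohomology do. -/
theorem hom_eq_zero_devissage (T : DerivedCategory A) : ∀ (n : ℕ) (K : DerivedCategory A) (a : ℤ),
    DerivedCategory.IsGE K a → DerivedCategory.IsLE K (a + n) →
    (∀ (j : ℤ) (f : (singleFunctor A j).obj ((homologyFunctor A j).obj K) ⟶ T), f = 0) →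
    ∀ f : K ⟶ T, f = 0
  | 0, K, a, hge, hle, h, f => by
    haveI := hge
    haveI : K.IsLE a := by simpa using hle
    obtain ⟨M, ⟨e⟩⟩ := exists_iso_singleFunctor_obj_of_isGE_of_isLE K a
    let eM : (homologyFunctor A a).obj K ≅ M :=
      (homologyFunctor A a).mapIso e ≪≫ (singleFunctorCompHomologyFunctorIso A a).app M
    exact zero_of_epi_comp e.inv (hom_eq_zero_of_iso eM a T (h a) _)
  | n + 1, K, a, hge, hle, h, f => by
    haveI := hge
    haveI := hle
    let b : ℤ := a + (n + 1 : ℕ)
    let K₁ := (t.truncLT b).obj K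
    let K₂ := (t.truncGE b).obj K
    have hT := t.triangleLTGE_distinguished b K
    haveI h₁ : DerivedCategory.IsGE K₁ a := KFlatLib.isGE_truncLT K a b
    haveI h₁' : DerivedCategory.IsLE K₁ (a + n) := t.isLE_truncLT_obj K b (a + n) (by omega)
    haveI h₂ : DerivedCategory.IsGE K₂ b := t.isGE_truncGE_obj K b b le_rfl
    haveI h₂' : DerivedCategory.IsLE K₂ b := (isLE_iff _ _).2 fun i hi => by
      haveI := H9Misc.isIso_map_truncGEπ b i hi.le K
      exact (isZero_of_isLE K (a + (n + 1 : ℕ)) i hi).of_iso
        (asIso ((homologyFunctor A i).map ((t.truncGEπ b).app K))).symm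
    have hf : (t.truncLTι b).app K ≫ f = 0 := by
      refine hom_eq_zero_devissage T n K₁ a h₁ h₁' (fun j g => ?_) _
      by_cases hj : j < b
      · haveI := KFlatLib.isIso_homology_truncLTι K b j hj
        exact hom_eq_zero_of_iso (asIso ((homologyFunctor A j).map ((t.truncLTι b).app K))).symm j T (h j) g
      · exact ((Functor.map_isZero _ (isZero_of_isLE K₁ (a + n) j (by omega)))).eq_of_src _ _
    obtain ⟨g, hg⟩ := Triangle.yoneda_exact₂ _ hT f hf
    haveI := H9Misc.isIso_map_truncGEπ b b le_rfl K
    obtain ⟨M, ⟨e⟩⟩ := exists_iso_singleFunctor_obj_of_isGE_of_isLE K₂ b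
    let eM : (homologyFunctor A b).obj K ≅ M :=
      asIso ((homologyFunctor A b).map ((t.truncGEπ b).app K)) ≪≫ (homologyFunctor A b).mapIso e ≪≫
        (singleFunctorCompHomologyFunctorIso A b).app M
    have hg0 : g = 0 := zero_of_epi_comp e.inv (hom_eq_zero_of_iso eM b T (h b) _)
    rw [hg, hg0, comp_zero]

/-- Maps between single objects are `Ext` classes. -/
theorem hom_single_eq_zero [HasExt.{v} A] (M L : A) (j : ℤ)
    (h : ∀ q : ℕ, (q : ℤ) = j → Subsingleton (Ext.{v} M L q))
    (f : (singleFunctor A j).obj M ⟶ (singleFunctor A 0).obj L) : f = 0 := by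
  let e : ((singleFunctor A j).obj M)⟦j⟧ ≅ (singleFunctor A 0).obj M :=
    ((singleFunctors A).shiftIso j 0 j (by omega)).app M
  apply (shiftFunctor (DerivedCategory A) j).map_injective
  rw [Functor.map_zero]
  rcases lt_or_ge j 0 with hj | hj
  · refine zero_of_epi_comp e.inv (t.zero_of_isLE_of_isGE _ 0 (-j) (by omega) inferInstance ?_)
    exact t.isGE_shift ((singleFunctor A 0).obj L) 0 j (-j) (by omega)
  · obtain ⟨q, rfl⟩ := Int.eq_ofNat_of_zero_le hj
    haveI := h q rfl
    refine zero_of_epi_comp e.inv ?_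
    exact (Ext.homEquiv (X := M) (Y := L) (n := q)).symm.injective (Subsingleton.elim _ _)

end Derived

variable {X : Scheme.{u}}

/-- The support of a stalk of a sheaf supported in codimension `c`. -/
theorem supportDim_stalk_le_of_codim [IsLocallyNoetherian X] {M : X.Modules} (hM : Coh.IsCoh M) {c : ℕ}
    (hc : ∀ x ∈ CohB1.support M, (c : WithBot ℕ∞) ≤ ringKrullDim (X.presheaf.stalk x)) (x : X) (δ : ℕ)
    (hδ : ringKrullDim (X.presheaf.stalk x) = δ) :
    Module.supportDim (X.presheaf.stalk x) (M.presheaf.stalk x) ≤ ((δ - c : ℕ) : WithBot ℕ∞) := by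
  rw [SuppDim5.supportDim_stalk_eq hM x]
  refine iSup_le fun l => ?_
  let T : Set X := {t : X | t ∈ CohB1.support M ∧ t ⤳ x}
  have hi : Topology.IsInducing (Subtype.val : T → X) := Topology.IsInducing.subtypeVal
  let f : IrreducibleCloseds T → IrreducibleCloseds X := IrreducibleCloseds.map Subtype.val hi.continuous
  have hf : StrictMono f := IrreducibleCloseds.map_strictMono_of_isInducing hi
  let l' := l.map f hf
  -- every member lies in the support and specializes to `x`
  have hmem : ∀ Z : IrreducibleCloseds T, (irreducibleSetEquivPoints (f Z) : X) ∈ CohB1.support M ∧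
      x ∈ (f Z : Set X) := by
    intro Z
    have hgen := (f Z).isIrreducible'.isGenericPoint_genericPoint_closure
    rw [(f Z).isClosed'.closure_eq] at hgen
    obtain ⟨z, hz⟩ := Z.isIrreducible'.1
    have hzm : (z : X) ∈ (f Z : Set X) := subset_closure ⟨z, hz, rfl⟩
    refine ⟨?_, z.2.2.mem_closed (f Z).isClosed' hzm⟩
    refine (closure_minimal (fun y hy => ?_) (QCoh.isClosed_support_of_isFT hM.1 hM.2)) hgen.mem
    obtain ⟨w, -, rfl⟩ := hy
    exact w.2.1
  let P : IrreducibleCloseds X := (irreducibleSetEquivPoints (α := X)).symm x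
  have hP : P ≤ l'.head := by
    show (P : Set X) ⊆ (f l.head : Set X)
    refine closure_minimal ?_ (f l.head).isClosed'
    exact Set.singleton_subset_iff.2 (hmem l.head).2
  have hc' : (c : ℕ∞) ≤ Order.coheight l'.last := by
    have h := hc _ (hmem l.last).1
    rw [ringKrullDim_stalk_eq_coheight, Order.coheight_orderIso] at h
    exact_mod_cast h
  have hchain : ∀ i : Fin (l'.length + 1),
      Order.coheight l'.last + ((l'.length - i.val : ℕ) : ℕ∞) ≤ Order.coheight (l' i) := by
    intro i
    induction i using Fin.reverseInduction with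
    | last => simp [RelSeries.last]
    | cast i ih =>
      have hlt : l' i.castSucc < l' i.succ := l'.strictMono (Fin.castSucc_lt_succ)
      refine le_trans ?_ (Order.coheight_add_one_le hlt)
      refine le_trans (le_of_eq ?_) (add_le_add ih le_rfl)
      rw [add_assoc]
      congr 1
      rw [show l'.length - (i.castSucc : ℕ) = (l'.length - (i.succ : ℕ)) + 1 by
        simp only [Fin.val_castSucc, Fin.val_succ]; omega]
      push_cast
      rfl
  have hx : Order.coheight P = (δ : ℕ∞) := by
    have h := hδ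
    rw [ringKrullDim_stalk_eq_coheight, ← (irreducibleSetEquivPoints (α := X)).apply_symm_apply x,
      Order.coheight_orderIso] at h
    exact_mod_cast h
  have h2 : (c : ℕ∞) + (l.length : ℕ∞) ≤ (δ : ℕ∞) := by
    refine (le_trans ?_ (Order.coheight_anti hP)).trans hx.le
    refine le_trans ?_ (hchain 0)
    simpa [l'] using add_le_add hc' (le_refl (l.length : ℕ∞))
  have h3 : c + l.length ≤ δ := by exact_mod_cast h2
  exact_mod_cast (show l.length ≤ δ - c by omega)

/-- Local `Ext` from a module with support of codimension `c` into a Cohen–Macaulay one of full support. -/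
theorem subsingleton_ext_stalk [IsLocallyNoetherian X] {M L : X.Modules} (hM : Coh.IsCoh M) (hL : Coh.IsCoh L) {c : ℕ}
    (hc : ∀ x ∈ CohB1.support M, (c : WithBot ℕ∞) ≤ ringKrullDim (X.presheaf.stalk x)) (x : X)
    (hdep : ((LocCoh.depth (X.presheaf.stalk x) (L.presheaf.stalk x) : ℕ∞) : WithBot ℕ∞) =
      ringKrullDim (X.presheaf.stalk x)) (q : ℕ) (hq : q < c) :
    Subsingleton (Ext.{u} (ModuleCat.of (X.presheaf.stalk x) (M.presheaf.stalk x))
      (ModuleCat.of (X.presheaf.stalk x) (L.presheaf.stalk x)) q) := by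
  haveI := QCoh.finite_stalk_of_isFT hM.1 hM.2 x
  haveI := QCoh.finite_stalk_of_isFT hL.1 hL.2 x
  by_cases hx : x ∈ CohB1.support M
  · obtain ⟨δ, hδ⟩ : ∃ δ : ℕ, ringKrullDim (X.presheaf.stalk x) = δ := by
      obtain ⟨D, hD⟩ := LC.exists_supportDim_eq_nat (R := X.presheaf.stalk x) (X.presheaf.stalk x)
      exact ⟨D, by rw [← Module.supportDim_self_eq_ringKrullDim, hD]⟩
    have hcδ : c ≤ δ := by
      have := hc x hx; rw [hδ] at this; exact_mod_cast this
    refine LC.subsingleton_ext_of_add_lt_depth _ _ (δ - c) q (supportDim_stalk_le_of_codim hM hc x δ hδ) ?_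
    have hd : LocCoh.depth (X.presheaf.stalk x) (L.presheaf.stalk x) = (δ : ℕ∞) := by
      rw [hδ] at hdep; exact WithBot.coe_injective hdep
    rw [hd]
    exact_mod_cast (show q + (δ - c) < δ by omega)
  · haveI : Subsingleton (M.presheaf.stalk x) := not_not.1 hx
    refine subsingleton_of_forall_eq 0 fun e => ?_
    rw [← Ext.mk₀_id_comp e, show 𝟙 (ModuleCat.of (X.presheaf.stalk x) _) = 0 from
      ModuleCat.hom_ext (LinearMap.ext fun z => Subsingleton.elim (α := M.presheaf.stalk x) _ _)]
    simp

/-- `Ext` from a sheaf with support of codimension `c` into a Cohen–Macaulay one of full support. -/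
theorem subsingleton_ext (k : Type u) [Field k] (a : X ⟶ Spec (CommRingCat.of k)) [IsLocallyNoetherian X]
    [HasExt.{u} X.Modules] {M L : X.Modules} (hM : Coh.IsCoh M) (hL : Coh.IsCoh L) {c : ℕ}
    (hc : ∀ x ∈ CohB1.support M, (c : WithBot ℕ∞) ≤ ringKrullDim (X.presheaf.stalk x))
    (hdep : ∀ x : X, ((LocCoh.depth (X.presheaf.stalk x) (L.presheaf.stalk x) : ℕ∞) : WithBot ℕ∞) =
      ringKrullDim (X.presheaf.stalk x)) (q : ℕ) (hq : q < c) :
    Subsingleton (Ext.{u} M L q) := by
  letI : X.Over (Spec (CommRingCat.of k)) := ⟨a⟩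
  haveI : ModSite.HasSheafHom (O := X.sheaf) M := SheafHomX.isLeftAdjoint_ten M
  haveI : HasInjectiveResolutions (ModSite.Mod X.sheaf) := inferInstanceAs (HasInjectiveResolutions X.Modules)
  have hz : ∀ i ≤ q, IsZero ((ModSite.extSh (O := X.sheaf) M i).obj L) := fun i hi =>
    (ExtShLocal.isZero_extSh_iff_stalk hM hL.1 i).2 fun x => subsingleton_ext_stalk hM hL hc x (hdep x) i (by omega)
  obtain ⟨e⟩ := ExtGlobal.nonempty_ext_equiv (A := k) M L q fun i hi => ExtGlobal.acyclic_of_isZero (hz i hi)
  refine @Equiv.subsingleton _ _ e.toEquiv ?_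
  refine subsingleton_of_forall_eq 0 fun x => ?_
  have hid : 𝟙 (Coh.toAb _) = 0 := (Functor.map_isZero (QCoh.toAbFunctor X) (hz q le_rfl)).eq_of_src _ _
  rw [← Ext.comp_mk₀_id x, hid, Ext.mk₀_zero, Ext.comp_zero]

/-- Depth equal to dimension passes to open subschemes. -/
theorem depth_eq_dim_restrict {U : Scheme.{u}} (j : U ⟶ X) [IsOpenImmersion j] (L : X.Modules) (z : U)
    (h : ((LocCoh.depth (X.presheaf.stalk (j.base z)) (L.presheaf.stalk (j.base z)) : ℕ∞) : WithBot ℕ∞) =
      ringKrullDim (X.presheaf.stalk (j.base z))) :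
    ((LocCoh.depth (U.presheaf.stalk z) ((L.restrict j).presheaf.stalk z) : ℕ∞) : WithBot ℕ∞) =
      ringKrullDim (U.presheaf.stalk z) := by
  obtain ⟨e, he⟩ := AssLib.exists_semilinear_restrict j L z
  let τ : X.presheaf.stalk (j.base z) ≃+* U.presheaf.stalk z :=
    (asIso (j.stalkMap z)).commRingCatIsoToRingEquiv
  have hd := (Prod.ext_iff.1 (Codepth5.dd_congr (X := L.presheaf.stalk (j.base z))
    (X' := (L.restrict j).presheaf.stalk z) τ.symm.toRingHom τ.symm.surjective e fun r m => by
      have := he (τ.symm r) m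
      rwa [show (j.stalkMap z).hom (τ.symm r) = r from τ.apply_symm_apply r] at this)).2
  rw [Codepth5.dd, Codepth5.dd] at hd
  dsimp only at hd
  rw [hd, h]
  exact ringKrullDim_eq_of_ringEquiv τ

end Groth.Agent.KExact.CodimExt
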