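import Groth.Agent.KFlatLib.Scheme.RGammaPush
import Groth.Agent.QCoh.GodHH
import Groth.Agent.QCoh.HHExact
import Groth.Agent.Lib.Euler
import Groth.Agent.S0458
import Groth.Agent.QCoh.OpenSub

/-!
# Global sections of complexes with acyclic cohomology
-/

set_option autoImplicit false
set_option linter.style.haveILetI false
set_option backward.isDefEq.respectTransparency false
set_option backward.isDefEq.respectTransparency.types false

universe u

open CategoryTheory CategoryTheory.Limits AlgebraicGeometry Opposite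
open CategoryTheory.Abelian

attribute [local instance] HasDerivedCategory.standard

noncomputable section

namespace Groth.Agent.KExact.GammaAcyclic

open KFlatLib

variable {X : Scheme.{u}}

/-- No higher cohomology. -/
def Acyc (M : X.Modules) : Prop := ∀ p : ℕ, 1 ≤ p → Subsingleton (Coh.HH X M p)

/-- Injective modules are acyclic. -/
theorem acyc_of_injective (N : X.Modules) [Injective N] : Acyc N := by
  intro p hp
  obtain ⟨k, rfl⟩ := Nat.exists_eq_add_of_le' hp
  haveI := QCoh.subsingleton_HH_God N k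
  haveI : Mono (QCoh.toGod N) :=
    (Scheme.Modules.toPresheaf X).mono_of_mono_map (by
      haveI : ∀ U, Mono (((Scheme.Modules.toPresheaf X).map (QCoh.toGod N)).app U) := fun U =>
        (AddCommGrpCat.mono_iff_injective _).2 (QCoh.toGod_app_injective N U.unop)
      exact NatTrans.mono_of_mono_app _)
  let r := Injective.factorThru (𝟙 N) (QCoh.toGod N)
  refine subsingleton_of_forall_eq 0 fun y => ?_
  have h1 : Sheaf.H.map ((QCoh.toAbFunctor X).map r) (k + 1)
      (Sheaf.H.map ((QCoh.toAbFunctor X).map (QCoh.toGod N)) (k + 1) y) = y :=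
    (Groth.Agent.PnCoh.Finite.map_map (Y := X.toPresheafedSpace.carrier)
      (((QCoh.toAbFunctor X).map_comp (QCoh.toGod N) r).symm.trans
        (by rw [Injective.comp_factorThru, CategoryTheory.Functor.map_id]; rfl)) (k + 1) y).trans
      (Sheaf.H.map_id_apply y)
  rw [← h1]
  exact (congrArg _ (show Sheaf.H.map ((QCoh.toAbFunctor X).map (QCoh.toGod N)) (k + 1) y = 0 from
    @Subsingleton.elim (Coh.HH X (QCoh.God N) (k + 1)) _ _ _)).trans (map_zero _)

theorem subsingleton_HH_X₃ {S : ShortComplex X.Modules} (hS : S.ShortExact) (n : ℕ)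
    (h₂ : Subsingleton (Coh.HH X S.X₂ n)) (h₁ : Subsingleton (Coh.HH X S.X₁ (n + 1))) :
    Subsingleton (Coh.HH X S.X₃ n) := by
  have hT := QCoh.toAb_shortExact hS
  refine subsingleton_of_forall_eq 0 fun x => ?_
  obtain ⟨y, rfl⟩ := Ext.covariant_sequence_exact₃ _ hT x rfl (h₁.elim _ _)
  rw [h₂.elim y 0]
  exact Ext.zero_comp _ _ _ _ _

/-- Sections lift along epimorphisms with kernel without first cohomology. -/
theorem lift_of_HH_one {S : ShortComplex X.Modules} (hS : S.ShortExact) (h : Subsingleton (Coh.HH X S.X₁ 1))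
    (σ : Coh.structureModule X ⟶ S.X₃) : ∃ τ, τ ≫ S.g = σ := by
  obtain ⟨t, ht⟩ := QCoh.app_top_surjective_of_HH_one hS h (topEquiv _ σ)
  obtain ⟨τ, rfl⟩ := (topEquiv S.X₂).surjective t
  exact ⟨τ, (topEquiv _).injective ((topEquiv_naturality τ S.g).trans ht)⟩

section Complex

variable (I : CochainComplex X.Modules ℤ)

abbrev bd (j : ℤ) : X.Modules := kernel (I.homologyπ j)

def toBd (i j : ℤ) : I.X i ⟶ bd I j :=
  kernel.lift _ (I.toCycles i j) (I.toCycles_comp_homologyπ i j)

lemma toBd_ι (i j : ℤ) : toBd I i j ≫ kernel.ι (I.homologyπ j) ≫ I.iCycles j = I.d i j := by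
  rw [toBd, kernel.lift_ι_assoc, HomologicalComplex.toCycles_i]

lemma shortExact_homology (j : ℤ) :
    (ShortComplex.mk (kernel.ι (I.homologyπ j)) (I.homologyπ j) (kernel.condition _)).ShortExact :=
  { exact := ShortComplex.exact_kernel _ }

lemma iCycles_toBd (i j : ℤ) (hij : i + 1 = j) : I.iCycles i ≫ toBd I i j = 0 := by
  rw [← cancel_mono (kernel.ι (I.homologyπ j)), ← cancel_mono (I.iCycles j), Category.assoc, Category.assoc,
    toBd_ι, HomologicalComplex.iCycles_d, zero_comp, zero_comp]

lemma shortExact_bd (i j : ℤ) (hij : i + 1 = j) :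
    (ShortComplex.mk (I.iCycles i) (toBd I i j) (iCycles_toBd I i j hij)).ShortExact := by
  haveI : Epi (toBd I i j) :=
    (ShortComplex.exact_of_g_is_cokernel (ShortComplex.mk (I.toCycles i j) (I.homologyπ j)
      (I.toCycles_comp_homologyπ i j)) (I.homologyIsCokernel i j (by simp; omega))).epi_kernelLift
  refine { exact := ?_ }
  rw [ShortComplex.exact_iff_exact_up_to_refinements]
  intro A x hx
  refine ⟨A, 𝟙 A, inferInstance, I.liftCycles x j (by simp; omega) ?_, ?_⟩
  · rw [← toBd_ι I i j, ← Category.assoc, show x ≫ toBd I i j = 0 from hx, zero_comp]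
  · rw [Category.id_comp]
    exact (I.liftCycles_i x j (by simp; omega) _).symm

variable (g : ℕ) (hg : ∀ (M : X.Modules) (p : ℕ), g < p → Subsingleton (Coh.HH X M p))
  (hI : ∀ n, Acyc (I.X n)) (hH : ∀ n, Acyc (I.homology n))

include hg hI hH in
/-- Cycles have no higher cohomology. -/
theorem acyc_cycles : ∀ n, Acyc (I.cycles n) := by
  suffices H : ∀ (m p : ℕ), 1 ≤ p → g < p + m → ∀ n, Subsingleton (Coh.HH X (I.cycles n) p) from
    fun n p hp => H (g + 1) p hp (by omega) n
  intro m
  induction m with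
  | zero => intro p _ h n; exact hg _ p (by omega)
  | succ m ih =>
    intro p hp h n
    refine QCoh.subsingleton_HH_X₂ (shortExact_homology I n) p ?_ (hH n p hp)
    exact subsingleton_HH_X₃ (shortExact_bd I (n - 1) n (by omega)) p (hI _ p hp) (ih (p + 1) (by omega) (by omega) _)

include hg hI hH in
/-- The complex of global sections is exact exactly where the cohomology has no sections. -/
theorem exactAt_gamma_iff (j : ℤ) :
    (((DCoh.gammaAb X).mapHomologicalComplex (ComplexShape.up ℤ)).obj I).ExactAt j ↔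
      ∀ σ : Coh.structureModule X ⟶ I.homology j, σ = 0 := by
  have hc := acyc_cycles I g hg hI hH
  have hb : Acyc (bd I j) := fun p hp =>
    subsingleton_HH_X₃ (shortExact_bd I (j - 1) j (by omega)) p (hI _ p hp) (hc _ (p + 1) (by omega))
  rw [HomologicalComplex.exactAt_iff' _ (j - 1) j (j + 1) (by simp) (by simp), ShortComplex.ab_exact_iff]
  constructor
  · intro h σ
    obtain ⟨z, hz⟩ := lift_of_HH_one (shortExact_homology I j) (hb 1 le_rfl) σ
    obtain ⟨y, hy⟩ := h (topEquiv (I.X j) (z ≫ I.iCycles j))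
      ((topEquiv_naturality _ (I.d j (j + 1))).symm.trans
        ((congrArg (topEquiv _) (by rw [Category.assoc, HomologicalComplex.iCycles_d, comp_zero])).trans
          (topEquiv_zero _)))
    obtain ⟨η, rfl⟩ := (topEquiv (I.X (j - 1))).surjective y
    have hη : η ≫ I.d (j - 1) j = z ≫ I.iCycles j :=
      (topEquiv _).injective ((topEquiv_naturality η _).trans hy)
    have hzη : η ≫ I.toCycles (j - 1) j = z := by
      rw [← cancel_mono (I.iCycles j), Category.assoc, HomologicalComplex.toCycles_i, hη]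
    rw [← hz, ← hzη, Category.assoc, show I.toCycles (j - 1) j ≫ I.homologyπ j = 0 from
      I.toCycles_comp_homologyπ _ _, comp_zero]
  · intro h y hy
    obtain ⟨τ, rfl⟩ := (topEquiv (I.X j)).surjective y
    have hτ : τ ≫ I.d j (j + 1) = 0 :=
      (topEquiv _).injective ((topEquiv_naturality τ _).trans (hy.trans (topEquiv_zero _).symm))
    let z := I.liftCycles τ (j + 1) (by simp) hτ
    let b : Coh.structureModule X ⟶ bd I j := kernel.lift _ z (h _)
    obtain ⟨η, hη⟩ := lift_of_HH_one (shortExact_bd I (j - 1) j (by omega)) (hc _ 1 le_rfl) b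
    refine ⟨topEquiv (I.X (j - 1)) η, (topEquiv_naturality η _).symm.trans (congrArg _ ?_)⟩
    change η ≫ toBd I (j - 1) j = b at hη
    rw [← toBd_ι I (j - 1) j, ← Category.assoc, hη, kernel.lift_ι_assoc]
    exact I.liftCycles_i τ (j + 1) (by simp) hτ

end Complex

/-- Hypercohomology of an object with acyclic cohomology. -/
theorem isZero_RΓ_iff [DCoh.HasRΓ X] (g : ℕ) (hg : ∀ (M : X.Modules) (p : ℕ), g < p → Subsingleton (Coh.HH X M p))
    (W : DCoh.D X) (hH : ∀ n, Acyc (DCoh.HD W n)) (j : ℤ) :
    IsZero ((DerivedCategory.homologyFunctor AddCommGrpCat.{u} j).obj ((DCoh.RΓ X).obj W)) ↔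
      ∀ σ : Coh.structureModule X ⟶ DCoh.HD W j, σ = 0 := by
  let c := ComplexShape.up ℤ
  obtain ⟨I, hK, hinj, ⟨eI⟩⟩ := exists_kInjective_rep W
  haveI := hK
  haveI := isIso_rightDerivedUnit_of_kInjective (DCoh.gammaKh X) I
  let eH : ∀ n, DCoh.HD W n ≅ I.homology n := fun n =>
    (DerivedCategory.homologyFunctor X.Modules n).mapIso eI ≪≫
      (DerivedCategory.homologyFunctorFactors X.Modules n).app I
  have hI : ∀ n, Acyc (I.X n) := fun n => haveI := hinj n; acyc_of_injective _
  have hH' : ∀ n, Acyc (I.homology n) := fun n p hp => QCoh.subsingleton_HH_of_iso (eH n) p (hH n p hp)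
  let eR : (DerivedCategory.homologyFunctor AddCommGrpCat.{u} j).obj ((DCoh.RΓ X).obj W) ≅
      (((DCoh.gammaAb X).mapHomologicalComplex c).obj I).homology j :=
    (DerivedCategory.homologyFunctor AddCommGrpCat.{u} j).mapIso ((DCoh.RΓ X).mapIso eI ≪≫
      (asIso (((DCoh.gammaKh X).totalRightDerivedUnit DerivedCategory.Qh
        (HomotopyCategory.quasiIso X.Modules c)).app ((HomotopyCategory.quotient X.Modules c).obj I))).symm) ≪≫
      (DerivedCategory.homologyFunctorFactors AddCommGrpCat.{u} j).app _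
  rw [eR.isZero_iff, ← HomologicalComplex.exactAt_iff_isZero_homology, exactAt_gamma_iff I g hg hI hH' j]
  exact ⟨fun h σ => zero_of_comp_mono (eH j).hom (h _), fun h σ => zero_of_comp_mono (eH j).inv (h _)⟩

/-- Cohomology vanishes above the dimension. -/
theorem subsingleton_HH_of_dim [TopologicalSpace.NoetherianSpace X] {g : ℕ} (hg : topologicalKrullDim X ≤ g)
    (M : X.Modules) (p : ℕ) (hp : g < p) : Subsingleton (Coh.HH X M p) :=
  S0458.result (X := X.toPresheafedSpace.carrier) g hg (Coh.toAb M) p hp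

end Groth.Agent.KExact.GammaAcyclic
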