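import Groth.Agent.KExact.Transfer

/-!
# A cokernel of free modules with one flat stalk is free nearby
-/

set_option autoImplicit false
set_option linter.style.haveILetI false
set_option backward.isDefEq.respectTransparency false
set_option backward.isDefEq.respectTransparency.types false

universe u

open CategoryTheory CategoryTheory.Limits AlgebraicGeometry

namespace Groth.Agent.KExact

open KFlatLib

variable {X : Scheme.{u}}

/-- The cokernel of a map of free modules is free near a point where its stalk is flat. -/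
lemma exists_free_of_flat_at {p q : ℕ} (d : FlatMod.freeMod X p ⟶ FlatMod.freeMod X q)
    (x : X)
    (hflat : Module.Flat (X.presheaf.stalk x)
      ((DerSch.stalkFunctor X x).obj (cokernel d) : Type u)) :
    ∃ (W : X.Opens) (r : ℕ), x ∈ W ∧
      Nonempty ((cokernel d).restrict W.ι ≅ FlatMod.freeMod (W : Scheme.{u}) r) := by
  let S := DerSch.stalkFunctor X x
  let C := cokernel d
  let π := cokernel.π d
  have hπ : Function.Surjective (S.map π) := (ModuleCat.epi_iff_surjective _).1 inferInstance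
  have hq : Module.Finite (X.presheaf.stalk x) (S.obj (FlatMod.freeMod X q) : Type u) := by
    haveI : Module.Finite (X.presheaf.stalk x) (S.obj (Coh.structureModule X) : Type u) :=
      Module.Finite.equiv ((stalkUnitEquiv x).trans ((stalkToPIso x).app _).toLinearEquiv.symm)
    haveI : Module.Finite (X.presheaf.stalk x)
        (DirectSum (Fin q) fun _ : Fin q => (S.obj (Coh.structureModule X) : Type u)) :=
      Module.Finite.equiv (DirectSum.linearEquivFunOnFintype _ (Fin q) _).symm
    exact Module.Finite.equiv (PreservesCoproduct.iso S (fun _ : Fin q => Coh.structureModule X) ≪≫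
      ModuleCat.coprodIsoDirectSum _).toLinearEquiv.symm
  haveI : Module.Finite (X.presheaf.stalk x) (S.obj C : Type u) :=
    Module.Finite.of_surjective (S.map π).hom hπ
  haveI : Module.Flat (X.presheaf.stalk x) (S.obj C : Type u) := hflat
  haveI : Module.Free (X.presheaf.stalk x) (S.obj C : Type u) := Module.free_of_flat_of_isLocalRing
  let b := Module.finBasis (X.presheaf.stalk x) (S.obj C : Type u)
  choose v hv using fun i => hπ (b i)
  let Mr : ModuleCat.{u} (X.presheaf.stalk x) :=
    S.obj (FlatMod.freeMod X (Module.finrank (X.presheaf.stalk x) (S.obj C : Type u)))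
  let s : S.obj C ⟶ Mr :=
    ModuleCat.ofHom (b.constr ℕ (M' := (Mr : Type u)) fun i => eGerm (X := X) x i)
  have hs : ∀ i, s (b i) = eGerm x i := fun i =>
    b.constr_basis ℕ (M' := (Mr : Type u)) (fun i => eGerm (X := X) x i) i
  obtain ⟨U₁, hU₁, h₁⟩ := exists_of_germs (FlatMod.freeMod X q) x v
  obtain ⟨U₂, hU₂, h₂⟩ := exists_of_germs (FlatMod.freeMod X
    (Module.finrank (X.presheaf.stalk x) (S.obj C : Type u))) x
    (fun j : Fin q => s (S.map π (eGerm x j)))
  have hW : x ∈ U₁ ⊓ U₂ := ⟨hU₁, hU₂⟩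
  obtain ⟨u, hu⟩ := h₁ _ hW inf_le_left
  obtain ⟨δ, hδ⟩ := h₂ _ hW inf_le_right
  let R := Scheme.Modules.restrictFunctor (U₁ ⊓ U₂).ι
  have hδ' : stalkAt hW δ = S.map π ≫ s := free_stalk_ext hδ
  have hu' : stalkAt hW u ≫ S.map π ≫ s = 𝟙 _ := free_stalk_ext fun i => by
    change s (S.map π (stalkAt hW u (eGerm x i))) = eGerm x i
    rw [hu i, hv i, hs i]
  have e₁ : stalkAt hW (R.map d ≫ δ) = 0 := by
    rw [stalkAt_comp, stalkAt_map, hδ', ← Category.assoc, ← Functor.map_comp, cokernel.condition,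
      Functor.map_zero, zero_comp]
  have e₂ : stalkAt hW (u ≫ δ - 𝟙 _) = 0 := by
    rw [stalkAt_sub, stalkAt_comp, hδ', stalkAt_id, hu', sub_self]
  have e₃ : stalkAt hW (δ ≫ u ≫ R.map π - R.map π) = 0 := by
    rw [stalkAt_sub, stalkAt_comp, stalkAt_comp, stalkAt_map, hδ', sub_eq_zero]
    have hsu : s ≫ stalkAt hW u ≫ S.map π = 𝟙 _ := ModuleCat.hom_ext (b.ext fun i => by
      change S.map π (stalkAt hW u (s (b i))) = b i
      rw [hs i, hu i, hv i])
    rw [Category.assoc, hsu, Category.comp_id]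
  obtain ⟨W₁, hx₁, z₁⟩ := exists_resHom_eq_zero _ hW e₁
  obtain ⟨W₂, hx₂, z₂⟩ := exists_resHom_eq_zero _ hW e₂
  obtain ⟨W₃, hx₃, z₃⟩ := exists_resHom_eq_zero _ hW e₃
  let V := (U₁ ⊓ U₂) ⊓ (W₁ ⊓ W₂ ⊓ W₃)
  have l : V ≤ U₁ ⊓ U₂ := inf_le_left
  have z₁' := z₁ V l (inf_le_right.trans (inf_le_left.trans inf_le_left))
  have z₂' := z₂ V l (inf_le_right.trans (inf_le_left.trans inf_le_right))
  have z₃' := z₃ V l (inf_le_right.trans inf_le_right)
  rw [resHom_comp, resHom_map] at z₁'
  rw [resHom_sub, resHom_comp, resHom_id, sub_eq_zero] at z₂'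
  rw [resHom_sub, resHom_comp, resHom_comp, resHom_map, sub_eq_zero] at z₃'
  let T := Scheme.Modules.restrictFunctor V.ι
  let hc := CokernelCofork.mapIsColimit _ (cokernelIsCokernel d) T
  let e : C.restrict V.ι ⟶ (FlatMod.freeMod X _).restrict V.ι :=
    hc.desc (CokernelCofork.ofπ (resHom l δ) z₁')
  have he : T.map π ≫ e = resHom l δ :=
    hc.fac (CokernelCofork.ofπ (resHom l δ) z₁') WalkingParallelPair.one
  haveI : Epi (T.map π) := inferInstance
  let i₀ : C.restrict V.ι ≅ (FlatMod.freeMod X _).restrict V.ι :=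
    Iso.mk e (resHom l u ≫ T.map π)
      (by
        rw [← cancel_epi (T.map π), reassoc_of% he, z₃']
        exact (Category.comp_id _).symm)
      (by rw [Category.assoc, he, z₂'])
  exact ⟨V, _, ⟨hW, ⟨hx₁, hx₂⟩, hx₃⟩, ⟨i₀ ≪≫
    (Scheme.Modules.restrictFunctorIsoPullback V.ι).app _ ≪≫ pullFreeIso _ _⟩⟩

end Groth.Agent.KExact
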