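import Groth.Agent.KExact.Transfer
import Groth.Agent.QCoh.LocFree
import Groth.Agent.FPEnough.Descend
import Groth.Agent.AssLib.OpenRestrict
import Groth.Agent.ConsPropLib.FibreLocFree

/-!
# The locus where all cohomology sheaves of a perfect complex are locally free
-/

set_option linter.style.haveILetI false
set_option backward.isDefEq.respectTransparency false
set_option backward.isDefEq.respectTransparency.types false

universe u

open CategoryTheory CategoryTheory.Limits AlgebraicGeometry TopologicalSpace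

attribute [local instance] HasDerivedCategory.standard

namespace Groth.Agent.KExact.FreeLocus

open Groth.Agent.KFlatLib

variable {X : Scheme.{u}}

/-- Free and finite, on a stalk. -/
def FF (M : X.Modules) (x : X) : Prop :=
  Module.Free (X.presheaf.stalk x) (M.presheaf.stalk x) ∧
    Module.Finite (X.presheaf.stalk x) (M.presheaf.stalk x)

theorem ff_restrict {U : Scheme.{u}} (j : U ⟶ X) [IsOpenImmersion j] (F : X.Modules) (p : U) :
    FF (F.restrict j) p ↔ FF F (j.base p) := by
  obtain ⟨e, he⟩ := AssLib.exists_semilinear_restrict j F p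
  let τ : X.presheaf.stalk (j.base p) ≃+* U.presheaf.stalk p :=
    (asIso (j.stalkMap p)).commRingCatIsoToRingEquiv
  let σ := τ.toRingHom
  let σ' := τ.symm.toRingHom
  haveI : RingHomInvPair σ σ' := ⟨τ.symm_toRingHom_comp_toRingHom, τ.toRingHom_comp_symm_toRingHom⟩
  haveI : RingHomInvPair σ' σ := ⟨τ.toRingHom_comp_symm_toRingHom, τ.symm_toRingHom_comp_toRingHom⟩
  haveI : RingHomSurjective σ := ⟨τ.surjective⟩
  haveI : RingHomSurjective σ' := ⟨τ.symm.surjective⟩
  let E : F.presheaf.stalk (j.base p) ≃ₛₗ[σ] (F.restrict j).presheaf.stalk p :=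
    { e.symm with
      map_smul' := fun a m => e.injective (by
        have h := he a (e.symm m)
        rw [e.apply_symm_apply] at h
        exact ((e.apply_symm_apply (a • m)).trans h.symm)) }
  refine ⟨fun h => ⟨?_, ?_⟩, fun h => ⟨?_, ?_⟩⟩
  · haveI := h.1
    exact Module.Free.of_equiv E.symm
  · haveI := h.2
    exact Module.Finite.of_surjective (σ := σ') E.symm.toLinearMap E.symm.surjective
  · haveI := h.1
    exact Module.Free.of_equiv E
  · haveI := h.2
    exact Module.Finite.of_surjective (σ := σ) E.toLinearMap E.surjective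

theorem ff_of_finLocFree {M : X.Modules} (h : FlatMod.IsFinLocFree M) (x : X) : FF M x :=
  ⟨QCoh.free_stalk_of_isFinLocFree h x, QCoh.finite_stalk_of_isFT (QCoh.isQCoh_of_isFinLocFree h)
    (QCoh.isFT_of_isFP (QCoh.isFP_of_isFinLocFree h)) x⟩

theorem ff_of_iso {M N : X.Modules} (e : M ≅ N) {x : X} (h : FF M x) : FF N x := by
  haveI := h.1
  haveI := h.2
  haveI : Module.Free (X.presheaf.stalk x) ((DerSch.stalkFunctor X x).obj M : Type u) := h.1
  haveI : Module.Finite (X.presheaf.stalk x) ((DerSch.stalkFunctor X x).obj M : Type u) := h.2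
  let l := ((DerSch.stalkFunctor X x).mapIso e).toLinearEquiv
  exact ⟨Module.Free.of_equiv l, Module.Finite.equiv l⟩

theorem linalg {R M₁ M₂ M₃ : Type u} [CommRing R] [IsLocalRing R] [AddCommGroup M₁] [AddCommGroup M₂]
    [AddCommGroup M₃] [Module R M₁] [Module R M₂] [Module R M₃] (f : M₁ →ₗ[R] M₂) (g : M₂ →ₗ[R] M₃)
    (hf : Function.Injective f) (hg : Function.Surjective g) (hex : Function.Exact f g)
    [Module.Free R M₃] [Module.Finite R M₃] :
    (Module.Free R M₁ → Module.Finite R M₁ → Module.Free R M₂ ∧ Module.Finite R M₂) ∧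
      (Module.Free R M₂ → Module.Finite R M₂ → Module.Free R M₁ ∧ Module.Finite R M₁) := by
  obtain ⟨s, hs⟩ := Module.projective_lifting_property g LinearMap.id hg
  obtain ⟨l, -⟩ := (hex.splitSurjectiveEquiv hf) ⟨s, hs⟩
  refine ⟨fun _ _ => ⟨Module.Free.of_equiv l.symm, Module.Finite.equiv l.symm⟩, fun _ _ => ?_⟩
  haveI : Module.Finite R M₁ := Module.Finite.of_surjective ((LinearMap.fst R M₁ M₃).comp l.toLinearMap)
    fun y => ⟨l.symm (y, 0), by simp⟩
  haveI : Module.Projective R (M₁ × M₃) := Module.Projective.of_equiv l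
  haveI : Module.Projective R M₁ :=
    Module.Projective.of_split (LinearMap.inl R M₁ M₃) (LinearMap.fst R M₁ M₃) (LinearMap.fst_comp_inl R M₁ M₃)
  exact ⟨Module.free_of_flat_of_isLocalRing, inferInstance⟩

/-- Extensions and kernels of free finite stalks. -/
theorem ff_shortExact {S : ShortComplex X.Modules} (hS : S.ShortExact) {x : X} (h₃ : FF S.X₃ x) :
    (FF S.X₁ x → FF S.X₂ x) ∧ (FF S.X₂ x → FF S.X₁ x) := by
  let F := DerSch.stalkFunctor X x
  have hF : (S.map F).ShortExact := hS.map_of_exact F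
  haveI : Module.Free (X.presheaf.stalk x) (S.map F).X₃ := h₃.1
  haveI : Module.Finite (X.presheaf.stalk x) (S.map F).X₃ := h₃.2
  have h := linalg (S.map F).f.hom (S.map F).g.hom hF.moduleCat_injective_f hF.moduleCat_surjective_g
    ((ShortComplex.ShortExact.moduleCat_exact_iff_function_exact _).1 hF.exact)
  exact ⟨fun h₁ => h.1 h₁.1 h₁.2, fun h₂ => h.2 h₂.1 h₂.2⟩

theorem finLocFree_of_le {V W : X.Opens} (h : V ≤ W) (M : X.Modules)
    (hM : FlatMod.IsFinLocFree (M.restrict W.ι)) : FlatMod.IsFinLocFree (M.restrict V.ι) := by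
  have hc := ConsPropLib.isFinLocFree_restrict (X.homOfLE h) hM
  exact (ConsPropLib.isFinLocFree_iso (QCoh.restrictRestrict M (X.homOfLE h) W.ι ≪≫
    (Scheme.Modules.restrictFunctorCongr (X.homOfLE_ι h)).app M)).1 hc

/-- Near a point where all homology stalks of a strictly perfect complex are free, homology is free. -/
theorem exists_nhd (P : CochainComplex X.Modules ℤ) (hP : DCoh.IsStrictlyPerfect P) (x : X)
    (hx : ∀ i, FF (P.homology i) x) :
    ∃ W : X.Opens, x ∈ W ∧ ∀ i, FlatMod.IsFinLocFree ((P.homology i).restrict W.ι) := by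
  obtain ⟨⟨a, b, hab⟩, hf⟩ := hP
  have hz : ∀ i, b < i → IsZero (P.opcycles i) := fun i hi =>
    IsZero.of_epi (P.pOpcycles i) (hab i (Or.inr hi))
  have step : ∀ i, FF (P.opcycles (i + 1)) x → FF (P.opcycles i) x := by
    intro i h
    let K := kernel (P.pOpcycles (i + 1))
    have hK : FF K x :=
      (ff_shortExact (S := ShortComplex.mk (kernel.ι _) (P.pOpcycles (i + 1)) (kernel.condition _))
        { exact := ShortComplex.exact_kernel _, mono_f := inferInstance, epi_g := inferInstance } h).2
        (ff_of_finLocFree (hf (i + 1)) x)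
    have hex : (ShortComplex.mk (P.d i (i + 1)) (P.pOpcycles (i + 1)) (P.d_pOpcycles i (i + 1))).Exact :=
      ShortComplex.exact_of_g_is_cokernel _ (P.opcyclesIsCokernel i (i + 1) (by simp))
    let L : P.opcycles i ⟶ K :=
      kernel.lift _ (P.fromOpcycles i (i + 1)) (by rw [← cancel_epi (P.pOpcycles i)]; simp)
    haveI : Epi (P.pOpcycles i ≫ L) := by
      have : P.pOpcycles i ≫ L = kernel.lift (P.pOpcycles (i + 1)) (P.d i (i + 1)) (P.d_pOpcycles _ _) := by
        rw [← cancel_mono (kernel.ι (P.pOpcycles (i + 1)))]; simp [L, K]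
      rw [this]
      exact hex.epi_kernelLift
    haveI : Epi L := epi_of_epi (P.pOpcycles i) L
    have hk : IsLimit (KernelFork.ofι (P.homologyι i) (P.homologyι_comp_fromOpcycles i (i + 1))) :=
      P.homologyIsKernel i (i + 1) (by simp)
    let eK : kernel L ≅ P.homology i :=
      (kernelCompMono L (kernel.ι (P.pOpcycles (i + 1)))).symm ≪≫
        kernelIsoOfEq (kernel.lift_ι _ _ _) ≪≫
        IsLimit.conePointUniqueUpToIso (kernelIsKernel _) hk
    have hL : FF (kernel L) x := ff_of_iso eK.symm (hx i)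
    exact (ff_shortExact (S := ShortComplex.mk (kernel.ι L) L (kernel.condition _))
      { exact := ShortComplex.exact_kernel _, mono_f := inferInstance, epi_g := inferInstance } hK).1 hL
  have all : ∀ (d : ℕ) (i : ℤ), b + 1 - d ≤ i → FF (P.opcycles i) x := by
    intro d
    induction d with
    | zero => exact fun i hi => ff_of_finLocFree (isFinLocFree_of_isZero (hz i (by omega))) x
    | succ d ih => exact fun i hi => step i (ih (i + 1) (by push_cast at hi; omega))
  have loc : ∀ i, ∃ W : X.Opens, x ∈ W ∧ FlatMod.IsFinLocFree ((P.opcycles i).restrict W.ι) := by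
    intro i
    have hfp : CohB1.IsFP (cokernel (P.d (i - 1) i)) :=
      FPEnough.isFP_cokernel (QCoh.isQCoh_of_isFinLocFree (hf _))
        (QCoh.isFT_of_isFP (QCoh.isFP_of_isFinLocFree (hf _))) (QCoh.isQCoh_of_isFinLocFree (hf _))
        (QCoh.isFP_of_isFinLocFree (hf _)) _
    have hff : FF (cokernel (P.d (i - 1) i)) x :=
      ff_of_iso (cokerOpIso P i).symm (all (b + 1 - i).toNat i (by omega))
    haveI := hff.1
    obtain ⟨U, n, hxU, ⟨e⟩⟩ := QCoh.exists_free_nhd_of_free_stalk hfp x
    exact ⟨U, hxU, H23.PullPush.isFinLocFree_of_iso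
      (e.symm ≪≫ (Scheme.Modules.restrictFunctor U.ι).mapIso (cokerOpIso P i)) (isFinLocFree_freeMod n)⟩
  choose W hxW hW using loc
  have hfin : ∀ s : Finset ℤ, ∃ V : X.Opens, x ∈ V ∧ ∀ i ∈ s, V ≤ W i := by
    intro s
    induction s using Finset.induction with
    | empty => exact ⟨⊤, trivial, by simp⟩
    | @insert i s _ ih =>
      obtain ⟨V, hV, h⟩ := ih
      refine ⟨W i ⊓ V, ⟨hxW i, hV⟩, fun k hk => ?_⟩
      rcases Finset.mem_insert.1 hk with rfl | hk
      · exact inf_le_left
      · exact inf_le_right.trans (h k hk)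
  obtain ⟨V, hxV, hV⟩ := hfin (Finset.Icc (a - 1) (b + 1))
  refine ⟨V, hxV, fun i => ?_⟩
  let R := Scheme.Modules.restrictFunctor V.ι
  by_cases hi : i < a ∨ b < i
  · have : IsZero (P.homology i) :=
      (HomologicalComplex.exactAt_iff_isZero_homology _ i).1
        (HomologicalComplex.ExactAt.of_isZero (hab i hi))
    exact isFinLocFree_of_isZero (R.map_isZero this)
  let Q := (R.mapHomologicalComplex (ComplexShape.up ℤ)).obj P
  have hQ : ∀ k ∈ Finset.Icc (a - 1) (b + 1), FlatMod.IsFinLocFree (Q.opcycles k) := fun k hk => by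
    refine H23.PullPush.isFinLocFree_of_iso
      (R.mapIso (cokerOpIso P k).symm ≪≫ PreservesCokernel.iso R _ ≪≫ cokerOpIso Q k) ?_
    exact finLocFree_of_le (hV k hk) _ (hW k)
  refine H23.PullPush.isFinLocFree_of_iso ?_ (isFinLocFree_homology Q i
    (ConsPropLib.isFinLocFree_restrict V.ι (hf (i + 1)))
    (hQ i (Finset.mem_Icc.2 ⟨by omega, by omega⟩)) (hQ (i + 1) (Finset.mem_Icc.2 ⟨by omega, by omega⟩)))
  exact (ShortComplex.mapHomologyIso (P.sc i) R)

end Groth.Agent.KExact.FreeLocus
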