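import Groth.Agent.CAlgOdd.AuslanderBuchsbaum
import Groth.Agent.KExact.FreeAt
import Groth.Agent.KExact.FreeLocus
import Groth.Agent.KFlatLib.Scheme.RHomLocal
import Groth.Agent.KFlatLib.Scheme.CohD
import Groth.Agent.KFlatLib.Scheme.InnerDevissage
import Groth.Agent.KFlatLib.Scheme.StalkCx
import Groth.Agent.QCoh.Support
import Groth.Agent.KFlatLib.Scheme.AffineLift
import Groth.Agent.Codepth5.Module

/-!
# Amplitude of the dual of a perfect complex at a point
-/

set_option autoImplicit false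
set_option linter.style.haveILetI false
set_option linter.unusedSectionVars false
set_option backward.isDefEq.respectTransparency false
set_option backward.isDefEq.respectTransparency.types false
set_option maxHeartbeats 1000000

universe u

open CategoryTheory CategoryTheory.Limits CategoryTheory.Pretriangulated AlgebraicGeometry Opposite

attribute [local instance] HasDerivedCategory.standard

namespace Groth.Agent.KExact.DualAmpAt

open KFlatLib RegLoc6

section Algebra

variable {R : Type u} [CommRing R] [IsLocalRing R] [IsNoetherianRing R]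

/-- Modules of finite projective dimension have projective dimension at most the depth. -/
theorem pdLE_depth (δ : ℕ) (hδ : LocCoh.depth R R = δ) {n : ℕ} {M : Type u} [AddCommGroup M] [Module R M]
    [Module.Finite R M] (h : PdLE R n M) : PdLE R δ M := by
  classical
  rcases subsingleton_or_nontrivial M with hs | hn
  · exact pdLE_of_projective δ
  · have hex : ∃ n, PdLE R n M := ⟨n, h⟩
    have h1 := CAlgOdd.AB.depth_add_eq (Nat.find hex) M (Nat.find_spec hex) fun e' he' => Nat.find_min hex he'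
    rw [hδ] at h1
    have h2 : ((Nat.find hex : ℕ) : ℕ∞) ≤ (δ : ℕ∞) := h1 ▸ le_add_self
    exact pdLE_mono (by exact_mod_cast h2) (Nat.find_spec hex)

/-- Opcycles deep below the cohomology of a perfect complex over a local ring are projective. -/
theorem projective_opcycles (Q : CochainComplex (ModuleCat.{u} R) ℤ) (δ : ℕ) (hδ : LocCoh.depth R R = δ)
    (hfin : ∀ i, Module.Finite R (Q.X i)) (hproj : ∀ i, Module.Projective R (Q.X i))
    (a e : ℤ) (ha : ∀ i, i < a → IsZero (Q.X i)) (hH : ∀ j, j < e → IsZero (Q.homology j))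
    (lo : ℤ) (hlo : lo + δ ≤ e) : Module.Projective R (Q.opcycles lo) := by
  have hsurj : ∀ n, Function.Surjective (Q.pOpcycles n) := fun n =>
    (ModuleCat.epi_iff_surjective _).1 inferInstance
  haveI hfin' : ∀ n, Module.Finite R (Q.opcycles n) := fun n =>
    haveI := hfin n
    Module.Finite.of_surjective (Q.pOpcycles n).hom (hsurj n)
  have hker : ∀ n, n < e → Nonempty ((Q.opcycles n : ModuleCat.{u} R) ≃ₗ[R]
      LinearMap.ker (Q.pOpcycles (n + 1)).hom) := fun n hn => by
    have hmono : Mono (Q.fromOpcycles n (n + 1)) := by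
      let S := ShortComplex.mk (Q.homologyι n) (Q.fromOpcycles n (n + 1)) (Q.homologyι_comp_fromOpcycles n (n + 1))
      exact (ShortComplex.exact_of_f_is_kernel S (Q.homologyIsKernel n (n + 1) (by simp))).mono_g
        ((hH n hn).eq_of_src _ _)
    have hinj : Function.Injective (Q.fromOpcycles n (n + 1)) := (ModuleCat.mono_iff_injective _).1 hmono
    have hex : (ShortComplex.mk (Q.d n (n + 1)) (Q.pOpcycles (n + 1)) (Q.d_pOpcycles n (n + 1))).Exact :=
      ShortComplex.exact_of_g_is_cokernel _ (Q.opcyclesIsCokernel n (n + 1) (by simp))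
    have heq : LinearMap.range (Q.fromOpcycles n (n + 1)).hom = LinearMap.ker (Q.pOpcycles (n + 1)).hom := by
      ext y
      constructor
      · rintro ⟨z, rfl⟩
        obtain ⟨w, rfl⟩ := hsurj n z
        rw [LinearMap.mem_ker]
        exact ConcreteCategory.congr_hom (show Q.pOpcycles n ≫ Q.fromOpcycles n (n + 1) ≫ Q.pOpcycles (n + 1) = 0 by
          rw [HomologicalComplex.p_fromOpcycles_assoc, HomologicalComplex.d_pOpcycles]) w
      · intro hy
        obtain ⟨x, rfl⟩ := (ShortComplex.moduleCat_exact_iff _).1 hex y hy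
        exact ⟨Q.pOpcycles n x, ConcreteCategory.congr_hom (Q.p_fromOpcycles n (n + 1)) x⟩
    exact ⟨(LinearEquiv.ofInjective (Q.fromOpcycles n (n + 1)).hom hinj).trans (LinearEquiv.ofEq _ _ heq)⟩
  have hup : ∀ k : ℕ, ∀ n : ℤ, n ≤ e → n < a + k → PdLE R k (Q.opcycles n) := by
    intro k
    induction k with
    | zero =>
      intro n _ hn
      haveI : Subsingleton (Q.opcycles n : ModuleCat.{u} R) :=
        haveI := ModuleCat.subsingleton_of_isZero (ha n (by simpa using hn))
        (hsurj n).subsingleton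
      exact pdLE_of_projective 0
    | succ k ih =>
      intro n hne hn
      obtain ⟨e'⟩ := hker (n - 1) (by omega)
      have h2 := pdLE_of_equiv e' (ih (n - 1) (by omega) (by omega))
      rw [sub_add_cancel] at h2
      haveI := hproj n
      exact pdLE_succ_of_ker (Q.pOpcycles n).hom (hsurj n) h2 (pdLE_of_projective _)
  have htop : ∀ n, n ≤ e → PdLE R δ (Q.opcycles n) := fun n hn =>
    pdLE_depth δ hδ (hup (n - a).toNat.succ n hn (by omega))
  have hdown : ∀ (t : ℕ) (n : ℤ), n + t ≤ e → PdLE R (δ - t) (Q.opcycles n) := by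
    intro t
    induction t with
    | zero => exact fun n hn => htop n (by omega)
    | succ t ih =>
      intro n hn
      obtain ⟨e'⟩ := hker n (by omega)
      haveI := hproj (n + 1)
      refine pdLE_of_equiv e'.symm ?_
      rcases Nat.lt_or_ge t δ with h | h
      · have h2 : PdLE R ((δ - (t + 1)) + 1) (Q.opcycles (n + 1)) := by
          rw [show δ - (t + 1) + 1 = δ - t by omega]; exact ih (n + 1) (by omega)
        exact pdLE_ker (Q.pOpcycles (n + 1)).hom (hsurj (n + 1)) h2 (pdLE_of_projective _)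
      · have h2 : PdLE R ((δ - (t + 1)) + 1) (Q.opcycles (n + 1)) :=
          pdLE_mono (by omega) (ih (n + 1) (by omega))
        exact pdLE_ker (Q.pOpcycles (n + 1)).hom (hsurj (n + 1)) h2 (pdLE_of_projective _)
  have h0 := hdown δ lo (by omega)
  rw [Nat.sub_self] at h0
  exact pdLE_zero_iff.1 h0

end Algebra

variable {X : Scheme.{u}}

/-- A finite module vanishing at a point vanishes nearby. -/
theorem exists_isZero_restrict {M : X.Modules} (hM : Coh.IsCoh M) (x : X)
    (h : Subsingleton (M.presheaf.stalk x)) : ∃ W : X.Opens, x ∈ W ∧ IsZero (M.restrict W.ι) := by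
  refine ⟨⟨(CohB1.support M)ᶜ, (QCoh.isClosed_support_of_isFT hM.1 hM.2).isOpen_compl⟩, fun hx => hx h,
    isZero_of_stalk _ fun z => ?_⟩
  obtain ⟨E, -⟩ := AssLib.exists_semilinear_restrict
    (Scheme.Opens.ι (⟨(CohB1.support M)ᶜ, (QCoh.isClosed_support_of_isFT hM.1 hM.2).isOpen_compl⟩ : X.Opens)) M z
  have hz : Subsingleton (M.presheaf.stalk z.1) := not_not.1 z.2
  exact @ModuleCat.isZero_of_subsingleton _ _ (ModuleCat.of _ _) (E.toEquiv.subsingleton_congr.2 hz)

/-- Stalks of zero restrictions. -/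
theorem subsingleton_stalk_of_restrict {U : Scheme.{u}} (j : U ⟶ X) [IsOpenImmersion j] {M : X.Modules}
    (h : IsZero (M.restrict j)) (z : U) : Subsingleton (M.presheaf.stalk (j.base z)) := by
  obtain ⟨E, -⟩ := AssLib.exists_semilinear_restrict j M z
  haveI : Subsingleton ((M.restrict j).presheaf.stalk z) :=
    ModuleCat.subsingleton_of_isZero ((DerSch.stalkFunctor U z).map_isZero h)
  exact E.symm.toEquiv.subsingleton

/-- Restrictions of free modules are free. -/
theorem exists_free_restrict {W U : X.Opens} (h : W ≤ U) {M : X.Modules} {n : ℕ}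
    (e : Nonempty (M.restrict U.ι ≅ FlatMod.freeMod U n)) :
    Nonempty (M.restrict W.ι ≅ FlatMod.freeMod W n) :=
  e.map (restrictFreeIso h)

/-- A model with amplitude bounded below by the homological bound minus the depth. -/
theorem exists_amp_model [IsLocallyNoetherian X] (E : CochainComplex X.Modules ℤ) (a b : ℤ)
    (hE : ∀ i, i < a ∨ b < i → IsZero (E.X i)) (hfree : ∀ i, ∃ n, Nonempty (E.X i ≅ FlatMod.freeMod X n))
    (hcoh : ∀ i, Coh.IsCoh (E.homology i))
    (x : X) (δ : ℕ) (hδ : LocCoh.depth (X.presheaf.stalk x) (X.presheaf.stalk x) = δ) (e lo : ℤ)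
    (hlo : lo + δ ≤ e) (hH : ∀ j, j < e → Subsingleton ((E.homology j).presheaf.stalk x)) :
    ∃ (W : X.Opens) (P : CochainComplex (W : Scheme.{u}).Modules ℤ), x ∈ W ∧
      (∀ i, i < lo ∨ max b lo < i → IsZero (P.X i)) ∧ (∀ i, ∃ n, Nonempty (P.X i ≅ FlatMod.freeMod W n)) ∧
      Nonempty (DerivedCategory.Q.obj P ≅ DerivedCategory.Q.obj ((rCx W.ι).obj E)) := by
  classical
  choose n hn using hfree
  let F := DerSch.stalkFunctor X x
  let Q := (stalkCx x).obj E
  have hX : ∀ i, Module.Free (X.presheaf.stalk x) (Q.X i) ∧ Module.Finite (X.presheaf.stalk x) (Q.X i) := fun i =>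
    FreeLocus.ff_of_iso (hn i).some.symm (FreeLocus.ff_of_finLocFree (isFinLocFree_freeMod (n i)) x)
  haveI hproj : Module.Projective (X.presheaf.stalk x) (Q.opcycles lo) := by
    refine projective_opcycles Q δ hδ (fun i => (hX i).2) (fun i => haveI := (hX i).1; inferInstance) a e
      (fun i hi => F.map_isZero (hE i (Or.inl hi))) (fun j hj => ?_) lo hlo
    exact (@ModuleCat.isZero_of_subsingleton _ _ (ModuleCat.of _ _) (hH j hj)).of_iso
      ((E.sc j).mapHomologyIso F)
  let d' : FlatMod.freeMod X (n (lo - 1)) ⟶ FlatMod.freeMod X (n lo) :=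
    (hn (lo - 1)).some.inv ≫ E.d (lo - 1) lo ≫ (hn lo).some.hom
  let ec : cokernel d' ≅ E.opcycles lo :=
    (cokernel.mapIso (E.d (lo - 1) lo) d' (hn (lo - 1)).some (hn lo).some (by simp [d'])).symm ≪≫
      IsColimit.coconePointUniqueUpToIso (cokernelIsCokernel _) (E.opcyclesIsCokernel (lo - 1) lo (by simp))
  have hflat : Module.Flat (X.presheaf.stalk x) (F.obj (cokernel d') : Type u) := by
    let eQ : F.obj (cokernel d') ≅ Q.opcycles lo :=
      F.mapIso (cokernel.mapIso (E.d (lo - 1) lo) d' (hn (lo - 1)).some (hn lo).some (by simp [d'])).symm ≪≫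
        PreservesCokernel.iso F _ ≪≫
        IsColimit.coconePointUniqueUpToIso (cokernelIsCokernel _) (Q.opcyclesIsCokernel (lo - 1) lo (by simp))
    exact Module.Flat.of_linearEquiv eQ.toLinearEquiv
  obtain ⟨W₁, r, hx₁, ⟨e₁⟩⟩ := exists_free_of_flat_at d' x hflat
  choose W₂ hx₂ hz₂ using fun j : {j : ℤ // j < lo} => exists_isZero_restrict (hcoh j.1) x (hH j.1 (by omega))
  let W : X.Opens := W₁ ⊓ (Finset.Ico a lo).attach.inf fun j => W₂ ⟨j.1, (Finset.mem_Ico.1 j.2).2⟩
  have hxW : x ∈ W := by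
    refine ⟨hx₁, ?_⟩
    induction (Finset.Ico a lo).attach using Finset.cons_induction with
    | empty => simp
    | cons c s hc ih =>
      rw [Finset.inf_cons]
      exact ⟨hx₂ _, ih⟩
  let T := Scheme.Modules.restrictFunctor W.ι
  let C := (rCx W.ι).obj E
  haveI : C.IsGE lo := by
    rw [CochainComplex.isGE_iff]
    intro j hj
    rw [HomologicalComplex.exactAt_iff_isZero_homology]
    refine IsZero.of_iso ?_ ((E.sc j).mapHomologyIso T)
    by_cases hja : j < a
    · exact T.map_isZero (ShortComplex.isZero_homology_of_isZero_X₂ _ (hE j (Or.inl hja)))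
    · have hle : W ≤ W₂ ⟨j, hj⟩ := inf_le_right.trans
        (Finset.inf_le (f := fun j : {j // j ∈ Finset.Ico a lo} => W₂ ⟨j.1, (Finset.mem_Ico.1 j.2).2⟩)
          (b := ⟨j, Finset.mem_Ico.2 ⟨by omega, hj⟩⟩) (Finset.mem_attach _ _))
      exact ((Scheme.Modules.restrictFunctor (X.homOfLE hle)).map_isZero (hz₂ ⟨j, hj⟩)).of_iso
        ((Scheme.Modules.restrictFunctorCongr (X.homOfLE_ι hle).symm).app (E.homology j) ≪≫
          (Scheme.Modules.restrictFunctorComp (X.homOfLE hle) (W₂ ⟨j, hj⟩).ι).app (E.homology j))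
  haveI : QuasiIso (C.πTruncGE lo) := (C.quasiIso_πTruncGE_iff lo).2 inferInstance
  haveI := isIso_Q_map (C.πTruncGE lo) inferInstance
  refine ⟨W, C.truncGE lo, hxW, fun i hi => ?_, fun i => ?_, ⟨(asIso (DerivedCategory.Q.map (C.πTruncGE lo))).symm⟩⟩
  · rcases hi with hi | hi
    · exact (C.truncGE lo).isZero_of_isStrictlyGE lo i hi
    · exact (T.map_isZero (hE i (Or.inr (lt_of_le_of_lt (le_max_left _ _) hi)))).of_iso
        (C.truncGEXIso lo i (lt_of_le_of_lt (le_max_right _ _) hi))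
  · rcases lt_trichotomy i lo with hi | rfl | hi
    · exact ⟨0, ⟨((C.truncGE lo).isZero_of_isStrictlyGE lo i hi).iso isZero_freeMod_zero⟩⟩
    · refine ⟨r, ⟨C.truncGEXIsoOpcycles i ≪≫
        IsColimit.coconePointUniqueUpToIso (C.opcyclesIsCokernel (i - 1) i (by simp)) (cokernelIsCokernel _) ≪≫
        (PreservesCokernel.iso T _).symm ≪≫
        T.mapIso (cokernel.mapIso (E.d (i - 1) i) d' (hn (i - 1)).some (hn i).some (by simp [d'])) ≪≫
        restrictFreeIso (inf_le_left : W ≤ W₁) e₁⟩⟩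
    · refine ⟨n i, ⟨C.truncGEXIso lo i hi ≪≫ T.mapIso (hn i).some ≪≫ ?_⟩⟩
      exact (Scheme.Modules.restrictFunctorIsoPullback W.ι).app _ ≪≫ pullFreeIso W.ι (n i)

section Window

variable (Φ : ObjectProperty (DCoh.D X)) [Φ.IsClosedUnderIsomorphisms]
  (hzero : ∀ C, IsZero C → Φ C)
  (h₂ : ∀ T ∈ distTriang (DCoh.D X), Φ T.obj₁ → Φ T.obj₃ → Φ T.obj₂)
  (I : CochainComplex X.Modules ℤ) [∀ n, Injective (I.X n)]

include hzero h₂ in
lemma iHomProp_single_free' (j : ℤ) (hI : Φ (DerivedCategory.Q.obj (I⟦j⟧))) :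
    ∀ n : ℕ, IHomProp Φ I ((HomologicalComplex.single X.Modules (ComplexShape.up ℤ) j).obj
      (FlatMod.freeMod X n))
  | 0 => iHomProp_of_isZero Φ hzero I (Functor.map_isZero _ isZero_freeMod_zero)
  | 1 => by
    refine iHomProp_of_iso Φ I
      ((HomologicalComplex.single X.Modules (ComplexShape.up ℤ) j).mapIso
        (coproductUniqueIso (fun _ : Fin 1 => Coh.structureModule X)).symm) ?_
    obtain ⟨e⟩ := nonempty_iHomUnitIso (X := X) j
    exact Φ.prop_of_iso (DerivedCategory.Q.mapIso (e.app I).symm) hI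
  | (n + 2) => by
    let F := HomologicalComplex.single X.Modules (ComplexShape.up ℤ) j
    haveI := preservesBinaryBiproducts_of_preservesBinaryCoproducts F
    let A := FlatMod.freeMod X (n + 1)
    let B := FlatMod.freeMod X 1
    refine iHomProp_of_iso Φ I (F.mapIso (biprodFreeIso (n + 1) 1)) ?_
    let S : ShortComplex X.Modules :=
      ShortComplex.mk (biprod.inl : A ⟶ A ⊞ B) biprod.snd biprod.inl_snd
    let σ : S.Splitting := ShortComplex.Splitting.ofHasBinaryBiproduct A B
    exact iHomProp_X₂ Φ h₂ I (S.map F)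
      (fun k => ⟨(σ.map F).map (HomologicalComplex.eval _ _ k)⟩)
      (iHomProp_single_free' j hI (n + 1)) (iHomProp_single_free' j hI 1)

include hzero h₂ in
/-- The dévissage of `iHom(P, I)`, using only the shifts in the range of `P`. -/
theorem iHom_devissage' (a : ℤ) :
    ∀ (m : ℕ), (∀ n : ℤ, a ≤ n → n < a + m → Φ (DerivedCategory.Q.obj (I⟦n⟧))) →
    ∀ (P : CochainComplex X.Modules ℤ), (∀ i : ℤ, (i < a ∨ a + m ≤ i) → IsZero (P.X i)) →
      (∀ i, ∃ n, Nonempty (P.X i ≅ FlatMod.freeMod X n)) → IHomProp Φ I P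
  | 0, _, P, hz, _ => iHomProp_of_isZero Φ hzero I
      ((IsZero.iff_id_eq_zero _).2 (HomologicalComplex.hom_ext _ _ fun i =>
        (hz i (by omega)).eq_of_src _ _))
  | m + 1, hI, P, hz, hf => by
    have hle := isStrictlyLE_sigmaSES_X₃ P (a + m)
    rw [CochainComplex.isStrictlyLE_iff] at hle
    have hse := fun n => (sigmaSES_shortExact P (a + m)).map_of_exact
      (HomologicalComplex.eval X.Modules (ComplexShape.up ℤ) n)
    have hX₁ : ∀ i, i < a + m → IsZero ((sigmaSES P (a + m)).X₁.X i) := fun i hi =>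
      isZero_stupidTrunc_of_lt P (a + m) i hi
    have hsplit : ∀ n, Nonempty ((sigmaSES P (a + m)).map (HomologicalComplex.eval _ _ n)).Splitting := by
      intro n
      by_cases h : n < a + m
      · exact ⟨splittingOfIsZero₁ (hX₁ n h) ((hse n).isIso_g_iff.2 (hX₁ n h))⟩
      · exact ⟨splittingOfIsZero₃ (hle n (by omega)) ((hse n).isIso_f_iff.2 (hle n (by omega)))⟩
    refine iHomProp_X₂ Φ h₂ I (sigmaSES P (a + m)) hsplit ?_ ?_
    · have hX₁' : ∀ i, i ≠ a + m → IsZero ((sigmaSES P (a + m)).X₁.X i) := fun i hi => by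
        by_cases h : i < a + m
        · exact hX₁ i h
        · haveI := (hse i).mono_f
          exact IsZero.of_mono ((sigmaSES P (a + m)).map (HomologicalComplex.eval _ _ i)).f
            (hz i (by omega))
      obtain ⟨n, ⟨e⟩⟩ := hf (a + m)
      haveI : IsIso ((sigmaSES P (a + m)).f.f (a + m)) :=
        (hse (a + m)).isIso_f_iff.2 (hle (a + m) (by omega))
      refine iHomProp_of_iso Φ I ?_
        (iHomProp_single_free' Φ hzero h₂ I (a + m) (hI _ (by omega) (by omega)) n)
      refine (HomologicalComplex.single X.Modules (ComplexShape.up ℤ) (a + m)).mapIso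
        (e.symm ≪≫ (asIso ((sigmaSES P (a + m)).f.f (a + m))).symm) ≪≫ ?_
      exact HomologicalComplex.Hom.isoOfComponents
        (fun i => if h : i = a + m then
            HomologicalComplex.singleObjXIsoOfEq (ComplexShape.up ℤ) (a + m) _ i h ≪≫
              ((sigmaSES P (a + m)).X₁.XIsoOfEq h).symm
          else (HomologicalComplex.isZero_single_obj_X _ _ _ _ h).iso (hX₁' i h))
        (fun i k hik => by
          by_cases h : i = a + m
          · exact (hX₁' k (by change i + 1 = k at hik; omega)).eq_of_tgt _ _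
          · exact (HomologicalComplex.isZero_single_obj_X _ _ _ _ h).eq_of_src _ _)
    · refine iHom_devissage' a m (fun k h1 h2' => hI k h1 (by omega)) _ (fun i hi => ?_) (fun i => ?_)
      · rcases hi with hi | hi
        · haveI := (hse i).epi_g
          exact IsZero.of_epi ((sigmaSES P (a + m)).map (HomologicalComplex.eval _ _ i)).g (hz i (Or.inl hi))
        · exact hle i (by omega)
      · by_cases h : i < a + m
        · obtain ⟨e⟩ := nonempty_sigmaSES_X₃_iso P (a + m) i h
          obtain ⟨n, ⟨e'⟩⟩ := hf i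
          exact ⟨n, ⟨e.symm ≪≫ e'⟩⟩
        · exact ⟨0, ⟨(hle i (by omega)).iso isZero_freeMod_zero⟩⟩

end Window

/-- The dual of a perfect complex vanishes at a point above the depth minus the homological bound. -/
theorem subsingleton_stalk_hd_dual [IsLocallyNoetherian X] (K : CochainComplex X.Modules ℤ)
    (hK : DCoh.IsPerfect (DCoh.toD X K)) [DCoh.HasLTensorCx K] [DCoh.HasRSheafHom K]
    (x : X) (δ : ℕ) (hδ : LocCoh.depth (X.presheaf.stalk x) (X.presheaf.stalk x) = δ) (e : ℤ)
    (hH : ∀ j, j < e → Subsingleton ((DCoh.HD (DCoh.toD X K) j).presheaf.stalk x))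
    (m : ℤ) (hm : (δ : ℤ) - e < m) :
    Subsingleton ((DCoh.HD ((DCoh.RSheafHom K).obj (DCoh.inD X (Coh.structureModule X))) m).presheaf.stalk x) := by
  let O := Coh.structureModule X
  obtain ⟨I, hI, hinj, ⟨eL⟩⟩ := exists_kInjective_rep (DCoh.inD X O)
  haveI := hI
  haveI := hinj
  obtain ⟨eR⟩ := nonempty_RSheafHom_iso K I
  obtain ⟨V, hxV, hV⟩ := hK x
  obtain ⟨E, hE, ⟨eE⟩⟩ := hV K ⟨Iso.refl _⟩
  obtain ⟨W₀, hxW₀, hW₀⟩ := exists_free_nhd_sp hE ⟨x, hxV⟩
  obtain ⟨a, b, hab⟩ := hE.1
  let j₀ := W₀.ι ≫ V.ι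
  let x₀ : W₀ := ⟨⟨x, hxV⟩, hxW₀⟩
  let E₀ := (rCx W₀.ι).obj E
  let eK₀ : (rho j₀).obj (DCoh.toD X K) ≅ DerivedCategory.Q.obj E₀ :=
    (rhoComp W₀.ι V.ι j₀ rfl _).symm ≪≫
      (rho W₀.ι).mapIso ((rhoQ V.ι).app K ≪≫ eE) ≪≫ (rhoQ W₀.ι).app E
  haveI : IsLocallyNoetherian (W₀ : Scheme.{u}) := isLocallyNoetherian_of_isOpenImmersion j₀
  let eH : ∀ i, E₀.homology i ≅ (DCoh.HD (DCoh.toD X K) i).restrict j₀ := fun i =>
    ((DerivedCategory.homologyFunctorFactors _ i).app E₀).symm ≪≫
      (DerivedCategory.homologyFunctor _ i).mapIso eK₀.symm ≪≫ restrictHDIso j₀ _ i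
  have hKq := (isPerfect_iff _).1 hK
  have hcoh : ∀ i, Coh.IsCoh (E₀.homology i) := fun i => isCoh_of_iso (eH i).symm
    (isCoh_restrict j₀ (isCoh_of_locPC (AffineLift.isQCohD_of_locSP hKq) (hKq.locPC i) i le_rfl))
  let τ : X.presheaf.stalk x ≃+* (W₀ : Scheme.{u}).presheaf.stalk x₀ :=
    (asIso (j₀.stalkMap x₀)).commRingCatIsoToRingEquiv
  have hδ₀ : LocCoh.depth ((W₀ : Scheme.{u}).presheaf.stalk x₀) ((W₀ : Scheme.{u}).presheaf.stalk x₀) = δ := by
    rw [← hδ]
    exact (Prod.ext_iff.1 (Codepth5.dd_congr (X := (W₀ : Scheme.{u}).presheaf.stalk x₀) (X' := X.presheaf.stalk x)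
      τ.toRingHom τ.surjective τ.toAddEquiv fun r s => map_mul τ r s)).2.symm
  obtain ⟨W, P, hxW, hPz, hPf, ⟨eP⟩⟩ := exists_amp_model E₀ a b
    (fun i hi => (Scheme.Modules.restrictFunctor W₀.ι).map_isZero (hab i hi)) (fun i => hW₀ i) hcoh x₀ δ hδ₀
    e (e - δ) (by omega) fun i hi => by
      obtain ⟨A, -⟩ := AssLib.exists_semilinear_restrict j₀ (DCoh.HD (DCoh.toD X K) i) x₀
      haveI : Subsingleton ((DCoh.HD (DCoh.toD X K) i).presheaf.stalk (j₀.base x₀)) := hH i hi
      haveI hs : Subsingleton (((DCoh.HD (DCoh.toD X K) i).restrict j₀).presheaf.stalk x₀) := A.toEquiv.subsingleton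
      haveI : Subsingleton ((TopCat.Presheaf.stalkFunctor AddCommGrpCat.{u} x₀).obj
        ((Scheme.Modules.toPresheaf _).obj ((DCoh.HD (DCoh.toD X K) i).restrict j₀))) := hs
      exact ((CategoryTheory.Iso.addCommGroupIsoToAddEquiv ((TopCat.Presheaf.stalkFunctor AddCommGrpCat.{u} x₀).mapIso
        ((Scheme.Modules.toPresheaf _).mapIso (eH i))))).toEquiv.subsingleton
  let j := W.ι ≫ j₀
  let J := (rCx j).obj I
  haveI : J.IsKInjective := isKInjective_rCx j I
  haveI : ∀ n, Injective (J.X n) := injective_rCx j I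
  let eK : DerivedCategory.Q.obj ((rCx j).obj K) ≅ DerivedCategory.Q.obj P :=
    ((rhoQ j).app K).symm ≪≫ (rhoComp W.ι j₀ j rfl _).symm ≪≫
      (rho W.ι).mapIso eK₀ ≪≫ (rhoQ W.ι).app E₀ ≪≫ eP.symm
  obtain ⟨e₁⟩ := nonempty_rho_iHom j K I
  obtain ⟨e₂⟩ := nonempty_iHom_iso_of_iso eK J
  let Φ : ObjectProperty (DCoh.D (W : Scheme.{u})) := fun C => ∀ i, (δ : ℤ) - e < i → IsZero (DCoh.HD C i)
  haveI : Φ.IsClosedUnderIsomorphisms := ⟨fun f h i hi =>
    (h i hi).of_iso ((DerivedCategory.homologyFunctor _ i).mapIso f.symm)⟩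
  have hshift : ∀ n : ℤ, e - δ ≤ n → Φ (DerivedCategory.Q.obj (J⟦n⟧)) := fun n hn i hi => by
    let eJ : DerivedCategory.Q.obj (J⟦n⟧) ≅ ((rho j).obj (DCoh.inD X O))⟦n⟧ :=
      (DerivedCategory.Q.commShiftIso n).app J ≪≫
        (shiftFunctor _ n).mapIso (((rhoQ j).app I).symm ≪≫ (rho j).mapIso eL.symm)
    refine IsZero.of_iso ?_ ((DerivedCategory.homologyFunctor _ i).mapIso eJ ≪≫
      ((DerivedCategory.homologyFunctor _ 0).shiftIso n i (n + i) rfl).app _ ≪≫ restrictHDIso j _ (n + i))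
    exact (Scheme.Modules.restrictFunctor j).map_isZero
      (DerivedCategory.isZero_of_isLE ((DerivedCategory.singleFunctor X.Modules 0).obj O) 0 (n + i) (by omega))
  have hΦ : IHomProp Φ J P :=
    iHom_devissage' Φ (fun C hC i _ => Functor.map_isZero _ hC)
      (fun T hT h₁ h₃ i hi => (DerivedCategory.HomologySequence.exact₂ T hT i).isZero_X₂
        ((h₁ i hi).eq_of_src _ _) ((h₃ i hi).eq_of_tgt _ _))
      J (e - δ) (max b (e - δ) + 1 - (e - δ)).toNat (fun n hn _ => hshift n hn) P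
      (fun i hi => hPz i (by omega)) hPf
  have hz : IsZero ((DCoh.HD ((DCoh.RSheafHom K).obj (DCoh.inD X O)) m).restrict j) :=
    (hΦ m hm).of_iso ((restrictHDIso j _ m).symm ≪≫ (DerivedCategory.homologyFunctor _ m).mapIso
      ((rho j).mapIso ((DCoh.RSheafHom K).mapIso eL ≪≫ eR) ≪≫ e₁ ≪≫ e₂))
  exact subsingleton_stalk_of_restrict j hz ⟨x₀, hxW⟩

end Groth.Agent.KExact.DualAmpAt
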