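import Groth.Agent.KExact.KernelDual
import Groth.Agent.KExact.DualAmpAt
import Groth.Agent.Lib.DerivedProj

/-!
# Shifts through Fourier–Mukai functors
-/

set_option autoImplicit false
set_option linter.style.haveILetI false
set_option backward.isDefEq.respectTransparency false
set_option backward.isDefEq.respectTransparency.types false
set_option maxHeartbeats 1000000

universe u

open CategoryTheory CategoryTheory.Limits AlgebraicGeometry

attribute [local instance] HasDerivedCategory.standard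

namespace Groth.Agent.KExact.PhiShift

open KFlatLib H9Misc KernelDual

variable {X Y : Scheme.{u}}

/-- Derived pullback of `O[-m]`. -/
theorem nonempty_lpull_Om (f : X ⟶ Y) [DCoh.HasLpull f] (m : ℤ) :
    Nonempty (DCoh.toD X (AdjTensor.Om X m) ≅ (DCoh.Lpull f).obj (DCoh.toD Y (AdjTensor.Om Y m))) :=
  ⟨DerivedCategory.Q.mapIso ((HomologicalComplex.singleMapHomologicalComplex (Scheme.Modules.pullback f)
      (ComplexShape.up ℤ) m).app _ ≪≫ (HomologicalComplex.single X.Modules (ComplexShape.up ℤ) m).mapIso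
        (Groth.Agent.PicClLib.nonempty_pullback_structureModule f).some).symm ≪≫
    (lpullIso f (AdjTensor.isKFlat_Om Y m)).symm⟩

/-- Derived tensor products commute with shifts. -/
theorem nonempty_ltensor_shift (K : CochainComplex X.Modules ℤ) [DCoh.HasLTensorCx K] (n : ℤ) :
    Nonempty (shiftFunctor (DCoh.D X) n ⋙ DCoh.LTensorCx K ≅ DCoh.LTensorCx K ⋙ shiftFunctor (DCoh.D X) n) := by
  haveI := hasLTensorCx (AdjTensor.Om X (-n))
  obtain ⟨s⟩ := CartierShriek.nonempty_ltensor_Om X (-n)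
  obtain ⟨c⟩ := nonempty_ltensor_comm (AdjTensor.Om X (-n)) K
  let s' : DCoh.LTensorCx (AdjTensor.Om X (-n)) ≅ shiftFunctor (DCoh.D X) n :=
    s ≪≫ eqToIso (by rw [neg_neg])
  exact ⟨Functor.isoWhiskerRight s'.symm _ ≪≫ c ≪≫ Functor.isoWhiskerLeft _ s'⟩

/-- Derived pullback commutes with shifts. -/
theorem nonempty_lpull_shift (f : X ⟶ Y) [DCoh.HasLpull f] (n : ℤ) :
    Nonempty (shiftFunctor (DCoh.D Y) n ⋙ DCoh.Lpull f ≅ DCoh.Lpull f ⋙ shiftFunctor (DCoh.D X) n) := by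
  haveI := hasLTensorCx (AdjTensor.Om X (-n))
  haveI := hasLTensorCx (AdjTensor.Om Y (-n))
  obtain ⟨e⟩ := nonempty_lpull_Om f (-n)
  obtain ⟨c⟩ := nonempty_lpull_ltensorCx f (AdjTensor.Om Y (-n)) (AdjTensor.Om X (-n)) e
  obtain ⟨sY⟩ := CartierShriek.nonempty_ltensor_Om Y (-n)
  obtain ⟨sX⟩ := CartierShriek.nonempty_ltensor_Om X (-n)
  let sX' : DCoh.LTensorCx (AdjTensor.Om X (-n)) ≅ shiftFunctor (DCoh.D X) n := sX ≪≫ eqToIso (by rw [neg_neg])
  let sY' : DCoh.LTensorCx (AdjTensor.Om Y (-n)) ≅ shiftFunctor (DCoh.D Y) n := sY ≪≫ eqToIso (by rw [neg_neg])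
  exact ⟨Functor.isoWhiskerRight sY'.symm _ ≪≫ c ≪≫ Functor.isoWhiskerLeft _ sX'⟩

/-- Fourier–Mukai functors commute with shifts. -/
theorem nonempty_phi_shift {S : Scheme.{u}} (a : X ⟶ S) (b : Y ⟶ S) (P : CochainComplex (pullback a b).Modules ℤ)
    [QuasiCompact (pullback.snd a b)] [QuasiSeparated (pullback.snd a b)]
    [DCoh.HasLpull (pullback.fst a b)] [DCoh.HasLTensorCx P] [DCoh.HasRpush (pullback.snd a b)] (n : ℤ) :
    Nonempty (shiftFunctor (DCoh.D X) n ⋙ FMK.phi a b P ≅ FMK.phi a b P ⋙ shiftFunctor (DCoh.D Y) n) := by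
  obtain ⟨e₁⟩ := nonempty_lpull_shift (pullback.fst a b) n
  obtain ⟨e₂⟩ := nonempty_ltensor_shift P n
  obtain ⟨e₃⟩ := Lib.DerivedProj.nonempty_rpush_shift (pullback.snd a b) n
  exact ⟨(Functor.associator _ _ _).symm ≪≫ Functor.isoWhiskerRight e₁ _ ≪≫ Functor.associator _ _ _ ≪≫
    Functor.isoWhiskerLeft _ ((Functor.associator _ _ _).symm ≪≫ Functor.isoWhiskerRight e₂ _ ≪≫
      Functor.associator _ _ _ ≪≫ Functor.isoWhiskerLeft _ e₃ ≪≫ (Functor.associator _ _ _).symm) ≪≫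
    (Functor.associator _ _ _).symm⟩

/-- The dual bound: duals of perfect complexes on Cohen–Macaulay schemes. -/
theorem dual_bounds [IsLocallyNoetherian Y] (hYcm : ∀ y : ↥Y, LocCoh.IsCohenMacaulayLocalRing ↑(Y.presheaf.stalk y))
    (K : CochainComplex Y.Modules ℤ) (hK : DCoh.IsPerfect (DCoh.toD Y K)) [DCoh.HasLTensorCx K] [DCoh.HasRSheafHom K]
    (d : ℤ) (k' : ℕ) (hW : ∀ i : ℤ, i < d - k' ∨ d < i → IsZero (DCoh.HD (DCoh.toD Y K) i)) :
    (∀ m : ℤ, m < -d → IsZero (DCoh.HD ((DCoh.RSheafHom K).obj (DCoh.inD Y (Coh.structureModule Y))) m)) ∧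
    ∀ (i : ℕ) (y : ↥Y), y ∈ CohB1.support
        (DCoh.HD ((DCoh.RSheafHom K).obj (DCoh.inD Y (Coh.structureModule Y))) ((i : ℤ) - d)) →
      ((i - k' : ℕ) : WithBot ℕ∞) ≤ ringKrullDim ↑(Y.presheaf.stalk y) := by
  refine ⟨fun m hm => ?_, fun i y hy => ?_⟩
  · haveI : (DCoh.toD Y K).IsLE d := (DerivedCategory.isLE_iff _ _).2 fun i hi => hW i (Or.inr hi)
    haveI := isGE_RSheafHom K d (DCoh.inD Y (Coh.structureModule Y)) 0
    exact DerivedCategory.isZero_of_isGE _ (0 - d) m (by omega)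
  · haveI := hYcm y
    obtain ⟨δ, hδ⟩ := LC.exists_depth_eq_nat (R := Y.presheaf.stalk y) (Y.presheaf.stalk y)
    have hdim : ringKrullDim (Y.presheaf.stalk y) = (δ : ℕ) := by
      rw [← Module.supportDim_self_eq_ringKrullDim, (hYcm y).supportDim_eq_depth, hδ]
      rfl
    rw [hdim]
    by_contra hlt
    refine hy (DualAmpAt.subsingleton_stalk_hd_dual K hK y δ hδ (d - k') (fun j hj => ?_) _ ?_)
    · exact ModuleCat.subsingleton_of_isZero ((DerSch.stalkFunctor Y y).map_isZero (hW j (Or.inl hj)))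
    · have h1 : ¬ i - k' ≤ δ := fun h => hlt (by exact_mod_cast h)
      omega

/-- Bounds on the transform of the twisted dual of an object whose transform is concentrated in a range. -/
theorem dual_transform_bounds (k : Type u) [Field k] (X Y : Scheme.{u}) (a : X ⟶ Spec (CommRingCat.of k))
    (b : Y ⟶ Spec (CommRingCat.of k)) [IsProper a] [IsProper b]
    (hXcm : ∀ x : ↥X, LocCoh.IsCohenMacaulayLocalRing ↑(X.presheaf.stalk x))
    (hYcm : ∀ y : ↥Y, LocCoh.IsCohenMacaulayLocalRing ↑(Y.presheaf.stalk y))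
    (d : ℕ) (hXeq : ∀ Z ∈ irreducibleComponents ↥X, topologicalKrullDim ↥Z = (d : WithBot ℕ∞))
    [DCoh.HasRpush a] (ha : DCoh.RpushPreservesQCoh a)
    (adx : DCoh.DQCoh (Spec (CommRingCat.of k)) ⥤ DCoh.DQCoh X) (adj : DCoh.RpushQ a ha ⊣ adx)
    (O : DCoh.DQCoh (Spec (CommRingCat.of k)))
    (eO : O.obj ≅ DCoh.inD (Spec (CommRingCat.of k)) (Coh.structureModule (Spec (CommRingCat.of k))))
    (P : CochainComplex (pullback a b).Modules ℤ) (hP : DCoh.IsPerfect (DCoh.toD (pullback a b) P))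
    [DCoh.HasLpull (pullback.fst a b)] [DCoh.HasLTensorCx P] [DCoh.HasRSheafHom P] [DCoh.HasRpush (pullback.snd a b)]
    (P' : CochainComplex (pullback a b).Modules ℤ) [DCoh.HasLTensorCx P']
    (eP' : DCoh.toD (pullback a b) P' ≅
      (DCoh.RSheafHom P).obj (DCoh.inD (pullback a b) (Coh.structureModule (pullback a b))))
    (k' : ℕ) (F : CochainComplex X.Modules ℤ) (hF : DCoh.IsPerfect (DCoh.toD X F)) [DCoh.HasLTensorCx F] [DCoh.HasRSheafHom F]
    (hWIT : ∀ i : ℤ, i < (d : ℤ) - k' ∨ (d : ℤ) < i → IsZero (DCoh.HD ((FMK.phi a b P).obj (DCoh.toD X F)) i)) :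
    (∀ i : ℤ, i < 0 → IsZero (DCoh.HD ((FMK.phi a b P').obj
      ((DCoh.RSheafHom F).obj (DCoh.inD X (DCoh.HD (adx.obj O).obj (-(d : ℤ)))))) i)) ∧
    (∀ (i : ℕ) (y : ↥Y), y ∈ CohB1.support (DCoh.HD ((FMK.phi a b P').obj
      ((DCoh.RSheafHom F).obj (DCoh.inD X (DCoh.HD (adx.obj O).obj (-(d : ℤ)))))) (i : ℤ)) →
      ((i - k' : ℕ) : WithBot ℕ∞) ≤ ringKrullDim ↑(Y.presheaf.stalk y)) := by
  haveI : IsNoetherian Y := BCNat.isNoetherian_of_ft b
  let Z := pullback a b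
  obtain ⟨K, ⟨eK⟩⟩ : ∃ K : CochainComplex Y.Modules ℤ, Nonempty (DCoh.toD Y K ≅
      (FMK.phi a b P).obj (DCoh.toD X F)) := ⟨_, ⟨DerivedCategory.Q.objObjPreimageIso _⟩⟩
  haveI := hasLTensorCx K
  haveI := PerfShriek.hasRSheafHom K
  obtain ⟨E, ⟨eE⟩⟩ : ∃ E : CochainComplex Z.Modules ℤ, Nonempty (DCoh.toD Z E ≅
      (DCoh.Lpull (pullback.fst a b)).obj (DCoh.toD X F)) := ⟨_, ⟨DerivedCategory.Q.objObjPreimageIso _⟩⟩
  have hE : DCoh.IsPerfect (DCoh.toD Z E) := isPerfect_congr eE.symm (isPerfect_lpull _ hF)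
  have hK : DCoh.IsPerfect (DCoh.toD Y K) := isPerfect_congr eK.symm
    ((isPerfect_iff _).2 (TorBC.locSP_rpush_properFlat (pullback.snd a b) ((isPerfect_iff _).1
      (isPerfect_congr ((DCoh.LTensorCx P).mapIso eE) (isPerfect_ltensor' P hP hE)))))
  obtain ⟨e⟩ := nonempty_dual_phi_field k X Y a b hXcm d hXeq ha adx adj O eO P hP P' eP' F hF K eK
  obtain ⟨s⟩ := nonempty_phi_shift a b P' (d : ℤ)
  let W := (DCoh.RSheafHom F).obj (DCoh.inD X (DCoh.HD (adx.obj O).obj (-(d : ℤ))))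
  have eH : ∀ i : ℤ, DCoh.HD ((FMK.phi a b P').obj W) i ≅
      DCoh.HD ((DCoh.RSheafHom K).obj (DCoh.inD Y (Coh.structureModule Y))) (i - d) := fun i =>
    ((DerivedCategory.homologyFunctor _ (i - d)).mapIso (e ≪≫ s.app W) ≪≫
      ((DerivedCategory.homologyFunctor _ 0).shiftIso (d : ℤ) (i - d) i (by omega)).app _).symm
  obtain ⟨h1, h2⟩ := dual_bounds hYcm K hK d k' fun i hi =>
    (hWIT i hi).of_iso ((DerivedCategory.homologyFunctor _ i).mapIso eK)
  refine ⟨fun i hi => (h1 (i - d) (by omega)).of_iso (eH i), fun i y hy => h2 i y fun h => hy ?_⟩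
  exact ((CategoryTheory.Iso.addCommGroupIsoToAddEquiv ((TopCat.Presheaf.stalkFunctor AddCommGrpCat.{u} y).mapIso
    ((Scheme.Modules.toPresheaf Y).mapIso (eH i)))).toEquiv.subsingleton_congr.2 h)

end Groth.Agent.KExact.PhiShift
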