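import Groth.Agent.KExact.CodimExt
import Groth.Agent.KExact.GammaAcyclic
import Groth.Agent.KExact.PhiShift
import Groth.Agent.KExact.ExternalBdd
import Groth.Agent.KExact.AmpleDetect
import Groth.Agent.H9Misc.GammaPairing
import Groth.Agent.H9Misc.RGammaHom
import Groth.Agent.RelPC17.Closed
import Groth.Agent.KFlatLib.Scheme.EvalPerfect

/-!
# The internal Hom into a Cohen–Macaulay sheaf from an object with supports of large codimension
-/

set_option autoImplicit false
set_option linter.style.haveILetI false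
set_option backward.isDefEq.respectTransparency false
set_option backward.isDefEq.respectTransparency.types false
set_option maxHeartbeats 1000000

universe u

open CategoryTheory CategoryTheory.Limits AlgebraicGeometry Opposite

attribute [local instance] HasDerivedCategory.standard

noncomputable section

namespace Groth.Agent.KExact.CodimRHom

open KFlatLib H9Misc

variable {X : Scheme.{u}}

/-- On an affine scheme cohomology is detected by maps out of the structure sheaf. -/
theorem isZero_hd_of_hom_eq_zero [IsLocallyNoetherian X] [IsAffine X] (g : ℕ)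
    (hg : ∀ (M : X.Modules) (p : ℕ), g < p → Subsingleton (Coh.HH X M p))
    (W : DCoh.D X) (hc : ∀ n, Coh.IsCoh (DCoh.HD W n)) (m : ℤ)
    (h : ∀ φ : DCoh.inD X (Coh.structureModule X) ⟶ W⟦m⟧, φ = 0) : IsZero (DCoh.HD W m) := by
  let c := ComplexShape.up ℤ
  let O := Coh.structureModule X
  obtain ⟨I, hK, hinj, ⟨eI⟩⟩ := exists_kInjective_rep W
  haveI := hK
  let eH : ∀ n, DCoh.HD W n ≅ I.homology n := fun n =>
    (DerivedCategory.homologyFunctor X.Modules n).mapIso eI ≪≫
      (DerivedCategory.homologyFunctorFactors X.Modules n).app I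
  have hI : ∀ n, GammaAcyclic.Acyc (I.X n) := fun n => haveI := hinj n; GammaAcyclic.acyc_of_injective _
  have hH : ∀ n, GammaAcyclic.Acyc (I.homology n) := fun n p hp => by
    obtain ⟨q, rfl⟩ := Nat.exists_eq_add_of_le' hp
    exact QCoh.subsingleton_HH_of_iso (eH n) (q + 1) (QCoh.subsingleton_HH_of_isAffine (hc n).1 q)
  -- exactness of global sections
  have hex : (((DCoh.gammaAb X).mapHomologicalComplex c).obj I).ExactAt m := by
    rw [HomologicalComplex.exactAt_iff' _ (m - 1) m (m + 1) (by simp [c]) (by simp [c]), ShortComplex.ab_exact_iff]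
    intro y hy
    obtain ⟨σ, rfl⟩ := (topEquiv (I.X m)).surjective y
    have hσ : σ ≫ I.d m (m + 1) = 0 :=
      (topEquiv _).injective ((topEquiv_naturality σ _).trans (hy.trans (topEquiv_zero _).symm))
    let J : CochainComplex X.Modules ℤ := I⟦m⟧
    haveI : J.IsKInjective :=
      inferInstanceAs ((shiftFunctor (CochainComplex X.Modules ℤ) m).obj I).IsKInjective
    let σ' : O ⟶ J.X 0 := σ ≫ (I.XIsoOfEq (show m = 0 + m by omega)).hom
    have hσ' : ∀ i, σ' ≫ J.d 0 i = 0 := fun i => by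
      show (σ ≫ (I.XIsoOfEq _).hom) ≫ (m.negOnePow • I.d (0 + m) (i + m)) = 0
      rw [Linear.comp_units_smul, Category.assoc, HomologicalComplex.XIsoOfEq_hom_comp_d]
      by_cases hi : i + m = m + 1
      · rw [hi, hσ, smul_zero]
      · rw [I.shape _ _ (by simp [c]; omega), comp_zero, smul_zero]
    let f : (HomologicalComplex.single X.Modules c 0).obj O ⟶ J :=
      HomologicalComplex.mkHomFromSingle σ' fun i _ => hσ' i
    let eJ : W⟦m⟧ ≅ DerivedCategory.Q.obj J :=
      (shiftFunctor (DCoh.D X) m).mapIso eI ≪≫ ((DerivedCategory.Q.commShiftIso m).app I).symm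
    let eO := (DerivedCategory.singleFunctorIsoCompQ X.Modules 0).app O
    have hf : DerivedCategory.Q.map f = 0 := by
      have := h (eO.hom ≫ DerivedCategory.Q.map f ≫ eJ.inv)
      exact zero_of_epi_comp eO.hom (zero_of_comp_mono eJ.inv (by rw [Category.assoc]; exact this))
    have hq : (HomotopyCategory.quotient X.Modules c).map f = 0 := by
      refine (CochainComplex.IsKInjective.Qh_map_bijective _ J).1 ?_
      rw [Functor.map_zero]
      have := NatIso.naturality_1 (DerivedCategory.quotientCompQhIso X.Modules).symm f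
      exact zero_of_epi_comp ((DerivedCategory.quotientCompQhIso X.Modules).inv.app _)
        (by rw [show DerivedCategory.Qh.map ((HomotopyCategory.quotient X.Modules c).map f) =
          (DerivedCategory.quotientCompQhIso X.Modules).hom.app _ ≫ DerivedCategory.Q.map f ≫
            (DerivedCategory.quotientCompQhIso X.Modules).inv.app _ from by
              rw [← NatTrans.naturality_assoc, Iso.hom_inv_id_app, Category.comp_id]; rfl,
          hf, zero_comp, comp_zero, comp_zero])
    obtain ⟨hh⟩ : Nonempty (Homotopy f 0) :=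
      ⟨HomotopyCategory.homotopyOfEq _ _ (hq.trans (Functor.map_zero _ _ _).symm)⟩
    have h0 := hh.comm 0
    rw [dNext_eq hh.hom (show c.Rel 0 1 by simp [c]), prevD_eq hh.hom (show c.Rel (-1) 0 by simp [c]),
      HomologicalComplex.single_obj_d, zero_comp, zero_add, HomologicalComplex.zero_f, add_zero] at h0
    let o := HomologicalComplex.singleObjXSelf c 0 O
    have hσ0 : σ' = (o.inv ≫ hh.hom 0 (-1)) ≫ J.d (-1) 0 := by
      rw [Category.assoc, ← h0]
      simp [f, o]
    refine ⟨topEquiv (I.X (m - 1)) (m.negOnePow • ((o.inv ≫ hh.hom 0 (-1)) ≫ (I.XIsoOfEq (show -1 + m = m - 1 by omega)).hom)),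
      (topEquiv_naturality _ _).symm.trans (congrArg _ ?_)⟩
    have hJd : J.d (-1) 0 = m.negOnePow • I.d (-1 + m) (0 + m) := rfl
    rw [hJd, Linear.comp_units_smul] at hσ0
    rw [Linear.units_smul_comp, Category.assoc, HomologicalComplex.XIsoOfEq_hom_comp_d, ← cancel_mono
      (I.XIsoOfEq (show m = 0 + m by omega)).hom, Linear.units_smul_comp, Category.assoc,
      HomologicalComplex.d_comp_XIsoOfEq_hom]
    exact hσ0.symm
  have hsec : ∀ σ : O ⟶ DCoh.HD W m, σ = 0 := fun σ =>
    zero_of_comp_mono (eH m).hom ((GammaAcyclic.exactAt_gamma_iff I g hg hI hH m).1 hex _)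
  obtain ⟨n, p, hp⟩ := GammaPairing.exists_free_epi (hc m)
  have hp0 : p = 0 := Sigma.hom_ext _ _ fun j => (hsec _).trans (hsec _).symm
  exact (IsZero.iff_id_eq_zero _).2 ((cancel_epi p).1 (by rw [hp0]; simp))

/-- Codimension bounds on the cohomology of `K` give a lower bound for `RHom(K, L)`, `L` Cohen–Macaulay of full support. -/
theorem isZero_hd_RSheafHom_codim (k : Type u) [Field k] (a : X ⟶ Spec (CommRingCat.of k)) [IsLocallyNoetherian X]
    {g : ℕ} (hg : topologicalKrullDim ↥X ≤ (g : WithBot ℕ∞))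
    (K : CochainComplex X.Modules ℤ) (hK : DCoh.IsPerfect (DCoh.toD X K)) [DCoh.HasLTensorCx K] [DCoh.HasRSheafHom K]
    {L : X.Modules} (hL : Coh.IsCoh L)
    (hdep : ∀ x : X, ((LocCoh.depth (X.presheaf.stalk x) (L.presheaf.stalk x) : ℕ∞) : WithBot ℕ∞) =
      ringKrullDim (X.presheaf.stalk x))
    (k' : ℕ) (hcodim : ∀ (n : ℕ) (x : ↥X), x ∈ CohB1.support (DCoh.HD (DCoh.toD X K) (n : ℤ)) →
      ((n - k' : ℕ) : WithBot ℕ∞) ≤ ringKrullDim ↑(X.presheaf.stalk x))
    (hW : ∀ n, Coh.IsCoh (DCoh.HD ((DCoh.RSheafHom K).obj (DCoh.inD X L)) n))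
    (m : ℤ) (hm : m < -(k' : ℤ)) :
    IsZero (DCoh.HD ((DCoh.RSheafHom K).obj (DCoh.inD X L)) m) := by
  refine isZero_of_stalk _ fun x => ?_
  obtain ⟨U, hU, hxU⟩ := ExtShLocal.exists_affine x
  let j := U.ι
  haveI : IsAffine (U : Scheme.{u}) := hU
  haveI : IsLocallyNoetherian (U : Scheme.{u}) := isLocallyNoetherian_of_isOpenImmersion j
  haveI : IsNoetherian (U : Scheme.{u}) := {}
  obtain ⟨I, hI, hinj, ⟨eL⟩⟩ := exists_kInjective_rep (DCoh.inD X L)
  haveI := hI
  haveI := hinj
  obtain ⟨eR⟩ := nonempty_RSheafHom_iso K I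
  let KU := (rCx j).obj K
  let IU := (rCx j).obj I
  haveI : IU.IsKInjective := isKInjective_rCx j I
  haveI : ∀ n, Injective (IU.X n) := injective_rCx j I
  haveI := hasLTensorCx KU
  haveI := PerfShriek.hasRSheafHom KU
  let LU := L.restrict j
  obtain ⟨e₁⟩ := nonempty_rho_iHom j K I
  obtain ⟨e₂⟩ := nonempty_RSheafHom_iso KU IU
  let R := DCoh.RSheafHom KU
  let eW : (rho j).obj ((DCoh.RSheafHom K).obj (DCoh.inD X L)) ≅ R.obj (DCoh.inD (U : Scheme.{u}) LU) :=
    (rho j).mapIso ((DCoh.RSheafHom K).mapIso eL ≪≫ eR) ≪≫ e₁ ≪≫ e₂.symm ≪≫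
      R.mapIso (((rhoQ j).app I).symm ≪≫ (rho j).mapIso eL.symm ≪≫ RelPC17.rhoInD j L)
  have hc : ∀ n, Coh.IsCoh (DCoh.HD (R.obj (DCoh.inD (U : Scheme.{u}) LU)) n) := fun n =>
    isCoh_of_iso ((restrictHDIso j _ n).symm ≪≫ (DerivedCategory.homologyFunctor _ n).mapIso eW)
      (isCoh_restrict j (hW n))
  have hgU : topologicalKrullDim ↥(U : Scheme.{u}) ≤ g :=
    (Topology.IsInducing.topologicalKrullDim_le j.isOpenEmbedding.isInducing).trans hg
  have hLU : Coh.IsCoh LU := isCoh_restrict j hL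
  have hKU : DCoh.IsPerfect (DCoh.toD (U : Scheme.{u}) KU) :=
    (isPerfect_iff _).2 (((KFlatLib.LocSP.restrict' ((isPerfect_iff _).1 hK) j)).of_iso ((rhoQ j).app K))
  obtain ⟨hcK, lo, hi, hbd⟩ := AmpleDetect.coherent_bounded hKU
  let eHK : ∀ i : ℤ, DCoh.HD (DCoh.toD (U : Scheme.{u}) KU) i ≅ (DCoh.HD (DCoh.toD X K) i).restrict j := fun i =>
    (DerivedCategory.homologyFunctor _ i).mapIso ((rhoQ j).app K).symm ≪≫ restrictHDIso j _ i
  have hz : IsZero (DCoh.HD (R.obj (DCoh.inD (U : Scheme.{u}) LU)) m) := by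
    refine isZero_hd_of_hom_eq_zero g (GammaAcyclic.subsingleton_HH_of_dim hgU) _ hc m fun φ => ?_
    let O := Coh.structureModule (U : Scheme.{u})
    let T := DCoh.inD (U : Scheme.{u}) LU
    let S := shiftFunctor (DCoh.D (U : Scheme.{u})) (-m)
    let ψ : S.obj (DCoh.inD _ O) ⟶ R.obj T :=
      S.map φ ≫ (shiftFunctorCompIsoId (DCoh.D (U : Scheme.{u})) m (-m) (by omega)).hom.app (R.obj T)
    suffices hψ : ψ = 0 by
      apply S.map_injective
      rw [Functor.map_zero]
      exact zero_of_comp_mono _ hψ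
    apply ((DCoh.RSheafHomAdj KU).homEquiv _ _).symm.injective
    let single₀ := (HomologicalComplex.single (U : Scheme.{u}).Modules (ComplexShape.up ℤ) 0).obj O
    haveI := hasLTensorCx single₀
    let sU := (DerivedCategory.singleFunctorIsoCompQ (U : Scheme.{u}).Modules 0).app O
    obtain ⟨tu⟩ := nonempty_LTensorCx_unit single₀ sU.symm
    obtain ⟨sw⟩ := KExact.nonempty_ltensor_swap single₀ KU
    obtain ⟨sh⟩ := PhiShift.nonempty_ltensor_shift KU (-m)
    let eS : (DCoh.LTensorCx KU).obj (S.obj (DCoh.inD _ O)) ≅ S.obj (DCoh.toD _ KU) :=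
      sh.app _ ≪≫ S.mapIso ((DCoh.LTensorCx KU).mapIso sU ≪≫ sw ≪≫ tu.app _)
    have hall : ∀ f : S.obj (DCoh.toD _ KU) ⟶ T, f = 0 := by
      let eSH : ∀ i : ℤ, DCoh.HD (S.obj (DCoh.toD _ KU)) i ≅ DCoh.HD (DCoh.toD (U : Scheme.{u}) KU) (i - m) := fun i =>
        ((DerivedCategory.homologyFunctor _ 0).shiftIso (-m) i (i - m) (by omega)).app _
      refine CodimExt.hom_eq_zero_devissage T (hi - lo).toNat _ (lo + m) ?_ ?_ fun i f => ?_
      · exact (DerivedCategory.isGE_iff _ _).2 fun i h' => (hbd (i - m) (by omega)).of_iso (eSH i)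
      · exact (DerivedCategory.isLE_iff _ _).2 fun i h' => (hbd (i - m) (by omega)).of_iso (eSH i)
      · refine CodimExt.hom_single_eq_zero _ LU i (fun q hq => ?_) f
        subst hq
        obtain ⟨n, hn⟩ := Int.eq_ofNat_of_zero_le (show 0 ≤ (q : ℤ) - m by omega)
        refine CodimExt.subsingleton_ext k (j ≫ a) (isCoh_of_iso (eSH q).symm (hcK _)) hLU (c := n - k')
          (fun z hz => ?_) (fun z => CodimExt.depth_eq_dim_restrict j L z (hdep _)) q (by omega)
        rw [show ringKrullDim ((U : Scheme.{u}).presheaf.stalk z) = ringKrullDim (X.presheaf.stalk (j.base z)) from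
          (ringKrullDim_eq_of_ringEquiv (asIso (j.stalkMap z)).commRingCatIsoToRingEquiv).symm]
        refine hcodim n (j.base z) fun hs => hz ?_
        obtain ⟨A, -⟩ := AssLib.exists_semilinear_restrict j (DCoh.HD (DCoh.toD X K) (n : ℤ)) z
        haveI : Subsingleton ((DCoh.HD (DCoh.toD X K) (n : ℤ)).presheaf.stalk (j.base z)) := hs
        haveI h1 : Subsingleton (((DCoh.HD (DCoh.toD X K) (n : ℤ)).restrict j).presheaf.stalk z) := A.toEquiv.subsingleton
        haveI : Subsingleton ((TopCat.Presheaf.stalkFunctor AddCommGrpCat.{u} z).obj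
          ((Scheme.Modules.toPresheaf _).obj ((DCoh.HD (DCoh.toD X K) (n : ℤ)).restrict j))) := h1
        exact ((CategoryTheory.Iso.addCommGroupIsoToAddEquiv ((TopCat.Presheaf.stalkFunctor AddCommGrpCat.{u} z).mapIso
          ((Scheme.Modules.toPresheaf _).mapIso (eSH q ≪≫ eqToIso (by rw [hn]) ≪≫ eHK n))))).toEquiv.subsingleton
    have h0 := hall (eS.inv ≫ ((DCoh.RSheafHomAdj KU).homEquiv _ _).symm ψ)
    rw [zero_of_epi_comp eS.inv h0, Adjunction.homEquiv_counit, Functor.map_zero, zero_comp]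
  exact isZero_stalk_of_restrict j (⟨x, hxU⟩ : U) ((DerSch.stalkFunctor (U : Scheme.{u}) ⟨x, hxU⟩).map_isZero
    (hz.of_iso ((restrictHDIso j _ m).symm ≪≫ (DerivedCategory.homologyFunctor _ m).mapIso eW)))

end Groth.Agent.KExact.CodimRHom
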