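import Groth.Agent.QCoh.Support
import Groth.Agent.QCoh.DevissageSum
import Groth.Agent.QCoh.SubCompare
import Groth.Agent.S4342
import Mathlib.RingTheory.Finiteness.Basic

/-!
# Coherent submodules lifting epimorphisms
-/

set_option autoImplicit false
set_option linter.style.haveILetI false
set_option backward.isDefEq.respectTransparency false
set_option backward.isDefEq.respectTransparency.types false

universe u

open CategoryTheory CategoryTheory.Limits AlgebraicGeometry TopologicalSpace Opposite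

namespace Groth.Agent.KExact.CohLift

open QCoh

variable {X : Scheme.{u}} [AlgebraicGeometry.IsNoetherian X]

/-- A quasi-coherent module onto a coherent one has a coherent submodule that is still onto. -/
theorem exists_coh_sub_epi {M N : X.Modules} (hM : Coh.IsQCoh M) (hN : Coh.IsCoh N) (π : M ⟶ N) [Epi π] :
    ∃ (M' : X.Modules) (i : M' ⟶ M), Mono i ∧ Coh.IsCoh M' ∧ Epi (i ≫ π) := by
  classical
  obtain ⟨s, hs, htop⟩ := isCompact_iff_finite_and_eq_biUnion_affineOpens.1
    (show IsCompact ((⊤ : X.Opens) : Set X) from isCompact_univ)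
  haveI := hs.fintype
  haveI : ∀ U : X.affineOpens, Module.Finite Γ(X, U.1) Γ(N, U.1) := fun U => finite_sections hN U.2
  choose gen hgen using fun U : X.affineOpens => (Module.Finite.fg_top : (⊤ : Submodule Γ(X, U.1) Γ(N, U.1)).FG)
  choose lift hlift using fun (U : X.affineOpens) (y : gen U) => app_surjective_of_epi hM hN.1 π U.2 y.1
  have hX : ∀ x : X, ∃ U : X.Opens, x ∈ U ∧ NoetherianSpace (U : Set X) := fun x =>
    ⟨⊤, trivial, inferInstance⟩
  haveI := hM
  choose G iG hmono hq hft g hg using fun (p : Σ U : s, gen U.1) => S4342.result hX M p.1.1 (lift p.1.1 p.2)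
  haveI := HasFiniteBiproducts.of_hasFiniteProducts (C := X.Modules)
  let ι := (Σ U : s, gen U.1)
  let T : ULift.{u} ι → X.Modules := fun p => G p.down
  have hcoh : Coh.IsCoh (⨁ T) := isCoh_biproduct T fun p => ⟨hq p.down, hft p.down⟩
  let d : ⨁ T ⟶ M := biproduct.desc fun p => iG p.down
  have hi : Coh.IsQCoh (Abelian.image d) := isQCoh_kernel hM (isQCoh_cokernel hcoh.1 hM d) _
  refine ⟨Abelian.image d, Abelian.image.ι d, inferInstance,
    isCoh_of_epi (Abelian.factorThruImage d) hcoh hi, Preadditive.epi_of_cokernel_zero ?_⟩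
  refine hom_eq_zero_of_cover hN.1 (isQCoh_cokernel hi hN.1 _) _ (fun U : s => U.1.1) (fun U => U.1.2)
    (fun x => by
      have hx : x ∈ (⊤ : X.Opens) := trivial
      rw [htop] at hx
      obtain ⟨U, hU⟩ := Opens.mem_iSup.1 hx
      obtain ⟨hUs, hxU⟩ := Opens.mem_iSup.1 hU
      exact ⟨⟨U, hUs⟩, hxU⟩) fun U x => ?_
  let φ := Abelian.image.ι d ≫ π
  have : x ∈ LinearMap.ker (appLin (cokernel.π φ) U.1.1) := by
    have hx : x ∈ Submodule.span Γ(X, U.1.1) (gen U.1 : Set Γ(N, U.1.1)) := hgen U.1 ▸ Submodule.mem_top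
    refine Submodule.span_le.2 (fun y hy => ?_) hx
    let p : ι := ⟨U, ⟨y, hy⟩⟩
    have e : (biproduct.ι T ⟨p⟩ ≫ Abelian.factorThruImage d) ≫ φ ≫ cokernel.π φ = 0 := by
      rw [cokernel.condition, comp_zero]
    have e' : iG p ≫ π ≫ cokernel.π φ = 0 := by
      rw [← e]
      simp only [φ, Category.assoc]
      rw [reassoc_of% (Abelian.image.fac d), biproduct.ι_desc_assoc]
    have h1 := congr(($e').app U.1.1 (g p))
    have h2 : (iG p).app U.1.1 (g p) = lift U.1 ⟨y, hy⟩ := hg p
    show (cokernel.π φ).app U.1.1 y = 0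
    rw [show y = π.app U.1.1 (lift U.1 ⟨y, hy⟩) from (hlift U.1 ⟨y, hy⟩).symm, ← h2]
    exact h1
  exact this

end Groth.Agent.KExact.CohLift
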