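import Groth.Agent.S11468
import Groth.Agent.FComplLib.IdealComap
import Groth.Agent.ModPairLib.Basic
import Mathlib.AlgebraicGeometry.Morphisms.Proper
import Mathlib.RingTheory.Filtration
import Mathlib.RingTheory.HopkinsLevitzki
import Mathlib.RingTheory.AdicCompletion.Basic

/-!
# Global functions of a proper flat scheme over a complete local ring
-/

set_option linter.style.haveILetI false
set_option backward.isDefEq.respectTransparency false

universe u

open CategoryTheory CategoryTheory.Limits AlgebraicGeometry TopologicalSpace Opposite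

namespace Groth.Agent.KExact.CompleteGlobal

variable {R : Type u} [CommRing R]

/-- The structure map of an open set. -/
noncomputable def sec {X : Scheme.{u}} (g : X ⟶ Spec (CommRingCat.of R)) (U : X.Opens) : R →+* Γ(X, U) :=
  ((Scheme.ΓSpecIso (CommRingCat.of R)).inv ≫ g.appTop ≫
    X.presheaf.map (homOfLE (le_top : U ≤ ⊤)).op).hom

lemma res_sec {X : Scheme.{u}} (g : X ⟶ Spec (CommRingCat.of R)) (U : X.Opens) (c : R) :
    X.presheaf.map (homOfLE (le_top : U ≤ ⊤)).op
      (((Scheme.ΓSpecIso (CommRingCat.of R)).inv ≫ g.appTop) c) = sec g U c := rfl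

/-- The kernel of restriction to the subscheme cut out by an ideal of the base. -/
theorem ker_app {X X' : Scheme.{u}} (g : X ⟶ Spec (CommRingCat.of R)) (I : Ideal R) (j : X' ⟶ X)
    (g' : X' ⟶ Spec (CommRingCat.of (R ⧸ I)))
    (hsq : IsPullback j g' g (Spec.map (CommRingCat.ofHom (Ideal.Quotient.mk I))))
    (U : X.affineOpens) : RingHom.ker (j.app U.1).hom = I.map (sec g U.1) := by
  let sk := Spec.map (CommRingCat.ofHom (Ideal.Quotient.mk I))
  haveI : IsClosedImmersion sk := IsClosedImmersion.spec_of_surjective _ Ideal.Quotient.mk_surjective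
  haveI : IsClosedImmersion j :=
    MorphismProperty.of_isPullback (P := @IsClosedImmersion) hsq.flip inferInstance
  rw [← Scheme.Hom.ker_apply j U, Groth.Agent.FComplLib.ker_of_isPullback hsq,
    ModPairLib.ideal_comap _ g ⟨⊤, isAffineOpen_top _⟩ U le_top, Scheme.Hom.ker_apply]
  have hk : RingHom.ker (sk.app ⊤).hom =
      I.map (Scheme.ΓSpecIso (CommRingCat.of R)).inv.hom := by
    let e := (Scheme.ΓSpecIso (CommRingCat.of R)).symm.commRingCatIsoToRingEquiv
    let e' := (Scheme.ΓSpecIso (CommRingCat.of (R ⧸ I))).symm.commRingCatIsoToRingEquiv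
    show RingHom.ker (sk.appTop).hom = I.map (e : R →+* _)
    rw [Ideal.map_comap_of_equiv e]
    ext z
    have e2 := congr($(Scheme.ΓSpecIso_inv_naturality (CommRingCat.ofHom (Ideal.Quotient.mk I))) (e.symm z))
    rw [RingHom.mem_ker, Ideal.mem_comap]
    show sk.appTop z = 0 ↔ e.symm z ∈ I
    rw [← Ideal.Quotient.eq_zero_iff_mem, ← map_eq_zero_iff e'.toRingHom e'.injective,
      show sk.appTop z = sk.appTop (e (e.symm z)) by rw [e.apply_symm_apply]]
    exact Eq.congr_left e2.symm
  rw [hk, Ideal.map_map]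
  rfl

/-- A global function dies on the subscheme cut out by `I` iff it lies in `I` on every affine open. -/
theorem appTop_eq_zero_iff {X X' : Scheme.{u}} (g : X ⟶ Spec (CommRingCat.of R)) (I : Ideal R)
    (j : X' ⟶ X) (g' : X' ⟶ Spec (CommRingCat.of (R ⧸ I)))
    (hsq : IsPullback j g' g (Spec.map (CommRingCat.ofHom (Ideal.Quotient.mk I)))) (b : Γ(X, ⊤)) :
    j.appTop b = 0 ↔ ∀ U : X.affineOpens,
      X.presheaf.map (homOfLE (le_top : U.1 ≤ ⊤)).op b ∈ I.map (sec g U.1) := by
  have key : ∀ U : X.affineOpens, X.presheaf.map (homOfLE (le_top : U.1 ≤ ⊤)).op b ∈ I.map (sec g U.1) ↔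
      X'.presheaf.map (homOfLE (le_top : j ⁻¹ᵁ U.1 ≤ ⊤)).op (j.appTop b) = 0 := fun U => by
    rw [← ker_app g I j g' hsq U, RingHom.mem_ker]
    exact Eq.congr_left (congr($(j.naturality (homOfLE (le_top : U.1 ≤ ⊤)).op) b))
  refine ⟨fun h U => (key U).2 (by rw [h]; exact map_zero _), fun h => ?_⟩
  refine X'.sheaf.eq_of_locally_eq' (fun U : X.affineOpens => j ⁻¹ᵁ U.1) ⊤
    (fun U => homOfLE le_top) (fun y _ => ?_) _ 0 fun U => ((key U).1 (h U)).trans (map_zero _).symm
  obtain ⟨U, hU, hyU, -⟩ := exists_isAffineOpen_mem_and_subset (x := j y) (U := ⊤) trivial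
  exact Opens.mem_iSup.mpr ⟨⟨U, hU⟩, hyU⟩

/-- `R → Γ(X, O)` is bijective for proper flat `X` over complete local `R` if it is so on the closed fibre. -/
theorem bijective_of_closedFibre [IsLocalRing R] [IsNoetherianRing R]
    [IsAdicComplete (IsLocalRing.maximalIdeal R) R]
    {X X₀ : Scheme.{u}} (g : X ⟶ Spec (CommRingCat.of R)) [IsProper g] [Flat g]
    (i : X₀ ⟶ X) (f₀ : X₀ ⟶ Spec (CommRingCat.of (R ⧸ IsLocalRing.maximalIdeal R)))
    (hsq : IsPullback i f₀ g
      (Spec.map (CommRingCat.ofHom (Ideal.Quotient.mk (IsLocalRing.maximalIdeal R)))))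
    (h0 : Function.Bijective ((Scheme.ΓSpecIso (CommRingCat.of (R ⧸ IsLocalRing.maximalIdeal R))).inv ≫
      f₀.appTop)) :
    Function.Bijective ((Scheme.ΓSpecIso (CommRingCat.of R)).inv ≫ g.appTop) := by
  let m := IsLocalRing.maximalIdeal R
  let φ : R →+* Γ(X, ⊤) := ((Scheme.ΓSpecIso (CommRingCat.of R)).inv ≫ g.appTop).hom
  show Function.Bijective φ
  haveI : IsLocallyNoetherian X := LocallyOfFiniteType.isLocallyNoetherian g
  let sk : ∀ n : ℕ, Spec (CommRingCat.of (R ⧸ m ^ (n + 1))) ⟶ Spec (CommRingCat.of R) :=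
    fun n => Spec.map (CommRingCat.ofHom (Ideal.Quotient.mk (m ^ (n + 1))))
  let j : ∀ n : ℕ, pullback g (sk n) ⟶ X := fun n => pullback.fst g (sk n)
  let gn : ∀ n : ℕ, pullback g (sk n) ⟶ _ := fun n => pullback.snd g (sk n)
  let ψ : ∀ n : ℕ, R ⧸ m ^ (n + 1) →+* Γ(pullback g (sk n), ⊤) := fun n =>
    ((Scheme.ΓSpecIso (CommRingCat.of (R ⧸ m ^ (n + 1)))).inv ≫ (gn n).appTop).hom
  have hjφ : ∀ n r, (j n).appTop (φ r) = ψ n (Ideal.Quotient.mk _ r) := fun n r => by
    show (j n ≫ g).appTop ((Scheme.ΓSpecIso (CommRingCat.of R)).inv r) = _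
    have e1 : (j n ≫ g).appTop = (gn n ≫ sk n).appTop :=
      congrArg Scheme.Hom.appTop pullback.condition
    rw [e1, Scheme.Hom.comp_appTop, ConcreteCategory.comp_apply]
    exact congrArg (fun t => (gn n).appTop t)
      (congr($(Scheme.ΓSpecIso_inv_naturality (CommRingCat.ofHom (Ideal.Quotient.mk (m ^ (n + 1))))) r)).symm
  -- the artinian case
  have hψ : ∀ n, Function.Bijective (ψ n) := fun n => by
    haveI : Nontrivial (R ⧸ m ^ (n + 1)) := Ideal.Quotient.nontrivial_iff.2 fun h =>
      (IsLocalRing.maximalIdeal.isMaximal R).ne_top (top_le_iff.1 (h ▸ Ideal.pow_le_self n.succ_ne_zero))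
    haveI : IsLocalRing (R ⧸ m ^ (n + 1)) :=
      IsLocalRing.of_surjective' (Ideal.Quotient.mk _) Ideal.Quotient.mk_surjective
    let mn := IsLocalRing.maximalIdeal (R ⧸ m ^ (n + 1))
    haveI : IsArtinianRing (R ⧸ m ^ (n + 1)) := by
      refine (isArtinianRing_iff_isNilpotent_maximalIdeal _).2 ⟨n + 1, ?_⟩
      have h1 : mn ≤ m.map (Ideal.Quotient.mk (m ^ (n + 1))) := fun x hx => by
        obtain ⟨y, rfl⟩ := Ideal.Quotient.mk_surjective x
        exact Ideal.mem_map_of_mem _ ((IsLocalRing.mem_maximalIdeal _).2 fun hu =>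
          (IsLocalRing.mem_maximalIdeal _).1 hx (hu.map _))
      refine le_bot_iff.1 ((Ideal.pow_right_mono h1 (n + 1)).trans ?_)
      rw [← Ideal.map_pow, Ideal.map_quotient_self]
    let q : R ⧸ m ^ (n + 1) →+* R ⧸ m := Ideal.Quotient.factor (Ideal.pow_le_self n.succ_ne_zero)
    have hq : Function.Surjective q := Ideal.Quotient.factor_surjective _
    have hker : RingHom.ker q = mn := by
      haveI : (RingHom.ker q).IsMaximal := by
        haveI : (⊥ : Ideal (R ⧸ m)).IsMaximal := by
          letI := Ideal.Quotient.field m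
          exact Ideal.bot_isMaximal
        exact Ideal.comap_isMaximal_of_surjective q hq
      exact IsLocalRing.eq_maximalIdeal inferInstance
    let e : (R ⧸ m ^ (n + 1)) ⧸ mn ≃+* R ⧸ m :=
      (Ideal.quotEquivOfEq hker.symm).trans (RingHom.quotientKerEquivOfSurjective hq)
    have heq : CommRingCat.ofHom (Ideal.Quotient.mk mn) ≫ CommRingCat.ofHom e.toRingHom =
        CommRingCat.ofHom q := by
      ext x
      rfl
    let se := Spec.map (CommRingCat.ofHom e.toRingHom)
    haveI : IsIso (CommRingCat.ofHom e.toRingHom) := e.toCommRingCatIso.isIso_hom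
    haveI : IsIso se := inferInstanceAs (IsIso (Spec.map _))
    have hqq : CommRingCat.ofHom (Ideal.Quotient.mk (m ^ (n + 1))) ≫ CommRingCat.ofHom q =
        CommRingCat.ofHom (Ideal.Quotient.mk m) := by
      ext x
      rfl
    let skm := Spec.map (CommRingCat.ofHom (Ideal.Quotient.mk mn))
    have hse : (f₀ ≫ se) ≫ skm = f₀ ≫ Spec.map (CommRingCat.ofHom q) := by
      rw [Category.assoc]
      refine congrArg (f₀ ≫ ·) ?_
      rw [← Spec.map_comp, heq]
    have hw : i ≫ g = ((f₀ ≫ se) ≫ skm) ≫ sk n := by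
      rw [hse, Category.assoc, ← Spec.map_comp, hqq]
      exact hsq.w
    let i' : X₀ ⟶ pullback g (sk n) := pullback.lift i ((f₀ ≫ se) ≫ skm) hw
    have hout : IsPullback i (f₀ ≫ se) g (skm ≫ sk n) := by
      refine hsq.of_iso (Iso.refl _) (Iso.refl _) (asIso se) (Iso.refl _) (by simp) (by simp) (by simp) ?_
      simp only [Iso.refl_hom, Category.comp_id, asIso_hom]
      rw [← Category.assoc, show se ≫ skm = Spec.map (CommRingCat.ofHom q) from by
        rw [← Spec.map_comp, heq], ← Spec.map_comp, hqq]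
    have hsq' : IsPullback i' (f₀ ≫ se) (gn n) skm := by
      refine IsPullback.of_right ?_ (pullback.lift_snd _ _ _) (IsPullback.of_hasPullback g (sk n))
      rw [pullback.lift_fst]
      exact hout
    refine Groth.Agent.S11468.result (R ⧸ m ^ (n + 1)) _ X₀ (gn n) i' (f₀ ≫ se) hsq' ?_
    have he : (Scheme.ΓSpecIso (CommRingCat.of ((R ⧸ m ^ (n + 1)) ⧸ mn))).inv ≫ (f₀ ≫ se).appTop =
        CommRingCat.ofHom e.toRingHom ≫
          (Scheme.ΓSpecIso (CommRingCat.of (R ⧸ m))).inv ≫ f₀.appTop := by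
      rw [Scheme.Hom.comp_appTop, ← Category.assoc, ← Category.assoc,
        Scheme.ΓSpecIso_inv_naturality (CommRingCat.ofHom e.toRingHom)]
    rw [he]
    exact h0.comp e.bijective
  -- germs along the closed fibre
  have hgerm : ∀ b : Γ(X, ⊤), (∀ n, (j n).appTop b = 0) → b = 0 := by
    intro b hb
    have hclosed : ∀ y : X, g y = IsLocalRing.closedPoint R → X.presheaf.germ ⊤ y trivial b = 0 := by
      intro y hy
      obtain ⟨U, hU, hyU, -⟩ := exists_isAffineOpen_mem_and_subset (x := y) (U := ⊤) trivial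
      haveI : IsNoetherianRing (X.presheaf.stalk y) := inferInstance
      let χ : R →+* X.presheaf.stalk y := (X.presheaf.germ U y hyU).hom.comp (sec g U)
      have hm : m.map χ ≤ IsLocalRing.maximalIdeal (X.presheaf.stalk y) := by
        refine Ideal.map_le_iff_le_comap.2 fun r hr => ?_
        rw [Ideal.mem_comap, IsLocalRing.mem_maximalIdeal]
        intro hu
        have hu' : IsUnit (X.presheaf.germ ⊤ y trivial (g.appTop ((Scheme.ΓSpecIso (CommRingCat.of R)).inv r))) := by
          rw [← TopCat.Presheaf.germ_res_apply X.presheaf (homOfLE (le_top : U ≤ ⊤)) y hyU]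
          exact hu
        have h1 : y ∈ X.basicOpen (g.appTop ((Scheme.ΓSpecIso (CommRingCat.of R)).inv r)) :=
          (Scheme.mem_basicOpen_top _ _ y).2 hu'
        rw [← Scheme.preimage_basicOpen_top, Scheme.Hom.mem_preimage, hy,
          basicOpen_eq_of_affine] at h1
        exact h1 hr
      have h2 : ∀ n, X.presheaf.germ ⊤ y trivial b ∈ IsLocalRing.maximalIdeal (X.presheaf.stalk y) ^ n := by
        intro n
        have h3 := Ideal.mem_map_of_mem (X.presheaf.germ U y hyU).hom
          ((appTop_eq_zero_iff g _ (j n) (gn n) (IsPullback.of_hasPullback _ _) b).1 (hb n) ⟨U, hU⟩)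
        rw [Ideal.map_map, Ideal.map_pow] at h3
        rw [← TopCat.Presheaf.germ_res_apply X.presheaf (homOfLE (le_top : U ≤ ⊤)) y hyU]
        exact Ideal.pow_le_pow_right n.le_succ (Ideal.pow_right_mono hm (n + 1) h3)
      have h4 : X.presheaf.germ ⊤ y trivial b ∈ (⨅ n, IsLocalRing.maximalIdeal (X.presheaf.stalk y) ^ n) := by
        simpa using h2
      rw [Ideal.iInf_pow_eq_bot_of_isLocalRing _ (IsLocalRing.maximalIdeal.isMaximal _).ne_top] at h4
      exact h4
    have hall : ∀ y : X, X.presheaf.germ ⊤ y trivial b = 0 := by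
      let Z : Set X := {y | X.presheaf.germ ⊤ y trivial b ≠ 0}
      have hZ : IsClosed Z := by
        rw [← isOpen_compl_iff, isOpen_iff_forall_mem_open]
        intro y hy
        have hy' : X.presheaf.germ ⊤ y trivial b = X.presheaf.germ ⊤ y trivial 0 := by
          rw [map_zero]; simpa [Z] using hy
        obtain ⟨W, hyW, i₁, i₂, hW⟩ := TopCat.Presheaf.germ_eq X.presheaf y (U := ⊤) (V := ⊤) trivial trivial b 0 hy'
        refine ⟨W, fun z hz => ?_, W.2, hyW⟩
        show ¬ X.presheaf.germ ⊤ z trivial b ≠ 0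
        rw [not_not, ← TopCat.Presheaf.germ_res_apply X.presheaf i₁ z hz, hW, map_zero, map_zero]
      intro y
      by_contra hy
      have hc : IsClosed (g '' Z) := g.isClosedMap _ hZ
      obtain ⟨z, hz, hzc⟩ : IsLocalRing.closedPoint R ∈ g '' Z :=
        (IsLocalRing.specializes_closedPoint (g y)).mem_closed hc ⟨y, hy, rfl⟩
      exact hz (hclosed z hzc)
    exact TopCat.Presheaf.section_ext X.sheaf ⊤ b 0 fun y _ => (hall y).trans (map_zero _).symm
  refine ⟨(injective_iff_map_eq_zero φ).2 fun r hr => ?_, fun b => ?_⟩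
  · refine IsHausdorff.haus' (I := m) r fun n => ?_
    have h1 : Ideal.Quotient.mk (m ^ (n + 1)) r = 0 := (hψ n).1 (by rw [← hjφ, hr, map_zero, map_zero])
    rw [SModEq.zero, smul_eq_mul, Ideal.mul_top]
    exact Ideal.pow_le_pow_right n.le_succ (Ideal.Quotient.eq_zero_iff_mem.1 h1)
  · choose r hr using fun n => (show ∃ r : R, ψ n (Ideal.Quotient.mk _ r) = (j n).appTop b by
      obtain ⟨c, hc⟩ := (hψ n).2 ((j n).appTop b)
      obtain ⟨r, rfl⟩ := Ideal.Quotient.mk_surjective c
      exact ⟨r, hc⟩)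
    have hcompat : ∀ n k, n ≤ k → r n - r k ∈ m ^ (n + 1) := fun n k hnk => by
      rw [← Ideal.Quotient.eq]
      refine (hψ n).1 ?_
      rw [hr n, ← hjφ]
      rw [eq_comm, ← sub_eq_zero, ← map_sub]
      refine (appTop_eq_zero_iff g _ (j n) (gn n) (IsPullback.of_hasPullback _ _) _).2 fun U => ?_
      refine Ideal.map_mono (Ideal.pow_le_pow_right (Nat.add_le_add_right hnk 1)) ?_
      refine (appTop_eq_zero_iff g _ (j k) (gn k) (IsPullback.of_hasPullback _ _) _).1 ?_ U
      rw [map_sub, hjφ, hr k, sub_self]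
    obtain ⟨L, hL⟩ := IsPrecomplete.prec' (I := m) (M := R) r (fun {a c} hac => by
      rw [SModEq.sub_mem, smul_eq_mul, Ideal.mul_top]
      exact Ideal.pow_le_pow_right a.le_succ (hcompat a c hac))
    refine ⟨L, sub_eq_zero.1 (hgerm _ fun n => ?_)⟩
    rw [map_sub, hjφ, sub_eq_zero, ← hr n]
    refine congrArg (ψ n) (Ideal.Quotient.eq.2 ?_)
    have h1 := SModEq.sub_mem.1 (hL (n + 1))
    rw [smul_eq_mul, Ideal.mul_top] at h1
    have h2 := hcompat n (n + 1) n.le_succ
    have h3 := (m ^ (n + 1)).neg_mem ((m ^ (n + 1)).add_mem h2 h1)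
    convert h3 using 1
    ring

end Groth.Agent.KExact.CompleteGlobal
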