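import Groth.Agent.S1811
import Groth.Agent.S3638
import Groth.Agent.KExact.DualizingS2
import Groth.Agent.KExact.DualNormalized
import Groth.Agent.Alg6.AssDepth
import Groth.Agent.H23.SchDense

/-!
# Sections of the dualizing module of a curve inject over the non-closed points
-/

set_option autoImplicit false
set_option linter.style.haveILetI false
set_option linter.unusedSectionVars false
set_option linter.unusedVariables false
set_option backward.isDefEq.respectTransparency false
set_option backward.isDefEq.respectTransparency.types false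
set_option maxHeartbeats 800000

universe u

open CategoryTheory CategoryTheory.Limits AlgebraicGeometry Opposite TopologicalSpace

attribute [local instance] HasDerivedCategory.standard

namespace Groth.Agent.KExact.CurveBottom

open KFlatLib

variable {X : Scheme.{u}} [IsLocallyNoetherian X]
  [∀ (U : Scheme.{u}) (j : U ⟶ X) [IsOpenImmersion j], PreservesFiniteLimits (Scheme.Modules.restrictFunctor j)]
  [∀ (R : CommRingCat.{u}), PreservesFiniteLimits (tilde.functor R)]

/-- Sections of the bottom cohomology vanishing at the non-closed points vanish. -/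
theorem eq_zero {K : DCoh.D X} (hK : Dual2.IsDualizingSch X K) (c : ℤ)
    (hlt : ∀ i : ℤ, i < c → IsZero (DCoh.HD K i))
    (hsupp : ∀ x : X, Nontrivial ((DCoh.HD K c).presheaf.stalk x))
    (hgen : ∀ x : X, IsClosed ({x} : Set X) → ∃ η : X, η ⤳ x ∧ η ≠ x)
    {W : X.Opens} (hW : IsAffineOpen W) (s : Γ(DCoh.HD K c, W))
    (hs : ∀ y : W, ¬ IsClosed ({y.1} : Set X) → (DCoh.HD K c).presheaf.germ W y.1 y.2 s = 0) : s = 0 := by
  haveI : IsNoetherianRing Γ(X, W) := QCoh.noetherian_sections ⟨W, hW⟩
  obtain ⟨ω, hω, ⟨e⟩⟩ := hK Γ(X, W) hW.fromSpec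
  haveI : ω.IsGE c := by
    rw [DerivedCategory.isGE_iff]
    intro i hi
    obtain ⟨eH⟩ := exists_restrict_hd_iso hW.fromSpec e i
    have hz := ((Scheme.Modules.restrictFunctor hW.fromSpec).map_isZero (hlt i hi)).of_iso eH.symm
    exact (IsZero.iff_id_eq_zero _).2
      ((tilde.fullyFaithfulFunctor (R := CommRingCat.of Γ(X, W))).map_injective (hz.eq_of_src _ _))
  obtain ⟨hS, -⟩ := bottom_hasSk_two_and_torsionFree hω c
  have hq : Coh.IsQCoh (DCoh.HD K c) := isQCoh_hd_dualizing hK c
  obtain ⟨eH⟩ := exists_restrict_hd_iso hW.fromSpec e c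
  let H : ModuleCat.{u} Γ(X, W) := (DerivedCategory.homologyFunctor (ModuleCat.{u} Γ(X, W)) c).obj ω
  haveI : Module.Finite Γ(X, W) H := hω.finite_cohomology c
  let eG : Γ(DCoh.HD K c, W) ≃ₗ[Γ(X, W)] H :=
    (QCoh.chartEquiv hW (DCoh.HD K c)).trans
      ((moduleSpecΓFunctor.mapIso eH ≪≫ (asIso (tilde.toTildeΓNatIso.hom.app H)).symm).toLinearEquiv)
  haveI : Module.Finite Γ(X, W) Γ(DCoh.HD K c, W) := Module.Finite.equiv eG.symm
  have hS' : LocCoh.HasSk 2 Γ(X, W) Γ(DCoh.HD K c, W) := (Synt29.SmoothProps.hasSk_congr eG 2).2 hS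
  -- everything is in the support
  have hmem : ∀ Q : PrimeSpectrum Γ(X, W), Q ∈ Module.support Γ(X, W) Γ(DCoh.HD K c, W) := fun Q => by
    obtain ⟨⟨y, hy⟩, rfl⟩ := H23.SchDense.primeIdealOf_fromSpec hW Q
    letI := QCoh.stalkAlg hy
    letI := QCoh.stalkModule (DCoh.HD K c) hy
    haveI := QCoh.isLocalizedModule_germLin hq hW hy
    haveI := hsupp y
    rw [Module.mem_support_iff]
    exact (IsLocalizedModule.iso (hW.primeIdealOf ⟨y, hy⟩).asIdeal.primeCompl
      (QCoh.germLin (DCoh.HD K c) hy)).toEquiv.nontrivial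
  by_contra hne
  obtain ⟨P, hPass, hle⟩ := exists_le_isAssociatedPrime_of_isNoetherianRing Γ(X, W) s hne
  haveI hP := hPass.isPrime
  obtain ⟨⟨y, hy⟩, hyP⟩ := H23.SchDense.primeIdealOf_fromSpec hW ⟨P, hP⟩
  by_cases hcl : IsClosed ({y} : Set X)
  · obtain ⟨η, hηy, hne'⟩ := hgen y hcl
    have hηW : η ∈ W := hηy.mem_open W.isOpen hy
    let Qη := hW.primeIdealOf ⟨η, hηW⟩
    have hlt' : Qη < ⟨P, hP⟩ := by
      rw [← hyP]
      refine lt_of_le_of_ne ((PrimeSpectrum.le_iff_specializes _ _).2 ?_) fun h => hne' ?_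
      · refine hW.fromSpec.isOpenEmbedding.isInducing.specializes_iff.1 ?_
        rwa [IsAffineOpen.fromSpec_primeIdealOf, IsAffineOpen.fromSpec_primeIdealOf]
      · have h' := congrArg hW.fromSpec.base h
        rwa [IsAffineOpen.fromSpec_primeIdealOf, IsAffineOpen.fromSpec_primeIdealOf] at h'
    have hdim : (1 : WithBot ℕ∞) ≤ Module.supportDim (Localization.AtPrime P)
        (LocalizedModule P.primeCompl Γ(DCoh.HD K c, W)) := by
      let q₁ : PrimeSpectrum (Localization.AtPrime P) :=
        ⟨Qη.asIdeal.map (algebraMap Γ(X, W) (Localization.AtPrime P)),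
          IsLocalization.isPrime_of_isPrime_disjoint P.primeCompl _ Qη.asIdeal Qη.isPrime
            (Set.disjoint_left.2 fun r hr hr' => hr (hlt'.le hr'))⟩
      have hc : PrimeSpectrum.comap (algebraMap Γ(X, W) (Localization.AtPrime P)) q₁ = Qη :=
        PrimeSpectrum.ext (IsLocalization.comap_map_of_isPrime_disjoint P.primeCompl _
          Qη.isPrime (Set.disjoint_left.2 fun r hr hr' => hr (hlt'.le hr')))
      let q₂ : PrimeSpectrum (Localization.AtPrime P) := IsLocalRing.closedPoint _
      have h12 : q₁ < q₂ := by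
        refine lt_of_le_of_ne (IsLocalRing.le_maximalIdeal q₁.isPrime.ne_top) fun h => ?_
        rw [h] at hc
        refine hlt'.ne (hc.symm.trans (PrimeSpectrum.ext ?_))
        exact IsLocalization.AtPrime.comap_maximalIdeal (Localization.AtPrime P) P
      let a₁ : Module.support (Localization.AtPrime P) (LocalizedModule P.primeCompl Γ(DCoh.HD K c, W)) :=
        ⟨q₁, (DualNormalized.mem_support_localized P q₁).2 (hmem _)⟩
      let a₂ : Module.support (Localization.AtPrime P) (LocalizedModule P.primeCompl Γ(DCoh.HD K c, W)) :=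
        ⟨q₂, (DualNormalized.mem_support_localized P q₂).2 (hmem _)⟩
      let l : LTSeries (Module.support (Localization.AtPrime P) (LocalizedModule P.primeCompl Γ(DCoh.HD K c, W))) :=
        (RelSeries.singleton _ a₁).snoc a₂ h12
      exact Order.LTSeries.length_le_krullDim l
    have hdep : (1 : ℕ∞) ≤ LocCoh.depth (Localization.AtPrime P) (LocalizedModule P.primeCompl Γ(DCoh.HD K c, W)) := by
      have h := hS' P
      have h' : (1 : WithBot ℕ∞) ≤ ((LocCoh.depth (Localization.AtPrime P)
          (LocalizedModule P.primeCompl Γ(DCoh.HD K c, W)) : ℕ∞) : WithBot ℕ∞) :=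
        le_trans (le_min (by exact_mod_cast (one_le_two : (1 : ℕ) ≤ 2)) hdim) h
      exact_mod_cast h'
    exact (Alg6.one_le_depth_atPrime_iff P).1 hdep hPass
  · letI := QCoh.stalkAlg hy
    letI := QCoh.stalkModule (DCoh.HD K c) hy
    haveI := QCoh.isLocalizedModule_germLin hq hW hy
    have h0 : QCoh.germLin (DCoh.HD K c) hy s = 0 := hs ⟨y, hy⟩ hcl
    obtain ⟨⟨r, hr⟩, hrs⟩ := (IsLocalizedModule.eq_zero_iff (hW.primeIdealOf ⟨y, hy⟩).asIdeal.primeCompl
      (QCoh.germLin (DCoh.HD K c) hy)).1 h0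
    rw [hyP] at hr
    exact hr (hle (by rw [Submodule.mem_colon_singleton, Submodule.mem_bot]; exact hrs))

end Groth.Agent.KExact.CurveBottom
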