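import Groth.Agent.KExact.QCohMV
import Groth.Agent.QCoh.GodLoc
import Groth.Agent.S0476

/-!
# `D(QCoh X) ≅ D_QCoh(X)`
-/

set_option autoImplicit false
set_option linter.style.haveILetI false
set_option backward.isDefEq.respectTransparency false
set_option backward.isDefEq.respectTransparency.types false

universe w v v' u u'

open CategoryTheory CategoryTheory.Limits AlgebraicGeometry TopologicalSpace Opposite

attribute [local instance] HasDerivedCategory.standard

namespace Groth.Agent.KExact.DQCohEquiv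

open KFlatLib QCohSec QCohCoref QCohMV
open QCoh (rs rs_sub rs_zero rs_rs app_rs exists_glue_sup eq_of_sup)

variable {X Y : Scheme.{u}}

theorem exists_rs_of_injective (J : X.Modules) [Injective J] {U V : X.Opens} (h : V ≤ U) (t : Γ(J, V)) :
    ∃ s : Γ(J, U), rs J h s = t := by
  let r := Injective.factorThru (𝟙 J) (QCoh.toGod J)
  obtain ⟨s, hs⟩ := QCoh.exists_rs_God h ((QCoh.toGod J).app V t)
  refine ⟨r.app U s, ?_⟩
  rw [← app_rs, hs]
  exact (congr(($(Injective.comp_factorThru (𝟙 J) (QCoh.toGod J))).app V t) : _)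

theorem secAc_sup (K : CochainComplex X.Modules ℤ) [∀ n, Injective (K.X n)] {A B : X.Opens}
    (hA : SecAc A K) (hB : SecAc B K) (hAB : SecAc (A ⊓ B) K) : SecAc (A ⊔ B) K := by
  intro p n q hp hq x hx
  have hAS : A ≤ A ⊔ B := le_sup_left
  have hBS : B ≤ A ⊔ B := le_sup_right
  obtain ⟨a, ha⟩ := hA p n q hp hq (rs _ hAS x) (by rw [app_rs, hx, rs_zero])
  obtain ⟨b, hb⟩ := hB p n q hp hq (rs _ hBS x) (by rw [app_rs, hx, rs_zero])
  obtain ⟨e, he⟩ := hAB (p - 1) p n (by omega) hp (rs _ inf_le_left a - rs _ inf_le_right b) (by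
    rw [map_sub, app_rs, app_rs, ha, hb, rs_rs, rs_rs, sub_self])
  obtain ⟨e', rfl⟩ := exists_rs_of_injective (K.X (p - 1)) (inf_le_left : A ⊓ B ≤ A) e
  obtain ⟨y, hy₁, hy₂⟩ := exists_glue_sup (G := K.X p) rfl hAS hBS (a - (K.d (p - 1) p).app A e') b (by
    rw [rs_sub, ← app_rs, he, sub_sub_cancel])
  refine ⟨y, eq_of_sup (G := K.X n) rfl hAS hBS _ _ ?_ ?_⟩
  · rw [← app_rs, hy₁, map_sub, ha, app_of_comp_zero (K.d_comp_d (p - 1) p n), sub_zero]
  · rw [← app_rs, hy₂, hb]
where
  app_of_comp_zero {P M N : X.Modules} {g : P ⟶ M} {g' : M ⟶ N} (w : g ≫ g' = 0) {U : X.Opens} {z : Γ(P, U)} :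
      g'.app U (g.app U z) = 0 := (congr(($w).app U z) : _)

theorem secAc_bot (K : CochainComplex X.Modules ℤ) : SecAc (⊥ : X.Opens) K := by
  intro p n q _ _ x _
  haveI : Subsingleton Γ(K.X n, (⊥ : X.Opens)) :=
    AddCommGrpCat.subsingleton_of_isZero (((QCoh.abSheaf (K.X n)).isTerminalOfEqEmpty rfl).isZero)
  exact ⟨0, Subsingleton.elim _ _⟩

theorem secAc_cone_of_affine {A : Scheme.{u}} (I : CochainComplex A.Modules ℤ) [I.IsKInjective] [QuasiIso (cmap I)]
    {W : A.Opens} (hW : IsAffineOpen W) : SecAc W (CochainComplex.mappingCone (cmap I)) :=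
  (homAcyclic_iff_secAc W _).1 (homAcyclic_cone hW (fun _ => isQCoh_cfun _) (cmap I))

theorem secAc_cone_of_compact {A : Scheme.{u}} [IsLocallyNoetherian A] [QuasiSeparatedSpace A]
    (I : CochainComplex A.Modules ℤ) [I.IsKInjective]
    [∀ n, Injective (I.X n)] [QuasiIso (cmap I)] {W : A.Opens} (hW : IsCompact (W : Set A)) :
    SecAc W (CochainComplex.mappingCone (cmap I)) := by
  haveI : ∀ n, Injective ((CochainComplex.mappingCone (cmap I)).X n) := fun n => by
    haveI h1 : Injective (((mapCx (cfun A)).obj I).X (n + 1)) := cfun_injective (I.X (n + 1))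
    haveI h2 : Injective (I.X n) := inferInstance
    haveI : Injective (((mapCx (cfun A)).obj I).X (n + 1) ⊞ I.X n) := inferInstance
    exact Injective.of_iso (HomologicalComplex.homotopyCofiber.XIsoBiprod (cmap I) n (n + 1) rfl).symm this
  exact prop_of_mv (fun W => SecAc W (CochainComplex.mappingCone (cmap I))) (secAc_bot _)
    (fun _ hU => secAc_cone_of_affine I hU) (fun _ _ a b c => secAc_sup _ a b c) W hW

/-- The coherator computes `f_*`, when preimages of affines in affines are affine. -/
theorem good_top_of_affine (f : X ⟶ Y) [QuasiCompact f] [QuasiSeparated f] [CompactSpace X] [QuasiSeparatedSpace X]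
    (h : ∀ (A : X.Opens) (W : Y.Opens), IsAffineOpen A → IsAffineOpen W → IsAffineOpen (A ⊓ f ⁻¹ᵁ W)) :
    Good f ⊤ :=
  prop_of_mv (Good f) (good_bot f) (fun A hA => good_affine f hA fun W hW I _ _ _ => secAc_cone_of_affine I (by
    rw [← Scheme.Hom.isAffineOpen_iff_of_isOpenImmersion A.ι, Scheme.Hom.comp_preimage, image_preimage_ι]
    exact h A W hA hW))
    (fun A B a b c => good_sup f A B a b c) ⊤ isCompact_univ

/-- The coherator computes `f_*`, for Noetherian schemes. -/
theorem good_top_of_noetherian (f : X ⟶ Y) [QuasiCompact f] [QuasiSeparated f] [AlgebraicGeometry.IsNoetherian X] :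
    Good f ⊤ :=
  prop_of_mv (Good f) (good_bot f) (fun A hA => good_affine f hA fun W hW I _ _ _ => by
    haveI : IsAffine (A : Scheme.{u}) := hA
    exact secAc_cone_of_compact I (by
      rw [A.ι.isOpenEmbedding.isCompact_iff]
      exact NoetherianSpace.isCompact _))
    (fun A B a b c => good_sup f A B a b c) ⊤ isCompact_univ

/-- `ι Q (f_* I) ⟶ f_* I` is a quasi-isomorphism. -/
theorem quasiIso_cmap_push (f : X ⟶ Y) (hG : Good f ⊤) (I : CochainComplex X.Modules ℤ) [I.IsKInjective]
    [∀ n, Injective (I.X n)] (hI : DCoh.IsQCohD (DerivedCategory.Q.obj I)) :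
    QuasiIso (cmap ((mapCx (Scheme.Modules.pushforward f)).obj I)) := by
  haveI : ∀ n, IsIso ((pushUnit (⊤ : X.Opens)).app (I.X n)) := fun n =>
    Scheme.Modules.Hom.isIso_iff_isIso_app.2 fun O => isIso_pushUnit_app _ _ O le_top
  refine quasiIso_cmap_of_iso ?_ (hG I hI)
  exact (HomologicalComplex.Hom.isoOfComponents
    (fun n => (Scheme.Modules.pushforward f).mapIso (asIso ((pushUnit (⊤ : X.Opens)).app (I.X n))))
    (fun i k _ => by
      show (Scheme.Modules.pushforward f).map _ ≫ (Scheme.Modules.pushforward f).map _ =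
        (Scheme.Modules.pushforward f).map _ ≫ (Scheme.Modules.pushforward f).map _
      rw [← Functor.map_comp, ← Functor.map_comp]
      exact congrArg _ ((pushUnit (⊤ : X.Opens)).naturality (I.d i k)).symm)).symm

theorem quasiIso_cmap (hG : Good (𝟙 X) ⊤) (I : CochainComplex X.Modules ℤ) [I.IsKInjective]
    [∀ n, Injective (I.X n)] (hI : DCoh.IsQCohD (DerivedCategory.Q.obj I)) : QuasiIso (cmap I) :=
  quasiIso_cmap_of_iso
    (HomologicalComplex.Hom.isoOfComponents (fun n => (Scheme.Modules.pushforwardId X).app (I.X n))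
      (fun i k _ => ((Scheme.Modules.pushforwardId X).hom.naturality (I.d i k)).symm))
    (quasiIso_cmap_push (𝟙 X) hG I hI)

/-- The adjunction `ι ⊣ Q` on complexes. -/
noncomputable def cohAdjCx (X : Scheme.{u}) :
    (QCohCat.isQCoh X).ι.mapHomologicalComplex (ComplexShape.up ℤ) ⊣ mapCx (coh X) :=
  Adjunction.mkOfUnitCounit
    { unit :=
        { app := fun M =>
            { f := fun n => (cohAdj X).unit.app (M.X n)
              comm' := fun i k _ => ((cohAdj X).unit.naturality (M.d i k)).symm }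
          naturality := fun _ _ φ => by
            ext n : 1
            exact (cohAdj X).unit.naturality (φ.f n) }
      counit :=
        { app := fun I => cmap I
          naturality := fun _ _ φ => by
            ext n : 1
            exact (cohAdj X).counit.naturality (φ.f n) }
      left_triangle := by
        ext M n : 3
        simpa using! (cohAdj X).left_triangle_components (M.X n)
      right_triangle := by
        ext M n : 3
        dsimp
        exact ((congrArg ((cohAdj X).unit.app _ ≫ ·) (Category.id_comp _)).trans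
          ((cohAdj X).right_triangle_components (M.X n))) }

/-- The functor `D(QCoh X) ⟶ D(X)` is an equivalence onto `D_QCoh(X)`. -/
theorem main (hG : Good (𝟙 X) ⊤) :
    (QCohCat.isQCoh X).ι.mapDerivedCategory.Full ∧ (QCohCat.isQCoh X).ι.mapDerivedCategory.Faithful ∧
      ∀ K : DCoh.D X, DCoh.IsQCohD K ↔
        ∃ M, Nonempty ((QCohCat.isQCoh X).ι.mapDerivedCategory.obj M ≅ K) := by
  let P := (QCohCat.isQCoh X).ι
  haveI : PreservesFiniteLimits P := QCohAb.preservesFiniteLimits_ι X
  haveI : PreservesFiniteColimits P := QCohAb.preservesFiniteColimits_ι X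
  let fac := P.mapDerivedCategoryFactors
  have hq : ∀ M, DCoh.IsQCohD (P.mapDerivedCategory.obj M) := fun M n =>
    isQCoh_of_iso ((mapDCHomologyIso P n).app M).symm
      ((DerivedCategory.homologyFunctor (QCohCat.QCoh X) n).obj M).2
  have res : ∀ K : DCoh.D X, DCoh.IsQCohD K → ∃ (I : CochainComplex X.Modules ℤ) (_ : I.IsKInjective),
      QuasiIso (cmap I) ∧ Nonempty (DerivedCategory.Q.obj I ≅ K) := by
    intro K hK
    obtain ⟨I, s, hI, hs, -, hinj⟩ := S0476.result (DerivedCategory.Q.objPreimage K)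
    haveI := hs
    let e : DerivedCategory.Q.obj I ≅ K :=
      (asIso (DerivedCategory.Q.map s)).symm ≪≫ DerivedCategory.Q.objObjPreimageIso K
    haveI := hI
    haveI := hinj
    exact ⟨I, hI, quasiIso_cmap hG I (isQCohD_of_iso e.symm hK), ⟨e⟩⟩
  have hbij : ∀ M N, Function.Bijective (fun a : M ⟶ N => P.mapDerivedCategory.map a) := by
    intro M N
    obtain ⟨I, hI, hc, ⟨eI⟩⟩ := res _ (hq N)
    haveI := hI
    haveI := hc
    haveI : ((mapCx (coh X)).obj I).IsKInjective := by
      constructor
      intro K φ hK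
      have hK' : ((mapCx P).obj K).Acyclic := fun n => by
        have h := hK n
        rw [HomologicalComplex.exactAt_iff] at h ⊢
        exact h.map P
      exact ⟨(Homotopy.ofEq (((cohAdjCx X).homEquiv K I).apply_symm_apply φ).symm).trans
        ((Homotopy.ofEq ((cohAdjCx X).homEquiv_unit ..)).trans
          ((((coh X).mapHomotopy (CochainComplex.IsKInjective.homotopyZero
            (((cohAdjCx X).homEquiv K I).symm φ) hK')).compLeft _).trans
              (Homotopy.ofEq (by simp))))⟩
    let QI := DerivedCategory.Q.obj ((mapCx (coh X)).obj I)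
    let t : P.mapDerivedCategory.obj QI ⟶ DerivedCategory.Q.obj I :=
      fac.hom.app _ ≫ DerivedCategory.Q.map (cmap I)
    haveI : IsIso (DerivedCategory.Q.map (cmap I)) := inferInstance
    haveI : IsIso t := inferInstance
    have key : ∀ M : DerivedCategory (QCohCat.QCoh X),
        Function.Bijective (fun a : M ⟶ QI => P.mapDerivedCategory.map a ≫ t) := by
      intro M
      obtain ⟨M₀, ⟨eM⟩⟩ : ∃ M₀, Nonempty (DerivedCategory.Q.obj M₀ ≅ M) :=
        ⟨_, ⟨DerivedCategory.Q.objObjPreimageIso M⟩⟩
      have hc' : ∀ g : M₀ ⟶ (mapCx (coh X)).obj I,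
          P.mapDerivedCategory.map (DerivedCategory.Q.map g) ≫ t =
            fac.hom.app M₀ ≫ DerivedCategory.Q.map (((cohAdjCx X).homEquiv M₀ I).symm g) := by
        intro g
        rw [Adjunction.homEquiv_counit, Functor.map_comp]
        exact (Category.assoc _ _ _).symm.trans
          ((congrArg (· ≫ _) (fac.hom.naturality g)).trans (Category.assoc _ _ _))
      have key₀ : Function.Bijective (fun a : DerivedCategory.Q.obj M₀ ⟶ QI => P.mapDerivedCategory.map a ≫ t) := by
        refine ⟨fun a b hab => ?_, fun y => ?_⟩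
        · obtain ⟨g, rfl⟩ := exists_Q_map a
          obtain ⟨g', rfl⟩ := exists_Q_map b
          simp only [hc', cancel_epi] at hab
          obtain ⟨H⟩ := homotopy_of_Q_map_eq _ _ hab
          refine DerivedCategory.Q_map_eq_of_homotopy _ ?_
          exact (Homotopy.ofEq (((cohAdjCx X).homEquiv_unit ..).symm.trans (Equiv.apply_symm_apply _ g)).symm).trans
            ((((coh X).mapHomotopy H).compLeft ((cohAdjCx X).unit.app M₀)).trans
              (Homotopy.ofEq (((cohAdjCx X).homEquiv_unit ..).symm.trans (Equiv.apply_symm_apply _ g'))))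
        · obtain ⟨g, hg⟩ := exists_Q_map (fac.inv.app M₀ ≫ y)
          refine ⟨DerivedCategory.Q.map ((cohAdjCx X).homEquiv M₀ I g), ?_⟩
          simp only [hc', Equiv.symm_apply_apply, hg]
          exact Iso.hom_inv_id_app_assoc _ _ _
      refine ⟨fun a b hab => (cancel_epi eM.hom).1 (key₀.1 ?_), fun y => ?_⟩
      · simp only [Functor.map_comp, Category.assoc] at hab ⊢
        rw [hab]
      · obtain ⟨c, hc''⟩ := key₀.2 (P.mapDerivedCategory.map eM.hom ≫ y)
        refine ⟨eM.inv ≫ c, ?_⟩
        simp only at hc'' ⊢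
        rw [Functor.map_comp, Category.assoc, hc'', ← Functor.map_comp_assoc]
        simp
    obtain ⟨η, hη⟩ := (key N).2 eI.inv
    simp only at hη
    haveI : IsIso (P.mapDerivedCategory.map η ≫ t) := hη ▸ inferInstance
    haveI : IsIso (P.mapDerivedCategory.map η) := IsIso.of_isIso_comp_right _ t
    haveI : IsIso η := by
      refine (DerivedCategory.isIso_iff _ η).2 fun n => ?_
      haveI : IsIso (P.map ((DerivedCategory.homologyFunctor _ n).map η)) :=
        (NatIso.isIso_map_iff (mapDCHomologyIso P n) η).1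
          (inferInstanceAs (IsIso ((DerivedCategory.homologyFunctor X.Modules n).map (P.mapDerivedCategory.map η))))
      exact isIso_of_reflects_iso _ P
    refine ⟨fun a b hab => (cancel_mono η).1 ((key M).1 ?_), fun y => ?_⟩
    · simp only [Functor.map_comp, Category.assoc] at hab ⊢
      rw [hab]
    · obtain ⟨c, hc'⟩ := (key M).2 (y ≫ P.mapDerivedCategory.map η ≫ t)
      refine ⟨c ≫ inv η, (cancel_mono (P.mapDerivedCategory.map η ≫ t)).1 ?_⟩
      simp only at hc' ⊢
      rw [Functor.map_comp, Functor.map_inv, Category.assoc, IsIso.inv_hom_id_assoc]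
      exact hc'
  refine ⟨⟨fun {M N} => (hbij M N).2⟩, ⟨fun {M N} => (hbij M N).1⟩, fun K => ⟨fun hK => ?_, ?_⟩⟩
  · obtain ⟨I, hI, hc, ⟨e⟩⟩ := res K hK
    haveI := hc
    exact ⟨DerivedCategory.Q.obj ((mapCx (coh X)).obj I),
      ⟨fac.app _ ≪≫ asIso (DerivedCategory.Q.map (cmap I)) ≪≫ e⟩⟩
  · rintro ⟨M, ⟨e⟩⟩
    exact isQCohD_of_iso e (hq M)

end Groth.Agent.KExact.DQCohEquiv
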