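import Groth.Agent.KExact.DQCohEquiv
import Groth.Agent.TriCat.DerivedOfAdjunction
import Groth.Agent.KFlatLib.Scheme.RGammaPush

/-!
# The derived pushforward of quasi-coherent modules computed in `QCoh`
-/

set_option autoImplicit false
set_option linter.style.haveILetI false
set_option backward.isDefEq.respectTransparency false
set_option backward.isDefEq.respectTransparency.types false

universe w v v' u u'

open CategoryTheory CategoryTheory.Limits AlgebraicGeometry TopologicalSpace Opposite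

attribute [local instance] HasDerivedCategory.standard

namespace Groth.Agent.KExact.DQCohPush

open KFlatLib QCohSec QCohCoref QCohMV DQCohEquiv

variable {X Y : Scheme.{u}} (f : X ⟶ Y)

/-- `f_* ι Q ≅ ι Q f_*`, compatibly with the counits. -/
theorem exists_push_cfun_iso [QuasiCompact f] [QuasiSeparated f] (F : X.Modules) :
    ∃ e : (Scheme.Modules.pushforward f).obj ((cfun X).obj F) ≅ (cfun Y).obj ((Scheme.Modules.pushforward f).obj F),
      e.hom ≫ (cnat Y).app _ = (Scheme.Modules.pushforward f).map ((cnat X).app F) := by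
  let P := Scheme.Modules.pushforward f
  let adj := Scheme.Modules.pullbackPushforwardAdjunction f
  have hq : Coh.IsQCoh (P.obj ((cfun X).obj F)) := QCoh.isQCoh_pushforward f (isQCoh_cfun _)
  obtain ⟨a, ha⟩ := (bijective_comp_cnat hq (P.obj F)).2 (P.map ((cnat X).app F))
  obtain ⟨b, hb⟩ := (bijective_comp_cnat (QCoh.isQCoh_pullback f (isQCoh_cfun (P.obj F))) F).2
    ((adj.homEquiv _ _).symm ((cnat Y).app (P.obj F)))
  have hb₀ : b ≫ (cnat X).app F = (adj.homEquiv _ _).symm ((cnat Y).app (P.obj F)) := hb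
  have hb' : adj.homEquiv _ _ b ≫ P.map ((cnat X).app F) = (cnat Y).app (P.obj F) := by
    rw [← adj.homEquiv_naturality_right, hb₀]
    exact Equiv.apply_symm_apply _ _
  refine ⟨⟨a, adj.homEquiv _ _ b, ?_, ?_⟩, ha⟩
  · refine (adj.homEquiv _ _).symm.injective ?_
    refine (bijective_comp_cnat (QCoh.isQCoh_pullback f hq) F).1 ?_
    show (adj.homEquiv _ _).symm _ ≫ _ = (adj.homEquiv _ _).symm _ ≫ _
    rw [← adj.homEquiv_naturality_right_symm, ← adj.homEquiv_naturality_right_symm, Category.id_comp,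
      Category.assoc, hb']
    exact congrArg _ ha
  · refine (bijective_comp_cnat (isQCoh_cfun (P.obj F)) (P.obj F)).1 ?_
    show (_ ≫ a) ≫ _ = 𝟙 _ ≫ _
    rw [Category.id_comp, Category.assoc]
    exact (congrArg _ ha).trans hb'

/-- `f_*` of the counit is a quasi-isomorphism. -/
theorem quasiIso_push_cmap [QuasiCompact f] [QuasiSeparated f] (hG : Good f ⊤) (I : CochainComplex X.Modules ℤ)
    [I.IsKInjective] [∀ n, Injective (I.X n)] (hI : DCoh.IsQCohD (DerivedCategory.Q.obj I)) :
    QuasiIso ((mapCx (Scheme.Modules.pushforward f)).map (cmap I)) := by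
  let P := Scheme.Modules.pushforward f
  let K := (mapCx P).obj I
  choose e he using fun n => exists_push_cfun_iso f (I.X n)
  let eK : (mapCx P).obj ((mapCx (cfun X)).obj I) ≅ (mapCx (cfun Y)).obj K :=
    HomologicalComplex.Hom.isoOfComponents e (fun i k _ => by
      refine (bijective_comp_cnat (QCoh.isQCoh_pushforward f (isQCoh_cfun _)) (K.X k)).1 ?_
      show ((e i).hom ≫ (cfun Y).map (K.d i k)) ≫ _ = (P.map ((cfun X).map (I.d i k)) ≫ (e k).hom) ≫ _
      rw [Category.assoc, Category.assoc, (cnat Y).naturality, ← Category.assoc, he]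
      erw [he, ← Functor.map_comp, ← Functor.map_comp, (cnat X).naturality]
      rfl)
  haveI := quasiIso_cmap_push f hG I hI
  have : (mapCx P).map (cmap I) = eK.hom ≫ cmap K := by
    ext n : 1
    exact (he n).symm
  rw [this]
  infer_instance

theorem isAffineOpen_inf_preimage (hdY : ∀ U V : Y.Opens, IsAffineOpen U → IsAffineOpen V → IsAffineOpen (U ⊓ V))
    (A : X.Opens) (W : Y.Opens) (hA : IsAffineOpen A) (hW : IsAffineOpen W) : IsAffineOpen (A ⊓ f ⁻¹ᵁ W) := by
  haveI : IsAffine (A : Scheme.{u}) := hA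
  have hd : IsAffineHom (pullback.diagonal (terminal.from Y)) :=
    isAffineHom_diagonal_iff.2 fun _ _ V₁ _ V₂ _ h₁ h₂ => hdY V₁ V₂ h₁ h₂
  haveI : MorphismProperty.HasOfPostcompProperty @IsAffineHom (MorphismProperty.diagonal @IsAffineHom) :=
    MorphismProperty.hasOfPostcompProperty_iff_le_diagonal.mpr le_rfl
  haveI : IsAffineHom ((A.ι ≫ f) ≫ terminal.from Y) := inferInstance
  haveI hg : IsAffineHom (A.ι ≫ f) :=
    MorphismProperty.of_postcomp (W' := MorphismProperty.diagonal @IsAffineHom) @IsAffineHom (A.ι ≫ f) (terminal.from Y)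
      hd ‹_›
  have h := hW.preimage (A.ι ≫ f)
  rw [← Scheme.Hom.isAffineOpen_iff_of_isOpenImmersion A.ι, Scheme.Hom.comp_preimage, image_preimage_ι] at h
  exact h

/-- `R(f_*^{QCoh})` followed by `D(QCoh Y) ⟶ D(Y)` is `Rf_*` on `D(QCoh X)`. -/
theorem main [QuasiCompact f] [QuasiSeparated f] (hG : Good f ⊤) (hX : Good (𝟙 X) ⊤) [DCoh.HasRpush f]
    (G : QCohCat.QCoh X ⥤ QCohCat.QCoh Y) [G.Additive]
    (e : G ⋙ (QCohCat.isQCoh Y).ι ≅ (QCohCat.isQCoh X).ι ⋙ Scheme.Modules.pushforward f)
    [(G.mapHomotopyCategory (ComplexShape.up ℤ) ⋙ DerivedCategory.Qh).HasRightDerivedFunctor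
      (HomotopyCategory.quasiIso (QCohCat.QCoh X) (ComplexShape.up ℤ))]
    [PreservesFiniteLimits (QCohCat.isQCoh X).ι] [PreservesFiniteLimits (QCohCat.isQCoh Y).ι]
    [PreservesFiniteColimits (QCohCat.isQCoh X).ι] [PreservesFiniteColimits (QCohCat.isQCoh Y).ι] :
    Nonempty ((G.mapHomotopyCategory (ComplexShape.up ℤ) ⋙ DerivedCategory.Qh).totalRightDerived DerivedCategory.Qh
        (HomotopyCategory.quasiIso (QCohCat.QCoh X) (ComplexShape.up ℤ)) ⋙ (QCohCat.isQCoh Y).ι.mapDerivedCategory ≅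
      (QCohCat.isQCoh X).ι.mapDerivedCategory ⋙ DCoh.Rpush f) := by
  haveI : EnoughInjectives (QCohCat.QCoh X) := inferInstance
  have exq : ∀ K : CochainComplex (QCohCat.QCoh X) ℤ, ∃ (I : CochainComplex (QCohCat.QCoh X) ℤ) (s : K ⟶ I),
      I.IsKInjective ∧ QuasiIso s := fun K => by
    obtain ⟨I, s, h1, h2, -⟩ := S0476.result K
    exact ⟨I, s, h1, h2⟩
  haveI := TriCat.qh_isLeftAdjoint_of_exists_resolution (A := QCohCat.QCoh X) exq
  haveI := TriCat.qh_isLeftAdjoint_of_exists_resolution (A := X.Modules) exists_kInjective_res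
  let c := ComplexShape.up ℤ
  let Pp := Scheme.Modules.pushforward f
  let ιX := (QCohCat.isQCoh X).ι
  let ιY := (QCohCat.isQCoh Y).ι
  let ιh := ιX.mapHomotopyCategory c
  let adjQ := Adjunction.ofIsLeftAdjoint (DerivedCategory.Qh (C := X.Modules))
  let adjq := Adjunction.ofIsLeftAdjoint (DerivedCategory.Qh (C := QCohCat.QCoh X))
  let ρ := (DerivedCategory.Qh (C := X.Modules)).rightAdjoint
  let ρq := (DerivedCategory.Qh (C := QCohCat.QCoh X)).rightAdjoint
  let F := Pp.mapHomotopyCategory c ⋙ DerivedCategory.Qh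
  let Fq := G.mapHomotopyCategory c ⋙ DerivedCategory.Qh
  let W := HomotopyCategory.quasiIso X.Modules c
  let Wq := HomotopyCategory.quasiIso (QCohCat.QCoh X) c
  haveI : (ρ ⋙ F).IsRightDerivedFunctor (Functor.whiskerRight adjQ.unit F) W :=
    TriCat.isRightDerivedFunctor_of_adjunction adjQ W F
  haveI : (ρq ⋙ Fq).IsRightDerivedFunctor (Functor.whiskerRight adjq.unit Fq) Wq :=
    TriCat.isRightDerivedFunctor_of_adjunction adjq Wq Fq
  let eF : ρ ⋙ F ≅ F.totalRightDerived DerivedCategory.Qh W :=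
    Functor.rightDerivedUnique _ _ (Functor.whiskerRight adjQ.unit F) (F.totalRightDerivedUnit DerivedCategory.Qh W) W
  let eq' : ρq ⋙ Fq ≅ Fq.totalRightDerived DerivedCategory.Qh Wq :=
    Functor.rightDerivedUnique _ _ (Functor.whiskerRight adjq.unit Fq) (Fq.totalRightDerivedUnit DerivedCategory.Qh Wq) Wq
  let facX : DerivedCategory.Qh ⋙ ιX.mapDerivedCategory ≅ ιh ⋙ DerivedCategory.Qh :=
    ιX.mapDerivedCategoryFactorsh
  let facY : DerivedCategory.Qh ⋙ ιY.mapDerivedCategory ≅ ιY.mapHomotopyCategory c ⋙ DerivedCategory.Qh :=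
    ιY.mapDerivedCategoryFactorsh
  -- `f_* ι` on homotopy categories
  let eh : G.mapHomotopyCategory c ⋙ ιY.mapHomotopyCategory c ≅ ιh ⋙ Pp.mapHomotopyCategory c :=
    Functor.mapHomotopyCategoryCompIso e c ≪≫ (Functor.mapHomotopyCategoryCompIso (Iso.refl (ιX ⋙ Pp)) c).symm
  let e₁ : Fq.totalRightDerived DerivedCategory.Qh Wq ⋙ ιY.mapDerivedCategory ≅ (ρq ⋙ ιh) ⋙ F :=
    Functor.isoWhiskerRight eq'.symm _ ≪≫
      Functor.associator _ _ _ ≪≫ Functor.isoWhiskerLeft ρq (Functor.associator _ _ _ ≪≫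
        Functor.isoWhiskerLeft _ facY ≪≫ (Functor.associator _ _ _).symm ≪≫
        Functor.isoWhiskerRight eh _ ≪≫ Functor.associator _ _ _) ≪≫ (Functor.associator _ _ _).symm
  let e₂ : ιX.mapDerivedCategory ⋙ DCoh.Rpush f ≅ (ιX.mapDerivedCategory ⋙ ρ) ⋙ F :=
    Functor.isoWhiskerLeft _ eF.symm ≪≫ (Functor.associator _ _ _).symm
  let τ : ρq ⋙ ιh ⟶ ιX.mapDerivedCategory ⋙ ρ :=
    { app := fun M => adjQ.unit.app (ιh.obj (ρq.obj M)) ≫
        ρ.map (facX.inv.app (ρq.obj M) ≫ ιX.mapDerivedCategory.map (adjq.counit.app M))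
      naturality := fun M N φ => by
        have h1 := adjQ.unit.naturality (ιh.map (ρq.map φ))
        have h2 := facX.inv.naturality (ρq.map φ)
        have h3 := adjq.counit.naturality φ
        simp only [Functor.comp_map, Functor.id_map] at h1 h2 h3 ⊢
        rw [reassoc_of% h1, Category.assoc, ← Functor.map_comp, ← Functor.map_comp, reassoc_of% h2,
          ← Functor.map_comp, h3]
        simp only [Functor.map_comp, Category.assoc]
        rfl }
  suffices ∀ M, IsIso (F.map (τ.app M)) by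
    haveI : ∀ M, IsIso ((Functor.whiskerRight τ F).app M) := this
    haveI := NatIso.isIso_of_isIso_app (Functor.whiskerRight τ F)
    exact ⟨e₁ ≪≫ asIso (Functor.whiskerRight τ F) ≪≫ e₂.symm⟩
  intro M
  obtain ⟨I, s, hI, hs, -, hinj⟩ := S0476.result (DerivedCategory.Q.objPreimage (ιX.mapDerivedCategory.obj M))
  haveI := hs
  haveI := hI
  haveI := hinj
  let eI : DerivedCategory.Q.obj I ≅ ιX.mapDerivedCategory.obj M :=
    (asIso (DerivedCategory.Q.map s)).symm ≪≫ DerivedCategory.Q.objObjPreimageIso _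
  have hqI : DCoh.IsQCohD (DerivedCategory.Q.obj I) := isQCohD_of_iso eI.symm fun n =>
    isQCoh_of_iso ((mapDCHomologyIso ιX n).app M).symm
      ((DerivedCategory.homologyFunctor (QCohCat.QCoh X) n).obj M).2
  haveI hc : QuasiIso (cmap I) := quasiIso_cmap hX I hqI
  haveI hfc := quasiIso_push_cmap f hG I hqI
  let J : CochainComplex (QCohCat.QCoh X) ℤ := (mapCx (coh X)).obj I
  let J₀ : DerivedCategory (QCohCat.QCoh X) := DerivedCategory.Qh.obj ((HomotopyCategory.quotient _ c).obj J)
  let θ : ιX.mapDerivedCategory.obj J₀ ≅ ιX.mapDerivedCategory.obj M :=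
    facX.app _ ≪≫ (DerivedCategory.quotientCompQhIso X.Modules).app _ ≪≫
      asIso (DerivedCategory.Q.map (cmap I)) ≪≫ eI
  haveI : ιX.mapDerivedCategory.Full := (DQCohEquiv.main hX).1
  haveI : ιX.mapDerivedCategory.Faithful := (DQCohEquiv.main hX).2.1
  refine (NatTrans.isIso_app_iff_of_iso (Functor.whiskerRight τ F) (ιX.mapDerivedCategory.preimageIso θ)).1 ?_
  show IsIso (F.map (τ.app J₀))
  haveI hJ : J.IsKInjective := isKInjective_coh I
  let qJ := (HomotopyCategory.quotient (QCohCat.QCoh X) c).obj J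
  haveI : IsIso (adjq.unit.app qJ) := isIso_unit_of_isKInjective adjq J
  haveI : IsIso (adjQ.unit.app ((HomotopyCategory.quotient X.Modules c).obj I)) := isIso_unit_of_isKInjective adjQ I
  have h1 : ιh.map (adjq.unit.app qJ) ≫ τ.app J₀ = adjQ.unit.app (ιh.obj qJ) ≫ ρ.map (facX.inv.app qJ) := by
    have a := adjQ.unit.naturality (ιh.map (adjq.unit.app qJ))
    have b := facX.inv.naturality (adjq.unit.app qJ)
    simp only [Functor.comp_map, Functor.id_map] at a b
    show _ ≫ adjQ.unit.app _ ≫ ρ.map _ = _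
    erw [reassoc_of% a, ← Functor.map_comp, reassoc_of% b, ← Functor.map_comp, adjq.left_triangle_components]
    refine congrArg (fun z => _ ≫ ρ.map z) ?_
    exact (congrArg (facX.inv.app qJ ≫ ·) (ιX.mapDerivedCategory.map_id (DerivedCategory.Qh.obj qJ))).trans (Category.comp_id _)
  let qc : ιh.obj qJ ⟶ (HomotopyCategory.quotient X.Modules c).obj I :=
    (HomotopyCategory.quotient X.Modules c).map (cmap I)
  have hF : IsIso (F.map qc) := by
    have h := (DerivedCategory.isIso_Q_map_iff_quasiIso (C := Y.Modules) _).2 hfc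
    exact Localization.inverts DerivedCategory.Qh (HomotopyCategory.quasiIso Y.Modules c) _
      ((HomotopyCategory.quotient_map_mem_quasiIso_iff ((mapCx Pp).map (cmap I))).2
        (by rw [HomologicalComplex.mem_quasiIso_iff]; exact hfc))
  have hQ : IsIso (DerivedCategory.Qh.map qc) :=
    Localization.inverts DerivedCategory.Qh (HomotopyCategory.quasiIso X.Modules c) _
      ((HomotopyCategory.quotient_map_mem_quasiIso_iff (cmap I)).2 (by rw [HomologicalComplex.mem_quasiIso_iff]; exact hc))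
  have h2 : IsIso (F.map (adjQ.unit.app (ιh.obj qJ))) := by
    have a := congrArg F.map (adjQ.unit.naturality qc)
    simp only [Functor.id_map, Functor.comp_map, Functor.map_comp] at a
    haveI := hF
    haveI := hQ
    exact IsIso.of_isIso_fac_right a.symm
  have h3 := congrArg F.map h1
  simp only [Functor.map_comp] at h3
  haveI := h2
  exact IsIso.of_isIso_fac_left h3
where
  isKInjective_coh (I : CochainComplex X.Modules ℤ) [I.IsKInjective] : ((mapCx (coh X)).obj I).IsKInjective := by
    constructor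
    intro K φ hK
    have hK' : ((mapCx (QCohCat.isQCoh X).ι).obj K).Acyclic := fun n => by
      have h := hK n
      rw [HomologicalComplex.exactAt_iff] at h ⊢
      exact h.map (QCohCat.isQCoh X).ι
    exact ⟨(Homotopy.ofEq (((cohAdjCx X).homEquiv K I).apply_symm_apply φ).symm).trans
      ((Homotopy.ofEq ((cohAdjCx X).homEquiv_unit ..)).trans
        ((((coh X).mapHomotopy (CochainComplex.IsKInjective.homotopyZero
          (((cohAdjCx X).homEquiv K I).symm φ) hK')).compLeft _).trans
            (Homotopy.ofEq (by simp))))⟩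
  isIso_unit_of_isKInjective {A : Type (u + 1)} [Category.{u} A] [Abelian A] [HasDerivedCategory.{u + 1} A]
      {ρ' : DerivedCategory A ⥤ HomotopyCategory A (ComplexShape.up ℤ)} (adj : DerivedCategory.Qh ⊣ ρ')
      (I : CochainComplex A ℤ) [I.IsKInjective] :
      IsIso (adj.unit.app ((HomotopyCategory.quotient A (ComplexShape.up ℤ)).obj I)) := by
    refine isIso_iff_yoneda_map_bijective _ |>.2 fun Z => ?_
    have hb := ((adj.homEquiv Z _).bijective).comp (CochainComplex.IsKInjective.Qh_map_bijective Z I)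
    refine (funext fun φ => ?_ : _ = fun φ => φ ≫ adj.unit.app _) ▸ hb
    exact (adj.homEquiv_unit ..).trans (adj.unit.naturality φ).symm

end Groth.Agent.KExact.DQCohPush
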