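import Groth.Agent.KExact.DeligneHomology
import Groth.Agent.QCoh.Support
import Groth.Agent.QCoh.Qcqs
import Groth.Agent.QCoh.Local
import Groth.Agent.KFlatLib.Scheme.ExtZero
import Groth.Agent.S17641
import Groth.Prelude.Def_DCoh2

/-!
# Deligne's formula for maps of modules into an injective quasi-coherent module
-/

set_option autoImplicit false
set_option linter.style.haveILetI false
set_option linter.unusedSectionVars false
set_option backward.isDefEq.respectTransparency false
set_option backward.isDefEq.respectTransparency.types false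

universe u

open CategoryTheory CategoryTheory.Limits AlgebraicGeometry TopologicalSpace Opposite

namespace Groth.Agent.KExact.DeligneHom

open Groth.Agent.QCoh DeligneHomology

variable {X : Scheme.{u}} [IsNoetherian X] (I : X.IdealSheafData)

/-- `I^n • M`. -/
noncomputable abbrev sub (n : ℕ) (M : X.Modules) : X.Modules := (Dual3.idealMul (I ^ n)).obj M

/-- The inclusion `I^n • M ⟶ M`. -/
noncomputable abbrev subι (n : ℕ) (M : X.Modules) : sub I n M ⟶ M := Dual3.idealMulι (I ^ n) M

theorem exists_tinc {n m : ℕ} (h : n ≤ m) {M : X.Modules} (hM : Coh.IsQCoh M) :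
    ∃ t : sub I m M ⟶ sub I n M, t ≫ subι I n M = subι I m M := by
  refine exists_lift_of_cover (isQCoh_idealMul _ hM) (isQCoh_idealMul _ hM) hM _ _
    (fun U : X.affineOpens => U.1) (fun U => U.2)
    (fun x => by obtain ⟨U, hU, hx⟩ := exists_affine_mem x; exact ⟨⟨U, hU⟩, hx⟩) fun U x => ?_
  rw [range_idealMul_pow I n hM U.2]
  refine Submodule.smul_mono (Ideal.pow_le_pow_right h) le_rfl ?_
  rw [← range_idealMul_pow I m hM U.2]
  exact ⟨x, rfl⟩

/-- The inclusion `I^m • M ⟶ I^n • M`. -/
noncomputable def tinc {n m : ℕ} (h : n ≤ m) {M : X.Modules} (hM : Coh.IsQCoh M) : sub I m M ⟶ sub I n M :=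
  (exists_tinc I h hM).choose

@[reassoc]
theorem tinc_ι {n m : ℕ} (h : n ≤ m) {M : X.Modules} (hM : Coh.IsQCoh M) :
    tinc I h hM ≫ subι I n M = subι I m M :=
  (exists_tinc I h hM).choose_spec

theorem tinc_comp {n m l : ℕ} (h : n ≤ m) (h' : m ≤ l) {M : X.Modules} (hM : Coh.IsQCoh M) :
    tinc I h' hM ≫ tinc I h hM = tinc I (h.trans h') hM := by
  rw [← cancel_mono (subι I n M), Category.assoc, tinc_ι, tinc_ι, tinc_ι]

theorem tinc_nat {n m : ℕ} (h : n ≤ m) {M N : X.Modules} (hM : Coh.IsQCoh M) (hN : Coh.IsQCoh N) (f : M ⟶ N) :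
    tinc I h hM ≫ (Dual3.idealMul (I ^ n)).map f = (Dual3.idealMul (I ^ m)).map f ≫ tinc I h hN := by
  rw [← cancel_mono (subι I n N), Category.assoc, Category.assoc, tinc_ι, Dual3.idealMul_map_ι,
    Dual3.idealMul_map_ι, tinc_ι_assoc]

theorem isCoh_sub (n : ℕ) {M : X.Modules} (hM : Coh.IsCoh M) : Coh.IsCoh (sub I n M) :=
  QCoh.isCoh_of_mono (subι I n M) hM (isQCoh_idealMul _ hM.1)

variable {U : Scheme.{u}} (j : U ⟶ X) [IsOpenImmersion j]
  (hI : I.supportSetᶜ = Set.range j)

include hI in
/-- A map out of `I^n • M` vanishing on `U` vanishes on a deeper multiple. -/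
theorem exists_zero {n : ℕ} {M : X.Modules} (hM : Coh.IsCoh M) {G : X.Modules} (hG : Coh.IsQCoh G)
    (γ : sub I n M ⟶ G) (h : (Scheme.Modules.restrictFunctor j).map γ = 0) :
    ∃ k : ℕ, ∀ {m : ℕ} (hm : n + k ≤ m), tinc I (le_of_add_le_left hm) hM.1 ≫ γ = 0 := by
  haveI : PreservesFiniteLimits (Scheme.Modules.restrictFunctor j) := inferInstance
  let R := Scheme.Modules.restrictFunctor j
  let Q := Abelian.image γ
  have hQq : Coh.IsQCoh Q := isQCoh_kernel hG (isQCoh_cokernel (isQCoh_idealMul _ hM.1) hG γ) _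
  have hQ : Coh.IsCoh Q := QCoh.isCoh_of_epi (Abelian.factorThruImage γ) (isCoh_sub I n hM) hQq
  have hRQ : IsZero (R.obj Q) := by
    haveI : Epi (R.map (Abelian.factorThruImage γ)) := inferInstance
    haveI : Mono (R.map (Abelian.image.ι γ)) := inferInstance
    refine IsZero.of_epi_eq_zero (R.map (Abelian.factorThruImage γ)) ?_
    refine zero_of_comp_mono (R.map (Abelian.image.ι γ)) ?_
    rw [← R.map_comp, Abelian.image.fac]
    exact h
  have hs : CohB1.support Q ⊆ (I.support : Set X) := by
    intro x hx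
    by_contra hxI
    obtain ⟨u, rfl⟩ : x ∈ Set.range j := hI ▸ (hxI : x ∈ I.supportSetᶜ)
    have hz := H9Misc.QCohHull.isZero_stalk_of_restrict j Q hRQ u
    refine hx ?_
    have := ModuleCat.subsingleton_of_isZero hz
    exact this
  obtain ⟨k, hk⟩ := exists_pow_kills hQ I hs
  refine ⟨k, fun {m} hm => ?_⟩
  refine hom_eq_zero_of_cover (isQCoh_idealMul _ hM.1) hG _ (fun W : X.affineOpens => W.1) (fun W => W.2)
    (fun x => by obtain ⟨W, hW, hx⟩ := exists_affine_mem x; exact ⟨⟨W, hW⟩, hx⟩) fun W x => ?_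
  set y := (tinc I (le_of_add_le_left hm) hM.1).app W.1 x
  show γ.app W.1 y = 0
  have h1 : (appLin (subι I n M) W.1) y ∈ I.ideal W ^ k • LinearMap.range (appLin (subι I n M) W.1) := by
    rw [range_idealMul_pow I n hM.1 W.2, ← Submodule.mul_smul, ← pow_add]
    refine Submodule.smul_mono (Ideal.pow_le_pow_right (show k + n ≤ m by omega)) le_rfl ?_
    rw [← range_idealMul_pow I m hM.1 W.2]
    exact ⟨x, (app_of_comp_eq (tinc_ι I (le_of_add_le_left hm) hM.1) W.1 x).symm⟩
  rw [← Submodule.map_top, ← Submodule.map_smul''] at h1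
  obtain ⟨y', hy', hyy⟩ := h1
  rw [app_injective (subι I n M) W.1 hyy] at hy'
  have h2 : (appLin (Abelian.factorThruImage γ) W.1) y = 0 := by
    have := Submodule.mem_map_of_mem (f := appLin (Abelian.factorThruImage γ) W.1) hy'
    rw [Submodule.map_smul''] at this
    refine (Submodule.mem_bot Γ(X, W.1)).1 ((Submodule.smul_le (P := (⊥ : Submodule Γ(X, W.1) Γ(Q, W.1)))).2 ?_ this)
    intro r hr z _
    rw [Submodule.mem_bot]
    exact Module.mem_annihilator.1 (hk W hr) z
  refine (app_of_comp_eq (Abelian.image.fac γ) W.1 y).symm.trans ?_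
  rw [show (Abelian.factorThruImage γ).app W.1 y = 0 from h2, map_zero]

include hI in
/-- A map on `U` out of `I^n • M` into an injective quasi-coherent module extends from a deeper multiple. -/
theorem exists_lift {n : ℕ} {M : X.Modules} (hM : Coh.IsCoh M) {G : X.Modules} (hG : Coh.IsQCoh G) [Injective G]
    (β : (Scheme.Modules.restrictFunctor j).obj (sub I n M) ⟶ (Scheme.Modules.restrictFunctor j).obj G) :
    ∃ k : ℕ, ∀ {m : ℕ} (hm : n + k ≤ m), ∃ γ : sub I m M ⟶ G,
      (Scheme.Modules.restrictFunctor j).map γ =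
        (Scheme.Modules.restrictFunctor j).map (tinc I (le_of_add_le_left hm) hM.1) ≫ β := by
  haveI : PreservesFiniteLimits (Scheme.Modules.restrictFunctor j) := inferInstance
  haveI : QuasiCompact j := inferInstance
  let R := Scheme.Modules.restrictFunctor j
  let P := Scheme.Modules.pushforward j
  let adj := Scheme.Modules.restrictAdjunction j
  let uG := adj.unit.app G
  let b : sub I n M ⟶ P.obj (R.obj G) := adj.homEquiv _ _ β
  have hPG : Coh.IsQCoh (P.obj (R.obj G)) := isQCoh_pushforward j (isQCoh_restrict j hG)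
  have hC : Coh.IsQCoh (cokernel uG) := isQCoh_cokernel hG hPG _
  haveI : IsIso (adj.counit.app (R.obj G)) := inferInstance
  haveI hiso : IsIso (R.map uG) := by
    haveI : IsIso (R.map uG ≫ adj.counit.app (R.obj G)) := by
      rw [show R.map uG ≫ adj.counit.app (R.obj G) = 𝟙 _ from adj.left_triangle_components G]
      infer_instance
    exact IsIso.of_isIso_comp_right _ (adj.counit.app (R.obj G))
  have hz : R.map (b ≫ cokernel.π uG) = 0 := by
    haveI : Epi (R.map uG) := IsIso.epi_of_iso _
    have h0 : R.map (cokernel.π uG) = 0 := by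
      rw [← cancel_epi (R.map uG), ← R.map_comp, cokernel.condition, R.map_zero, comp_zero]
    rw [R.map_comp, h0, comp_zero]
  obtain ⟨k, hk⟩ := exists_zero I j hI hM hC _ hz
  haveI hgz : Injective (kernel uG) := S17641.result j G hG
  refine ⟨k, fun {m} hm => ?_⟩
  let t := tinc I (le_of_add_le_left hm) hM.1
  have h0 : (t ≫ b) ≫ cokernel.π uG = 0 := by rw [Category.assoc]; exact hk hm
  let l : sub I m M ⟶ Abelian.image uG := kernel.lift _ (t ≫ b) h0
  let S : ShortComplex X.Modules := ShortComplex.mk (kernel.ι uG) (Abelian.factorThruImage uG) (by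
    rw [← cancel_mono (Abelian.image.ι uG), Category.assoc, Abelian.image.fac, kernel.condition, zero_comp])
  have hS : S.ShortExact := by
    refine ShortComplex.ShortExact.mk' ?_ inferInstance inferInstance
    refine ShortComplex.exact_of_f_is_kernel _ ?_
    exact isKernelOfComp (h := uG) (g := Abelian.image.ι uG) (c := KernelFork.ofι (kernel.ι uG) (kernel.condition uG))
      (kernelIsKernel uG) _ (Abelian.image.fac uG)
  haveI : Injective S.X₁ := hgz
  let σ := hS.splittingOfInjective
  refine ⟨l ≫ σ.s, ?_⟩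
  have hsec : (l ≫ σ.s) ≫ uG = t ≫ b := by
    calc (l ≫ σ.s) ≫ uG = l ≫ (σ.s ≫ S.g) ≫ Abelian.image.ι uG := by
          simp only [S, Category.assoc, Abelian.image.fac]
      _ = l ≫ Abelian.image.ι uG := by rw [σ.s_g, Category.id_comp]
      _ = t ≫ b := kernel.lift_ι _ _ _
  have hb : R.map b ≫ adj.counit.app (R.obj G) = β := by
    refine (adj.homEquiv_counit _ _ b).symm.trans ?_
    exact (adj.homEquiv _ _).symm_apply_apply β
  calc R.map (l ≫ σ.s) = R.map ((l ≫ σ.s) ≫ uG) ≫ adj.counit.app (R.obj G) := by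
        rw [R.map_comp _ uG, Category.assoc,
          show R.map uG ≫ adj.counit.app (R.obj G) = 𝟙 _ from adj.left_triangle_components G, Category.comp_id]
    _ = R.map t ≫ β := by rw [hsec, R.map_comp, Category.assoc, hb]

end Groth.Agent.KExact.DeligneHom
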