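import Groth.Agent.QCoh.SubCompare
import Groth.Agent.KFlatLib.Scheme.QCohD
import Groth.Prelude.Def_Dual3

/-!
# Artin–Rees for the cohomology of the Deligne system
-/

set_option autoImplicit false
set_option linter.style.haveILetI false
set_option backward.isDefEq.respectTransparency false
set_option backward.isDefEq.respectTransparency.types false

universe u

open CategoryTheory CategoryTheory.Limits AlgebraicGeometry TopologicalSpace Opposite

namespace Groth.Agent.KExact.DeligneHomology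

open Groth.Agent.QCoh
open Groth.Agent.KFlatLib (isQCoh_of_iso)

variable {X : Scheme.{u}}

/-- Lifting into a submodule is checked on sections over an affine cover. -/
theorem exists_lift_of_cover {A B M : X.Modules} (hA : Coh.IsQCoh A) (hB : Coh.IsQCoh B) (hM : Coh.IsQCoh M)
    (a : A ⟶ M) (b : B ⟶ M) [Mono b]
    {κ : Type*} (U : κ → X.Opens) (haff : ∀ k, IsAffineOpen (U k)) (hU : ∀ x : X, ∃ k, x ∈ U k)
    (h : ∀ k (x : Γ(A, U k)), a.app (U k) x ∈ LinearMap.range (appLin b (U k))) :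
    ∃ l : A ⟶ B, l ≫ b = a := by
  have h0 : a ≫ cokernel.π b = 0 := hom_eq_zero_of_cover hA (isQCoh_cokernel hB hM b) _ U haff hU
    fun k x => (mem_range_iff_cokernel b (U k) _).2 (h k x)
  obtain ⟨l, hl⟩ := KernelFork.IsLimit.lift' (Abelian.monoIsKernelOfCokernel _ (cokernelIsCokernel b)) a h0
  exact ⟨l, hl⟩

theorem mem_range_of_cokernel {A M : X.Modules} (hA : Coh.IsQCoh A) (hM : Coh.IsQCoh M) (a : A ⟶ M)
    {U : X.Opens} (hU : IsAffineOpen U) (x : Γ(M, U)) (hx : (cokernel.π a).app U x = 0) :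
    x ∈ LinearMap.range (appLin a U) := by
  obtain ⟨y, hy⟩ := exists_kernel_lift (cokernel.π a) U x hx
  obtain ⟨z, hz⟩ := app_surjective_of_epi hA
    (show Coh.IsQCoh (Abelian.image a) from isQCoh_kernel hM (isQCoh_cokernel hA hM a) _)
    (Abelian.factorThruImage a) hU y
  refine ⟨z, ?_⟩
  show a.app U z = x
  rw [← hy, ← hz]
  exact (congr(($(Abelian.image.fac a)).app U z) : _).symm

theorem app_of_comp_eq {A B C : X.Modules} {f : A ⟶ B} {g : B ⟶ C} {h : A ⟶ C} (e : f ≫ g = h) (U : X.Opens)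
    (x : Γ(A, U)) : g.app U (f.app U x) = h.app U x := by
  subst e
  rfl

theorem app_of_square {A B B' C : X.Modules} {f : A ⟶ B} {g : B ⟶ C} {f' : A ⟶ B'} {g' : B' ⟶ C}
    (e : f ≫ g = f' ≫ g') (U : X.Opens) (x : Γ(A, U)) :
    g.app U (f.app U x) = g'.app U (f'.app U x) :=
  app_of_comp_eq e U x

/-- Artin–Rees in the form used here. -/
theorem exists_AR {A M : Type u} [CommRing A] [IsNoetherianRing A] [AddCommGroup M] [Module A M]
    [Module.Finite A M] (I : Ideal A) (K : Submodule A M) :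
    ∃ c : ℕ, ∀ d : ℕ, c ≤ d → ∀ n : ℕ, I ^ n • (⊤ : Submodule A M) ⊓ K ≤ I ^ (n - d) • K := by
  obtain ⟨c, hc⟩ := Ideal.exists_pow_inf_eq_pow_smul I K
  refine ⟨c, fun d hd n => ?_⟩
  rcases le_or_gt c n with hn | hn
  · rw [hc n hn]
    exact Submodule.smul_mono (Ideal.pow_le_pow_right (by omega)) inf_le_right
  · rw [Nat.sub_eq_zero_of_le (by omega), pow_zero, Ideal.one_eq_top, Submodule.top_smul]
    exact inf_le_right

variable [IsNoetherian X] (I : X.IdealSheafData) (F : CochainComplex X.Modules ℤ)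
  (hF : ∀ q, Coh.IsCoh (F.X q)) (p : ℤ)

theorem ideal_pow' (n : ℕ) (U : X.affineOpens) : (I ^ n).ideal U = I.ideal U ^ n := by
  rw [Scheme.IdealSheafData.ideal_pow, Pi.pow_apply]

theorem range_idealMul_pow (n : ℕ) {M : X.Modules} (hM : Coh.IsQCoh M) {U : X.Opens} (hU : IsAffineOpen U) :
    LinearMap.range (appLin (Dual3.idealMulι (I ^ n) M) U) =
      I.ideal ⟨U, hU⟩ ^ n • (⊤ : Submodule Γ(X, U) Γ(M, U)) := by
  rw [range_idealMul (I ^ n) hM hU, ideal_pow']

theorem range_iCycles (U : X.Opens) :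
    LinearMap.range (appLin (F.iCycles p) U) = LinearMap.ker (appLin (F.d p (p + 1)) U) := by
  refine le_antisymm ?_ fun x hx => ?_
  · rintro _ ⟨z, rfl⟩
    exact congr(($(F.iCycles_d p (p + 1))).app U z)
  · obtain ⟨y, hy⟩ := exists_kernel_lift (F.d p (p + 1)) U x hx
    let e : kernel (F.d p (p + 1)) ≅ F.cycles p :=
      (kernelIsKernel _).conePointUniqueUpToIso (F.cyclesIsKernel p (p + 1) (by simp))
    refine ⟨e.hom.app U y, ?_⟩
    have he : e.hom ≫ F.iCycles p = kernel.ι (F.d p (p + 1)) :=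
      IsLimit.conePointUniqueUpToIso_hom_comp (kernelIsKernel _) (F.cyclesIsKernel p (p + 1) (by simp))
        WalkingParallelPair.zero
    exact (congr(($he).app U y) : _).trans hy

include hF in
theorem isQCoh_cycles : Coh.IsQCoh (F.cycles p) :=
  isQCoh_of_iso ((kernelIsKernel _).conePointUniqueUpToIso (F.cyclesIsKernel p (p + 1) (by simp)))
    (isQCoh_kernel (hF p).1 (hF (p + 1)).1 _)

include hF in
theorem isQCoh_homology : Coh.IsQCoh (F.homology p) :=
  isQCoh_of_iso ((cokernelIsCokernel (F.toCycles (p - 1) p)).coconePointUniqueUpToIso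
      (F.homologyIsCokernel (p - 1) p (by simp)))
    (isQCoh_cokernel (hF (p - 1)).1 (isQCoh_cycles F hF p) _)

include hF in
theorem exists_toCycles {U : X.Opens} (hU : IsAffineOpen U) (z : Γ(F.cycles p, U))
    (hz : (F.homologyπ p).app U z = 0) : ∃ y : Γ(F.X (p - 1), U), (F.toCycles (p - 1) p).app U y = z := by
  let e : cokernel (F.toCycles (p - 1) p) ≅ F.homology p :=
    (cokernelIsCokernel (F.toCycles (p - 1) p)).coconePointUniqueUpToIso
      (F.homologyIsCokernel (p - 1) p (by simp))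
  have he : cokernel.π (F.toCycles (p - 1) p) ≫ e.hom = F.homologyπ p :=
    IsColimit.comp_coconePointUniqueUpToIso_hom (cokernelIsCokernel (F.toCycles (p - 1) p))
      (F.homologyIsCokernel (p - 1) p (by simp)) WalkingParallelPair.one
  refine mem_range_of_cokernel (hF (p - 1)).1 (isQCoh_cycles F hF p) _ hU z ?_
  refine app_injective e.hom U ?_
  rw [map_zero]
  exact (congr(($he).app U z) : _).trans hz

theorem deligne_d_ι (m : ℕ) (q r : ℤ) :
    ((Dual3.deligne I m).obj F).d q r ≫ Dual3.idealMulι (I ^ m) (F.X r) =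
      Dual3.idealMulι (I ^ m) (F.X q) ≫ F.d q r :=
  Dual3.idealMul_map_ι (I ^ m) (F.d q r)

theorem iCycles_ι (m : ℕ) :
    HomologicalComplex.cyclesMap (Dual3.deligneι I m F) p ≫ F.iCycles p =
      ((Dual3.deligne I m).obj F).iCycles p ≫ Dual3.idealMulι (I ^ m) (F.X p) :=
  HomologicalComplex.cyclesMap_i (Dual3.deligneι I m F) p

include hF in
set_option maxHeartbeats 1000000 in
theorem main : ∃ (c : ℕ) (φ : ∀ n : ℕ, ((Dual3.deligne I n).obj F).homology p ⟶
      (Dual3.idealMul (I ^ (n - c))).obj (F.homology p))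
    (ψ : ∀ n : ℕ, (Dual3.idealMul (I ^ n)).obj (F.homology p) ⟶
      ((Dual3.deligne I (n - c)).obj F).homology p), 0 < c ∧
    (∀ n : ℕ, c ≤ n → φ n ≫ Dual3.idealMulι (I ^ (n - c)) (F.homology p) =
      HomologicalComplex.homologyMap (Dual3.deligneι I n F) p) ∧
    (∀ n : ℕ, c ≤ n → ψ n ≫ HomologicalComplex.homologyMap (Dual3.deligneι I (n - c) F) p =
      Dual3.idealMulι (I ^ n) (F.homology p)) ∧
    (∀ n : ℕ, 2 * c ≤ n → (ψ n ≫ φ (n - c)) ≫ Dual3.idealMulι (I ^ (n - c - c)) (F.homology p) =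
      Dual3.idealMulι (I ^ n) (F.homology p)) ∧
    ∀ (n : ℕ), 2 * c ≤ n → ∀ t : (Dual3.deligne I n).obj F ⟶ (Dual3.deligne I (n - c - c)).obj F,
      t ≫ Dual3.deligneι I (n - c - c) F = Dual3.deligneι I n F →
        φ n ≫ ψ (n - c) = HomologicalComplex.homologyMap t p := by
  classical
  choose W hW hxW using fun x : X => exists_affine_mem x
  obtain ⟨T, hT⟩ := isCompact_univ.elim_finite_subcover (fun x : X => (W x : Set X))
    (fun x => (W x).2) (fun x _ => Set.mem_iUnion.2 ⟨x, hxW x⟩)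
  let U : T → X.Opens := fun x => W x.1
  have haff : ∀ k, IsAffineOpen (U k) := fun k => hW k.1
  have hcov : ∀ x : X, ∃ k, x ∈ U k := fun x => by
    obtain ⟨y, hy, hxy⟩ := Set.mem_iUnion₂.1 (hT (Set.mem_univ x))
    exact ⟨⟨y, hy⟩, hxy⟩
  let J : ∀ k, Ideal Γ(X, U k) := fun k => I.ideal ⟨U k, haff k⟩
  have hnoe : ∀ k, IsNoetherianRing Γ(X, U k) := fun k => noetherian_sections ⟨U k, haff k⟩
  have hfin : ∀ k q, Module.Finite Γ(X, U k) Γ(F.X q, U k) := fun k q => finite_sections (hF q) (haff k)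
  choose c₁ hc₁ using fun k => haveI := hnoe k; haveI := hfin k p
    exists_AR (J k) (LinearMap.range (appLin (F.iCycles p) (U k)))
  choose c₂ hc₂ using fun k => haveI := hnoe k; haveI := hfin k p
    exists_AR (J k) (LinearMap.range (appLin (F.d (p - 1) p) (U k)))
  let c : ℕ := Finset.univ.sup c₁ + Finset.univ.sup c₂ + 1
  have hle₁ : ∀ k, c₁ k ≤ c := fun k => by
    have := Finset.le_sup (f := c₁) (Finset.mem_univ k)
    omega
  have hle₂ : ∀ k, c₂ k ≤ c := fun k => by
    have := Finset.le_sup (f := c₂) (Finset.mem_univ k)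
    omega
  let Z := F.cycles p
  let H := F.homology p
  let i := F.iCycles p
  let π := F.homologyπ p
  have hZ : Coh.IsQCoh Z := isQCoh_cycles F hF p
  have hH : Coh.IsQCoh H := isQCoh_homology F hF p
  have hXp : Coh.IsQCoh (F.X p) := (hF p).1
  haveI : Mono i := inferInstanceAs (Mono (F.iCycles p))
  haveI : Epi π := inferInstanceAs (Epi (F.homologyπ p))
  let G : ℕ → CochainComplex X.Modules ℤ := fun n => (Dual3.deligne I n).obj F
  have hG : ∀ n q, Coh.IsQCoh ((G n).X q) := fun n q => isQCoh_idealMul (I ^ n) (hF q).1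
  have hGZ : ∀ n, Coh.IsQCoh ((G n).cycles p) := fun n =>
    isQCoh_of_iso ((kernelIsKernel _).conePointUniqueUpToIso ((G n).cyclesIsKernel p (p + 1) (by simp)))
      (isQCoh_kernel (hG n p) (hG n (p + 1)) _)
  have hIZ : ∀ n, Coh.IsQCoh ((Dual3.idealMul (I ^ n)).obj Z) := fun n => isQCoh_idealMul (I ^ n) hZ
  have hIH : ∀ n, Coh.IsQCoh ((Dual3.idealMul (I ^ n)).obj H) := fun n => isQCoh_idealMul (I ^ n) hH
  -- cycles deep in the filtration
  have exa : ∀ n, ∃ a : (G n).cycles p ⟶ (Dual3.idealMul (I ^ (n - c))).obj Z,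
      a ≫ Dual3.idealMulι (I ^ (n - c)) Z = HomologicalComplex.cyclesMap (Dual3.deligneι I n F) p := by
    intro n
    refine exists_lift_of_cover (hGZ n) (hIZ _) hZ _ _ U haff hcov fun k x => ?_
    rw [range_idealMul_pow I _ hZ (haff k)]
    set z := (HomologicalComplex.cyclesMap (Dual3.deligneι I n F) p).app (U k) x
    have h1 : (appLin i (U k)) z ∈ J k ^ n • (⊤ : Submodule Γ(X, U k) Γ(F.X p, U k)) ⊓
        LinearMap.range (appLin i (U k)) := by
      refine ⟨?_, ⟨z, rfl⟩⟩
      rw [← range_idealMul_pow I n hXp (haff k)]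
      refine ⟨((G n).iCycles p).app (U k) x, ?_⟩
      exact (congr(($(iCycles_ι I F p n)).app (U k) x) : _).symm
    obtain h2 := hc₁ k c (hle₁ k) n h1
    rw [← Submodule.map_top, ← Submodule.map_smul''] at h2
    obtain ⟨z', hz', hzz⟩ := h2
    rwa [app_injective i (U k) hzz] at hz'
  choose a ha using exa
  -- deep multiples of cycles
  have exl : ∀ n, ∃ l : (Dual3.idealMul (I ^ n)).obj Z ⟶ (G (n - c)).X p,
      l ≫ Dual3.idealMulι (I ^ (n - c)) (F.X p) = Dual3.idealMulι (I ^ n) Z ≫ i := by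
    intro n
    refine exists_lift_of_cover (hIZ n) (hG _ p) hXp _ (Dual3.idealMulι (I ^ (n - c)) (F.X p)) U haff hcov
      fun k x => ?_
    rw [range_idealMul_pow I _ hXp (haff k)]
    have h1 : (Dual3.idealMulι (I ^ n) Z ≫ i).app (U k) x ∈
        LinearMap.range (appLin (Dual3.idealMulι (I ^ n) Z ≫ i) (U k)) := ⟨x, rfl⟩
    rw [range_idealMul_comp (I ^ n) hZ i (haff k), ideal_pow'] at h1
    exact Submodule.smul_mono (Ideal.pow_le_pow_right (Nat.sub_le n c)) le_top h1
  choose l hl using exl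
  have hld : ∀ n, l n ≫ (G (n - c)).d p (p + 1) = 0 := fun n => by
    rw [← cancel_mono (Dual3.idealMulι (I ^ (n - c)) (F.X (p + 1))), Category.assoc, zero_comp]
    rw [deligne_d_ι, reassoc_of% (hl n)]
    show Dual3.idealMulι (I ^ n) Z ≫ i ≫ F.d p (p + 1) = 0
    rw [show i ≫ F.d p (p + 1) = 0 from F.iCycles_d p (p + 1), comp_zero]
  let e : ∀ n, (Dual3.idealMul (I ^ n)).obj Z ⟶ (G (n - c)).cycles p := fun n =>
    (G (n - c)).liftCycles (l n) (p + 1) (by simp) (hld n)
  have he : ∀ n, e n ≫ HomologicalComplex.cyclesMap (Dual3.deligneι I (n - c) F) p = Dual3.idealMulι (I ^ n) Z := by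
    intro n
    rw [← cancel_mono i, Category.assoc]
    show e n ≫ _ ≫ F.iCycles p = _
    rw [iCycles_ι, HomologicalComplex.liftCycles_i_assoc]
    exact hl n
  -- `I^n Z → I^n H` is epi
  let q : ∀ n, (Dual3.idealMul (I ^ n)).obj Z ⟶ (Dual3.idealMul (I ^ n)).obj H := fun n =>
    (Dual3.idealMul (I ^ n)).map π
  have hq : ∀ n, Epi (q n) := fun n => by
    refine Preadditive.epi_of_cokernel_zero ?_
    refine hom_eq_zero_of_cover (hIH n) (isQCoh_cokernel (hIZ n) (hIH n) (q n)) _ U haff hcov fun k y => ?_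
    have h1 : (appLin (Dual3.idealMulι (I ^ n) H) (U k)) y ∈
        LinearMap.range (appLin (Dual3.idealMulι (I ^ n) Z ≫ π) (U k)) := by
      rw [range_idealMul_comp (I ^ n) hZ π (haff k),
        LinearMap.range_eq_top.2 (fun w => app_surjective_of_epi hZ hH π (haff k) w), ← range_idealMul (I ^ n) hH (haff k)]
      exact ⟨y, rfl⟩
    obtain ⟨x, hx⟩ := h1
    have : (q n).app (U k) x = y := app_injective (Dual3.idealMulι (I ^ n) H) (U k) (by
      refine Eq.trans ?_ hx
      exact congr(($(Dual3.idealMul_map_ι (I ^ n) π)).app (U k) x))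
    rw [← this]
    exact congr(($(cokernel.condition (q n))).app (U k) x)
  haveI := hq
  have hker : ∀ n, kernel.ι (q n) ≫ e n ≫ (G (n - c)).homologyπ p = 0 := by
    intro n
    refine hom_eq_zero_of_cover (isQCoh_kernel (hIZ n) (hIH n) _)
      (isQCoh_of_iso ((cokernelIsCokernel ((G (n - c)).toCycles (p - 1) p)).coconePointUniqueUpToIso
        ((G (n - c)).homologyIsCokernel (p - 1) p (by simp)))
        (isQCoh_cokernel (hG (n - c) (p - 1)) (hGZ (n - c)) _)) _ U haff hcov fun k w => ?_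
    set x := (kernel.ι (q n)).app (U k) w
    show ((G (n - c)).homologyπ p).app (U k) ((e n).app (U k) x) = 0
    set z := (Dual3.idealMulι (I ^ n) Z).app (U k) x
    have hz0 : π.app (U k) z = 0 := by
      refine (congr(($(Dual3.idealMul_map_ι (I ^ n) π)).app (U k) x) : _).symm.trans ?_
      show (Dual3.idealMulι (I ^ n) H).app (U k) ((q n).app (U k) x) = 0
      rw [show (q n).app (U k) x = 0 from congr(($(kernel.condition (q n))).app (U k) w), map_zero]
    obtain ⟨y, hy⟩ := exists_toCycles F hF p (haff k) z hz0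
    have hdy : (F.d (p - 1) p).app (U k) y = i.app (U k) z := by
      rw [← hy]
      exact (congr(($(F.toCycles_i (p - 1) p)).app (U k) y) : _).symm
    have h1 : (appLin (F.d (p - 1) p) (U k)) y ∈ J k ^ n • (⊤ : Submodule Γ(X, U k) Γ(F.X p, U k)) ⊓
        LinearMap.range (appLin (F.d (p - 1) p) (U k)) := by
      refine ⟨?_, ⟨y, rfl⟩⟩
      show (F.d (p - 1) p).app (U k) y ∈ _
      rw [hdy]
      have h2 : (Dual3.idealMulι (I ^ n) Z ≫ i).app (U k) x ∈
          LinearMap.range (appLin (Dual3.idealMulι (I ^ n) Z ≫ i) (U k)) := ⟨x, rfl⟩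
      rw [range_idealMul_comp (I ^ n) hZ i (haff k), ideal_pow'] at h2
      exact Submodule.smul_mono le_rfl le_top h2
    have h3 := hc₂ k c (hle₂ k) n h1
    rw [← Submodule.map_top, ← Submodule.map_smul''] at h3
    obtain ⟨y', hy', hyy⟩ := h3
    rw [← range_idealMul_pow I (n - c) (hF (p - 1)).1 (haff k)] at hy'
    obtain ⟨y'', rfl⟩ := hy'
    have hkey : (e n).app (U k) x = ((G (n - c)).toCycles (p - 1) p).app (U k) y'' := by
      refine app_injective ((G (n - c)).iCycles p) (U k) (app_injective (Dual3.idealMulι (I ^ (n - c)) (F.X p)) (U k) ?_)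
      refine Eq.trans ?_ (Eq.trans (hdy.symm.trans hyy.symm) ?_)
      · rw [app_of_comp_eq ((G (n - c)).liftCycles_i (l n) (p + 1) (by simp) (hld n)) (U k) x]
        exact app_of_square (hl n) (U k) x
      · rw [app_of_comp_eq ((G (n - c)).toCycles_i (p - 1) p) (U k) y'']
        exact (app_of_square (deligne_d_ι I F (n - c) (p - 1) p) (U k) y'').symm
    rw [hkey]
    exact congr(($((G (n - c)).toCycles_comp_homologyπ (p - 1) p)).app (U k) y'')
  let ψ : ∀ n, (Dual3.idealMul (I ^ n)).obj H ⟶ (G (n - c)).homology p := fun n =>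
    Abelian.epiDesc (q n) (e n ≫ (G (n - c)).homologyπ p) (hker n)
  have hψ : ∀ n, q n ≫ ψ n = e n ≫ (G (n - c)).homologyπ p := fun n => Abelian.comp_epiDesc _ _ _
  -- `φ`
  have hb : ∀ n, (G n).toCycles (p - 1) p ≫ a n ≫ q (n - c) = 0 := fun n => by
    rw [← cancel_mono (Dual3.idealMulι (I ^ (n - c)) H), zero_comp]
    simp only [Category.assoc]
    rw [show q (n - c) ≫ Dual3.idealMulι (I ^ (n - c)) H = Dual3.idealMulι (I ^ (n - c)) Z ≫ π from
      Dual3.idealMul_map_ι _ _, reassoc_of% (ha n)]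
    show (G n).toCycles (p - 1) p ≫ _ ≫ F.homologyπ p = 0
    rw [← HomologicalComplex.homologyπ_naturality, ← Category.assoc, HomologicalComplex.toCycles_comp_homologyπ,
      zero_comp]
  let φ : ∀ n, (G n).homology p ⟶ (Dual3.idealMul (I ^ (n - c))).obj H := fun n =>
    Cofork.IsColimit.desc ((G n).homologyIsCokernel (p - 1) p (by simp)) (a n ≫ q (n - c))
      (by rw [hb, zero_comp])
  have hφ : ∀ n, (G n).homologyπ p ≫ φ n = a n ≫ q (n - c) := fun n =>
    Cofork.IsColimit.π_desc ((G n).homologyIsCokernel (p - 1) p (by simp))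
  have h1 : ∀ n, φ n ≫ Dual3.idealMulι (I ^ (n - c)) H = HomologicalComplex.homologyMap (Dual3.deligneι I n F) p := by
    intro n
    rw [← cancel_epi ((G n).homologyπ p), reassoc_of% (hφ n)]
    rw [show q (n - c) ≫ Dual3.idealMulι (I ^ (n - c)) H = Dual3.idealMulι (I ^ (n - c)) Z ≫ π from
      Dual3.idealMul_map_ι _ _, reassoc_of% (ha n)]
    exact (HomologicalComplex.homologyπ_naturality _ _).symm
  have h2 : ∀ n, ψ n ≫ HomologicalComplex.homologyMap (Dual3.deligneι I (n - c) F) p = Dual3.idealMulι (I ^ n) H := by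
    intro n
    rw [← cancel_epi (q n), reassoc_of% (hψ n), HomologicalComplex.homologyπ_naturality, reassoc_of% (he n)]
    exact (Dual3.idealMul_map_ι _ _).symm
  refine ⟨c, φ, ψ, Nat.succ_pos _, fun n _ => h1 n, fun n _ => h2 n, fun n _ => ?_, fun n _ t ht => ?_⟩
  · rw [Category.assoc, h1]
    exact h2 n
  · rw [← cancel_epi ((G n).homologyπ p), reassoc_of% (hφ n), hψ, HomologicalComplex.homologyπ_naturality,
      ← Category.assoc]
    congr 1
    haveI : Mono (HomologicalComplex.cyclesMap (Dual3.deligneι I (n - c - c) F) p) := by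
      haveI : Mono ((Dual3.deligneι I (n - c - c) F).f p) := Dual3.mono_idealMulι _ _
      haveI : Mono (HomologicalComplex.cyclesMap (Dual3.deligneι I (n - c - c) F) p ≫ F.iCycles p) := by
        rw [HomologicalComplex.cyclesMap_i]
        infer_instance
      exact mono_of_mono _ (F.iCycles p)
    rw [← cancel_mono (HomologicalComplex.cyclesMap (Dual3.deligneι I (n - c - c) F) p), Category.assoc, he, ha,
      ← HomologicalComplex.cyclesMap_comp, ht]

end Groth.Agent.KExact.DeligneHomology
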