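import Groth.Agent.KExact.DeligneHom
import Groth.Agent.H9Misc.StalkInjective
import Mathlib.Algebra.Homology.DerivedCategory.KInjective

/-!
# Deligne's formula: maps of complexes into a bounded below complex of injective quasi-coherent modules
-/

set_option autoImplicit false
set_option linter.style.haveILetI false
set_option linter.unusedSectionVars false
set_option backward.isDefEq.respectTransparency false
set_option backward.isDefEq.respectTransparency.types false

universe w v u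

open CategoryTheory CategoryTheory.Limits AlgebraicGeometry TopologicalSpace Opposite

attribute [local instance] HasDerivedCategory.standard

namespace Groth.Agent.KExact.DeligneLift

section KInj

variable {C : Type u} [Category.{v} C] [Abelian C] {K L : CochainComplex C ℤ} [L.IsKInjective]

theorem exists_Q_map (a : DerivedCategory.Q.obj K ⟶ DerivedCategory.Q.obj L) :
    ∃ f : K ⟶ L, DerivedCategory.Q.map f = a := by
  obtain ⟨g, hg⟩ := (CochainComplex.IsKInjective.Qh_map_bijective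
    ((HomotopyCategory.quotient _ _).obj K) L).surjective
    ((DerivedCategory.quotientCompQhIso C).hom.app K ≫ a ≫ (DerivedCategory.quotientCompQhIso C).inv.app L)
  obtain ⟨f, rfl⟩ := (HomotopyCategory.quotient _ _).map_surjective g
  refine ⟨f, ?_⟩
  rw [← cancel_epi ((DerivedCategory.quotientCompQhIso C).hom.app K),
    ← (DerivedCategory.quotientCompQhIso C).hom.naturality f, Functor.comp_map, hg]
  simp

theorem nonempty_homotopy_zero (f : K ⟶ L) (h : DerivedCategory.Q.map f = 0) : Nonempty (Homotopy f 0) := by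
  refine ⟨HomotopyCategory.homotopyOfEq _ _ ((CochainComplex.IsKInjective.Qh_map_bijective _ L).injective ?_)⟩
  rw [← cancel_mono ((DerivedCategory.quotientCompQhIso C).hom.app L)]
  rw [← Functor.comp_map, (DerivedCategory.quotientCompQhIso C).hom.naturality f, h]
  simp

end KInj

theorem homotopy_zero_f {C : Type u} [Category.{v} C] [Preadditive C] {K L : CochainComplex C ℤ} {f : K ⟶ L}
    (H : Homotopy f 0) (q : ℤ) :
    f.f q = K.d q (q + 1) ≫ H.hom (q + 1) q + H.hom q (q - 1) ≫ L.d (q - 1) q := by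
  rw [H.comm q, dNext_eq H.hom (show (ComplexShape.up ℤ).Rel q (q + 1) by simp),
    prevD_eq H.hom (show (ComplexShape.up ℤ).Rel (q - 1) q by simp)]
  simp

theorem map_sub_eq_zero {C : Type*} [Category C] [Preadditive C] {D : Type*} [Category D] [Preadditive D]
    (T : C ⥤ D) [T.Additive] {M M' N N' P Q : C} {t : M ⟶ N} {t' : M' ⟶ N'} {d : M ⟶ M'} {d' : N ⟶ N'}
    (sq : t ≫ d' = d ≫ t') {g : N ⟶ Q} {a : M' ⟶ Q} {b : M ⟶ P} {δ : P ⟶ Q}
    {A : T.obj N' ⟶ T.obj Q} {B : T.obj N ⟶ T.obj P}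
    (hg : T.map g = T.map d' ≫ A + B ≫ T.map δ) (ha : T.map a = T.map t' ≫ A) (hb : T.map b = T.map t ≫ B) :
    T.map (t ≫ g - (d ≫ a + b ≫ δ)) = 0 := by
  rw [Functor.map_sub, Functor.map_comp, hg, Functor.map_add, Functor.map_comp, ha, Functor.map_comp _ b, hb,
    Preadditive.comp_add, Category.assoc, ← Category.assoc (T.map t), ← Functor.map_comp, sq, Functor.map_comp,
    Category.assoc, sub_self]

theorem nonempty_homotopy_comp {C : Type u} [Category.{v} C] [Preadditive C] {K K' L : CochainComplex C ℤ}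
    (t : K' ⟶ K) (hom : ∀ i j : ℤ, (ComplexShape.up ℤ).Rel j i → (K.X i ⟶ L.X j)) :
    Nonempty (Homotopy (t ≫ Homotopy.nullHomotopicMap' hom) 0) :=
  ⟨((Homotopy.nullHomotopy' hom).compLeft t).trans (Homotopy.ofEq comp_zero)⟩

theorem exists_uniform (lo hi : ℤ) (P : ℤ → ℕ → Prop) (h : ∀ q, ∃ k, ∀ m, k ≤ m → P q m)
    (h0 : ∀ q, q < lo ∨ hi < q → ∀ m, P q m) : ∃ k, ∀ q m, k ≤ m → P q m := by
  choose k hk using h
  refine ⟨(Finset.Icc lo hi).sup k, fun q m hm => ?_⟩
  by_cases hq : q ∈ Finset.Icc lo hi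
  · exact hk q m ((Finset.le_sup hq).trans hm)
  · rw [Finset.mem_Icc] at hq
    exact h0 q (by omega) m

open DeligneHom

variable {X U : Scheme.{u}} [AlgebraicGeometry.IsNoetherian X] [AlgebraicGeometry.IsNoetherian U] (j : U ⟶ X) [IsOpenImmersion j]
  [PreservesFiniteLimits (Scheme.Modules.restrictFunctor j)]
  (I : X.IdealSheafData) (hI : I.supportSetᶜ = Set.range j)
  (F : CochainComplex X.Modules ℤ) (lo hi : ℤ) (hF : DCoh.VanishesOutside F lo hi)
  (hFc : ∀ q, Coh.IsCoh (F.X q))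
  (J : CochainComplex X.Modules ℤ) (hJq : ∀ q, Coh.IsQCoh (J.X q)) [∀ q, Injective (J.X q)]

local notation "R" => Scheme.Modules.restrictFunctor j
/-- Termwise restriction of complexes. -/
noncomputable abbrev resC : CochainComplex X.Modules ℤ ⥤ CochainComplex U.Modules ℤ :=
  (Scheme.Modules.restrictFunctor j).mapHomologicalComplex (ComplexShape.up ℤ)

local notation "RC" => resC j

include hF in
theorem isZero_sub (n : ℕ) {q : ℤ} (hq : q < lo ∨ hi < q) : IsZero (sub I n (F.X q)) :=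
  IsZero.of_mono (subι I n (F.X q)) (hF q hq)

include hI hF hFc hJq in
theorem exists_map (a : (RC).obj F ⟶ (RC).obj J) :
    ∃ (n : ℕ) (φ : (Dual3.deligne I n).obj F ⟶ J),
      (RC).map φ = (RC).map (Dual3.deligneι I n F) ≫ a := by
  obtain ⟨k, hk⟩ := exists_uniform lo hi
    (fun q m => ∃ γ : sub I m (F.X q) ⟶ J.X q, (R).map γ = (R).map (subι I m (F.X q)) ≫ a.f q)
    (fun q => by
      obtain ⟨k, hk⟩ := exists_lift I j hI (n := 0) (hFc q) (hJq q)
        ((R).map (subι I 0 (F.X q)) ≫ a.f q)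
      refine ⟨k, fun m hm => ?_⟩
      obtain ⟨γ, hγ⟩ := hk (m := m) (by omega)
      refine ⟨γ, ?_⟩
      rw [hγ, ← Category.assoc, ← Functor.map_comp, tinc_ι])
    (fun q hq m => ⟨0, ((R).map_isZero (isZero_sub I F lo hi hF m hq)).eq_of_src _ _⟩)
  choose γ hγ using fun q => hk q k le_rfl
  let dm (m : ℕ) (q : ℤ) : sub I m (F.X q) ⟶ sub I m (F.X (q + 1)) :=
    (Dual3.idealMul (I ^ m)).map (F.d q (q + 1))
  obtain ⟨k', hk'⟩ := exists_uniform lo hi
    (fun q m => ∀ hm : k ≤ m, tinc I hm (hFc q).1 ≫ (γ q ≫ J.d q (q + 1) - dm k q ≫ γ (q + 1)) = 0)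
    (fun q => by
      obtain ⟨k', hk'⟩ := exists_zero I j hI (hFc q) (hJq (q + 1))
        (γ q ≫ J.d q (q + 1) - dm k q ≫ γ (q + 1)) (by
          have hc := a.comm q (q + 1)
          simp only [Functor.mapHomologicalComplex_obj_d] at hc
          rw [Functor.map_sub, Functor.map_comp, Functor.map_comp, hγ, hγ, Category.assoc, hc,
            ← Category.assoc, ← Category.assoc, ← Functor.map_comp, ← Functor.map_comp,
            Dual3.idealMul_map_ι, sub_self])
      exact ⟨k + k', fun m hm _ => hk' hm⟩)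
    (fun q hq m hm => (isZero_sub I F lo hi hF m hq).eq_of_src _ _)
  let m := max k k'
  have hkm : k ≤ m := le_max_left _ _
  let φ : (Dual3.deligne I m).obj F ⟶ J :=
    { f := fun q => tinc I hkm (hFc q).1 ≫ γ q
      comm' := fun q r hqr => by
        obtain rfl : q + 1 = r := hqr
        have h := hk' q m (le_max_right _ _) hkm
        rw [Preadditive.comp_sub, sub_eq_zero, ← Category.assoc _ (dm k q), tinc_nat I hkm (hFc q).1 (hFc (q + 1)).1] at h
        rw [Category.assoc] at h ⊢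
        exact h }
  refine ⟨m, φ, ?_⟩
  ext q : 1
  show (R).map (tinc I hkm (hFc q).1 ≫ γ q) = (R).map (subι I m (F.X q)) ≫ a.f q
  rw [Functor.map_comp, hγ, ← Category.assoc, ← Functor.map_comp, tinc_ι]

include hI hF hFc hJq in
theorem exists_null {n : ℕ} (h : (Dual3.deligne I n).obj F ⟶ J) (H : Homotopy ((RC).map h) 0) :
    ∃ m : ℕ, n ≤ m ∧ ∀ t : (Dual3.deligne I m).obj F ⟶ (Dual3.deligne I n).obj F,
      t ≫ Dual3.deligneι I n F = Dual3.deligneι I m F → Nonempty (Homotopy (t ≫ h) 0) := by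
  let Hh (i i' : ℤ) : (R).obj (sub I n (F.X i)) ⟶ (R).obj (J.X i') := H.hom i i'
  obtain ⟨k, hk⟩ := exists_uniform lo hi
    (fun q m => ∀ hm : n ≤ m, ∃ s : sub I m (F.X q) ⟶ J.X (q - 1),
      (R).map s = (R).map (tinc I hm (hFc q).1) ≫ Hh q (q - 1))
    (fun q => by
      obtain ⟨k, hk⟩ := exists_lift I j hI (hFc q) (hJq (q - 1)) (Hh q (q - 1))
      exact ⟨n + k, fun m hm _ => hk hm⟩)
    (fun q hq m hm => ⟨0, ((R).map_isZero (isZero_sub I F lo hi hF m hq)).eq_of_src _ _⟩)
  let m₁ := max n k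
  have hn₁ : n ≤ m₁ := le_max_left _ _
  choose s hs using fun q => hk q m₁ (le_max_right _ _) hn₁
  let hom (i i' : ℤ) (r : (ComplexShape.up ℤ).Rel i' i) : sub I m₁ (F.X i) ⟶ J.X i' :=
    s i ≫ eqToHom (by rw [show i' = i - 1 by simp at r; omega])
  have hhom : ∀ (i i' : ℤ) (r : (ComplexShape.up ℤ).Rel i' i),
      (R).map (hom i i' r) = (R).map (tinc I hn₁ (hFc i).1) ≫ Hh i i' := by
    intro i i' r
    obtain rfl : i' = i - 1 := by simp at r; omega
    simp only [hom, eqToHom_refl, Category.comp_id]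
    exact hs i
  have r1 : ∀ q : ℤ, (ComplexShape.up ℤ).Rel q (q + 1) := fun q => by simp
  have r2 : ∀ q : ℤ, (ComplexShape.up ℤ).Rel (q - 1) q := fun q => by simp
  let e (q : ℤ) : sub I m₁ (F.X q) ⟶ J.X q :=
    (Dual3.idealMul (I ^ m₁)).map (F.d q (q + 1)) ≫ hom (q + 1) q (r1 q) + hom q (q - 1) (r2 q) ≫ J.d (q - 1) q
  let hq (q : ℤ) : sub I n (F.X q) ⟶ J.X q := h.f q
  obtain ⟨k₂, hk₂⟩ := exists_uniform lo hi
    (fun q m => ∀ hm : m₁ ≤ m, tinc I hm (hFc q).1 ≫ (tinc I hn₁ (hFc q).1 ≫ hq q - e q) = 0)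
    (fun q => by
      obtain ⟨k', hk'⟩ := exists_zero I j hI (hFc q) (hJq q)
        (tinc I hn₁ (hFc q).1 ≫ hq q - e q) (by
          have hc : (R).map (hq q) = (R).map ((Dual3.idealMul (I ^ n)).map (F.d q (q + 1))) ≫ Hh (q + 1) q +
              Hh q (q - 1) ≫ (R).map (J.d (q - 1) q) :=
            homotopy_zero_f H q
          exact map_sub_eq_zero _ (tinc_nat I hn₁ (hFc q).1 (hFc (q + 1)).1 (F.d q (q + 1))) hc
            (hhom (q + 1) q (r1 q)) (hhom q (q - 1) (r2 q)))
      exact ⟨m₁ + k', fun m hm _ => hk' hm⟩)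
    (fun q hq m hm => (isZero_sub I F lo hi hF m hq).eq_of_src _ _)
  let m := max m₁ k₂
  have hm₁ : m₁ ≤ m := le_max_left _ _
  refine ⟨m, hn₁.trans hm₁, fun t ht => ?_⟩
  let t₁ : (Dual3.deligne I m).obj F ⟶ (Dual3.deligne I m₁).obj F :=
    { f := fun q => tinc I hm₁ (hFc q).1
      comm' := fun q r _ => tinc_nat I hm₁ (hFc q).1 (hFc r).1 (F.d q r) }
  let e₀ : (Dual3.deligne I m₁).obj F ⟶ J := Homotopy.nullHomotopicMap' hom
  have h1 : t ≫ h = t₁ ≫ e₀ := by
    ext q : 1
    have htq : t.f q = tinc I (hn₁.trans hm₁) (hFc q).1 := by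
      rw [← cancel_mono (subι I n (F.X q)), tinc_ι]
      exact HomologicalComplex.congr_hom ht q
    have h2 := hk₂ q m (le_max_right _ _) hm₁
    rw [Preadditive.comp_sub, sub_eq_zero, ← Category.assoc, tinc_comp] at h2
    have he : e₀.f q = e q := Homotopy.nullHomotopicMap'_f (r2 q) (r1 q) _
    rw [HomologicalComplex.comp_f, HomologicalComplex.comp_f, htq, he]
    exact h2
  rw [h1]
  exact nonempty_homotopy_comp t₁ hom

end Groth.Agent.KExact.DeligneLift
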