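import Groth.Agent.KFlatLib.Scheme.MVPush
import Groth.Agent.KFlatLib.Scheme.RpushQCoh

/-!
# Cohomological bounds for a derived functor
-/

set_option autoImplicit false
set_option linter.style.haveILetI false
set_option backward.isDefEq.respectTransparency false

universe u

open CategoryTheory CategoryTheory.Limits AlgebraicGeometry Pretriangulated

attribute [local instance] HasDerivedCategory.standard

namespace Groth.Agent.KExact.DerivedBounds

open KFlatLib

variable {X : Scheme.{u}} (F : X.Modules ⥤ AddCommGrpCat.{u}) [F.Additive]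
  [(F.mapHomotopyCategory (ComplexShape.up ℤ) ⋙ DerivedCategory.Qh).HasRightDerivedFunctor
    (HomotopyCategory.quasiIso X.Modules (ComplexShape.up ℤ))]

/-- The total right derived functor. -/
noncomputable abbrev RF : DCoh.D X ⥤ DerivedCategory AddCommGrpCat.{u} :=
  (F.mapHomotopyCategory (ComplexShape.up ℤ) ⋙ DerivedCategory.Qh).totalRightDerived
    DerivedCategory.Qh (HomotopyCategory.quasiIso X.Modules (ComplexShape.up ℤ))

theorem nonempty_iso_of_kInjective {I : CochainComplex X.Modules ℤ} [I.IsKInjective]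
    {K : DCoh.D X} (e : DerivedCategory.Q.obj I ≅ K) :
    Nonempty ((RF F).obj K ≅ DerivedCategory.Q.obj ((F.mapHomologicalComplex (ComplexShape.up ℤ)).obj I)) := by
  haveI := TriCat.qh_isLeftAdjoint_of_exists_resolution (A := X.Modules) exists_kInjective_res
  let Φ := F.mapHomotopyCategory (ComplexShape.up ℤ) ⋙ DerivedCategory.Qh
  let α := Φ.totalRightDerivedUnit DerivedCategory.Qh (HomotopyCategory.quasiIso X.Modules (ComplexShape.up ℤ))
  haveI : IsIso (α.app ((HomotopyCategory.quotient X.Modules (ComplexShape.up ℤ)).obj I)) :=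
    isIso_rightDerivedUnit_of_kInjective Φ I
  exact ⟨(RF F).mapIso (e.symm ≪≫ ((DerivedCategory.quotientCompQhIso X.Modules).app I).symm) ≪≫
    (asIso (α.app ((HomotopyCategory.quotient X.Modules (ComplexShape.up ℤ)).obj I))).symm ≪≫
    DerivedCategory.Qh.mapIso ((F.mapHomotopyCategoryFactors (ComplexShape.up ℤ)).app I) ≪≫
      (DerivedCategory.quotientCompQhIso AddCommGrpCat.{u}).app _⟩

/-- The total derived functor of one module. -/
theorem isZero_hd_single [HasInjectiveResolutions X.Modules] (M : X.Modules) (k : ℤ)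
    (h : ∀ n : ℕ, (n : ℤ) = k → IsZero ((F.rightDerived n).obj M)) :
    IsZero ((DerivedCategory.homologyFunctor AddCommGrpCat.{u} k).obj ((RF F).obj (DCoh.inD X M))) := by
  obtain ⟨R⟩ := HasInjectiveResolution.out (Z := M)
  haveI : R.cochainComplex.IsKInjective := CochainComplex.isKInjective_of_injective _ 0
  obtain ⟨e⟩ := nonempty_iso_of_kInjective F (I := R.cochainComplex) (K := DCoh.inD X M)
    ((asIso (DerivedCategory.Q.map R.ι')).symm ≪≫
      (((SingleFunctors.evaluation _ _ 0).mapIso
        (DerivedCategory.singleFunctorsPostcompQIso X.Modules)).app M).symm)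
  let C := (F.mapHomologicalComplex (ComplexShape.up ℤ)).obj R.cochainComplex
  refine IsZero.of_iso ?_ ((DerivedCategory.homologyFunctor _ k).mapIso e ≪≫
    (DerivedCategory.homologyFunctorFactors _ k).app C)
  change IsZero (C.homology k)
  rcases lt_or_ge k 0 with hk | hk
  · exact ShortComplex.isZero_homology_of_isZero_X₂ _
      (F.map_isZero (R.cochainComplex.isZero_of_isStrictlyGE 0 k hk))
  · obtain ⟨n, hn⟩ := Int.eq_ofNat_of_zero_le hk
    subst hn
    exact (h n rfl).of_iso ((HomologicalComplex.homologyFunctor _ (ComplexShape.up ℤ) (n : ℤ)).mapIso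
      (TriCat.mapExtendIso F ComplexShape.embeddingUpNat R.cocomplex) ≪≫
      HomologicalComplex.extendHomologyIso _ ComplexShape.embeddingUpNat (j := n) (j' := (n : ℤ)) rfl ≪≫
      (R.isoRightDerivedObj F n).symm)

theorem nonempty_shift (K : DCoh.D X) (n : ℤ) : Nonempty ((RF F).obj (K⟦n⟧) ≅ ((RF F).obj K)⟦n⟧) := by
  haveI := TriCat.qh_isLeftAdjoint_of_exists_resolution (A := X.Modules) exists_kInjective_res
  let adjQ := Adjunction.ofIsLeftAdjoint (DerivedCategory.Qh (C := X.Modules))
  let ρ := (DerivedCategory.Qh (C := X.Modules)).rightAdjoint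
  let W := HomotopyCategory.quasiIso X.Modules (ComplexShape.up ℤ)
  let Φ := F.mapHomotopyCategory (ComplexShape.up ℤ) ⋙ DerivedCategory.Qh
  haveI : (ρ ⋙ Φ).IsRightDerivedFunctor (Functor.whiskerRight adjQ.unit Φ) W :=
    TriCat.isRightDerivedFunctor_of_adjunction adjQ W Φ
  let e : ρ ⋙ Φ ≅ RF F :=
    Functor.rightDerivedUnique _ _ (Functor.whiskerRight adjQ.unit Φ)
      (Φ.totalRightDerivedUnit DerivedCategory.Qh W) W
  letI := adjQ.rightAdjointCommShift ℤ
  exact ⟨(e.app _).symm ≪≫ ((ρ ⋙ Φ).commShiftIso n).app K ≪≫ (shiftFunctor _ n).mapIso (e.app K)⟩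

/-- The bound. -/
theorem isZero_hd [HasInjectiveResolutions X.Modules] (N : ℕ)
    (hF : ∀ G : X.Modules, Coh.IsQCoh G → ∀ p : ℕ, N ≤ p → IsZero ((F.rightDerived p).obj G)) :
    ∀ (m : ℕ) (a b : ℤ) (K : DCoh.D X), K.IsGE a → K.IsLE b → b < a + m → DCoh.IsQCohD K → ∀ i : ℤ,
      (i < a ∨ b + N - 1 < i) → IsZero ((DerivedCategory.homologyFunctor AddCommGrpCat.{u} i).obj ((RF F).obj K)) := by
  intro m
  induction m with
  | zero =>
    intro a b K hge hle hab _ i _
    haveI := hge
    haveI := hle
    have hK : IsZero K := DerivedCategory.TStructure.t.isZero K b a (by omega)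
    obtain ⟨hadd, -⟩ := exists_rightDerived_triangle F (contractibleTriangle K) (contractible_distinguished K)
    haveI := hadd
    exact (DerivedCategory.homologyFunctor AddCommGrpCat.{u} i).map_isZero ((RF F).map_isZero hK)
  | succ m ih =>
    intro a b K hge hle hab hq i hi
    by_cases hab' : b < a
    · exact ih a b K hge hle (by omega) hq i hi
    haveI := hge
    haveI := hle
    let t : Triangulated.TStructure (DCoh.D X) := DerivedCategory.TStructure.t
    let T := (t.triangleLTGE (a + 1)).obj K
    have hT : T ∈ distTriang _ := t.triangleLTGE_distinguished _ K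
    haveI h₁le : T.obj₁.IsLE a := t.isLE_truncLT_obj K _ _ (by omega)
    haveI h₃ge : T.obj₃.IsGE (a + 1) := t.isGE_truncGE_obj K _ _ le_rfl
    haveI h₁ge : T.obj₁.IsGE a := by
      rw [DerivedCategory.isGE_iff]
      intro j hj
      exact (DerivedCategory.HomologySequence.exact₁ T hT (j - 1) j (by omega)).isZero_X₂
        ((DerivedCategory.isZero_of_isGE T.obj₃ (a + 1) (j - 1) (by omega)).eq_of_src _ _)
        ((DerivedCategory.isZero_of_isGE K a j hj).eq_of_tgt _ _)
    haveI h₃le : T.obj₃.IsLE (max a b) := by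
      rw [DerivedCategory.isLE_iff]
      intro j hj
      exact (DerivedCategory.HomologySequence.exact₃ T hT j (j + 1) rfl).isZero_X₂
        ((DerivedCategory.isZero_of_isLE K b j (by omega)).eq_of_src _ _)
        ((DerivedCategory.isZero_of_isLE T.obj₁ a (j + 1) (by omega)).eq_of_tgt _ _)
    have hq₃ : DCoh.IsQCohD T.obj₃ := fun j => by
      by_cases hj : a + 1 ≤ j
      · haveI : Mono ((DerivedCategory.homologyFunctor X.Modules j).map T.mor₂) :=
          (DerivedCategory.HomologySequence.exact₂ T hT j).mono_g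
            ((DerivedCategory.isZero_of_isLE T.obj₁ a j (by omega)).eq_of_src _ _)
        haveI : Epi ((DerivedCategory.homologyFunctor X.Modules j).map T.mor₂) :=
          (DerivedCategory.HomologySequence.exact₃ T hT j (j + 1) rfl).epi_f
            ((DerivedCategory.isZero_of_isLE T.obj₁ a (j + 1) (by omega)).eq_of_tgt _ _)
        haveI := isIso_of_mono_of_epi ((DerivedCategory.homologyFunctor X.Modules j).map T.mor₂)
        exact isQCoh_of_iso (asIso ((DerivedCategory.homologyFunctor X.Modules j).map T.mor₂)) (hq j)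
      · exact isQCoh_of_isZero (DerivedCategory.isZero_of_isGE T.obj₃ (a + 1) j (by omega))
    have hq₁ : DCoh.IsQCohD T.obj₁ := isQCohD_obj₁ hT hq hq₃
    obtain ⟨hadd, c, hc⟩ := exists_rightDerived_triangle F T hT
    refine (DerivedCategory.HomologySequence.exact₂ _ hc i).isZero_of_both_zeros (IsZero.eq_of_src ?_ _ _)
      (IsZero.eq_of_tgt ?_ _ _)
    · obtain ⟨M, ⟨e⟩⟩ := DerivedCategory.exists_iso_singleFunctor_obj_of_isGE_of_isLE T.obj₁ a
      let es : T.obj₁ ≅ (DCoh.inD X M)⟦(-a : ℤ)⟧ :=
        e ≪≫ (((DerivedCategory.singleFunctors X.Modules).shiftIso (-a) a 0 (by omega)).app M).symm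
      obtain ⟨eS⟩ := nonempty_shift F (DCoh.inD X M) (-a)
      refine IsZero.of_iso ?_ ((DerivedCategory.homologyFunctor _ i).mapIso ((RF F).mapIso es ≪≫ eS) ≪≫
        ((DerivedCategory.homologyFunctor AddCommGrpCat.{u} 0).shiftIso (-a) i (i - a) (by omega)).app _)
      refine isZero_hd_single F M (i - a) fun n hn => hF M ?_ n (by omega)
      exact isQCoh_of_iso ((DerivedCategory.homologyFunctor X.Modules a).mapIso e ≪≫
        (DerivedCategory.singleFunctorCompHomologyFunctorIso X.Modules a).app M) (hq₁ a)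
    · exact ih (a + 1) (max a b) T.obj₃ h₃ge h₃le (by omega) hq₃ i (by omega)

end Groth.Agent.KExact.DerivedBounds
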