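import Groth.Agent.TriCat.DerivedOfAdjunction
import Mathlib.Algebra.Homology.DerivedCategory.KInjective

/-!
# Composition of derived functors computed by K-injective complexes
-/

set_option autoImplicit false
set_option linter.style.haveILetI false
set_option backward.isDefEq.respectTransparency false
set_option backward.isDefEq.respectTransparency.types false

universe w₁ w₂ w₃ w₄ v₁ v₂ v₃ v₄ u₁ u₂ u₃ u₄

open CategoryTheory CategoryTheory.Limits

namespace Groth.Agent.KExact.DerivedComp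

theorem isIso_unit_of_isKInjective {A : Type u₁} [Category.{v₁} A] [Abelian A] [HasDerivedCategory.{w₁} A]
    {ρ : DerivedCategory A ⥤ HomotopyCategory A (ComplexShape.up ℤ)} (adj : DerivedCategory.Qh ⊣ ρ)
    (I : CochainComplex A ℤ) [I.IsKInjective] :
    IsIso (adj.unit.app ((HomotopyCategory.quotient A (ComplexShape.up ℤ)).obj I)) := by
  refine isIso_iff_yoneda_map_bijective _ |>.2 fun Z => ?_
  have hb := ((adj.homEquiv Z _).bijective).comp (CochainComplex.IsKInjective.Qh_map_bijective Z I)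
  refine (funext fun φ => ?_ : _ = fun φ => φ ≫ adj.unit.app _) ▸ hb
  exact (adj.homEquiv_unit ..).trans (adj.unit.naturality φ).symm

variable {A : Type u₁} [Category.{v₁} A] [Abelian A] [HasDerivedCategory.{w₁} A]
  {B : Type u₂} [Category.{v₂} B] [Abelian B] [HasDerivedCategory.{w₂} B]
  {A' : Type u₃} [Category.{v₃} A'] [Abelian A'] [HasDerivedCategory.{w₃} A']
  {B' : Type u₄} [Category.{v₄} B'] [Abelian B'] [HasDerivedCategory.{w₄} B']

/-- A commutative square of functors preserving K-injective complexes gives one of derived functors. -/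
theorem nonempty_iso_of_square (S : A ⥤ B) [S.Additive] (P : B ⥤ B') [P.Additive] (R : A ⥤ A') [R.Additive]
    (T : A' ⥤ B') [T.Additive] (e : S ⋙ P ≅ R ⋙ T)
    (hA : ∀ K : CochainComplex A ℤ, ∃ (I : CochainComplex A ℤ) (f : K ⟶ I), I.IsKInjective ∧ QuasiIso f)
    (hB : ∀ K : CochainComplex B ℤ, ∃ (I : CochainComplex B ℤ) (f : K ⟶ I), I.IsKInjective ∧ QuasiIso f)
    (hA' : ∀ K : CochainComplex A' ℤ, ∃ (I : CochainComplex A' ℤ) (f : K ⟶ I), I.IsKInjective ∧ QuasiIso f)
    (hS : ∀ I : CochainComplex A ℤ, I.IsKInjective → CochainComplex.IsKInjective ((S.mapHomologicalComplex (ComplexShape.up ℤ)).obj I))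
    (hR : ∀ I : CochainComplex A ℤ, I.IsKInjective → CochainComplex.IsKInjective ((R.mapHomologicalComplex (ComplexShape.up ℤ)).obj I))
    [(S.mapHomotopyCategory (ComplexShape.up ℤ) ⋙ DerivedCategory.Qh).HasRightDerivedFunctor (HomotopyCategory.quasiIso A (ComplexShape.up ℤ))]
    [(P.mapHomotopyCategory (ComplexShape.up ℤ) ⋙ DerivedCategory.Qh).HasRightDerivedFunctor (HomotopyCategory.quasiIso B (ComplexShape.up ℤ))]
    [(R.mapHomotopyCategory (ComplexShape.up ℤ) ⋙ DerivedCategory.Qh).HasRightDerivedFunctor (HomotopyCategory.quasiIso A (ComplexShape.up ℤ))]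
    [(T.mapHomotopyCategory (ComplexShape.up ℤ) ⋙ DerivedCategory.Qh).HasRightDerivedFunctor (HomotopyCategory.quasiIso A' (ComplexShape.up ℤ))] :
    Nonempty ((S.mapHomotopyCategory (ComplexShape.up ℤ) ⋙ DerivedCategory.Qh).totalRightDerived DerivedCategory.Qh (HomotopyCategory.quasiIso A (ComplexShape.up ℤ)) ⋙
        (P.mapHomotopyCategory (ComplexShape.up ℤ) ⋙ DerivedCategory.Qh).totalRightDerived DerivedCategory.Qh (HomotopyCategory.quasiIso B (ComplexShape.up ℤ)) ≅
      (R.mapHomotopyCategory (ComplexShape.up ℤ) ⋙ DerivedCategory.Qh).totalRightDerived DerivedCategory.Qh (HomotopyCategory.quasiIso A (ComplexShape.up ℤ)) ⋙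
        (T.mapHomotopyCategory (ComplexShape.up ℤ) ⋙ DerivedCategory.Qh).totalRightDerived DerivedCategory.Qh (HomotopyCategory.quasiIso A' (ComplexShape.up ℤ))) := by
  let c := ComplexShape.up ℤ
  haveI := TriCat.qh_isLeftAdjoint_of_exists_resolution hA
  haveI := TriCat.qh_isLeftAdjoint_of_exists_resolution hB
  haveI := TriCat.qh_isLeftAdjoint_of_exists_resolution hA'
  let adjA := Adjunction.ofIsLeftAdjoint (DerivedCategory.Qh (C := A))
  let adjB := Adjunction.ofIsLeftAdjoint (DerivedCategory.Qh (C := B))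
  let adjA' := Adjunction.ofIsLeftAdjoint (DerivedCategory.Qh (C := A'))
  let ρA := (DerivedCategory.Qh (C := A)).rightAdjoint
  let ρB := (DerivedCategory.Qh (C := B)).rightAdjoint
  let ρA' := (DerivedCategory.Qh (C := A')).rightAdjoint
  let WA := HomotopyCategory.quasiIso A c
  let WB := HomotopyCategory.quasiIso B c
  let WA' := HomotopyCategory.quasiIso A' c
  let FS := S.mapHomotopyCategory c ⋙ DerivedCategory.Qh
  let FP := P.mapHomotopyCategory c ⋙ DerivedCategory.Qh
  let FR := R.mapHomotopyCategory c ⋙ DerivedCategory.Qh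
  let FT := T.mapHomotopyCategory c ⋙ DerivedCategory.Qh
  haveI := TriCat.isRightDerivedFunctor_of_adjunction adjA WA FS
  haveI := TriCat.isRightDerivedFunctor_of_adjunction adjA WA FR
  haveI := TriCat.isRightDerivedFunctor_of_adjunction adjB WB FP
  haveI := TriCat.isRightDerivedFunctor_of_adjunction adjA' WA' FT
  let eS : ρA ⋙ FS ≅ FS.totalRightDerived DerivedCategory.Qh WA :=
    Functor.rightDerivedUnique _ _ (Functor.whiskerRight adjA.unit FS) (FS.totalRightDerivedUnit DerivedCategory.Qh WA) WA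
  let eR : ρA ⋙ FR ≅ FR.totalRightDerived DerivedCategory.Qh WA :=
    Functor.rightDerivedUnique _ _ (Functor.whiskerRight adjA.unit FR) (FR.totalRightDerivedUnit DerivedCategory.Qh WA) WA
  let eP : ρB ⋙ FP ≅ FP.totalRightDerived DerivedCategory.Qh WB :=
    Functor.rightDerivedUnique _ _ (Functor.whiskerRight adjB.unit FP) (FP.totalRightDerivedUnit DerivedCategory.Qh WB) WB
  let eT : ρA' ⋙ FT ≅ FT.totalRightDerived DerivedCategory.Qh WA' :=
    Functor.rightDerivedUnique _ _ (Functor.whiskerRight adjA'.unit FT) (FT.totalRightDerivedUnit DerivedCategory.Qh WA') WA'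
  have loc : ∀ M, ∃ (I : CochainComplex A ℤ), I.IsKInjective ∧
      Nonempty ((HomotopyCategory.quotient A c).obj I ≅ ρA.obj M) := by
    intro M
    obtain ⟨I, s, hI, hs⟩ := hA (DerivedCategory.Q.objPreimage M)
    haveI := hs
    haveI := hI
    haveI := isIso_unit_of_isKInjective adjA I
    exact ⟨I, hI, ⟨asIso (adjA.unit.app ((HomotopyCategory.quotient A c).obj I)) ≪≫ ρA.mapIso
      ((DerivedCategory.quotientCompQhIso A).app I ≪≫ (asIso (DerivedCategory.Q.map s)).symm ≪≫
        DerivedCategory.Q.objObjPreimageIso M)⟩⟩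
  haveI : ∀ M, IsIso (adjB.unit.app ((S.mapHomotopyCategory c).obj (ρA.obj M))) := fun M => by
    obtain ⟨I, hI, ⟨i⟩⟩ := loc M
    haveI := hS I hI
    exact (NatTrans.isIso_app_iff_of_iso adjB.unit ((S.mapHomotopyCategory c).mapIso i)).1
      (isIso_unit_of_isKInjective adjB ((S.mapHomologicalComplex c).obj I))
  haveI : ∀ M, IsIso (adjA'.unit.app ((R.mapHomotopyCategory c).obj (ρA.obj M))) := fun M => by
    obtain ⟨I, hI, ⟨i⟩⟩ := loc M
    haveI := hR I hI
    exact (NatTrans.isIso_app_iff_of_iso adjA'.unit ((R.mapHomotopyCategory c).mapIso i)).1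
      (isIso_unit_of_isKInjective adjA' ((R.mapHomologicalComplex c).obj I))
  let uS := Functor.whiskerLeft (ρA ⋙ S.mapHomotopyCategory c) adjB.unit
  let uR := Functor.whiskerLeft (ρA ⋙ R.mapHomotopyCategory c) adjA'.unit
  haveI : ∀ M, IsIso (uS.app M) := fun M => inferInstanceAs (IsIso (adjB.unit.app ((S.mapHomotopyCategory c).obj (ρA.obj M))))
  haveI : ∀ M, IsIso (uR.app M) := fun M => inferInstanceAs (IsIso (adjA'.unit.app ((R.mapHomotopyCategory c).obj (ρA.obj M))))
  haveI := NatIso.isIso_of_isIso_app uS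
  haveI := NatIso.isIso_of_isIso_app uR
  let eh : S.mapHomotopyCategory c ⋙ P.mapHomotopyCategory c ≅ R.mapHomotopyCategory c ⋙ T.mapHomotopyCategory c :=
    Functor.mapHomotopyCategoryCompIso e c ≪≫ (Functor.mapHomotopyCategoryCompIso (Iso.refl (R ⋙ T)) c).symm
  let e₁ : FS.totalRightDerived DerivedCategory.Qh WA ⋙ FP.totalRightDerived DerivedCategory.Qh WB ≅
      ρA ⋙ (S.mapHomotopyCategory c ⋙ P.mapHomotopyCategory c) ⋙ DerivedCategory.Qh :=
    Functor.isoWhiskerRight eS.symm _ ≪≫ Functor.isoWhiskerLeft _ eP.symm ≪≫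
      Functor.isoWhiskerRight (asIso uS).symm FP
  let e₂ : FR.totalRightDerived DerivedCategory.Qh WA ⋙ FT.totalRightDerived DerivedCategory.Qh WA' ≅
      ρA ⋙ (R.mapHomotopyCategory c ⋙ T.mapHomotopyCategory c) ⋙ DerivedCategory.Qh :=
    Functor.isoWhiskerRight eR.symm _ ≪≫ Functor.isoWhiskerLeft _ eT.symm ≪≫
      Functor.isoWhiskerRight (asIso uR).symm FT
  exact ⟨e₁ ≪≫ Functor.isoWhiskerLeft ρA (Functor.isoWhiskerRight eh _) ≪≫ e₂.symm⟩

end Groth.Agent.KExact.DerivedComp
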