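import Groth.Agent.KFlatLib.Scheme.Generator
import Groth.Agent.KFlatLib.Scheme.RHomExists
import Groth.Agent.KFlatLib.Scheme.DualPerfect
import Groth.Agent.KFlatLib.Scheme.FlatBCDerived
import Groth.Agent.KExact.External

/-!
# Isomorphisms are detected by `Rf_* RHom(E, -)` for perfect `E`
-/

set_option autoImplicit false
set_option linter.style.haveILetI false
set_option backward.isDefEq.respectTransparency false
set_option backward.isDefEq.respectTransparency.types false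

universe u

open CategoryTheory CategoryTheory.Limits AlgebraicGeometry Pretriangulated

attribute [local instance] HasDerivedCategory.standard

namespace Groth.Agent.KExact

open KFlatLib

variable {X S : Scheme.{u}}

/-- A morphism inducing bijections on maps from all shifts of the perfect objects is invertible. -/
theorem isIso_of_bijective_perfect [CompactSpace X] [QuasiSeparatedSpace X] {F G : DCoh.D X}
    (hF : DCoh.IsQCohD F) (hG : DCoh.IsQCohD G) (φ : F ⟶ G)
    (h : ∀ P : DCoh.D X, LocSP P → Function.Bijective (fun a : P ⟶ F => a ≫ φ)) : IsIso φ := by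
  obtain ⟨C, g, δ, hT⟩ := distinguished_cocone_triangle φ
  obtain ⟨P, hP, hgen⟩ := Generator.exists_gen X
  have hC : DCoh.IsQCohD C := isQCohD_obj₃ hT hF hG
  suffices hz : IsZero C by
    exact (Triangle.isZero₃_iff_isIso₁ _ hT).1 hz
  refine hgen C hC fun n x => ?_
  let P₁ := P⟦n⟧
  have h1 : ∀ a : P₁ ⟶ F⟦(1 : ℤ)⟧, a ≫ φ⟦(1 : ℤ)⟧' = 0 → a = 0 := fun a ha => by
    let e : (P₁⟦(-1 : ℤ)⟧)⟦(1 : ℤ)⟧ ≅ P₁ := (shiftFunctorCompIsoId (DCoh.D X) (-1 : ℤ) 1 (by omega)).app P₁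
    obtain ⟨b, hb⟩ := (shiftFunctor (DCoh.D X) (1 : ℤ)).map_surjective (e.hom ≫ a)
    have hb0 : b ≫ φ = 0 := (shiftFunctor (DCoh.D X) (1 : ℤ)).map_injective (by
      rw [Functor.map_comp, hb, Category.assoc, ha, comp_zero, Functor.map_zero])
    have hb' : b = 0 := (h _ ((hP.shift n).shift (-1))).1 (by simpa using hb0)
    rw [hb', Functor.map_zero] at hb
    exact (cancel_epi e.hom).1 (by rw [← hb, comp_zero])
  have hx : x ≫ δ = 0 := h1 _ (by
    have : δ ≫ φ⟦(1 : ℤ)⟧' = 0 := comp_distTriang_mor_zero₃₁ _ hT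
    rw [Category.assoc, this, comp_zero])
  obtain ⟨y, hy⟩ := Triangle.coyoneda_exact₃ _ hT x hx
  obtain ⟨a, ha⟩ := (h _ (hP.shift n)).2 y
  have h2 : φ ≫ g = 0 := comp_distTriang_mor_zero₁₂ _ hT
  have ha' : a ≫ φ = y := ha
  show x = 0
  rw [hy, ← ha', Category.assoc]
  show a ≫ φ ≫ g = 0
  rw [h2, comp_zero]

/-- `Rf_* RHom(E, -)` detects maps out of `E`. -/
theorem bijective_of_isIso_rpush (f : X ⟶ S) [DCoh.HasRpush f] (E : CochainComplex X.Modules ℤ)
    [DCoh.HasLTensorCx E] [DCoh.HasRSheafHom E] {F G : DCoh.D X} (φ : F ⟶ G)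
    (h : IsIso ((DCoh.Rpush f).map ((DCoh.RSheafHom E).map φ))) :
    Function.Bijective (fun a : DCoh.toD X E ⟶ F => a ≫ φ) := by
  haveI := hasLpull f
  obtain ⟨A, -⟩ := FlatBC.exists_adj f
  obtain ⟨u⟩ := nonempty_tensorUnitIso E
  obtain ⟨v⟩ := nonempty_lpull_unitCx f
  have hK : DCoh.IsKFlat (DerSch.unitCx X) := isKFlat_single_of_isFlat (isFlat_structureModule (X := X))
  let w : (DCoh.LTensorCx E).obj ((DCoh.Lpull f).obj (DCoh.toD S (DerSch.unitCx S))) ≅ DCoh.toD X E :=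
    (DCoh.LTensorCx E).mapIso v.symm ≪≫ ltensorCxIso E hK ≪≫
      DerivedCategory.Q.mapIso ((symmIso (tensorBiFlipIso X) E).app (DerSch.unitCx X) ≪≫ u)
  let adj := DCoh.RSheafHomAdj E
  let Φ : ∀ T : DCoh.D X, (DCoh.toD X E ⟶ T) ≃
      (DCoh.toD S (DerSch.unitCx S) ⟶ (DCoh.Rpush f).obj ((DCoh.RSheafHom E).obj T)) := fun T =>
    (Iso.homFromEquiv w.symm).trans ((adj.homEquiv _ T).trans (A.homEquiv _ _))
  have key : ∀ a : DCoh.toD X E ⟶ F,
      Φ G (a ≫ φ) = Φ F a ≫ (DCoh.Rpush f).map ((DCoh.RSheafHom E).map φ) := fun a => by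
    simp only [Φ, Equiv.trans_apply, Iso.homFromEquiv_apply]
    rw [← A.homEquiv_naturality_right, ← adj.homEquiv_naturality_right, Category.assoc]
  let c := asIso ((DCoh.Rpush f).map ((DCoh.RSheafHom E).map φ))
  have hbij : Function.Bijective (fun a : DCoh.toD X E ⟶ F => Φ G (a ≫ φ)) := by
    simp only [key]
    exact ((Φ F).trans (Iso.homToEquiv c)).bijective
  exact (Function.Bijective.of_comp_iff' (Φ G).bijective _).1 hbij

/-- Invertibility is detected by perfect objects and `Rf_* RHom`. -/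
theorem isIso_of_rpush_RSheafHom [CompactSpace X] [QuasiSeparatedSpace X] (f : X ⟶ S) [DCoh.HasRpush f]
    {F G : DCoh.D X} (hF : DCoh.IsQCohD F) (hG : DCoh.IsQCohD G) (φ : F ⟶ G)
    (h : ∀ (E : CochainComplex X.Modules ℤ) [DCoh.HasLTensorCx E] [DCoh.HasRSheafHom E],
      DCoh.IsPerfect (DCoh.toD X E) → IsIso ((DCoh.Rpush f).map ((DCoh.RSheafHom E).map φ))) :
    IsIso φ := by
  refine isIso_of_bijective_perfect hF hG φ fun P hP => ?_
  obtain ⟨N, hN, ⟨e⟩⟩ := exists_kFlat_rep P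
  haveI := hasLTensorCx N
  haveI := hasRSheafHom_of_isKFlat N hN
  have hb := bijective_of_isIso_rpush f N φ (h N ((KFlatLib.isPerfect_iff _).2 (hP.of_iso e.symm)))
  refine ⟨fun a a' haa => (cancel_epi e.hom).1 (hb.1 ?_), fun y => ?_⟩
  · simp only [Category.assoc]
    exact congrArg (_ ≫ ·) haa
  · obtain ⟨a, ha⟩ := hb.2 (e.hom ≫ y)
    refine ⟨e.inv ≫ a, ?_⟩
    simp only [Category.assoc] at ha ⊢
    rw [ha, e.inv_hom_id_assoc]

end Groth.Agent.KExact
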