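import Groth.Agent.KFlatLib.Scheme.RHomBounded
import Groth.Agent.KFlatLib.Perfect.Amplitude
import Groth.Agent.RelPC17.Compact

/-!
# Duals of perfect complexes of amplitude `[0, b]` live in degrees `≤ 0`
-/

set_option autoImplicit false
set_option linter.style.haveILetI false
set_option backward.isDefEq.respectTransparency false

universe u

open CategoryTheory CategoryTheory.Limits CategoryTheory.Pretriangulated AlgebraicGeometry

attribute [local instance] HasDerivedCategory.standard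

namespace Groth.Agent.KExact.DualAmp

open KFlatLib

variable {X : Scheme.{u}}

section Devissage

variable (Φ : ObjectProperty (DCoh.D X)) [Φ.IsClosedUnderIsomorphisms]
  (hzero : ∀ C, IsZero C → Φ C)
  (h₂ : ∀ T ∈ distTriang (DCoh.D X), Φ T.obj₁ → Φ T.obj₃ → Φ T.obj₂)
  (I : CochainComplex X.Modules ℤ) [∀ n, Injective (I.X n)]

include hzero h₂ in
lemma iHomProp_single_free_at (j : ℤ) (hI : Φ (DerivedCategory.Q.obj (I⟦j⟧))) :
    ∀ n : ℕ, IHomProp Φ I ((HomologicalComplex.single X.Modules (ComplexShape.up ℤ) j).obj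
      (FlatMod.freeMod X n))
  | 0 => iHomProp_of_isZero Φ hzero I (Functor.map_isZero _ isZero_freeMod_zero)
  | 1 => by
    refine iHomProp_of_iso Φ I
      ((HomologicalComplex.single X.Modules (ComplexShape.up ℤ) j).mapIso
        (coproductUniqueIso (fun _ : Fin 1 => Coh.structureModule X)).symm) ?_
    obtain ⟨e⟩ := nonempty_iHomUnitIso (X := X) j
    exact Φ.prop_of_iso (DerivedCategory.Q.mapIso (e.app I).symm) hI
  | (n + 2) => by
    let F := HomologicalComplex.single X.Modules (ComplexShape.up ℤ) j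
    haveI := preservesBinaryBiproducts_of_preservesBinaryCoproducts F
    let A := FlatMod.freeMod X (n + 1)
    let B := FlatMod.freeMod X 1
    refine iHomProp_of_iso Φ I (F.mapIso (biprodFreeIso (n + 1) 1)) ?_
    let S : ShortComplex X.Modules :=
      ShortComplex.mk (biprod.inl : A ⟶ A ⊞ B) biprod.snd biprod.inl_snd
    let σ : S.Splitting := ShortComplex.Splitting.ofHasBinaryBiproduct A B
    exact iHomProp_X₂ Φ h₂ I (S.map F)
      (fun k => ⟨(σ.map F).map (HomologicalComplex.eval _ _ k)⟩)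
      (iHomProp_single_free_at j hI (n + 1)) (iHomProp_single_free_at j hI 1)

include hzero h₂ in
/-- `Φ` holds of `iHom(P, I)` for bounded complexes of free modules `P`, if it does of the shifts of `I` by `n ≥ a`. -/
theorem iHom_devissage_ge (a : ℤ) (hI : ∀ n : ℤ, a ≤ n → Φ (DerivedCategory.Q.obj (I⟦n⟧))) :
    ∀ (m : ℕ) (P : CochainComplex X.Modules ℤ), (∀ i : ℤ, (i < a ∨ a + m ≤ i) → IsZero (P.X i)) →
      (∀ i, ∃ n, Nonempty (P.X i ≅ FlatMod.freeMod X n)) → IHomProp Φ I P
  | 0, P, hz, _ => iHomProp_of_isZero Φ hzero I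
      ((IsZero.iff_id_eq_zero _).2 (HomologicalComplex.hom_ext _ _ fun i =>
        (hz i (by omega)).eq_of_src _ _))
  | m + 1, P, hz, hf => by
    have hle := isStrictlyLE_sigmaSES_X₃ P (a + m)
    rw [CochainComplex.isStrictlyLE_iff] at hle
    have hse := fun n => (sigmaSES_shortExact P (a + m)).map_of_exact
      (HomologicalComplex.eval X.Modules (ComplexShape.up ℤ) n)
    have hX₁ : ∀ i, i < a + m → IsZero ((sigmaSES P (a + m)).X₁.X i) := fun i hi =>
      isZero_stupidTrunc_of_lt P (a + m) i hi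
    have hsplit : ∀ n, Nonempty ((sigmaSES P (a + m)).map (HomologicalComplex.eval _ _ n)).Splitting := by
      intro n
      by_cases h : n < a + m
      · exact ⟨splittingOfIsZero₁ (hX₁ n h) ((hse n).isIso_g_iff.2 (hX₁ n h))⟩
      · exact ⟨splittingOfIsZero₃ (hle n (by omega)) ((hse n).isIso_f_iff.2 (hle n (by omega)))⟩
    refine iHomProp_X₂ Φ h₂ I (sigmaSES P (a + m)) hsplit ?_ ?_
    · have hX₁' : ∀ i, i ≠ a + m → IsZero ((sigmaSES P (a + m)).X₁.X i) := fun i hi => by
        by_cases h : i < a + m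
        · exact hX₁ i h
        · haveI := (hse i).mono_f
          exact IsZero.of_mono ((sigmaSES P (a + m)).map (HomologicalComplex.eval _ _ i)).f
            (hz i (by omega))
      obtain ⟨n, ⟨e⟩⟩ := hf (a + m)
      haveI : IsIso ((sigmaSES P (a + m)).f.f (a + m)) :=
        (hse (a + m)).isIso_f_iff.2 (hle (a + m) (by omega))
      refine iHomProp_of_iso Φ I ?_ (iHomProp_single_free_at Φ hzero h₂ I (a + m) (hI _ (by omega)) n)
      refine (HomologicalComplex.single X.Modules (ComplexShape.up ℤ) (a + m)).mapIso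
        (e.symm ≪≫ (asIso ((sigmaSES P (a + m)).f.f (a + m))).symm) ≪≫ ?_
      exact HomologicalComplex.Hom.isoOfComponents
        (fun i => if h : i = a + m then
            HomologicalComplex.singleObjXIsoOfEq (ComplexShape.up ℤ) (a + m) _ i h ≪≫
              ((sigmaSES P (a + m)).X₁.XIsoOfEq h).symm
          else (HomologicalComplex.isZero_single_obj_X _ _ _ _ h).iso (hX₁' i h))
        (fun i k hik => by
          by_cases h : i = a + m
          · exact (hX₁' k (by change i + 1 = k at hik; omega)).eq_of_tgt _ _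
          · exact (HomologicalComplex.isZero_single_obj_X _ _ _ _ h).eq_of_src _ _)
    · refine iHom_devissage_ge a hI m _ (fun i hi => ?_) (fun i => ?_)
      · rcases hi with hi | hi
        · haveI := (hse i).epi_g
          exact IsZero.of_epi ((sigmaSES P (a + m)).map (HomologicalComplex.eval _ _ i)).g (hz i (Or.inl hi))
        · exact hle i (by omega)
      · by_cases h : i < a + m
        · obtain ⟨e⟩ := nonempty_sigmaSES_X₃_iso P (a + m) i h
          obtain ⟨n, ⟨e'⟩⟩ := hf i
          exact ⟨n, ⟨e.symm ≪≫ e'⟩⟩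
        · exact ⟨0, ⟨(hle i (by omega)).iso isZero_freeMod_zero⟩⟩

end Devissage

/-- No cohomology in positive degrees. -/
def Nonpos (X : Scheme.{u}) : ObjectProperty (DCoh.D X) := fun C => ∀ i : ℤ, 0 < i → IsZero (DCoh.HD C i)

instance : (Nonpos X).IsClosedUnderIsomorphisms :=
  ⟨fun e h i hi => (h i hi).of_iso ((DerivedCategory.homologyFunctor X.Modules i).mapIso e.symm)⟩

/-- The dual of a perfect complex of amplitude `[0, b]` has no cohomology in positive degrees. -/
theorem isZero_HD_RSheafHom (K : CochainComplex X.Modules ℤ) [DCoh.HasLTensorCx K] [DCoh.HasRSheafHom K]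
    (b : ℤ) (hK : ∀ x : X, ∃ (U : Scheme.{u}) (j : U ⟶ X) (_ : IsOpenImmersion j), x ∈ Set.range j.base ∧
      ∃ P : CochainComplex U.Modules ℤ, DCoh.VanishesOutside P 0 b ∧
        (∀ i, FlatMod.IsFinLocFree (P.X i)) ∧
        Nonempty (DerivedCategory.Q.obj P ≅ (rho j).obj (DCoh.toD X K)))
    (L : DCoh.D X) [L.IsGE 0] [L.IsLE 0] (i : ℤ) (hi : 0 < i) :
    IsZero (DCoh.HD ((DCoh.RSheafHom K).obj L) i) := by
  obtain ⟨L₀, _, ⟨eL₀⟩⟩ := DerivedCategory.exists_iso_Q_obj_of_isGE L 0
  obtain ⟨I, f, hf, hinj, hge⟩ := CochainComplex.Plus.modelCategoryQuillen.exists_quasiIso_injective L₀ 0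
  haveI : I.IsKInjective := CochainComplex.isKInjective_of_injective I 0
  haveI := isIso_Q_map f hf
  let eL : L ≅ DerivedCategory.Q.obj I := eL₀ ≪≫ asIso (DerivedCategory.Q.map f)
  obtain ⟨e⟩ := nonempty_RSheafHom_iso K I
  refine RelPC17.isZero_of_cover fun x => ?_
  obtain ⟨U, j₀, _, ⟨u, hu⟩, P, hv, hfree, ⟨eP⟩⟩ := hK x
  obtain ⟨W, huW, hW⟩ := exists_free_nhd_sp (E := P) ⟨⟨0, b, hv⟩, hfree⟩ u
  let j := W.ι ≫ j₀
  refine ⟨W, j, inferInstance, ⟨⟨u, huW⟩, hu⟩, IsZero.of_iso ?_ (restrictHDIso j _ i).symm⟩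
  let J := (rCx j).obj I
  let P' := (rCx W.ι).obj P
  haveI : J.IsKInjective := isKInjective_rCx j I
  haveI : ∀ n, Injective (J.X n) := injective_rCx j I
  let eP' : DerivedCategory.Q.obj ((rCx j).obj K) ≅ DerivedCategory.Q.obj P' :=
    ((rhoQ j).app K).symm ≪≫ (rhoComp W.ι j₀ j rfl _).symm ≪≫ (rho W.ι).mapIso eP.symm ≪≫ (rhoQ W.ι).app P
  obtain ⟨e₁⟩ := nonempty_rho_iHom j K I
  obtain ⟨e₂⟩ := nonempty_iHom_iso_of_iso eP' J
  suffices Nonpos (W : Scheme.{u}) (DerivedCategory.Q.obj ((iHom P').obj J)) from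
    (this i hi).of_iso ((DerivedCategory.homologyFunctor _ i).mapIso
      ((rho j).mapIso ((DCoh.RSheafHom K).mapIso eL ≪≫ e) ≪≫ e₁ ≪≫ e₂))
  refine iHom_devissage_ge (Nonpos _) (fun C hC k _ => Functor.map_isZero _ hC)
    (fun T hT h₁ h₃ k hk => ((DerivedCategory.homologyFunctor _ k).map_distinguished_exact T hT).isZero_X₂_iff.2
      ⟨(h₁ k hk).eq_of_src _ _, (h₃ k hk).eq_of_tgt _ _⟩) J 0 (fun n hn k hk => ?_) (b + 1).toNat P'
    (fun k hk => Functor.map_isZero (Scheme.Modules.restrictFunctor W.ι) (hv k (by omega)))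
    (fun k => hW k)
  let M := (rho j).obj L
  haveI : M.IsLE 0 := (DerivedCategory.isLE_iff _ _).2 fun m hm =>
    ((Scheme.Modules.restrictFunctor j).map_isZero (DerivedCategory.isZero_of_isLE L 0 m hm)).of_iso
      (hdRhoIso j L m)
  haveI : DerivedCategory.TStructure.t.IsLE (M⟦n⟧) (-n) :=
    DerivedCategory.TStructure.t.isLE_shift M 0 n (-n) (by omega)
  exact (DerivedCategory.isZero_of_isLE (M⟦n⟧) (-n) k (by omega)).of_iso
    ((DerivedCategory.homologyFunctor _ k).mapIso (((DerivedCategory.Q.commShiftIso n).app J) ≪≫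
      (shiftFunctor (DCoh.D (W : Scheme.{u})) n).mapIso (((rhoQ j).app I).symm ≪≫ (rho j).mapIso eL.symm)))

end Groth.Agent.KExact.DualAmp
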