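import Groth.Agent.KExact.DualNormalized
import Groth.Agent.LC.DepthLoc
import Groth.Agent.LC.ExtDim
import Groth.Agent.S0365
import Groth.Agent.S0366
import Groth.Agent.S0369
import Groth.Agent.S1719
import Groth.Agent.KFlatLib.Ring.DualizingLocalExt

/-!
# Normalized dualizing objects: amplitude, supports, depth
-/

set_option autoImplicit false
set_option linter.style.haveILetI false
set_option linter.unusedSectionVars false
set_option linter.unusedVariables false
set_option backward.isDefEq.respectTransparency false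
set_option backward.isDefEq.respectTransparency.types false

universe u

open CategoryTheory CategoryTheory.Limits AlgebraicGeometry TopologicalSpace

attribute [local instance] HasDerivedCategory.standard

namespace Groth.Agent.KExact.DualNormalized

open KFlatLib

variable [∀ (U V : Scheme.{u}) (j : U ⟶ V) [IsOpenImmersion j], PreservesFiniteLimits (Scheme.Modules.restrictFunctor j)]
  [∀ (R : CommRingCat.{u}), PreservesFiniteLimits (tilde.functor R)]

variable {X : Scheme.{u}} {K : DCoh.D X}

/-- A chain of primes in a model gives a chain of irreducible closed subsets. -/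
theorem Model.length_le {x : X} (M : Model K x) (S : Set X) (l : LTSeries (PrimeSpectrum M.R))
    (hl : ∀ j, M.ι (l j) ∈ S) : (l.length : WithBot ℕ∞) ≤ topologicalKrullDim S := by
  let cl : Fin (l.length + 1) → IrreducibleCloseds S := fun j =>
    ⟨closure {(⟨M.ι (l j.rev), hl _⟩ : S)}, isIrreducible_singleton.closure, isClosed_closure⟩
  have hlt : ∀ j : Fin l.length, cl j.castSucc < cl j.succ := fun j => by
    have h : l j.succ.rev < l j.castSucc.rev := l.strictMono (Fin.rev_lt_rev.2 (Fin.castSucc_lt_succ))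
    have hs : (⟨M.ι (l j.succ.rev), hl _⟩ : S) ⤳ ⟨M.ι (l j.castSucc.rev), hl _⟩ :=
      (subtype_specializes_iff _ _).2 (((PrimeSpectrum.le_iff_specializes _ _).1 h.le).map M.emb.continuous)
    refine lt_of_le_of_ne (show (cl j.castSucc : Set S) ⊆ cl j.succ from ?_) fun e => h.ne ?_
    · exact specializes_iff_closure_subset.1 hs
    · have h2 : (⟨M.ι (l j.castSucc.rev), hl _⟩ : S) ⤳ ⟨M.ι (l j.succ.rev), hl _⟩ :=
        specializes_iff_closure_subset.2 (show (cl j.succ : Set S) ⊆ cl j.castSucc from e ▸ le_rfl)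
      exact M.emb.injective (((subtype_specializes_iff _ _).1 hs).antisymm ((subtype_specializes_iff _ _).1 h2)).eq
  exact Order.LTSeries.length_le_krullDim ⟨l.length, cl, hlt⟩

/-- The dimension of the local ring of a model is at most that of the scheme. -/
theorem Model.ringKrullDim_le {x : X} (M : Model K x) : ringKrullDim M.R ≤ topologicalKrullDim X :=
  iSup_le fun l => (M.length_le Set.univ l fun _ => trivial).trans (topologicalKrullDim_subspace_le X _)

/-- A bounded nonnegative dimension is a natural number. -/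
theorem exists_nat_eq {r : WithBot ℕ∞} {n : ℕ} (h0 : 0 ≤ r) (h : r ≤ n) : ∃ d : ℕ, r = d ∧ d ≤ n := by
  induction r using WithBot.recBotCoe with
  | bot => simp at h0
  | coe a =>
    induction a using ENat.recTopCoe with
    | top => exact absurd (WithBot.coe_le_coe.1 h) (by simp)
    | coe d => exact ⟨d, rfl, by exact_mod_cast (WithBot.coe_le_coe.1 h)⟩

/-- The dimension of a finite dimensional model. -/
theorem Model.exists_dim {x : X} (M : Model K x) {n : ℕ} (hdim : topologicalKrullDim X = n) :
    ∃ d : ℕ, ringKrullDim M.R = d ∧ d ≤ n := by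
  exact exists_nat_eq ringKrullDim_nonneg_of_nontrivial (M.ringKrullDim_le.trans_eq hdim)

variable [CompactSpace X]

/-- Every point specializes to a closed point. -/
theorem exists_closed (y : X) : ∃ x : X, IsClosed ({x} : Set X) ∧ y ⤳ x := by
  obtain ⟨x, hx, hxc⟩ := isClosed_closure.exists_closed_singleton
    (⟨y, subset_closure rfl⟩ : (closure ({y} : Set X)).Nonempty)
  exact ⟨x, hxc, specializes_iff_mem_closure.2 hx⟩

/-- Dimensions of closed sets through chains of primes at closed points. -/
theorem topologicalKrullDim_le (hM : ∀ x : X, IsClosed ({x} : Set X) → ∃ M : Model K x, M.n = 0)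
    {S : Set X} (hS : IsClosed S) (b : WithBot ℕ∞)
    (h : ∀ x ∈ S, IsClosed ({x} : Set X) → ∀ M : Model K x, M.n = 0 →
      ∀ l : LTSeries (PrimeSpectrum M.R), (∀ j, M.ι (l j) ∈ S) → (l.length : WithBot ℕ∞) ≤ b) :
    topologicalKrullDim S ≤ b := by
  haveI : QuasiSober S := hS.isClosedEmbedding_subtypeVal.quasiSober
  refine iSup_le fun p => ?_
  let η : Fin (p.length + 1) → S := fun j => (p j).isIrreducible'.genericPoint
  have hη : ∀ j, closure {η j} = (p j : Set S) := fun j =>
    (p j).isIrreducible'.isGenericPoint_genericPoint_closure.trans (p j).isClosed'.closure_eq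
  obtain ⟨x, hxc, hx⟩ := exists_closed (η 0 : X)
  have hxS : x ∈ S := hx.mem_closed hS (η 0).2
  obtain ⟨M, hMn⟩ := hM x hxc
  have hmono : ∀ {i j}, i ≤ j → (η j : X) ⤳ η i := fun {i j} hij => (subtype_specializes_iff _ _).1
    (specializes_iff_closure_subset.2 (by rw [hη, hη]; exact p.monotone hij))
  choose q hq using fun j => (M.mem_range (η j : X)).2 ((hmono (Fin.zero_le j)).trans hx)
  have hstep : ∀ i j, i < j → q j < q i := fun i j hij => by
    refine lt_of_le_of_ne ((PrimeSpectrum.le_iff_specializes _ _).2 ?_) fun e => ?_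
    · rw [← M.emb.isInducing.specializes_iff, hq, hq]
      exact hmono hij.le
    · have h2 : η j = η i := Subtype.ext (by rw [← hq, ← hq, e])
      exact (p.strictMono hij).ne (IrreducibleCloseds.ext (by rw [← hη i, ← hη j, h2]))
  exact h x hxS hxc M hMn ⟨p.length, fun j => q j.rev, fun j =>
    hstep _ _ (Fin.rev_lt_rev.2 Fin.castSucc_lt_succ)⟩ fun j => by rw [show M.ι (q j.rev) = η j.rev from hq _]; exact (η j.rev).2

/-- A point in the support of a cohomology sheaf, seen in a model. -/
theorem Model.exists_mem {x : X} (M : Model K x) (hMn : M.n = 0) (i : ℤ) {y : X} (hy : y ⤳ x)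
    (hne : Nontrivial ((DCoh.HD K i).presheaf.stalk y)) :
    ∃ q, M.ι q = y ∧ q ∈ Module.support M.R (Dual.HD M.R M.ω i) := by
  obtain ⟨q, rfl⟩ := (M.mem_range y).2 hy
  refine ⟨q, rfl, (M.support i q).2 ?_⟩
  rw [hMn, add_zero]
  exact hne

/-- A nonzero cohomology module of a model sits in degrees `[-dim, 0]`. -/
theorem Model.range {x : X} (M : Model K x) {d : ℕ} (hd : ringKrullDim M.R = d) (i : ℤ)
    (h : Nontrivial (Dual.HD M.R M.ω i)) : -(d : ℤ) ≤ i ∧ i ≤ 0 := by
  obtain ⟨e⟩ := exists_homRingLEquiv M.ω i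
  exact (S0366.result M.R M.ω M.dualizing M.normalized M.R d
    ((Module.supportDim_self_eq_ringKrullDim _).trans hd) i).1 e.toEquiv.nontrivial

/-- A dualizing object is concentrated in degrees `[-dim X, 0]`. -/
theorem isZero_hd (hM : ∀ x : X, IsClosed ({x} : Set X) → ∃ M : Model K x, M.n = 0) {n : ℕ}
    (hdim : topologicalKrullDim X = n) (i : ℤ) (hi : i < -(n : ℤ) ∨ 0 < i) : IsZero (DCoh.HD K i) := by
  refine isZero_of_stalk _ fun y => ?_
  have hz : Subsingleton ((DCoh.HD K i).presheaf.stalk y) := not_nontrivial_iff_subsingleton.1 fun hne => by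
    obtain ⟨x, hxc, hx⟩ := exists_closed y
    obtain ⟨M, hMn⟩ := hM x hxc
    obtain ⟨q, -, hq⟩ := M.exists_mem hMn i hx hne
    obtain ⟨d, hd, hdn⟩ := M.exists_dim hdim
    have hnt : Nontrivial (Dual.HD M.R M.ω i) :=
      not_subsingleton_iff_nontrivial.1 fun _ => by
        rw [Module.support_eq_empty] at hq
        exact hq
    have := M.range hd i hnt
    omega
  exact @ModuleCat.isZero_of_subsingleton _ _ (ModuleCat.of (X.presheaf.stalk y) ((DCoh.HD K i).presheaf.stalk y)) hz

variable [IsLocallyNoetherian X]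

/-- Supports of cohomology of a dualizing object are closed. -/
theorem isClosed_support (hK : Dual2.IsDualizingSch X K) (i : ℤ) :
    IsClosed {x : X | Nontrivial ((DCoh.HD K i).presheaf.stalk x)} := by
  rw [← isOpen_compl_iff, isOpen_iff_forall_mem_open]
  intro x hx
  obtain ⟨U, hU, hxU, -⟩ := exists_isAffineOpen_mem_and_subset (X := X) (x := x) (U := ⊤) trivial
  haveI : IsNoetherianRing Γ(X, U) := QCoh.noetherian_sections ⟨U, hU⟩
  obtain ⟨ω, hω, ⟨e⟩⟩ := hK Γ(X, U) hU.fromSpec
  haveI := hω.finite_cohomology i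
  have hcl : IsClosed (Module.support Γ(X, U) (Dual.HD Γ(X, U) ω i)) := by
    rw [Module.support_eq_zeroLocus]
    exact PrimeSpectrum.isClosed_zeroLocus _
  refine ⟨hU.fromSpec.base '' (Module.support Γ(X, U) (Dual.HD Γ(X, U) ω i))ᶜ, ?_,
    hU.fromSpec.isOpenEmbedding.isOpenMap _ hcl.isOpen_compl, hU.primeIdealOf ⟨x, hxU⟩, fun h => hx ?_,
    hU.fromSpec_primeIdealOf ⟨x, hxU⟩⟩
  · rintro _ ⟨p, hp, rfl⟩
    exact fun h => hp ((DualizingCM.nontrivial_stalk_iff hU.fromSpec e p i).1 h)
  · have := (DualizingCM.nontrivial_stalk_iff hU.fromSpec e (hU.primeIdealOf ⟨x, hxU⟩) i).2 h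
    rwa [hU.fromSpec_primeIdealOf ⟨x, hxU⟩] at this

/-- The support of the cohomology in degree `-m` has dimension at most `m`. -/
theorem dim_support_le (hK : Dual2.IsDualizingSch X K)
    (hM : ∀ x : X, IsClosed ({x} : Set X) → ∃ M : Model K x, M.n = 0) {n : ℕ}
    (hdim : topologicalKrullDim X = n) (i : ℤ) (m : ℕ) (hm : (m : ℤ) = -i) :
    topologicalKrullDim {x : X | Nontrivial ((DCoh.HD K i).presheaf.stalk x)} ≤ (m : WithBot ℕ∞) := by
  refine topologicalKrullDim_le hM (isClosed_support hK i) _ fun x _ _ M hMn l hl => ?_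
  obtain ⟨d, hd, -⟩ := M.exists_dim hdim
  obtain ⟨e⟩ := exists_homRingLEquiv M.ω i
  have h := (S0366.result M.R M.ω M.dualizing M.normalized M.R d
    ((Module.supportDim_self_eq_ringKrullDim _).trans hd) i).2
  rw [Module.supportDim_eq_of_equiv e, show (-i).toNat = m by omega] at h
  let s : LTSeries (Module.support M.R (Dual.HD M.R M.ω i)) :=
    { length := l.length
      toFun := fun j => ⟨l j, (M.support i (l j)).2 (by rw [hMn, add_zero]; exact hl j)⟩
      step := fun j => l.step j }
  exact (Order.LTSeries.length_le_krullDim s).trans h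

/-- The bottom cohomology is supported on the components of top dimension. -/
theorem support_bottom (hK : Dual2.IsDualizingSch X K)
    (hM : ∀ x : X, IsClosed ({x} : Set X) → ∃ M : Model K x, M.n = 0) {n : ℕ}
    (hdim : topologicalKrullDim X = n) :
    {x : X | Nontrivial ((DCoh.HD K (-(n : ℤ))).presheaf.stalk x)} =
      ⋃ Z ∈ {Z : Set X | Z ∈ irreducibleComponents X ∧ topologicalKrullDim ↥Z = (n : WithBot ℕ∞)}, Z := by
  ext y
  simp only [Set.mem_setOf_eq, Set.mem_iUnion]
  constructor
  · intro hy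
    obtain ⟨x, hxc, hx⟩ := exists_closed y
    obtain ⟨M, hMn⟩ := hM x hxc
    obtain ⟨Q, hQy, hQ⟩ := M.exists_mem hMn _ hx hy
    obtain ⟨d, hd, hdn⟩ := M.exists_dim hdim
    have hnt : Nontrivial (Dual.HD M.R M.ω (-(n : ℤ))) := not_subsingleton_iff_nontrivial.1 fun _ => by
      rw [Module.support_eq_empty] at hQ
      exact hQ
    obtain rfl : d = n := by
      have := M.range hd _ hnt
      omega
    obtain ⟨q, hq, hqQ, hqd⟩ := (S0369.result M.R M.ω M.dualizing M.normalized d hd).1.le hQ
    let q' : PrimeSpectrum M.R := ⟨q, hq.1.1⟩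
    have hηx : M.ι q' ⤳ x := (M.mem_range _).1 ⟨q', rfl⟩
    have hcomp : closure {M.ι q'} ∈ irreducibleComponents X := by
      refine ⟨isIrreducible_singleton.closure, fun T hT hle => ?_⟩
      obtain ⟨η, hη⟩ := QuasiSober.sober hT.closure isClosed_closure
      have h1 : η ⤳ M.ι q' := specializes_iff_mem_closure.2 (by
        rw [hη.def]
        exact subset_closure (hle (subset_closure rfl)))
      obtain ⟨p, rfl⟩ := (M.mem_range η).2 (h1.trans hηx)
      have hp : p = q' := le_antisymm ((PrimeSpectrum.le_iff_specializes _ _).2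
        (M.emb.isInducing.specializes_iff.1 h1)) (hq.2 ⟨p.isPrime, bot_le⟩
          ((PrimeSpectrum.le_iff_specializes _ _).2 (M.emb.isInducing.specializes_iff.1 h1)))
      subst hp
      exact subset_closure.trans hη.def.ge
    refine ⟨closure {M.ι q'}, ⟨hcomp, le_antisymm ((topologicalKrullDim_subspace_le X _).trans hdim.le) ?_⟩, ?_⟩
    · rw [← hqd, ringKrullDim_quotient]
      refine iSup_le fun l => ?_
      let s : LTSeries (PrimeSpectrum M.R) :=
        { length := l.length, toFun := fun j => (l j).1, step := fun j => l.step j }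
      exact M.length_le _ s fun j => specializes_iff_mem_closure.1
        (((PrimeSpectrum.le_iff_specializes q' _).1 (show q ≤ (l j).1.asIdeal from (l j).2)).map M.emb.continuous)
    · rw [← hQy]
      exact specializes_iff_mem_closure.1
        (((PrimeSpectrum.le_iff_specializes q' Q).1 hqQ).map M.emb.continuous)
  · rintro ⟨Z, ⟨hZ, hZd⟩, hyZ⟩
    obtain ⟨η, hη⟩ := QuasiSober.sober hZ.1 (isClosed_of_mem_irreducibleComponents Z hZ)
    refine (specializes_iff_mem_closure.2 (hη.def.symm ▸ hyZ) : η ⤳ y).mem_closed (isClosed_support hK _) ?_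
    by_contra hne
    have key : ∀ m : ℕ, topologicalKrullDim ↥Z ≤ (m : WithBot ℕ∞) → n ≤ m := fun m h => by
      rw [hZd] at h
      exact_mod_cast h
    have hlt : topologicalKrullDim ↥Z ≤ ((n - 1 : ℕ) : WithBot ℕ∞) := by
      refine topologicalKrullDim_le hM (isClosed_of_mem_irreducibleComponents Z hZ) _ fun x hxZ hxc M hMn l hl => ?_
      obtain ⟨Q, hQ⟩ := (M.mem_range η).2 (specializes_iff_mem_closure.2 (hη.def.symm ▸ hxZ))
      have hmin : Q.asIdeal ∈ minimalPrimes M.R := by
        refine ⟨⟨Q.isPrime, bot_le⟩, fun p hp hle => ?_⟩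
        let p' : PrimeSpectrum M.R := ⟨p, hp.1⟩
        have h1 : M.ι p' ⤳ η := hQ ▸ ((PrimeSpectrum.le_iff_specializes p' Q).1 hle).map M.emb.continuous
        have h2 : Z ⊆ closure {M.ι p'} := by
          rw [← hη.def]
          exact specializes_iff_closure_subset.1 h1
        have h3 : M.ι p' ∈ Z := hZ.2 isIrreducible_singleton.closure h2 (subset_closure rfl)
        have h4 : η ⤳ M.ι p' := specializes_iff_mem_closure.2 (hη.def.symm ▸ h3)
        have : p' = Q := M.emb.injective ((h1.antisymm h4).eq.trans hQ.symm)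
        exact (congrArg PrimeSpectrum.asIdeal this).ge
      obtain ⟨d, hd, hdn⟩ := M.exists_dim hdim
      have hle' : ringKrullDim (M.R ⧸ Q.asIdeal) ≤ d := hd ▸ ringKrullDim_quotient_le _
      haveI : Nontrivial (M.R ⧸ Q.asIdeal) := Ideal.Quotient.nontrivial_iff.2 Q.isPrime.ne_top
      obtain ⟨e, he⟩ : ∃ e : ℕ, ringKrullDim (M.R ⧸ Q.asIdeal) = e := by
        obtain ⟨e, he, -⟩ := exists_nat_eq ringKrullDim_nonneg_of_nontrivial hle'
        exact ⟨e, he⟩
      have hel : l.length ≤ e := by
        have hh : (l.length : WithBot ℕ∞) ≤ ringKrullDim (M.R ⧸ Q.asIdeal) := by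
          rw [ringKrullDim_quotient]
          let s : LTSeries (PrimeSpectrum.zeroLocus (Q.asIdeal : Set M.R)) :=
            { length := l.length
              toFun := fun j => ⟨l j, show Q.asIdeal ≤ (l j).asIdeal from
                (PrimeSpectrum.le_iff_specializes Q (l j)).2 (M.emb.isInducing.specializes_iff.1
                  (hQ ▸ specializes_iff_mem_closure.2 (hη.def.symm ▸ hl j)))⟩
              step := fun j => l.step j }
          exact Order.LTSeries.length_le_krullDim s
        rw [he] at hh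
        exact_mod_cast hh
      have hen : e ≠ n := fun h => hne (by
        have := (M.support (-(n : ℤ)) Q).1 (Module.mem_support_iff.2
          ((S1719.result M.R M.ω M.dualizing M.normalized Q.asIdeal hmin e he _).2 (by rw [h])))
        rw [hMn, add_zero, hQ] at this
        exact this)
      have : e ≤ d := by
        rw [he] at hle'
        exact_mod_cast hle'
      exact_mod_cast (show l.length ≤ n - 1 by omega)
    have hn0 : n = 0 := by
      have := key _ hlt
      omega
    obtain ⟨x, hxc, hx⟩ := exists_closed η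
    obtain ⟨M, hMn⟩ := hM x hxc
    obtain ⟨Q, hQ⟩ := (M.mem_range η).2 hx
    obtain ⟨d, hd, hdn⟩ := M.exists_dim hdim
    obtain rfl : d = 0 := by omega
    refine hne ?_
    have hs : Q ∈ Module.support M.R (Dual.HD M.R M.ω (-((0 : ℕ) : ℤ))) := by
      rw [(S0369.result M.R M.ω M.dualizing M.normalized 0 hd).1]
      obtain ⟨q, hq, hqQ⟩ := Ideal.exists_minimalPrimes_le (bot_le : (⊥ : Ideal M.R) ≤ Q.asIdeal)
      refine ⟨q, hq, hqQ, le_antisymm ((ringKrullDim_quotient_le q).trans hd.le) ?_⟩
      haveI : Nontrivial (M.R ⧸ q) := Ideal.Quotient.nontrivial_iff.2 hq.1.1.ne_top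
      exact ringKrullDim_nonneg_of_nontrivial
    subst hn0
    have := (M.support _ Q).1 hs
    rw [hMn, add_zero, hQ] at this
    exact this

/-- The top nonzero degree at a closed point is minus the depth. -/
theorem depth_iff (hK : Dual2.IsDualizingSch X K) {x : X} (M : Model K x) (hMn : M.n = 0) (i : ℤ) :
    (∃ j : ℤ, i ≤ j ∧ j ≤ 0 ∧ Nontrivial ((DCoh.HD K j).presheaf.stalk x)) ↔
      (LocCoh.depth (X.presheaf.stalk x) (X.presheaf.stalk x) : ℕ∞) ≤ ((-i).toNat : ℕ∞) ∧ i ≤ 0 := by
  haveI : IsNoetherianRing (X.presheaf.stalk x) := isNoetherianRing_of_ringEquiv M.R M.ring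
  have hiff : ∀ j : ℤ, Nontrivial ((DCoh.HD K j).presheaf.stalk x) ↔ Nontrivial (Dual.HD M.R M.ω j) := fun j => by
    obtain ⟨σ, -, e, -⟩ := M.semi j
    have h := e.toEquiv.nontrivial_congr
    rw [hMn, add_zero] at h
    exact h.symm
  have hdepth : LocCoh.depth M.R M.R = LocCoh.depth (X.presheaf.stalk x) (X.presheaf.stalk x) :=
    Alg6.depth_eq_of_semilinear M.ring.toRingHom M.ring.surjective M.ring.toAddEquiv fun r s => map_mul M.ring r s
  obtain ⟨δ, hδ⟩ := LC.exists_depth_eq_nat (R := M.R) M.R
  obtain ⟨hvan, htop⟩ := (S0365.result M.R M.ω M.dualizing M.normalized δ).1 hδ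
  simp only [hiff, ← hdepth, hδ, Nat.cast_le]
  constructor
  · rintro ⟨j, hij, hj0, hj⟩
    refine ⟨?_, by omega⟩
    by_contra h
    haveI := hvan (-j).toNat (by omega)
    rw [show j = -((-j).toNat : ℤ) by omega] at hj
    exact not_subsingleton _ this
  · rintro ⟨h, hi⟩
    exact ⟨-(δ : ℤ), by omega, by omega, htop⟩

end Groth.Agent.KExact.DualNormalized
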