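import Groth.Agent.KExact.GorensteinPull
import Groth.Agent.KRegLib.Pres

/-!
# Smooth morphisms are Gorenstein
-/

set_option autoImplicit false
set_option linter.style.haveILetI false
set_option backward.isDefEq.respectTransparency.types false

universe u

open CategoryTheory CategoryTheory.Limits AlgebraicGeometry

namespace Groth.Agent.KExact.SmoothGor

variable {X Y : Scheme.{u}}

theorem isLCIMor_of_smooth (f : X ⟶ Y) [Smooth f] : Dual3.IsLCIMor f := by
  intro x
  obtain ⟨V, hV, hxV, -⟩ :=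
    exists_isAffineOpen_mem_and_subset (X := Y) (x := f.base x) (U := ⊤) trivial
  obtain ⟨U, hU, hxU, hUV⟩ :=
    exists_isAffineOpen_mem_and_subset (X := X) (x := x) (U := f ⁻¹ᵁ V) hxV
  refine ⟨⟨U, hU⟩, ⟨V, hV⟩, hUV, hxU, ?_⟩
  letI : Algebra Γ(Y, V) Γ(X, U) := (f.appLE V U hUV).hom.toAlgebra
  haveI : Algebra.Smooth Γ(Y, V) Γ(X, U) := f.smooth_appLE hV hU hUV
  exact KRegLib.isLCI_of_smooth

theorem isGorensteinMor_of_smooth (f : X ⟶ Y) [Smooth f] [IsLocallyNoetherian Y] : Dual3.IsGorensteinMor f := by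
  haveI : IsLocallyNoetherian X := LocallyOfFiniteType.isLocallyNoetherian f
  exact (GorPull.gor_and_lft_of_lci (isLCIMor_of_smooth f)).1

end Groth.Agent.KExact.SmoothGor
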