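import Groth.Agent.KExact.CohShriek
import Groth.Agent.KExact.SmoothGor
import Groth.Agent.KFlatLib.Ring.DualizingShriek
import Groth.Agent.KFlatLib.Ring.DualizingFibre
import Groth.Agent.KFlatLib.Scheme.TildePush
import Groth.Agent.KFlatLib.Scheme.DualizingCharts
import Groth.Agent.S11144
import Groth.Agent.ExtCodim.Main

/-!
# `f^!` preserves dualizing complexes
-/

set_option autoImplicit false
set_option linter.style.haveILetI false
set_option linter.unusedSectionVars false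
set_option linter.unusedVariables false
set_option backward.isDefEq.respectTransparency false
set_option backward.isDefEq.respectTransparency.types false

universe u

open CategoryTheory CategoryTheory.Limits AlgebraicGeometry

attribute [local instance] HasDerivedCategory.standard

namespace Groth.Agent.KExact.DualShriek

open KFlatLib KFlatLib.BCLoc KFlatLib.SecPoint BCNat BCComp A1Shriek

variable [∀ (U V : Scheme.{u}) (j : U ⟶ V) [IsOpenImmersion j], PreservesFiniteLimits (Scheme.Modules.restrictFunctor j)]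
  [∀ (R : CommRingCat.{u}), PreservesFiniteLimits (tilde.functor R)]

variable {X Y Z : Scheme.{u}}

theorem dualizing_of_iso {K L : DCoh.D X} (e : K ≅ L) (h : Dual2.IsDualizingSch X K) :
    Dual2.IsDualizingSch X L := fun A _ j _ => by
  obtain ⟨ω, hω, ⟨e'⟩⟩ := h A j
  exact ⟨ω, hω, ⟨(DCoh.restrictD j).mapIso e.symm ≪≫ e'⟩⟩

theorem dualizing_shift [IsLocallyNoetherian X] {K : DCoh.D X} (h : Dual2.IsDualizingSch X K) (n : ℤ) :
    Dual2.IsDualizingSch X (K⟦n⟧) := fun A _ j _ => by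
  obtain ⟨ω, hω, ⟨e'⟩⟩ := h A j
  exact ⟨ω⟦n⟧, isDualizing_shift hω n,
    ⟨((DCoh.restrictD j).commShiftIso n).app K ≪≫ (shiftFunctor _ n).mapIso e' ≪≫
      (((DCoh.tildeD (CommRingCat.of A)).commShiftIso n).app ω).symm⟩⟩

/-- `~` into `D_QCoh`. -/
noncomputable def tildeL (A : CommRingCat.{u}) : DerivedCategory (ModuleCat.{u} A) ⥤ DCoh.DQCoh (Spec A) :=
  ObjectProperty.lift _ (DCoh.tildeD A) fun M => isQCohD_tildeD A M

instance (A : CommRingCat.{u}) : (tildeL A).IsEquivalence := by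
  haveI : (tildeL A).Faithful := ⟨fun {M N} f g h =>
    (tildeD_map_bijective M N).1 (congrArg (fun u : (tildeL A).obj M ⟶ (tildeL A).obj N => u.hom) h)⟩
  haveI : (tildeL A).Full := ⟨fun {M N} f => by
    obtain ⟨g, hg⟩ := (tildeD_map_bijective M N).2 f.hom
    exact ⟨g, ObjectProperty.hom_ext _ hg⟩⟩
  haveI : (tildeL A).EssSurj := ⟨fun K => by
    obtain ⟨M, ⟨e⟩⟩ := exists_tildeD_iso (R := A) K.property
    exact ⟨M, ⟨ObjectProperty.isoMk _ (show ((tildeL A).obj M).obj ≅ K.obj from e)⟩⟩⟩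
  exact Functor.IsEquivalence.mk

/-- The twisted inverse image of a closed immersion of affine schemes preserves dualizing complexes. -/
theorem isDualizingSch_specMap {A B : CommRingCat.{u}} [IsNoetherianRing A] [IsNoetherianRing B] (φ : A ⟶ B)
    (hφ : Function.Surjective φ) [DCoh.HasRpush (Spec.map φ)]
    {h : DCoh.RpushPreservesQCoh (Spec.map φ)} {a : DCoh.DQCoh (Spec A) ⥤ DCoh.DQCoh (Spec B)}
    (adj : DCoh.RpushQ (Spec.map φ) h ⊣ a) (K : DCoh.DQCoh (Spec A)) (hK : Dual2.IsDualizingSch (Spec A) K.obj) :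
    Dual2.IsDualizingSch (Spec B) (a.obj K).obj := by
  obtain ⟨ω, hω, ⟨e⟩⟩ := hK A (𝟙 _)
  obtain ⟨i1⟩ := nonempty_rQ_id (𝟙 (Spec A)) rfl
  let eK : (tildeL A).obj ω ≅ K :=
    (DCoh.IsQCohD (X := Spec A)).isoMk (e.symm ≪≫ (ObjectProperty.ι _).mapIso (i1.app K))
  obtain ⟨R, ⟨adjR⟩⟩ := exists_shriek φ.hom
  obtain ⟨t⟩ := nonempty_tildeD_rpush_iso φ
  let eA := (tildeL A).asEquivalence
  let eB := (tildeL B).asEquivalence
  let c : tildeL B ⋙ DCoh.RpushQ (Spec.map φ) h ≅ DRing.restrictD φ.hom ⋙ tildeL A :=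
    liftIso (F := tildeL B ⋙ DCoh.RpushQ (Spec.map φ) h) (G := DRing.restrictD φ.hom ⋙ tildeL A) t
  let adj₁ := (eB.toAdjunction.comp adj).ofNatIsoLeft c
  let adj₂ := adjR.comp eA.toAdjunction
  let u : a ⋙ eB.inverse ≅ eA.inverse ⋙ R := adj₁.rightAdjointUniq adj₂
  let eω : eB.inverse.obj (a.obj K) ≅ R.obj ω :=
    u.app K ≪≫ R.mapIso (eA.inverse.mapIso eK.symm ≪≫ (eA.unitIso.symm.app ω))
  let ea : (a.obj K).obj ≅ (DCoh.tildeD B).obj (R.obj ω) :=
    (ObjectProperty.ι _).mapIso ((eB.counitIso.symm.app (a.obj K)) ≪≫ (tildeL B).mapIso eω)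
  letI := φ.hom.toAlgebra
  haveI : Module.Finite A B := Module.Finite.of_surjective (Algebra.linearMap A B) hφ
  have hR : Dual.IsDualizing B (R.obj ω) := isDualizing_shriek R adjR hω
  intro C _ j _
  refine DualizingCharts.exists_isDualizing_of_charts _ (fun x => ?_) C j
  obtain ⟨i2⟩ := nonempty_rQ_id (𝟙 (Spec B)) rfl
  exact ⟨B, inferInstance, 𝟙 _, inferInstance, R.obj ω, ⟨x, rfl⟩, hR, inferInstance,
    ⟨(ObjectProperty.ι _).mapIso (i2.app (a.obj K)) ≪≫ ea⟩⟩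

/-- `f^!` preserves dualizing complexes. -/
def Goal (f : X ⟶ Y) : Prop :=
  ∀ (Xb : Scheme.{u}) (j : X ⟶ Xb) (φ : Xb ⟶ Y) (_ : IsOpenImmersion j) (_ : IsProper φ) (_ : j ≫ φ = f)
    [DCoh.HasRpush φ] (hφ : DCoh.RpushPreservesQCoh φ) (a : DCoh.DQCoh Y ⥤ DCoh.DQCoh Xb)
    (_ : DCoh.RpushQ φ hφ ⊣ a) (K : (Dual3.IsBddBelowQ Y).FullSubcategory),
    Dual2.IsDualizingSch Y K.obj.obj → Dual2.IsDualizingSch X ((rho j).obj (a.obj K.obj).obj)

theorem goal_etale (f : X ⟶ Y) [Etale f] [IsSeparated f] [QuasiCompact f] [IsNoetherian Y] : Goal f := by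
  intro Xb j φ hj hp hfac _ hφ a adj K hK
  haveI := hj
  haveI := hp
  haveI : IsNoetherian X := isNoetherian_of_ft f
  haveI := hasLpull f
  obtain ⟨E⟩ := nonempty_etale f j φ hfac adj
  exact dualizing_of_iso ((lpullPullIso f).app K.obj.obj ≪≫ ((ObjectProperty.ι _).mapIso (E.app K)).symm)
    (S11144.result X Y f (SmoothGor.isGorensteinMor_of_smooth f) K.obj hK)

theorem goal_a1 {n : Type u} [Unique n] [IsNoetherian Y] : Goal (𝔸(n; Y) ↘ Y) := by
  intro Xb j φ hj hp hfac _ hφ a adj K hK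
  haveI := hj
  haveI := hp
  haveI : Smooth (𝔸(n; Y) ↘ Y) := S12182.smooth_affineSpace n Y
  haveI : IsNoetherian 𝔸(n; Y) := isNoetherian_of_ft (𝔸(n; Y) ↘ Y)
  haveI := hasLpull (𝔸(n; Y) ↘ Y)
  obtain ⟨E⟩ := A1Shriek.nonempty_iso j φ hfac adj
  exact dualizing_of_iso (E.app K).symm
    (dualizing_shift (S11144.result 𝔸(n; Y) Y (𝔸(n; Y) ↘ Y) (SmoothGor.isGorensteinMor_of_smooth _) K.obj hK) 1)

theorem goal_spec {A B : CommRingCat.{u}} [IsNoetherianRing A] [IsNoetherianRing B] (φ : A ⟶ B)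
    (hφ : Function.Surjective φ) : Goal (Spec.map φ) := by
  intro Xb j ψ hj hp hfac _ hψ a adj K hK
  haveI := hj
  haveI := hp
  haveI : IsClosedImmersion (Spec.map φ) := IsClosedImmersion.spec_of_surjective _ hφ
  haveI := hasRpush_scheme (Spec.map φ)
  have hf : DCoh.RpushPreservesQCoh (Spec.map φ) := fun K hK => isQCohD_rpush _ hK
  obtain ⟨af, ⟨adjf⟩⟩ := exists_adj (Spec.map φ) hf
  obtain ⟨I⟩ := nonempty_indep j ψ (𝟙 _) (Spec.map φ) (by rw [hfac, Category.id_comp]) adj adjf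
  obtain ⟨i1⟩ := nonempty_rQ_id (𝟙 (Spec B)) rfl
  exact dualizing_of_iso ((ObjectProperty.ι _).mapIso (I.app K ≪≫ i1.app (af.obj K.obj))).symm
    (isDualizingSch_specMap φ hφ adjf K.obj hK)

/-- `p` may be appended at the base. -/
def GExt (p : Y ⟶ Z) : Prop :=
  ∀ (X : Scheme.{u}) (g : X ⟶ Y) (_ : LocallyOfFiniteType g), Goal g → Goal (g ≫ p)

theorem gExt_of_goal [IsNoetherian Y] [IsNoetherian Z] (p : Y ⟶ Z) {P : Scheme.{u}} (k : Y ⟶ P)
    [IsOpenImmersion k] (ψ : P ⟶ Z) [IsProper ψ] (hkψ : k ≫ ψ = p) (h : Goal p) : GExt p := by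
  intro X g hg hGg Xb l θ hl hθp hfac _ hθ c adjθ K hK
  haveI := hl
  haveI := hθp
  haveI := hg
  haveI : IsNoetherian Xb := isNoetherian_of_ft θ
  haveI : IsNoetherian X := isNoetherian_of_ft l
  haveI : IsNoetherian P := isNoetherian_of_ft ψ
  haveI : IsSeparated p := by rw [← hkψ]; infer_instance
  haveI : LocallyOfFiniteType p := by rw [← hkψ]; infer_instance
  haveI : QuasiCompact p := by rw [← hkψ]; infer_instance
  obtain ⟨Xb', j', φ', hj', -, hφ', hfac'⟩ := S1243.result p g l θ hfac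
  haveI := hasRpush_scheme φ'
  haveI := hasRpush_scheme ψ
  have hφ'q : DCoh.RpushPreservesQCoh φ' := fun K hK => isQCohD_rpush φ' hK
  have hψq : DCoh.RpushPreservesQCoh ψ := fun K hK => isQCohD_rpush ψ hK
  haveI : IsNoetherian Xb' := isNoetherian_of_ft φ'
  obtain ⟨a', ⟨adja⟩⟩ := exists_adj φ' hφ'q
  obtain ⟨b, ⟨adjb⟩⟩ := exists_adj ψ hψq
  obtain ⟨e⟩ := nonempty_comp j' φ' k ψ l θ
    (by rw [hkψ, ← Category.assoc, hfac', hfac]) adja adjb adjθ
  exact dualizing_of_iso ((ObjectProperty.ι _).mapIso (e.app K)).symm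
    (hGg Xb' j' φ' hj' hφ' hfac' hφ'q a' adja
      ⟨(rQ k).obj (b.obj K.obj), isBddBelowQ_rQ k _ (isBddBelowQ_a ψ adjb _ K.property)⟩
      (h P k ψ inferInstance inferInstance hkψ hψq b adjb K hK))

theorem gExt_iso (e : Y ⟶ Z) [IsIso e] [IsNoetherian Z] : GExt e := by
  haveI : IsNoetherian Y := isNoetherian_of_ft e
  exact gExt_of_goal e (𝟙 Y) e (Category.id_comp e) (goal_etale e)

theorem gExt_comp {W : Scheme.{u}} (q : W ⟶ Y) [LocallyOfFiniteType q] (p : Y ⟶ Z) (hq : GExt q) (hp : GExt p) :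
    GExt (q ≫ p) := fun X g hg hn => by
  haveI := hg
  rw [← Category.assoc]
  exact hp X (g ≫ q) inferInstance (hq X g hg hn)

theorem goal_of_gExt [IsNoetherian Y] {p : Y ⟶ Z} (h : GExt p) : Goal p := by
  have := h Y (𝟙 Y) inferInstance (goal_etale (𝟙 Y))
  rwa [Category.id_comp] at this

theorem gExt_poly {R : Type u} [CommRing R] [IsNoetherianRing R] :
    GExt (Spec.map (CommRingCat.ofHom (Polynomial.C : R →+* Polynomial R))) := by
  haveI : Smooth (𝔸(CohShriek.I1.{u}; Spec (CommRingCat.of R)) ↘ Spec (CommRingCat.of R)) :=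
    S12182.smooth_affineSpace _ _
  haveI : IsNoetherian 𝔸(CohShriek.I1.{u}; Spec (CommRingCat.of R)) :=
    isNoetherian_of_ft (𝔸(CohShriek.I1.{u}; Spec (CommRingCat.of R)) ↘ Spec (CommRingCat.of R))
  obtain ⟨P, k, ψ, hk, hψ, hkψ⟩ := CohShriek.exists_compactification_A1 (Spec (CommRingCat.of R))
  haveI := hk
  haveI := hψ
  let e₂ : MvPolynomial CohShriek.I1.{u} R ≃+* Polynomial R :=
    (MvPolynomial.uniqueAlgEquiv R CohShriek.I1.{u}).toRingEquiv
  have h := AffineSpace.SpecIso_inv_over (n := CohShriek.I1.{u}) (CommRingCat.of R)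
  have he : CommRingCat.ofHom (Polynomial.C : R →+* Polynomial R) =
      CommRingCat.ofHom (MvPolynomial.C (σ := CohShriek.I1.{u}) (R := R)) ≫ e₂.toCommRingCatIso.hom := by
    refine CommRingCat.hom_ext (RingHom.ext fun r => ?_)
    simp [e₂]
  rw [he, Spec.map_comp]
  rw [← h]
  haveI : IsNoetherian (Spec (CommRingCat.of (MvPolynomial CohShriek.I1.{u} (CommRingCat.of R)))) :=
    isNoetherian_of_ft (AffineSpace.SpecIso CohShriek.I1.{u} (CommRingCat.of R)).inv
  exact gExt_comp _ _ (gExt_iso _) (gExt_comp _ _ (gExt_iso _)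
    (gExt_of_goal _ k ψ hkψ goal_a1))

theorem gExt_mvPoly : ∀ (n : ℕ) {R : Type u} [CommRing R] [IsNoetherianRing R],
    GExt (Spec.map (CommRingCat.ofHom (MvPolynomial.C : R →+* MvPolynomial (Fin n) R))) := by
  intro n
  induction n with
  | zero =>
    intro R _ _
    let e := (MvPolynomial.isEmptyAlgEquiv R (Fin 0)).symm.toRingEquiv
    have he : CommRingCat.ofHom (MvPolynomial.C : R →+* MvPolynomial (Fin 0) R) = e.toCommRingCatIso.hom := by
      refine CommRingCat.hom_ext (RingHom.ext fun r => ?_)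
      simp [e]
    rw [he]
    exact gExt_iso _
  | succ n ih =>
    intro R _ _
    let e := (MvPolynomial.renameEquiv R (finSuccEquiv n)).trans (MvPolynomial.optionEquivRight R (Fin n))
    have he : CommRingCat.ofHom (MvPolynomial.C : R →+* MvPolynomial (Fin (n + 1)) R) =
        CommRingCat.ofHom (Polynomial.C : R →+* Polynomial R) ≫
          CommRingCat.ofHom (MvPolynomial.C : Polynomial R →+* MvPolynomial (Fin n) (Polynomial R)) ≫
          e.symm.toRingEquiv.toCommRingCatIso.hom := by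
      refine CommRingCat.hom_ext (RingHom.ext fun r => e.injective ?_)
      simp [e]
    rw [he, Spec.map_comp, Spec.map_comp]
    haveI : LocallyOfFiniteType
        (Spec.map (CommRingCat.ofHom (MvPolynomial.C : Polynomial R →+* MvPolynomial (Fin n) (Polynomial R)))) :=
      (HasRingHomProperty.Spec_iff (P := @LocallyOfFiniteType)).2 ((RingHom.finiteType_algebraMap).2
        (inferInstanceAs (Algebra.FiniteType (Polynomial R) (MvPolynomial (Fin n) (Polynomial R)))))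
    exact gExt_comp _ _ (gExt_comp _ _ (gExt_iso _) (ih (R := Polynomial R))) gExt_poly

/-- Morphisms of affine schemes. -/
theorem goal_of_affine [IsAffine X] [IsAffine Y] [IsNoetherian Y] (f : X ⟶ Y) [LocallyOfFiniteType f] :
    Goal f := by
  haveI : IsNoetherian X := isNoetherian_of_ft f
  haveI : IsNoetherianRing Γ(Y, ⊤) := IsLocallyNoetherian.component_noetherian ⟨⊤, isAffineOpen_top Y⟩
  haveI : IsNoetherianRing Γ(X, ⊤) := IsLocallyNoetherian.component_noetherian ⟨⊤, isAffineOpen_top X⟩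
  have hft : f.appTop.hom.FiniteType := HasRingHomProperty.appTop (P := @LocallyOfFiniteType) f inferInstance
  letI := f.appTop.hom.toAlgebra
  haveI : Algebra.FiniteType Γ(Y, ⊤) Γ(X, ⊤) := hft
  obtain ⟨n, s, hs⟩ := Algebra.FiniteType.iff_quotient_mvPolynomial''.1
    ‹Algebra.FiniteType Γ(Y, ⊤) Γ(X, ⊤)›
  have he : f.appTop = CommRingCat.ofHom (MvPolynomial.C : Γ(Y, ⊤) →+* MvPolynomial (Fin n) Γ(Y, ⊤)) ≫
      CommRingCat.ofHom s.toRingHom := CommRingCat.hom_ext (RingHom.ext fun r => (s.commutes r).symm)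
  have hf : f = (X.isoSpec.hom ≫ Spec.map f.appTop) ≫ Y.isoSpec.inv := by
    rw [Category.assoc, Scheme.isoSpec_hom_naturality_assoc f, Iso.hom_inv_id, Category.comp_id]
  rw [hf, he, Spec.map_comp]
  haveI : IsClosedImmersion (Spec.map (CommRingCat.ofHom s.toRingHom)) := IsClosedImmersion.spec_of_surjective _ hs
  haveI : LocallyOfFiniteType
      (Spec.map (CommRingCat.ofHom (MvPolynomial.C : Γ(Y, ⊤) →+* MvPolynomial (Fin n) Γ(Y, ⊤)))) :=
    (HasRingHomProperty.Spec_iff (P := @LocallyOfFiniteType)).2 ((RingHom.finiteType_algebraMap).2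
      (inferInstanceAs (Algebra.FiniteType Γ(Y, ⊤) (MvPolynomial (Fin n) Γ(Y, ⊤)))))
  haveI : IsNoetherian (Spec (CommRingCat.of (MvPolynomial (Fin n) Γ(Y, ⊤)))) := inferInstance
  exact goal_of_gExt (gExt_comp _ _
    (gExt_comp _ _ (gExt_iso X.isoSpec.hom) (gExt_comp _ _
      (gExt_of_goal _ (𝟙 _) _ (Category.id_comp _) (goal_spec _ hs)) (gExt_mvPoly n)))
    (gExt_iso Y.isoSpec.inv))

/-- `f^!` preserves dualizing complexes. -/
theorem isDualizingSch_shriek {Xb : Scheme.{u}} [IsNoetherian Y] [IsNoetherian X] (j : X ⟶ Xb) [IsOpenImmersion j]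
    (φ : Xb ⟶ Y) [IsProper φ] [DCoh.HasRpush φ] {hφ : DCoh.RpushPreservesQCoh φ}
    {a : DCoh.DQCoh Y ⥤ DCoh.DQCoh Xb} (adj : DCoh.RpushQ φ hφ ⊣ a) (K : DCoh.DQCoh Y)
    (hb : Dual3.IsBddBelowQ Y K) (hK : Dual2.IsDualizingSch Y K.obj) :
    Dual2.IsDualizingSch X ((rho j).obj (a.obj K).obj) := by
  intro C _ jC _
  refine DualizingCharts.exists_isDualizing_of_charts _ (fun x => ?_) C jC
  obtain ⟨V, hV, hxV, -⟩ :=
    exists_isAffineOpen_mem_and_subset (X := Y) (x := (j ≫ φ).base x) (U := ⊤) trivial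
  obtain ⟨U, hU, hxU, hUV⟩ :=
    exists_isAffineOpen_mem_and_subset (X := X) (x := x) (U := (j ≫ φ) ⁻¹ᵁ V) hxV
  haveI : IsAffine (U : Scheme.{u}) := hU
  haveI : IsAffine (V : Scheme.{u}) := hV
  haveI : IsNoetherian (V : Scheme.{u}) := isNoetherian_of_ft V.ι
  haveI : IsNoetherian (U : Scheme.{u}) := isNoetherian_of_ft U.ι
  haveI : IsNoetherian Xb := isNoetherian_of_ft φ
  let r := pullback.fst φ V.ι
  let p := pullback.snd φ V.ι
  let ν : (U : Scheme.{u}) ⟶ V := Scheme.Hom.resLE (j ≫ φ) V U hUV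
  have hν : ν ≫ V.ι = U.ι ≫ j ≫ φ := Scheme.Hom.resLE_comp_ι _ _
  let u : (U : Scheme.{u}) ⟶ pullback φ V.ι := pullback.lift (U.ι ≫ j) ν (by rw [Category.assoc, hν])
  have hur : u ≫ r = U.ι ≫ j := pullback.lift_fst _ _ _
  have hup : u ≫ p = ν := pullback.lift_snd _ _ _
  haveI : IsOpenImmersion (u ≫ r) := by rw [hur]; infer_instance
  haveI : IsOpenImmersion u := IsOpenImmersion.of_comp u r
  haveI : LocallyOfFiniteType (ν ≫ V.ι) := by rw [hν]; infer_instance
  haveI : LocallyOfFiniteType ν := locallyOfFiniteType_of_comp ν V.ι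
  haveI : IsNoetherian (pullback φ V.ι) := isNoetherian_of_ft p
  haveI := hasRpush_scheme p
  have hp : DCoh.RpushPreservesQCoh p := fun K hK => isQCohD_rpush p hK
  obtain ⟨ap, ⟨adjp⟩⟩ := exists_adj p hp
  obtain ⟨B⟩ := nonempty_bc_iso (IsPullback.of_hasPullback φ V.ι) adj adjp
  obtain ⟨lr⟩ := nonempty_LQ_iso_rQ r
  obtain ⟨lv⟩ := nonempty_LQ_iso_rQ V.ι
  obtain ⟨c₁⟩ := nonempty_rQ_comp U.ι j (U.ι ≫ j) rfl
  obtain ⟨c₂⟩ := nonempty_rQ_comp u r (U.ι ≫ j) hur
  let K₀ : (Dual3.IsBddBelowQ Y).FullSubcategory := ⟨K, hb⟩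
  let KV : (Dual3.IsBddBelowQ (V : Scheme.{u})).FullSubcategory := ⟨(rQ V.ι).obj K, isBddBelowQ_rQ V.ι K hb⟩
  let e : (rQ U.ι).obj ((rQ j).obj (a.obj K)) ≅ (rQ u).obj (ap.obj KV.obj) :=
    c₁.app _ ≪≫ c₂.symm.app _ ≪≫ (rQ u).mapIso ((lr.symm.app _) ≪≫ B.app K₀ ≪≫ ap.mapIso (lv.app K))
  have hKV : Dual2.IsDualizingSch (V : Scheme.{u}) ((rho V.ι).obj K.obj) := fun A _ i _ => by
    obtain ⟨ω, hω, ⟨eω⟩⟩ := hK A (i ≫ V.ι)
    exact ⟨ω, hω, ⟨rhoComp i V.ι _ rfl K.obj ≪≫ eω⟩⟩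
  have h := dualizing_of_iso ((ObjectProperty.ι _).mapIso e).symm
    (goal_of_affine ν _ u p inferInstance inferInstance hup hp ap adjp KV hKV)
  obtain ⟨ω, hω, ⟨eω⟩⟩ := h Γ(X, U) hU.isoSpec.inv
  exact ⟨Γ(X, U), inferInstance, hU.isoSpec.inv ≫ U.ι, inferInstance, ω,
    ⟨hU.isoSpec.hom ⟨x, hxU⟩, by
      change ((hU.isoSpec.hom ≫ hU.isoSpec.inv) ≫ U.ι).base ⟨x, hxU⟩ = x
      rw [Iso.hom_inv_id, Category.id_comp]
      rfl⟩, hω, inferInstance,
    ⟨(rhoComp hU.isoSpec.inv U.ι _ rfl _).symm ≪≫ eω⟩⟩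

/-- The cohomology of a chart. -/
theorem nonempty_restrict_hd_iso {A : Type u} [CommRing A] (j : Spec (CommRingCat.of A) ⟶ X) [IsOpenImmersion j]
    {K : DCoh.D X} {ω : Dual.D A} (e : (DCoh.restrictD j).obj K ≅ (DCoh.tildeD (CommRingCat.of A)).obj ω)
    (i : ℤ) :
    Nonempty ((DCoh.HD K i).restrict j ≅
      tilde (R := CommRingCat.of A) ((DerivedCategory.homologyFunctor (ModuleCat.{u} A) i).obj ω)) := by
  haveI : (tilde.functor (CommRingCat.of A)).Additive := tilde_additive _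
  haveI : PreservesFiniteColimits (tilde.functor (CommRingCat.of A)) := QCoh.tilde_preservesFiniteColimits
  exact ⟨(restrictHDIso j K i).symm ≪≫ (DerivedCategory.homologyFunctor _ i).mapIso e ≪≫
    (mapDCHomologyIso (tilde.functor (CommRingCat.of A)) i).app ω⟩

/-- A dualizing object on a quasi-compact scheme is bounded below. -/
theorem exists_isGE_of_dualizing [CompactSpace X] {K : DCoh.D X} (hK : Dual2.IsDualizingSch X K) :
    ∃ n : ℤ, K.IsGE n := by
  classical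
  choose U hU hxU _ using fun x : X =>
    exists_isAffineOpen_mem_and_subset (X := X) (x := x) (U := ⊤) trivial
  have h : ∀ x : X, ∃ a : ℤ, ∀ k < a, IsZero ((DCoh.HD K k).restrict (hU x).fromSpec) := fun x => by
    obtain ⟨ω, hω, ⟨e⟩⟩ := hK Γ(X, U x) (hU x).fromSpec
    haveI := hω.isNoetherianRing
    obtain ⟨a, b, -, ha, -⟩ := exists_bounds_of_isDualizing hω
    haveI := ha
    haveI : (tilde.functor (CommRingCat.of Γ(X, U x))).Additive := tilde_additive _
    refine ⟨a, fun k hk => ?_⟩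
    obtain ⟨eH⟩ := nonempty_restrict_hd_iso (hU x).fromSpec e k
    exact ((tilde.functor (CommRingCat.of Γ(X, U x))).map_isZero
      (DerivedCategory.isZero_of_isGE ω a k hk)).of_iso eH
  choose a ha using h
  obtain ⟨t, ht⟩ := isCompact_univ.elim_finite_subcover (fun x => (U x : Set X)) (fun x => (U x).2)
    (fun x _ => Set.mem_iUnion.2 ⟨x, hxU x⟩)
  obtain ⟨n, hn⟩ := Finset.exists_le (t.image fun x => - a x)
  refine ⟨-n, (DerivedCategory.isGE_iff _ _).2 fun k hk => ExtCodim.isZero_of_restrict _ fun y => ?_⟩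
  obtain ⟨x, hxt, hyx⟩ := Set.mem_iUnion₂.1 (ht (Set.mem_univ y))
  refine ⟨_, (hU x).fromSpec, inferInstance, ?_, ha x k ?_⟩
  · rw [(hU x).opensRange_fromSpec]
    exact hyx
  · have := hn _ (Finset.mem_image_of_mem (fun x => - a x) hxt)
    omega

end Groth.Agent.KExact.DualShriek
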