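import Groth.Agent.KExact.DualTwistVan
import Groth.Agent.AssLib.FlatField

/-!
# Generic vanishing gives concentration of the dual transform
-/

set_option autoImplicit false
set_option linter.style.haveILetI false
set_option backward.isDefEq.respectTransparency false
set_option backward.isDefEq.respectTransparency.types false
set_option maxHeartbeats 2000000

universe u

open CategoryTheory CategoryTheory.Limits AlgebraicGeometry

attribute [local instance] HasDerivedCategory.standard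

namespace Groth.Agent.KExact.DualTwistVan

open KFlatLib H9Misc

/-- The projection formula through a Fourier–Mukai functor. -/
theorem nonempty_phi_proj {X Y S : Scheme.{u}} (a : X ⟶ S) (b : Y ⟶ S)
    [QuasiCompact (pullback.snd a b)] [QuasiSeparated (pullback.snd a b)]
    [DCoh.HasLpull (pullback.fst a b)] [DCoh.HasLpull (pullback.snd a b)] [DCoh.HasRpush (pullback.snd a b)]
    (P' : CochainComplex (pullback a b).Modules ℤ) [DCoh.HasLTensorCx P']
    (M : CochainComplex (pullback a b).Modules ℤ) (hM : DCoh.IsQCohD (DCoh.toD (pullback a b) M))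
    [DCoh.HasLTensorCx M] (R : CochainComplex Y.Modules ℤ) [DCoh.HasLTensorCx R]
    (eR : DCoh.toD Y R ≅ (DCoh.Rpush (pullback.snd a b)).obj (DCoh.toD (pullback a b) M))
    (G : DCoh.D X) (E : DCoh.DQCoh Y)
    (eZ : (DCoh.LTensorCx P').obj ((DCoh.Lpull (pullback.fst a b)).obj G) ≅
      (DCoh.LTensorCx M).obj ((DCoh.Lpull (pullback.snd a b)).obj E.obj)) :
    Nonempty ((FMK.phi a b P').obj G ≅ (DCoh.LTensorCx R).obj E.obj) := by
  obtain ⟨pr⟩ := Lib.DerivedProj.nonempty_proj (pullback.snd a b) M hM R eR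
  obtain ⟨pf⟩ := PushDual.nonempty_projF_iso_ltensor R
  obtain ⟨ph⟩ := AdjTensor.nonempty_projH_iso_ltensor (pullback.snd a b) M
  exact ⟨(DCoh.Rpush (pullback.snd a b)).mapIso (eZ ≪≫ (ph.app _).symm) ≪≫ (pr.app E).symm ≪≫ pf.app _⟩

/-- A transform in the range of generic vanishing dualizes to an object with cohomology in the interval. -/
theorem isZero_transform_dual (k : Type u) [Field k] (X Y : Scheme.{u}) (a : X ⟶ Spec (CommRingCat.of k))
    (b : Y ⟶ Spec (CommRingCat.of k)) [IsProper a] [IsProper b]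
    (hXcm : ∀ x : ↥X, LocCoh.IsCohenMacaulayLocalRing ↑(X.presheaf.stalk x))
    (hYcm : ∀ y : ↥Y, LocCoh.IsCohenMacaulayLocalRing ↑(Y.presheaf.stalk y))
    (d : ℕ) (hXeq : ∀ Z ∈ irreducibleComponents ↥X, topologicalKrullDim ↥Z = (d : WithBot ℕ∞))
    (g : ℕ) (hg : topologicalKrullDim ↥Y ≤ (g : WithBot ℕ∞))
    (hYeq : ∀ Z ∈ irreducibleComponents ↥Y, topologicalKrullDim ↥Z = (g : WithBot ℕ∞))
    [DCoh.HasRpush a] (ha : DCoh.RpushPreservesQCoh a)
    (adx : DCoh.DQCoh (Spec (CommRingCat.of k)) ⥤ DCoh.DQCoh X) (adja : DCoh.RpushQ a ha ⊣ adx)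
    [DCoh.HasRpush b] (hb : DCoh.RpushPreservesQCoh b)
    (bdx : DCoh.DQCoh (Spec (CommRingCat.of k)) ⥤ DCoh.DQCoh Y) (adjb : DCoh.RpushQ b hb ⊣ bdx)
    (O : DCoh.DQCoh (Spec (CommRingCat.of k)))
    (eO : O.obj ≅ DCoh.inD (Spec (CommRingCat.of k)) (Coh.structureModule (Spec (CommRingCat.of k))))
    (P₀ Pd : (pullback a b).Modules) (hP₀ : FlatMod.IsFinLocFree P₀) (ePd : Pd ≅ SheafHomY.dual P₀)
    [DCoh.HasLpull (pullback.fst a b)] [DCoh.HasRpush (pullback.snd a b)]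
    [DCoh.HasLTensorCx ((HomologicalComplex.single (pullback a b).Modules (ComplexShape.up ℤ) 0).obj P₀)]
    [DCoh.HasLTensorCx ((HomologicalComplex.single (pullback a b).Modules (ComplexShape.up ℤ) 0).obj
      (CohB1.tensorMod Pd ((Scheme.Modules.pullback (pullback.snd a b)).obj (DCoh.HD (bdx.obj O).obj (-(g : ℤ))))))]
    (F : X.Modules) (hFc : Coh.IsCoh F) (hF : DCoh.IsPerfect (DCoh.inD X F))
    [DCoh.HasLTensorCx ((HomologicalComplex.single X.Modules (ComplexShape.up ℤ) 0).obj F)]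
    [DCoh.HasRSheafHom ((HomologicalComplex.single X.Modules (ComplexShape.up ℤ) 0).obj F)]
    (k' : ℕ)
    (hGV : ∀ (i : ℕ) (y : ↥Y), y ∈ CohB1.support (DCoh.HD ((FMK.phi a b
        ((HomologicalComplex.single (pullback a b).Modules (ComplexShape.up ℤ) 0).obj P₀)).obj (DCoh.inD X F)) (i : ℤ)) →
      ((i - k' : ℕ) : WithBot ℕ∞) ≤ ringKrullDim ↑(Y.presheaf.stalk y))
    (i : ℤ) (hi : i < (d : ℤ) - k' ∨ (d : ℤ) < i) :
    IsZero (DCoh.HD ((FMK.phi a b ((HomologicalComplex.single (pullback a b).Modules (ComplexShape.up ℤ) 0).obj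
      (CohB1.tensorMod Pd ((Scheme.Modules.pullback (pullback.snd a b)).obj
        (DCoh.HD (bdx.obj O).obj (-(g : ℤ))))))).obj
      ((DCoh.RSheafHom ((HomologicalComplex.single X.Modules (ComplexShape.up ℤ) 0).obj F)).obj
        (DCoh.inD X (DCoh.HD (adx.obj O).obj (-(d : ℤ)))))) i) := by
  haveI : IsNoetherian X := BCNat.isNoetherian_of_ft a
  haveI : IsNoetherian Y := BCNat.isNoetherian_of_ft b
  haveI : Flat a := AssLib.flat_over_field a
  let Z := pullback a b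
  let p := pullback.fst a b
  let q := pullback.snd a b
  haveI := hasLpull q
  let ωY := DCoh.HD (bdx.obj O).obj (-(g : ℤ))
  let qω := (Scheme.Modules.pullback q).obj ωY
  let single := HomologicalComplex.single Z.Modules (ComplexShape.up ℤ) 0
  let S₀ := single.obj P₀
  let SD := single.obj Pd
  let Sq := single.obj qω
  let P' := single.obj (CohB1.tensorMod Pd qω)
  let Sω := (HomologicalComplex.single Y.Modules (ComplexShape.up ℤ) 0).obj ωY
  let SF := (HomologicalComplex.single X.Modules (ComplexShape.up ℤ) 0).obj F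
  let sX := DerivedCategory.singleFunctorIsoCompQ X.Modules 0
  let sY := DerivedCategory.singleFunctorIsoCompQ Y.Modules 0
  let sZ := DerivedCategory.singleFunctorIsoCompQ Z.Modules 0
  haveI := hasLTensorCx SD
  haveI := hasLTensorCx Sq
  haveI := hasLTensorCx Sω
  haveI := PerfShriek.hasRSheafHom S₀
  have hPd : FlatMod.IsFinLocFree Pd := H23.PullPush.isFinLocFree_of_iso ePd.symm (LocFreeHomTensor.isFinLocFree_dual hP₀)
  -- the dual kernel
  obtain ⟨rD⟩ := nonempty_RSheafHom_lf hP₀ ePd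
  haveI hlT := hasLTensorCx (single.obj (Coh.structureModule Z))
  obtain ⟨tu⟩ := nonempty_LTensorCx_unit (single.obj (Coh.structureModule Z)) (sZ.app (Coh.structureModule Z)).symm
  obtain ⟨swu⟩ := KExact.nonempty_ltensor_swap SD (single.obj (Coh.structureModule Z))
  obtain ⟨ePD⟩ : Nonempty (DCoh.toD Z SD ≅ (DCoh.RSheafHom S₀).obj (DCoh.inD Z (Coh.structureModule Z))) := ⟨(tu.app _).symm ≪≫ swu ≪≫ (DCoh.LTensorCx SD).mapIso (sZ.app _).symm ≪≫ (rD.app _).symm⟩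
  have hS₀ : DCoh.IsPerfect (DCoh.toD Z S₀) := isPerfect_congr (sZ.app P₀) (H28.PerfGen.locSP_lf hP₀)
  have hSF : DCoh.IsPerfect (DCoh.toD X SF) := isPerfect_congr (sX.app F) hF
  obtain ⟨K, ⟨eK⟩⟩ : ∃ K : CochainComplex Y.Modules ℤ, Nonempty (DCoh.toD Y K ≅
      (FMK.phi a b S₀).obj (DCoh.toD X SF)) := ⟨_, ⟨DerivedCategory.Q.objObjPreimageIso _⟩⟩
  haveI := hasLTensorCx K
  haveI := PerfShriek.hasRSheafHom K
  have hK : DCoh.IsPerfect (DCoh.toD Y K) := isPerfect_congr eK.symm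
    ((isPerfect_iff _).2 (TorBC.locSP_rpush_properFlat q ((isPerfect_iff _).1
      (isPerfect_congr ((DCoh.LTensorCx S₀).mapIso ((DerivedCategory.Q.objObjPreimageIso _)))
        (isPerfect_ltensor' S₀ hS₀ (isPerfect_congr (DerivedCategory.Q.objObjPreimageIso _).symm
          (isPerfect_lpull p hSF)))))))
  obtain ⟨eK'⟩ : Nonempty (DCoh.toD Y K ≅ (FMK.phi a b S₀).obj (DCoh.inD X F)) := ⟨eK ≪≫ (FMK.phi a b S₀).mapIso (sX.app F).symm⟩
  obtain ⟨N, hN⟩ := exists_torAmplitude_phi k a b hP₀ F hFc.1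
  have hampK : DCoh.HasTorAmplitudeIn 0 (0 + (N : ℤ)) (DCoh.toD Y K) :=
    torAmplitude_of_retract eK'.hom eK'.inv eK'.hom_inv_id hN
  -- duality
  obtain ⟨e⟩ := KernelDual.nonempty_dual_phi_field k X Y a b hXcm d hXeq ha adx adja O eO S₀ hS₀ SD ePD SF hSF K eK
  obtain ⟨C, ⟨eC⟩⟩ : ∃ C : CochainComplex Y.Modules ℤ, Nonempty (DCoh.toD Y C ≅
      (DCoh.RSheafHom K).obj (DCoh.inD Y (Coh.structureModule Y))) := ⟨_, ⟨DerivedCategory.Q.objObjPreimageIso _⟩⟩
  let G := (DCoh.RSheafHom SF).obj (DCoh.inD X (DCoh.HD (adx.obj O).obj (-(d : ℤ))))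
  obtain ⟨sh⟩ := PhiShift.nonempty_phi_shift a b SD (d : ℤ)
  obtain ⟨eG⟩ : Nonempty ((FMK.phi a b SD).obj G ≅ (DCoh.toD Y C)⟦-(d : ℤ)⟧) := ⟨((shiftFunctorCompIsoId (DCoh.D Y) (d : ℤ) (-(d : ℤ)) (by omega)).app _).symm ≪≫
      (shiftFunctor (DCoh.D Y) (-(d : ℤ))).mapIso ((sh.app G).symm ≪≫ e.symm ≪≫ eC.symm)⟩
  -- the projection formula
  obtain ⟨M, ⟨eM⟩⟩ : ∃ M : CochainComplex Z.Modules ℤ, Nonempty (DCoh.toD Z M ≅
      (DCoh.LTensorCx SD).obj ((DCoh.Lpull p).obj G)) := ⟨_, ⟨DerivedCategory.Q.objObjPreimageIso _⟩⟩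
  haveI := hasLTensorCx M
  have hωq : Coh.IsQCoh ωY := (bdx.obj O).property _
  have hM : DCoh.IsQCohD (DCoh.toD Z M) := isQCohD_of_iso eM.symm
    (isQCohD_ltensor SD (isQCohD_of_isPerfect (isPerfect_congr (sZ.app Pd) (H28.PerfGen.locSP_lf hPd)))
      (isQCohD_lpull p (isQCohD_RSheafHom_of_isPerfect SF hSF _
        (isQCohD_inD_of_isQCoh ((adx.obj O).property _)))))
  obtain ⟨R, ⟨eR⟩⟩ : ∃ R : CochainComplex Y.Modules ℤ, Nonempty (DCoh.toD Y R ≅
      (DCoh.Rpush q).obj (DCoh.toD Z M)) := ⟨_, ⟨DerivedCategory.Q.objObjPreimageIso _⟩⟩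
  haveI := hasLTensorCx R
  obtain ⟨lq⟩ := nonempty_lpull_inD_of_flat q ωY
  obtain ⟨td⟩ := KFlatLib.nonempty_ltensor_inD (isFlat_of_isFinLocFree hPd) qω
  obtain ⟨c⟩ := nonempty_ltensorCx_ltensorCx SD Sq P' ((sZ.app _).symm ≪≫ td.symm ≪≫
    (DCoh.LTensorCx Sq).mapIso (sZ.app Pd))
  obtain ⟨swM⟩ := KExact.nonempty_ltensor_swap Sq M
  obtain ⟨swR⟩ := KExact.nonempty_ltensor_swap R Sω
  obtain ⟨sω⟩ := PhiShift.nonempty_ltensor_shift Sω (-(d : ℤ))
  obtain ⟨eZ⟩ : Nonempty ((DCoh.LTensorCx P').obj ((DCoh.Lpull p).obj G) ≅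
      (DCoh.LTensorCx M).obj ((DCoh.Lpull q).obj (DCoh.inD Y ωY))) := ⟨(c.app _).symm ≪≫ (DCoh.LTensorCx Sq).mapIso eM.symm ≪≫ swM.symm ≪≫
      (DCoh.LTensorCx M).mapIso ((sZ.app qω).symm ≪≫ lq.symm)⟩
  obtain ⟨eY⟩ : Nonempty ((FMK.phi a b P').obj G ≅ (DCoh.LTensorCx R).obj (DCoh.inD Y ωY)) :=
    nonempty_phi_proj a b P' M hM R eR G ⟨DCoh.inD Y ωY, isQCohD_inD_of_isQCoh hωq⟩ eZ
  obtain ⟨eRC⟩ : Nonempty (DCoh.toD Y R ≅ (DCoh.toD Y C)⟦-(d : ℤ)⟧) := ⟨eR ≪≫ (DCoh.Rpush q).mapIso eM ≪≫ eG⟩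
  let W := (DCoh.LTensorCx Sω).obj (DCoh.toD Y C)
  obtain ⟨eW⟩ : Nonempty ((FMK.phi a b P').obj G ≅ W⟦-(d : ℤ)⟧) := ⟨eY ≪≫ (DCoh.LTensorCx R).mapIso (sY.app ωY) ≪≫ swR.symm ≪≫ (DCoh.LTensorCx Sω).mapIso eRC ≪≫
      sω.app _⟩
  refine IsZero.of_iso ?_ ((DerivedCategory.homologyFunctor _ i).mapIso eW ≪≫
    ((DerivedCategory.homologyFunctor _ 0).shiftIso (-(d : ℤ)) i (i - d) (by omega)).app _)
  rcases hi with hi | hi
  · exact isZero_twist_dual k b hYcm g hg hYeq hb bdx adjb O eO K hK C eC k'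
      (fun n y hy => hGV n y fun h => hy
        (((CategoryTheory.Iso.addCommGroupIsoToAddEquiv ((TopCat.Presheaf.stalkFunctor AddCommGrpCat.{u} y).mapIso
          ((Scheme.Modules.toPresheaf Y).mapIso
            ((DerivedCategory.homologyFunctor _ (n : ℤ)).mapIso eK')))).toEquiv.subsingleton_congr).2 h))
      (i - d) (by omega)
  · haveI := hasLTensorMod ωY
    obtain ⟨m⟩ := nonempty_ltensorMod_ltensorCx ωY (DCoh.toD Y C)
    refine (isZero_hd_ltensorMod_of_isLE ωY _ 0 (fun j hj => ?_) _ (by omega)).of_iso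
      ((DerivedCategory.homologyFunctor _ (i - (d : ℤ))).mapIso m.symm)
    exact (isZero_hd_dual K hK 0 (0 + (N : ℤ)) (by omega) hampK j (by omega)).of_iso
      ((DerivedCategory.homologyFunctor _ j).mapIso eC)

end Groth.Agent.KExact.DualTwistVan
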