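import Groth.Agent.KExact.PhiShift
import Groth.Agent.KExact.AmpleDetect
import Groth.Agent.H23.PicMul
import Groth.Agent.H9Misc.GammaPairing
import Groth.Agent.KFlatLib.Perfect.Betti

/-!
# Vanishing for twists by the dualizing sheaf gives bounds on a transform
-/

set_option autoImplicit false
set_option linter.style.haveILetI false
set_option backward.isDefEq.respectTransparency false
set_option backward.isDefEq.respectTransparency.types false
set_option maxHeartbeats 1000000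

universe u

open CategoryTheory CategoryTheory.Limits AlgebraicGeometry

attribute [local instance] HasDerivedCategory.standard

namespace Groth.Agent.KExact.KernelDualVan

open KFlatLib H9Misc
open scoped Groth.Agent.H23.PicMul

variable {X Y : Scheme.{u}}

theorem isInvertible_of_tensor {L L' : X.Modules} (hL : PicF.IsInvertible L)
    (e : CohB1.tensorMod L L' ≅ Coh.structureModule X) : PicF.IsInvertible L' := by
  obtain ⟨D, hD, he⟩ := H23.PicInv.exists_inverse hL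
  have h1 : PicF.cl L * PicF.cl L' = 1 := H23.PicMul.cl_eq_iff.2 ⟨e⟩
  have h2 : PicF.cl L * PicF.cl D = 1 := H23.PicMul.cl_eq_iff.2 he
  have h : PicF.cl D = PicF.cl L' := by
    calc PicF.cl D = PicF.cl D * (PicF.cl L * PicF.cl L') := by rw [h1, mul_one]
      _ = (PicF.cl L * PicF.cl D) * PicF.cl L' := by rw [← mul_assoc, mul_comm (PicF.cl D)]
      _ = PicF.cl L' := by rw [h2, one_mul]
  obtain ⟨i⟩ := H23.PicMul.cl_eq_iff.1 h
  exact H23.PicMul.isInvertible_of_iso i hD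

theorem nonempty_tensorPow_inv {L L' : X.Modules} (e : CohB1.tensorMod L L' ≅ Coh.structureModule X) (n : ℕ) :
    Nonempty (CohB1.tensorMod (CohB1.tensorPow L' n) (CohB1.tensorPow L n) ≅ Coh.structureModule X) := by
  have h1 : PicF.cl L * PicF.cl L' = 1 := H23.PicMul.cl_eq_iff.2 ⟨e⟩
  refine H23.PicMul.cl_eq_iff.1 ?_
  rw [H23.PicMul.cl_tensor, H23.PicMul.cl_tensorPow, H23.PicMul.cl_tensorPow, ← mul_pow, mul_comm, h1, one_pow,
    H23.PicMul.one_def]

theorem nonempty_tensorMod_comm (A B : X.Modules) :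
    Nonempty (CohB1.tensorMod A B ≅ CohB1.tensorMod B A) :=
  H23.PicMul.cl_eq_iff.1 (by rw [H23.PicMul.cl_tensor, H23.PicMul.cl_tensor, mul_comm])

/-- Derived twist of a module by an invertible one. -/
theorem nonempty_ltensor_inD {D : X.Modules} (hD : PicF.IsInvertible D)
    [DCoh.HasLTensorCx ((HomologicalComplex.single X.Modules (ComplexShape.up ℤ) 0).obj D)] (N : X.Modules) :
    Nonempty ((DCoh.LTensorCx ((HomologicalComplex.single X.Modules (ComplexShape.up ℤ) 0).obj D)).obj (DCoh.inD X N) ≅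
      DCoh.inD X (CohB1.tensorMod N D)) := by
  let F := DCoh.tensorBi.flip.obj D
  haveI := H23.Chern.isEquivalence_ten hD
  haveI : F.IsEquivalence := Functor.isEquivalence_of_iso ((tensorBiFlipIso X).app D).symm
  haveI : PreservesFiniteLimits F := inferInstance
  haveI : PreservesFiniteColimits F := inferInstance
  let Fd := F.mapDerivedCategory
  let S := (HomologicalComplex.single X.Modules (ComplexShape.up ℤ) 0).obj D
  let eQ : DerivedCategory.Q ⋙ Fd ⋙ shiftFunctor (DCoh.D X) (-(0 : ℤ)) ≅ DCoh.tensorCxQ S :=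
    Functor.isoWhiskerRight F.mapDerivedCategoryFactors (shiftFunctor (DCoh.D X) (-(0 : ℤ))) ≪≫
      Functor.isoWhiskerLeft (F.mapHomologicalComplex (ComplexShape.up ℤ))
        (DerivedCategory.Q.commShiftIso (-(0 : ℤ))).symm ≪≫
      Functor.isoWhiskerRight (InvShift.tenSingleIso D 0).symm DerivedCategory.Q
  haveI := Functor.isLeftDerivedFunctor_of_inverts (F := DCoh.tensorCxQ S)
    (HomologicalComplex.quasiIso X.Modules (ComplexShape.up ℤ)) (Fd ⋙ shiftFunctor (DCoh.D X) (-(0 : ℤ))) eQ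
  let eT : DCoh.LTensorCx S ≅ Fd ⋙ shiftFunctor (DCoh.D X) (-(0 : ℤ)) :=
    Functor.leftDerivedUnique _ _
      ((DCoh.tensorCxQ S).totalLeftDerivedCounit DerivedCategory.Q
        (HomologicalComplex.quasiIso X.Modules (ComplexShape.up ℤ))) eQ.hom
      (HomologicalComplex.quasiIso X.Modules (ComplexShape.up ℤ))
  exact ⟨eT.app _ ≪≫ (shiftFunctorZero' (DCoh.D X) (-(0 : ℤ)) neg_zero).app _ ≪≫
    (F.mapDerivedCategorySingleFunctor 0).app N⟩

/-- Internal Hom out of an invertible module is the twist by its inverse. -/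
theorem nonempty_RSheafHom_inv {D D' : X.Modules} (hD : PicF.IsInvertible D)
    (e : CohB1.tensorMod D' D ≅ Coh.structureModule X)
    [DCoh.HasLTensorCx ((HomologicalComplex.single X.Modules (ComplexShape.up ℤ) 0).obj D)]
    [DCoh.HasRSheafHom ((HomologicalComplex.single X.Modules (ComplexShape.up ℤ) 0).obj D)]
    [DCoh.HasLTensorCx ((HomologicalComplex.single X.Modules (ComplexShape.up ℤ) 0).obj D')] :
    Nonempty (DCoh.RSheafHom ((HomologicalComplex.single X.Modules (ComplexShape.up ℤ) 0).obj D) ≅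
      DCoh.LTensorCx ((HomologicalComplex.single X.Modules (ComplexShape.up ℤ) 0).obj D')) := by
  let S := (HomologicalComplex.single X.Modules (ComplexShape.up ℤ) 0).obj D
  let S' := (HomologicalComplex.single X.Modules (ComplexShape.up ℤ) 0).obj D'
  let O₀ := (HomologicalComplex.single X.Modules (ComplexShape.up ℤ) 0).obj (Coh.structureModule X)
  haveI := hasLTensorCx O₀
  let s := DerivedCategory.singleFunctorIsoCompQ X.Modules 0
  obtain ⟨t⟩ := nonempty_LTensorCx_unit O₀ (s.app (Coh.structureModule X)).symm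
  obtain ⟨i⟩ := nonempty_ltensor_inD hD D'
  obtain ⟨c⟩ := nonempty_ltensorCx_ltensorCx S' S O₀
    ((s.app _).symm ≪≫ (DerivedCategory.singleFunctor X.Modules 0).mapIso e.symm ≪≫ i.symm ≪≫
      (DCoh.LTensorCx S).mapIso (s.app D'))
  obtain ⟨cm⟩ := KernelDual.nonempty_ltensor_comm S S'
  let η : 𝟭 (DCoh.D X) ≅ DCoh.LTensorCx S ⋙ DCoh.LTensorCx S' := (cm ≪≫ c ≪≫ t).symm
  let ε : DCoh.LTensorCx S' ⋙ DCoh.LTensorCx S ≅ 𝟭 (DCoh.D X) := c ≪≫ t
  exact ⟨(DCoh.RSheafHomAdj S).rightAdjointUniq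
    (CategoryTheory.Equivalence.mk (DCoh.LTensorCx S) (DCoh.LTensorCx S') η ε).toAdjunction⟩

/-- The projection formula under global sections, for quasi-coherent objects on the base. -/
theorem nonempty_gamma_proj_qcoh (q : X ⟶ Y) [QuasiCompact q] [QuasiSeparated q] [DCoh.HasRpush q] [DCoh.HasLpull q]
    [DCoh.HasRΓ X] [DCoh.HasRΓ Y] (M : CochainComplex X.Modules ℤ) (hM : DCoh.IsQCohD (DCoh.toD X M))
    [DCoh.HasLTensorCx M] (R : CochainComplex Y.Modules ℤ)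
    (eR : DCoh.toD Y R ≅ (DCoh.Rpush q).obj (DCoh.toD X M)) [DCoh.HasLTensorCx R] (E : DCoh.DQCoh Y) :
    Nonempty ((DCoh.RΓ Y).obj ((DCoh.LTensorCx R).obj E.obj) ≅
      (DCoh.RΓ X).obj ((DCoh.LTensorCx M).obj ((DCoh.Lpull q).obj E.obj))) := by
  obtain ⟨p⟩ := Lib.DerivedProj.nonempty_proj q M hM R eR
  obtain ⟨g⟩ := PushDual.nonempty_projF_iso_ltensor R
  obtain ⟨h⟩ := AdjTensor.nonempty_projH_iso_ltensor q M
  obtain ⟨r⟩ := nonempty_rpush_RΓ_iso q
  exact ⟨(DCoh.RΓ Y).mapIso (g.symm.app E.obj ≪≫ p.app E ≪≫ (DCoh.Rpush q).mapIso (h.app E.obj)) ≪≫ r.app _⟩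

/-- On a point hypercohomology detects the cohomology of a pushforward. -/
theorem isZero_RΓ_iff_point (k : Type u) [Field k] (b : Y ⟶ Spec (CommRingCat.of k)) [QuasiCompact b]
    [QuasiSeparated b] [DCoh.HasRpush b] [DCoh.HasRΓ Y] (V : DCoh.D Y)
    (hV : DCoh.IsPerfect ((DCoh.Rpush b).obj V)) (i : ℤ) :
    IsZero ((DerivedCategory.homologyFunctor AddCommGrpCat.{u} i).obj ((DCoh.RΓ Y).obj V)) ↔
      IsZero (DCoh.HD ((DCoh.Rpush b).obj V) i) := by
  haveI : IsNoetherian (Spec (CommRingCat.of k)) := inferInstance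
  haveI := KernelPairing.hasRΓ (Spec (CommRingCat.of k))
  obtain ⟨r⟩ := nonempty_rpush_RΓ_iso b
  rw [← ((DerivedCategory.homologyFunctor AddCommGrpCat.{u} i).mapIso (r.app V)).isZero_iff]
  have hc := (AmpleDetect.coherent_bounded hV).1
  obtain ⟨g, hg⟩ := AmpleDetect.exists_dim_le (𝟙 (Spec (CommRingCat.of k)))
  refine (GammaAcyclic.isZero_RΓ_iff g (GammaAcyclic.subsingleton_HH_of_dim hg) _ (fun n p hp => ?_) i).trans
    ⟨fun h => ?_, fun h σ => h.eq_of_tgt _ _⟩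
  · obtain ⟨q, rfl⟩ := Nat.exists_eq_add_of_le' hp
    exact QCoh.subsingleton_HH_of_isAffine (hc n).1 q
  · obtain ⟨n, p, hp⟩ := GammaPairing.exists_free_epi (hc i)
    have hp0 : p = 0 := Sigma.hom_ext _ _ fun j => (h _).trans (h _).symm
    exact (IsZero.iff_id_eq_zero _).2 ((cancel_epi p).1 (by rw [hp0]; simp))

/-- The local ring of a point. -/
theorem ringKrullDim_stalk_field (k : Type u) [Field k] (y : ↥(Spec (CommRingCat.of k))) :
    ringKrullDim ((Spec (CommRingCat.of k)).presheaf.stalk y) = ((0 : ℕ) : WithBot ℕ∞) := by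
  letI := (isField_stalk_spec k y).toField
  exact ringKrullDim_eq_zero_of_field _

theorem isCM_stalk_field (k : Type u) [Field k] (y : ↥(Spec (CommRingCat.of k))) :
    LocCoh.IsCohenMacaulayLocalRing ↑((Spec (CommRingCat.of k)).presheaf.stalk y) := by
  let R := (Spec (CommRingCat.of k)).presheaf.stalk y
  haveI : IsNoetherianRing R := inferInstance
  refine @LocCoh.IsCohenMacaulayLocalRing.mk _ _ inferInstance inferInstance ?_
  have h := LC.depth_le_supportDim (R := R) (M := R)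
  refine le_antisymm ?_ h
  rw [Module.supportDim_self_eq_ringKrullDim, ringKrullDim_stalk_field k y]
  exact WithBot.coe_le_coe.2 zero_le

/-- Bounds on a perfect object from the bounds on its dual. -/
theorem bounds_of_dual [IsLocallyNoetherian Y] (hYcm : ∀ y : ↥Y, LocCoh.IsCohenMacaulayLocalRing ↑(Y.presheaf.stalk y))
    (K : CochainComplex Y.Modules ℤ) (hK : DCoh.IsPerfect (DCoh.toD Y K)) [DCoh.HasLTensorCx K] [DCoh.HasRSheafHom K]
    (d : ℤ) (k' : ℕ) (hW : ∀ i : ℤ, i < d - k' ∨ d < i →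
      IsZero (DCoh.HD ((DCoh.RSheafHom K).obj (DCoh.inD Y (Coh.structureModule Y))) i)) :
    (∀ m : ℤ, m < -d → IsZero (DCoh.HD (DCoh.toD Y K) m)) ∧
    ∀ (i : ℕ) (y : ↥Y), y ∈ CohB1.support (DCoh.HD (DCoh.toD Y K) ((i : ℤ) - d)) →
      ((i - k' : ℕ) : WithBot ℕ∞) ≤ ringKrullDim ↑(Y.presheaf.stalk y) := by
  obtain ⟨D, ⟨eD⟩⟩ : ∃ D : CochainComplex Y.Modules ℤ, Nonempty (DCoh.toD Y D ≅
      (DCoh.RSheafHom K).obj (DCoh.inD Y (Coh.structureModule Y))) := ⟨_, ⟨DerivedCategory.Q.objObjPreimageIso _⟩⟩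
  haveI := hasLTensorCx D
  haveI := PerfShriek.hasRSheafHom D
  obtain ⟨b⟩ := PerfShriek.nonempty_bidual K hK D eD
  obtain ⟨h1, h2⟩ := PhiShift.dual_bounds hYcm D (isPerfect_congr eD.symm (isPerfect_RSheafHom_structure K hK)) d k'
    fun i hi => (hW i hi).of_iso ((DerivedCategory.homologyFunctor _ i).mapIso eD)
  refine ⟨fun m hm => (h1 m hm).of_iso ((DerivedCategory.homologyFunctor _ m).mapIso b), fun i y hy => h2 i y fun h => hy ?_⟩
  exact ((CategoryTheory.Iso.addCommGroupIsoToAddEquiv ((TopCat.Presheaf.stalkFunctor AddCommGrpCat.{u} y).mapIso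
    ((Scheme.Modules.toPresheaf Y).mapIso ((DerivedCategory.homologyFunctor _ ((i : ℤ) - d)).mapIso b)))).toEquiv.subsingleton_congr.2 h)

/-- Vanishing for the twists by the dualizing sheaf bounds a perfect object. -/
theorem bounds_of_twisted_vanishing (k : Type u) [Field k] (b : Y ⟶ Spec (CommRingCat.of k)) [IsProper b]
    (hYcm : ∀ y : ↥Y, LocCoh.IsCohenMacaulayLocalRing ↑(Y.presheaf.stalk y))
    (g : ℕ) (hYeq : ∀ Z ∈ irreducibleComponents ↥Y, topologicalKrullDim ↥Z = (g : WithBot ℕ∞))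
    [DCoh.HasRpush b] (hb : DCoh.RpushPreservesQCoh b)
    (bdx : DCoh.DQCoh (Spec (CommRingCat.of k)) ⥤ DCoh.DQCoh Y) (adj : DCoh.RpushQ b hb ⊣ bdx)
    (O : DCoh.DQCoh (Spec (CommRingCat.of k)))
    (eO : O.obj ≅ DCoh.inD (Spec (CommRingCat.of k)) (Coh.structureModule (Spec (CommRingCat.of k))))
    {L L' : Y.Modules} (hL : CohB1.IsAmple L) (eL : CohB1.tensorMod L L' ≅ Coh.structureModule Y)
    [DCoh.HasRΓ Y] (K : CochainComplex Y.Modules ℤ) (hK : DCoh.IsPerfect (DCoh.toD Y K)) [DCoh.HasLTensorCx K]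
    (k' : ℕ) (hvan : ∃ n₀ : ℕ, ∀ n : ℕ, n₀ ≤ n → ∀ j : ℤ, j < (g : ℤ) ∨ (g : ℤ) + k' < j →
      IsZero ((DerivedCategory.homologyFunctor AddCommGrpCat.{u} j).obj ((DCoh.RΓ Y).obj ((DCoh.LTensorCx K).obj
        (DCoh.inD Y (CohB1.tensorMod (CohB1.tensorPow L' n) (DCoh.HD (bdx.obj O).obj (-(g : ℤ))))))))) :
    (∀ i : ℤ, i < 0 → IsZero (DCoh.HD (DCoh.toD Y K) i)) ∧
    ∀ (i : ℕ) (y : ↥Y), y ∈ CohB1.support (DCoh.HD (DCoh.toD Y K) (i : ℤ)) →
      ((i - k' : ℕ) : WithBot ℕ∞) ≤ ringKrullDim ↑(Y.presheaf.stalk y) := by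
  haveI : IsNoetherian Y := BCNat.isNoetherian_of_ft b
  haveI := PerfShriek.hasRSheafHom K
  haveI := hasLpull b
  obtain ⟨n₀, hvan⟩ := hvan
  obtain ⟨C, ⟨eC⟩⟩ : ∃ C : CochainComplex Y.Modules ℤ, Nonempty (DCoh.toD Y C ≅
      (DCoh.RSheafHom K).obj (DCoh.inD Y (Coh.structureModule Y))) := ⟨_, ⟨DerivedCategory.Q.objObjPreimageIso _⟩⟩
  haveI := hasLTensorCx C
  haveI := PerfShriek.hasRSheafHom C
  have hC : DCoh.IsPerfect (DCoh.toD Y C) := isPerfect_congr eC.symm (isPerfect_RSheafHom_structure K hK)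
  obtain ⟨lK⟩ := PerfShriek.nonempty_ltensor_iso_RSheafHom_dual K hK C eC
  obtain ⟨hcoh, lo, hi, hbd⟩ := AmpleDetect.coherent_bounded hC
  obtain ⟨n₁, hdet⟩ := AmpleDetect.exists_detect k b hL _ hcoh lo hi hbd
  let n := max n₀ n₁
  -- the dualizing sheaf
  obtain ⟨h1, -⟩ := S3637.result k Y b hYcm g hYeq hb bdx adj O ⟨eO⟩
  let W := (bdx.obj O).obj
  let ω := DCoh.HD W (-(g : ℤ))
  haveI : DerivedCategory.IsGE W (-(g : ℤ)) := (DerivedCategory.isGE_iff _ _).2 fun i hi => h1 i (by omega)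
  haveI : DerivedCategory.IsLE W (-(g : ℤ)) := (DerivedCategory.isLE_iff _ _).2 fun i hi => h1 i (by omega)
  obtain ⟨N, ⟨eW⟩⟩ := DerivedCategory.exists_iso_singleFunctor_obj_of_isGE_of_isLE W (-(g : ℤ))
  let eN : ω ≅ N := (DerivedCategory.homologyFunctor _ (-(g : ℤ))).mapIso eW ≪≫
    (DerivedCategory.singleFunctorCompHomologyFunctorIso Y.Modules (-(g : ℤ))).app N
  let eW' : W ≅ (DCoh.inD Y ω)⟦(g : ℤ)⟧ :=
    eW ≪≫ (DerivedCategory.singleFunctor _ (-(g : ℤ))).mapIso eN.symm ≪≫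
      (((DerivedCategory.singleFunctors Y.Modules).shiftIso (g : ℤ) (-(g : ℤ)) 0 (by omega)).app _).symm
  -- the twists
  let D := CohB1.tensorPow L n
  let D' := CohB1.tensorPow L' n
  let S := (HomologicalComplex.single Y.Modules (ComplexShape.up ℤ) 0).obj D
  let S' := (HomologicalComplex.single Y.Modules (ComplexShape.up ℤ) 0).obj D'
  have hD : PicF.IsInvertible D := InvX.isInvertible_tensorPow hL.1 n
  have hD' : PicF.IsInvertible D' := InvX.isInvertible_tensorPow (isInvertible_of_tensor hL.1 eL) n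
  haveI := hasLTensorCx S
  haveI := PerfShriek.hasRSheafHom S
  haveI := hasLTensorCx S'
  obtain ⟨eDD⟩ := nonempty_tensorPow_inv eL n
  obtain ⟨rS⟩ := nonempty_RSheafHom_inv hD eDD
  obtain ⟨M, ⟨eM⟩⟩ : ∃ M : CochainComplex Y.Modules ℤ, Nonempty (DCoh.toD Y M ≅
      (DCoh.LTensorCx S).obj (DCoh.toD Y C)) := ⟨_, ⟨DerivedCategory.Q.objObjPreimageIso _⟩⟩
  haveI := hasLTensorCx M
  haveI := PerfShriek.hasRSheafHom M
  have hS : DCoh.IsPerfect (DCoh.toD Y S) := isPerfect_congr ((DerivedCategory.singleFunctorIsoCompQ _ 0).app D)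
    (H28.PerfGen.locSP_lf (H23.PullPush.isFinLocFree_of_isInvertible hD))
  have hM : DCoh.IsPerfect (DCoh.toD Y M) := isPerfect_congr eM.symm (isPerfect_ltensor' S hS hC)
  obtain ⟨rM⟩ := KernelDual.nonempty_RSheafHom_tensor C S M eM
  obtain ⟨R, ⟨eR⟩⟩ : ∃ R : CochainComplex (Spec (CommRingCat.of k)).Modules ℤ,
      Nonempty (DCoh.toD _ R ≅ (DCoh.Rpush b).obj (DCoh.toD Y M)) := ⟨_, ⟨DerivedCategory.Q.objObjPreimageIso _⟩⟩
  haveI := hasLTensorCx R
  haveI := PerfShriek.hasRSheafHom R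
  have hR : DCoh.IsPerfect (DCoh.toD _ R) := isPerfect_congr eR.symm
    ((isPerfect_iff _).2 (TorBC.locSP_rpush_properFlat b ((isPerfect_iff _).1 hM)))
  obtain ⟨d⟩ := PushDual.nonempty_rpush_dual b hb bdx adj M (isQCohD_of_isPerfect hM) R eR O
    (isQCohD_RSheafHom_of_isPerfect R hR _ O.property) (isQCohD_RSheafHom_of_isPerfect M hM _ (bdx.obj O).property)
  obtain ⟨cm⟩ := nonempty_tensorMod_comm ω D'
  obtain ⟨ti⟩ := nonempty_ltensor_inD hD' ω
  obtain ⟨s₁⟩ := PhiShift.nonempty_ltensor_shift S' (g : ℤ)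
  obtain ⟨s₂⟩ := PhiShift.nonempty_ltensor_shift K (g : ℤ)
  obtain ⟨s₃⟩ := Lib.DerivedProj.nonempty_rpush_shift b (g : ℤ)
  let V := (DCoh.LTensorCx K).obj (DCoh.inD Y (CohB1.tensorMod D' ω))
  let eRd : (DCoh.RSheafHom R).obj (DCoh.inD _ (Coh.structureModule (Spec (CommRingCat.of k)))) ≅
      ((DCoh.Rpush b).obj V)⟦(g : ℤ)⟧ :=
    (DCoh.RSheafHom R).mapIso eO.symm ≪≫ d ≪≫ (DCoh.Rpush b).mapIso
      ((rM.app _).symm ≪≫ (DCoh.RSheafHom C).mapIso (rS.app _) ≪≫ (lK.app _).symm ≪≫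
        (DCoh.LTensorCx K).mapIso ((DCoh.LTensorCx S').mapIso eW' ≪≫ s₁.app _ ≪≫
          (shiftFunctor _ (g : ℤ)).mapIso (ti ≪≫ (DerivedCategory.singleFunctor Y.Modules 0).mapIso cm)) ≪≫
        s₂.app _) ≪≫ s₃.app V
  have hVp : DCoh.IsPerfect ((DCoh.Rpush b).obj V) := by
    refine (isPerfect_iff _).2 ((((isPerfect_iff _).1 (isPerfect_RSheafHom_structure R hR)).of_iso eRd).shift (-(g : ℤ))
      |>.of_iso ((shiftFunctorCompIsoId _ (g : ℤ) (-(g : ℤ)) (by omega)).app _))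
  have hRd : ∀ i : ℤ, i < (k' : ℤ) - k' ∨ (k' : ℤ) < i →
      IsZero (DCoh.HD ((DCoh.RSheafHom R).obj (DCoh.inD _ (Coh.structureModule (Spec (CommRingCat.of k))))) i) :=
    fun i hi => ((isZero_RΓ_iff_point k b V hVp (i + g)).1 (hvan n (le_max_left _ _) (i + g) (by omega))).of_iso
      ((DerivedCategory.homologyFunctor _ i).mapIso eRd ≪≫
        ((DerivedCategory.homologyFunctor _ 0).shiftIso (g : ℤ) i (i + g) (by omega)).app _)
  have hk : ∀ y : ↥(Spec (CommRingCat.of k)),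
      LocCoh.IsCohenMacaulayLocalRing ↑((Spec (CommRingCat.of k)).presheaf.stalk y) := fun y => isCM_stalk_field k y
  obtain ⟨hlow, hsupp⟩ := bounds_of_dual hk R hR (k' : ℤ) k' hRd
  have hRz : ∀ i : ℤ, i < 0 - (k' : ℤ) ∨ 0 < i → IsZero (DCoh.HD (DCoh.toD _ R) i) := fun i hi => by
    by_cases h : i < -(k' : ℤ)
    · exact hlow i h
    · obtain ⟨m, hm⟩ := Int.eq_ofNat_of_zero_le (show 0 ≤ i + k' by omega)
      obtain rfl : i = (m : ℤ) - k' := by omega
      refine isZero_of_stalk _ fun y => ?_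
      haveI : Subsingleton ((DCoh.HD (DCoh.toD _ R) ((m : ℤ) - k')).presheaf.stalk y) := not_not.1 fun hne => by
        have h1 := (hsupp m y hne).trans (le_of_eq (ringKrullDim_stalk_field k y))
        have h2 : m - k' ≤ 0 := by exact_mod_cast h1
        omega
      exact @ModuleCat.isZero_of_subsingleton _ _ (ModuleCat.of _ _) ‹_›
  have hCz : ∀ i : ℤ, i < 0 - (k' : ℤ) ∨ 0 < i →
      IsZero (DCoh.HD ((DCoh.RSheafHom K).obj (DCoh.inD Y (Coh.structureModule Y))) i) := fun i hi => by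
    refine ((hdet n (le_max_right _ _) i).1 ?_).of_iso ((DerivedCategory.homologyFunctor _ i).mapIso eC.symm)
    refine ((isZero_RΓ_iff_point k b _ ?_ i).2 ?_)
    · exact isPerfect_congr (eR ≪≫ (DCoh.Rpush b).mapIso eM) hR
    · exact (hRz i hi).of_iso ((DerivedCategory.homologyFunctor _ i).mapIso (eR ≪≫ (DCoh.Rpush b).mapIso eM)).symm
  obtain ⟨r1, r2⟩ := bounds_of_dual hYcm K hK 0 k' hCz
  exact ⟨fun i hi => r1 i (by omega), fun i y hy => r2 i y (by rwa [sub_zero])⟩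

/-- `RΓ(X, F ⊗ Ψ N) = RΓ(Y, Φ F ⊗ N)` for quasi-coherent `N`. -/
theorem nonempty_pairing_qcoh {S : Scheme.{u}} (a : X ⟶ S) (b : Y ⟶ S)
    [QuasiCompact (pullback.snd a b)] [QuasiSeparated (pullback.snd a b)]
    (P : CochainComplex (pullback a b).Modules ℤ) (hP : DCoh.IsPerfect (DCoh.toD (pullback a b) P))
    [DCoh.HasLpull (pullback.fst a b)] [DCoh.HasLpull (pullback.snd a b)] [DCoh.HasLTensorCx P]
    [DCoh.HasRpush (pullback.fst a b)] [DCoh.HasRpush (pullback.snd a b)] [DCoh.HasRΓ X] [DCoh.HasRΓ Y]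
    (F : CochainComplex X.Modules ℤ) (hF : DCoh.IsPerfect (DCoh.toD X F)) [DCoh.HasLTensorCx F]
    (K : CochainComplex Y.Modules ℤ) [DCoh.HasLTensorCx K]
    (eK : DCoh.toD Y K ≅ (FMK.phi a b P).obj (DCoh.toD X F)) (N : DCoh.DQCoh Y) :
    Nonempty ((DCoh.RΓ X).obj ((DCoh.LTensorCx F).obj
        ((DCoh.Lpull (pullback.snd a b) ⋙ DCoh.LTensorCx P ⋙ DCoh.Rpush (pullback.fst a b)).obj N.obj)) ≅
      (DCoh.RΓ Y).obj ((DCoh.LTensorCx K).obj N.obj)) := by
  let Z := pullback a b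
  haveI := KernelPairing.hasRΓ Z
  obtain ⟨E, ⟨eE⟩⟩ : ∃ E : CochainComplex Z.Modules ℤ, Nonempty (DCoh.toD Z E ≅
      (DCoh.Lpull (pullback.fst a b)).obj (DCoh.toD X F)) := ⟨_, ⟨DerivedCategory.Q.objObjPreimageIso _⟩⟩
  haveI := hasLTensorCx E
  obtain ⟨M, ⟨eM⟩⟩ : ∃ M : CochainComplex Z.Modules ℤ, Nonempty (DCoh.toD Z M ≅
      (DCoh.LTensorCx P).obj (DCoh.toD Z E)) := ⟨_, ⟨DerivedCategory.Q.objObjPreimageIso _⟩⟩
  haveI := hasLTensorCx M
  have hM : DCoh.IsQCohD (DCoh.toD Z M) := isQCohD_of_isPerfect (isPerfect_congr eM.symm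
    (isPerfect_ltensor' P hP (isPerfect_congr eE.symm (isPerfect_lpull _ hF))))
  obtain ⟨g₁⟩ := KernelPairing.nonempty_gamma_proj (pullback.fst a b) F hF E eE
    ((DCoh.LTensorCx P).obj ((DCoh.Lpull (pullback.snd a b)).obj N.obj))
  obtain ⟨c⟩ := nonempty_ltensorCx_ltensorCx E P M eM
  obtain ⟨cm⟩ := KernelDual.nonempty_ltensor_comm P E
  let eP₀ : (DCoh.LTensorCx P).obj ((DCoh.Lpull (pullback.fst a b)).obj (DCoh.toD X F)) ≅ DCoh.toD Z M :=
    (DCoh.LTensorCx P).mapIso eE.symm ≪≫ eM.symm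
  let eR : DCoh.toD Y K ≅ (DCoh.Rpush (pullback.snd a b)).obj (DCoh.toD Z M) :=
    eK ≪≫ (DCoh.Rpush (pullback.snd a b)).mapIso eP₀
  obtain ⟨g₂⟩ := @nonempty_gamma_proj_qcoh Z Y (pullback.snd a b) _ _ _ _ _ _ M hM _ K eR _ N
  let V := (DCoh.Lpull (pullback.snd a b)).obj N.obj
  let u : (DCoh.LTensorCx E).obj ((DCoh.LTensorCx P).obj V) ≅ (DCoh.LTensorCx M).obj V :=
    cm.app V ≪≫ c.app V
  exact ⟨g₁ ≪≫ (DCoh.RΓ Z).mapIso u ≪≫ g₂.symm⟩

/-- The conditional bound on a transform. -/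
theorem bounds_kernel (k : Type u) [Field k] (a : X ⟶ Spec (CommRingCat.of k)) (b : Y ⟶ Spec (CommRingCat.of k))
    [IsProper a] [IsProper b]
    (hYcm : ∀ y : ↥Y, LocCoh.IsCohenMacaulayLocalRing ↑(Y.presheaf.stalk y))
    (g : ℕ) (hYeq : ∀ Z ∈ irreducibleComponents ↥Y, topologicalKrullDim ↥Z = (g : WithBot ℕ∞))
    [DCoh.HasRpush b] (hb : DCoh.RpushPreservesQCoh b)
    (bdx : DCoh.DQCoh (Spec (CommRingCat.of k)) ⥤ DCoh.DQCoh Y) (adj : DCoh.RpushQ b hb ⊣ bdx)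
    (O : DCoh.DQCoh (Spec (CommRingCat.of k)))
    (eO : O.obj ≅ DCoh.inD (Spec (CommRingCat.of k)) (Coh.structureModule (Spec (CommRingCat.of k))))
    {L L' : Y.Modules} (hL : CohB1.IsAmple L) (eL : CohB1.tensorMod L L' ≅ Coh.structureModule Y)
    (P : CochainComplex (pullback a b).Modules ℤ) (hP : DCoh.IsPerfect (DCoh.toD (pullback a b) P))
    [DCoh.HasLpull (pullback.fst a b)] [DCoh.HasLpull (pullback.snd a b)] [DCoh.HasLTensorCx P]
    [DCoh.HasRpush (pullback.fst a b)] [DCoh.HasRpush (pullback.snd a b)] [DCoh.HasRΓ X]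
    (k' : ℕ) (F : CochainComplex X.Modules ℤ) (hF : DCoh.IsPerfect (DCoh.toD X F)) [DCoh.HasLTensorCx F]
    (hvan : ∃ n₀ : ℕ, ∀ n : ℕ, n₀ ≤ n → ∀ j : ℤ, j < (g : ℤ) ∨ (g : ℤ) + k' < j →
      IsZero ((DerivedCategory.homologyFunctor AddCommGrpCat.{u} j).obj ((DCoh.RΓ X).obj
        ((DCoh.LTensorCx F).obj ((DCoh.Lpull (pullback.snd a b) ⋙ DCoh.LTensorCx P ⋙ DCoh.Rpush (pullback.fst a b)).obj
          (DCoh.inD Y (CohB1.tensorMod (CohB1.tensorPow L' n) (DCoh.HD (bdx.obj O).obj (-(g : ℤ)))))))))) :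
    (∀ i : ℤ, i < 0 → IsZero (DCoh.HD ((FMK.phi a b P).obj (DCoh.toD X F)) i)) ∧
    (∀ (i : ℕ) (y : ↥Y), y ∈ CohB1.support (DCoh.HD ((FMK.phi a b P).obj (DCoh.toD X F)) (i : ℤ)) →
      ((i - k' : ℕ) : WithBot ℕ∞) ≤ ringKrullDim ↑(Y.presheaf.stalk y)) := by
  haveI : IsNoetherian Y := BCNat.isNoetherian_of_ft b
  haveI := KernelPairing.hasRΓ Y
  let Z := pullback a b
  obtain ⟨E, ⟨eE⟩⟩ : ∃ E : CochainComplex Z.Modules ℤ, Nonempty (DCoh.toD Z E ≅
      (DCoh.Lpull (pullback.fst a b)).obj (DCoh.toD X F)) := ⟨_, ⟨DerivedCategory.Q.objObjPreimageIso _⟩⟩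
  obtain ⟨K, ⟨eK⟩⟩ : ∃ K : CochainComplex Y.Modules ℤ, Nonempty (DCoh.toD Y K ≅
      (FMK.phi a b P).obj (DCoh.toD X F)) := ⟨_, ⟨DerivedCategory.Q.objObjPreimageIso _⟩⟩
  haveI := hasLTensorCx K
  have hK : DCoh.IsPerfect (DCoh.toD Y K) := isPerfect_congr eK.symm
    ((isPerfect_iff _).2 (TorBC.locSP_rpush_properFlat (pullback.snd a b) ((isPerfect_iff _).1
      (isPerfect_congr ((DCoh.LTensorCx P).mapIso eE)
        (isPerfect_ltensor' P hP (isPerfect_congr eE.symm (isPerfect_lpull _ hF)))))))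
  have hω : ∀ n : ℕ, DCoh.IsQCohD (DCoh.inD Y (CohB1.tensorMod (CohB1.tensorPow L' n)
      (DCoh.HD (bdx.obj O).obj (-(g : ℤ))))) := fun n => isQCohD_inD_of_isQCoh
    (isQCoh_tensor (ProjUPX.isQCoh_of_isInvertible (InvX.isInvertible_tensorPow
      (isInvertible_of_tensor hL.1 eL) n)) ((bdx.obj O).property _))
  obtain ⟨n₀, hvan⟩ := hvan
  obtain ⟨h1, h2⟩ := bounds_of_twisted_vanishing k b hYcm g hYeq hb bdx adj O eO hL eL K hK k'
    ⟨n₀, fun n hn j hj => by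
      obtain ⟨p⟩ := nonempty_pairing_qcoh a b P hP F hF K eK ⟨_, hω n⟩
      exact (hvan n hn j hj).of_iso ((DerivedCategory.homologyFunctor AddCommGrpCat.{u} j).mapIso p.symm)⟩
  refine ⟨fun i hi => (h1 i hi).of_iso ((DerivedCategory.homologyFunctor _ i).mapIso eK.symm),
    fun i y hy => h2 i y fun h => hy ?_⟩
  exact ((CategoryTheory.Iso.addCommGroupIsoToAddEquiv ((TopCat.Presheaf.stalkFunctor AddCommGrpCat.{u} y).mapIso
    ((Scheme.Modules.toPresheaf Y).mapIso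
      ((DerivedCategory.homologyFunctor _ (i : ℤ)).mapIso eK.symm)))).toEquiv.subsingleton_congr.2 h)

end Groth.Agent.KExact.KernelDualVan
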