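import Groth.Agent.KExact.PhiShift
import Groth.Agent.KExact.CodimRHom
import Groth.Agent.ZClosLib.SerreTwo
import Groth.Agent.KExact.KernelDualVan
import Groth.Agent.KExact.ExternalBdd
import Groth.Agent.SiteBase.HDURestr
import Groth.Agent.KFlatLib.Scheme.TorAmpPushRel
import Groth.Agent.MorLib.FlatBC
import Groth.Agent.H23.AcyclicRes.PushF
import Groth.Agent.H23.CohTensor
import Groth.Agent.KFlatLib.Scheme.CohD

/-!
# Amplitude of transforms and of their duals
-/

set_option autoImplicit false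
set_option linter.style.haveILetI false
set_option backward.isDefEq.respectTransparency false
set_option backward.isDefEq.respectTransparency.types false
set_option maxHeartbeats 1000000

universe u

open CategoryTheory CategoryTheory.Limits AlgebraicGeometry

attribute [local instance] HasDerivedCategory.standard

namespace Groth.Agent.KExact.DualTwistVan

open KFlatLib H9Misc

variable {X Y : Scheme.{u}}

/-- The dual of a perfect object of tor amplitude in `[a, b]` has no cohomology above `-a`. -/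
theorem isZero_hd_dual (K : CochainComplex X.Modules ℤ) (hK : DCoh.IsPerfect (DCoh.toD X K))
    [DCoh.HasLTensorCx K] [DCoh.HasRSheafHom K] (a b : ℤ) (hab : a ≤ b)
    (hamp : DCoh.HasTorAmplitudeIn a b (DCoh.toD X K)) (m : ℤ) (hm : -a < m) :
    IsZero (DCoh.HD ((DCoh.RSheafHom K).obj (DCoh.inD X (Coh.structureModule X))) m) := by
  let O := Coh.structureModule X
  obtain ⟨I, hI, hinj, ⟨eL⟩⟩ := exists_kInjective_rep (DCoh.inD X O)
  haveI := hI
  haveI := hinj
  obtain ⟨eR⟩ := nonempty_RSheafHom_iso K I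
  refine isZero_of_stalk _ fun x => ?_
  obtain ⟨U, j₀, _, ⟨x₀, rfl⟩, E, hv, hf, ⟨eE⟩⟩ := (perfectAmplitude_iff (DCoh.toD X K) a b hab).2
    ⟨((isPerfect_iff _).1 hK).locPC _, flatAmplitude_of_torAmplitude hasLTensorMod hab hamp⟩ x
  obtain ⟨W, hxW, hfree⟩ := exists_free_nhd hv hf x₀
  let j := W.ι ≫ j₀
  let P := (rCx W.ι).obj E
  let J := (rCx j).obj I
  haveI : J.IsKInjective := isKInjective_rCx j I
  haveI : ∀ n, Injective (J.X n) := injective_rCx j I
  let eK : DerivedCategory.Q.obj ((rCx j).obj K) ≅ DerivedCategory.Q.obj P :=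
    ((rhoQ j).app K).symm ≪≫ (rhoComp W.ι j₀ j rfl _).symm ≪≫ (rho W.ι).mapIso eE.symm ≪≫ (rhoQ W.ι).app E
  obtain ⟨e₁⟩ := nonempty_rho_iHom j K I
  obtain ⟨e₂⟩ := nonempty_iHom_iso_of_iso eK J
  let Φ : ObjectProperty (DCoh.D (W : Scheme.{u})) := fun C => ∀ i, -a < i → IsZero (DCoh.HD C i)
  haveI : Φ.IsClosedUnderIsomorphisms := ⟨fun f h i hi =>
    (h i hi).of_iso ((DerivedCategory.homologyFunctor _ i).mapIso f.symm)⟩
  have hshift : ∀ n : ℤ, a ≤ n → Φ (DerivedCategory.Q.obj (J⟦n⟧)) := fun n hn i hi => by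
    let eJ : DerivedCategory.Q.obj (J⟦n⟧) ≅ ((rho j).obj (DCoh.inD X O))⟦n⟧ :=
      (DerivedCategory.Q.commShiftIso n).app J ≪≫
        (shiftFunctor _ n).mapIso (((rhoQ j).app I).symm ≪≫ (rho j).mapIso eL.symm)
    refine IsZero.of_iso ?_ ((DerivedCategory.homologyFunctor _ i).mapIso eJ ≪≫
      ((DerivedCategory.homologyFunctor _ 0).shiftIso n i (n + i) rfl).app _ ≪≫ restrictHDIso j _ (n + i))
    exact (Scheme.Modules.restrictFunctor j).map_isZero
      (DerivedCategory.isZero_of_isLE ((DerivedCategory.singleFunctor X.Modules 0).obj O) 0 (n + i) (by omega))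
  have hΦ : IHomProp Φ J P :=
    DualAmpAt.iHom_devissage' Φ (fun C hC i _ => Functor.map_isZero _ hC)
      (fun T hT h₁ h₃ i hi => (DerivedCategory.HomologySequence.exact₂ T hT i).isZero_X₂
        ((h₁ i hi).eq_of_src _ _) ((h₃ i hi).eq_of_tgt _ _))
      J a (b + 1 - a).toNat (fun n hn _ => hshift n hn) P
      (fun i hi => (Scheme.Modules.restrictFunctor W.ι).map_isZero (hv i (by omega))) hfree
  have hz : IsZero ((DCoh.HD ((DCoh.RSheafHom K).obj (DCoh.inD X O)) m).restrict j) :=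
    (hΦ m hm).of_iso ((restrictHDIso j _ m).symm ≪≫ (DerivedCategory.homologyFunctor _ m).mapIso
      ((rho j).mapIso ((DCoh.RSheafHom K).mapIso eL ≪≫ eR) ≪≫ e₁ ≪≫ e₂))
  exact isZero_stalk_of_restrict j (⟨x₀, hxW⟩ : W) ((DerSch.stalkFunctor (W : Scheme.{u}) ⟨x₀, hxW⟩).map_isZero hz)

/-- Internal Hom out of a finite locally free module is the tensor product with its dual. -/
theorem nonempty_RSheafHom_lf {E E' : X.Modules} (hE : FlatMod.IsFinLocFree E) (eE' : E' ≅ SheafHomY.dual E)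
    [DCoh.HasLTensorCx ((HomologicalComplex.single X.Modules (ComplexShape.up ℤ) 0).obj E)]
    [DCoh.HasRSheafHom ((HomologicalComplex.single X.Modules (ComplexShape.up ℤ) 0).obj E)]
    [DCoh.HasLTensorCx ((HomologicalComplex.single X.Modules (ComplexShape.up ℤ) 0).obj E')] :
    Nonempty (DCoh.RSheafHom ((HomologicalComplex.single X.Modules (ComplexShape.up ℤ) 0).obj E) ≅
      DCoh.LTensorCx ((HomologicalComplex.single X.Modules (ComplexShape.up ℤ) 0).obj E')) := by
  have key : ∀ (D : X.Modules) (hD : FlatMod.IsFinLocFree D)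
      [DCoh.HasLTensorCx ((HomologicalComplex.single X.Modules (ComplexShape.up ℤ) 0).obj D)]
      [PreservesFiniteLimits (DCoh.tensorBi.flip.obj D)] [PreservesFiniteColimits (DCoh.tensorBi.flip.obj D)],
      Nonempty (DCoh.LTensorCx ((HomologicalComplex.single X.Modules (ComplexShape.up ℤ) 0).obj D) ≅
        (DCoh.tensorBi.flip.obj D).mapDerivedCategory) := by
    intro D _ _ _ _
    let F := DCoh.tensorBi.flip.obj D
    let Fd := F.mapDerivedCategory
    let S := (HomologicalComplex.single X.Modules (ComplexShape.up ℤ) 0).obj D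
    let eQ : DerivedCategory.Q ⋙ Fd ⋙ shiftFunctor (DCoh.D X) (-(0 : ℤ)) ≅ DCoh.tensorCxQ S :=
      Functor.isoWhiskerRight F.mapDerivedCategoryFactors (shiftFunctor (DCoh.D X) (-(0 : ℤ))) ≪≫
        Functor.isoWhiskerLeft (F.mapHomologicalComplex (ComplexShape.up ℤ))
          (DerivedCategory.Q.commShiftIso (-(0 : ℤ))).symm ≪≫
        Functor.isoWhiskerRight (InvShift.tenSingleIso D 0).symm DerivedCategory.Q
    haveI := Functor.isLeftDerivedFunctor_of_inverts (F := DCoh.tensorCxQ S)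
      (HomologicalComplex.quasiIso X.Modules (ComplexShape.up ℤ)) (Fd ⋙ shiftFunctor (DCoh.D X) (-(0 : ℤ))) eQ
    let eT : DCoh.LTensorCx S ≅ Fd ⋙ shiftFunctor (DCoh.D X) (-(0 : ℤ)) :=
      Functor.leftDerivedUnique _ _
        ((DCoh.tensorCxQ S).totalLeftDerivedCounit DerivedCategory.Q
          (HomologicalComplex.quasiIso X.Modules (ComplexShape.up ℤ))) eQ.hom
        (HomologicalComplex.quasiIso X.Modules (ComplexShape.up ℤ))
    exact ⟨eT ≪≫ Functor.isoWhiskerLeft Fd (shiftFunctorZero' (DCoh.D X) (-(0 : ℤ)) neg_zero) ≪≫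
      Fd.rightUnitor⟩
  let S := (HomologicalComplex.single X.Modules (ComplexShape.up ℤ) 0).obj E
  have hd : FlatMod.IsFinLocFree (SheafHomY.dual E) := LocFreeHomTensor.isFinLocFree_dual hE
  have hE' : FlatMod.IsFinLocFree E' := H23.PullPush.isFinLocFree_of_iso eE'.symm hd
  haveI : PreservesFiniteLimits (DCoh.tensorBi.flip.obj E) := LocFreeHomTensor.preservesFiniteLimits_ten hE
  haveI : PreservesFiniteLimits (DCoh.tensorBi.flip.obj E') := LocFreeHomTensor.preservesFiniteLimits_ten hE'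
  haveI : (DCoh.tensorBi.flip.obj E).IsLeftAdjoint := SheafHomX.isLeftAdjoint_ten E
  haveI : (DCoh.tensorBi.flip.obj E').IsLeftAdjoint := SheafHomX.isLeftAdjoint_ten E'
  haveI : PreservesFiniteColimits (DCoh.tensorBi.flip.obj E) := inferInstance
  haveI : PreservesFiniteColimits (DCoh.tensorBi.flip.obj E') := inferInstance
  obtain ⟨e⟩ := key E hE
  obtain ⟨e'⟩ := key E' hE'
  let θ : DCoh.tensorBi.flip.obj E' ≅ SheafHomX.hom E :=
    (DCoh.tensorBi (X := X)).flip.mapIso eE' ≪≫ SheafHomY.thetaIso hE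
  let adj : DCoh.tensorBi.flip.obj E ⊣ DCoh.tensorBi.flip.obj E' := (SheafHomX.adj E).ofNatIsoRight θ.symm
  exact ⟨(DCoh.RSheafHomAdj S).rightAdjointUniq ((HDURestr.derivedAdj adj).ofNatIsoLeft e.symm) ≪≫ e'.symm⟩

/-- Modules on a scheme over a field are flat over it. -/
theorem isFlatOver_field (k : Type u) [Field k] (a : X ⟶ Spec (CommRingCat.of k)) (M : X.Modules) :
    FlatMod.IsFlatOver a M := fun x => by
  letI := FlatMod.moduleStalkOver a M x
  letI := (isField_stalk_spec k (a.base x)).toField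
  exact Module.Flat.of_free

/-- The transform of a coherent sheaf by a locally free kernel has tor amplitude `≥ 0`. -/
theorem exists_torAmplitude_phi (k : Type u) [Field k] (a : X ⟶ Spec (CommRingCat.of k)) (b : Y ⟶ Spec (CommRingCat.of k))
    [IsProper a] [IsProper b]
    {P₀ : (pullback a b).Modules} (hP₀ : FlatMod.IsFinLocFree P₀)
    [DCoh.HasLpull (pullback.fst a b)]
    [DCoh.HasLTensorCx ((HomologicalComplex.single (pullback a b).Modules (ComplexShape.up ℤ) 0).obj P₀)]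
    [DCoh.HasRpush (pullback.snd a b)] (F : X.Modules) (hF : Coh.IsQCoh F) :
    ∃ N : ℕ, DCoh.HasTorAmplitudeIn 0 (0 + (N : ℤ)) ((FMK.phi a b
      ((HomologicalComplex.single (pullback a b).Modules (ComplexShape.up ℤ) 0).obj P₀)).obj (DCoh.inD X F)) := by
  let Z := pullback a b
  let q := pullback.snd a b
  haveI : IsNoetherian Y := BCNat.isNoetherian_of_ft b
  let F' := (Scheme.Modules.pullback (pullback.fst a b)).obj F
  let S := (HomologicalComplex.single Z.Modules (ComplexShape.up ℤ) 0).obj P₀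
  let S' := (HomologicalComplex.single Z.Modules (ComplexShape.up ℤ) 0).obj F'
  haveI := hasLTensorCx S'
  obtain ⟨e₁⟩ := nonempty_lpull_inD_of_flat (pullback.fst a b) F
  let s := DerivedCategory.singleFunctorIsoCompQ Z.Modules 0
  obtain ⟨sw⟩ := KExact.nonempty_ltensor_swap S' S
  obtain ⟨e₂⟩ := KFlatLib.nonempty_ltensor_inD (isFlat_of_isFinLocFree hP₀) F'
  let E₀ := CohB1.tensorMod P₀ F'
  have hq : Coh.IsQCoh E₀ := isQCoh_tensor (QCoh.isQCoh_of_isFinLocFree hP₀) (QCoh.isQCoh_pullback _ hF)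
  let e : (DCoh.LTensorCx S).obj ((DCoh.Lpull (pullback.fst a b)).obj (DCoh.inD X F)) ≅ DCoh.inD Z E₀ :=
    (DCoh.LTensorCx S).mapIso (e₁ ≪≫ s.app F') ≪≫ sw ≪≫
      (DCoh.LTensorCx S').mapIso (s.app P₀).symm ≪≫ e₂
  obtain ⟨N, hN⟩ := exists_Rpush_bound (X := Z) (Y := Y) q
  have hfl : FlatMod.IsFlatOver q E₀ := H23.AcyclicRes.isFlatOver_tensor_lf q hP₀ fun z =>
    MorLib.FlatBC.isFlatOverAt_baseChange a q (pullback.fst a b) b (IsPullback.of_hasPullback a b) F z
      (isFlatOver_field k a F _)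
  refine ⟨N, torAmplitude_rpush_rel q N (fun M hM p hp => hN M hM p hp.le) _ ?_ 0 0 ?_⟩
  · exact isQCohD_of_iso e.symm (isQCohD_inD_of_isQCoh hq)
  · refine ⟨(HomologicalComplex.single Z.Modules (ComplexShape.up ℤ) 0).obj E₀,
      fun i hi => HomologicalComplex.isZero_single_obj_X _ _ _ _ (by omega), fun i => ?_,
      ⟨(s.app E₀).symm ≪≫ e.symm⟩⟩
    by_cases hi : i = 0
    · exact isFlatOver_of_iso' q
        (HomologicalComplex.singleObjXIsoOfEq (ComplexShape.up ℤ) 0 E₀ i hi).symm hfl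
    · exact isFlatOver_of_isZero q (HomologicalComplex.isZero_single_obj_X _ _ _ _ hi)

/-- Codimension bounds give the vanishing of the low cohomology of the twisted dual. -/
theorem isZero_twist_dual (k : Type u) [Field k] (b : Y ⟶ Spec (CommRingCat.of k)) [IsProper b]
    (hYcm : ∀ y : ↥Y, LocCoh.IsCohenMacaulayLocalRing ↑(Y.presheaf.stalk y))
    (g : ℕ) (hg : topologicalKrullDim ↥Y ≤ (g : WithBot ℕ∞))
    (hYeq : ∀ Z ∈ irreducibleComponents ↥Y, topologicalKrullDim ↥Z = (g : WithBot ℕ∞))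
    [DCoh.HasRpush b] (hb : DCoh.RpushPreservesQCoh b)
    (bdx : DCoh.DQCoh (Spec (CommRingCat.of k)) ⥤ DCoh.DQCoh Y) (adj : DCoh.RpushQ b hb ⊣ bdx)
    (O : DCoh.DQCoh (Spec (CommRingCat.of k)))
    (eO : O.obj ≅ DCoh.inD (Spec (CommRingCat.of k)) (Coh.structureModule (Spec (CommRingCat.of k))))
    (K : CochainComplex Y.Modules ℤ) (hK : DCoh.IsPerfect (DCoh.toD Y K)) [DCoh.HasLTensorCx K] [DCoh.HasRSheafHom K]
    (C : CochainComplex Y.Modules ℤ)
    (eC : DCoh.toD Y C ≅ (DCoh.RSheafHom K).obj (DCoh.inD Y (Coh.structureModule Y)))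
    (k' : ℕ)
    (hcodim : ∀ (n : ℕ) (y : ↥Y), y ∈ CohB1.support (DCoh.HD (DCoh.toD Y K) (n : ℤ)) →
      ((n - k' : ℕ) : WithBot ℕ∞) ≤ ringKrullDim ↑(Y.presheaf.stalk y))
    [DCoh.HasLTensorCx ((HomologicalComplex.single Y.Modules (ComplexShape.up ℤ) 0).obj
      (DCoh.HD (bdx.obj O).obj (-(g : ℤ))))]
    (i : ℤ) (hi : i < -(k' : ℤ)) :
    IsZero (DCoh.HD ((DCoh.LTensorCx ((HomologicalComplex.single Y.Modules (ComplexShape.up ℤ) 0).obj
      (DCoh.HD (bdx.obj O).obj (-(g : ℤ))))).obj (DCoh.toD Y C)) i) := by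
  haveI : IsNoetherian Y := BCNat.isNoetherian_of_ft b
  haveI := hasLTensorCx C
  haveI := PerfShriek.hasRSheafHom C
  have hC : DCoh.IsPerfect (DCoh.toD Y C) := isPerfect_congr eC.symm (isPerfect_RSheafHom_structure K hK)
  obtain ⟨bd⟩ := PerfShriek.nonempty_bidual K hK C eC
  obtain ⟨lK⟩ := PerfShriek.nonempty_ltensor_iso_RSheafHom_dual C hC K bd
  obtain ⟨-, hωc, hωs⟩ := S3637.result k Y b hYcm g hYeq hb bdx adj O ⟨eO⟩
  let ω := DCoh.HD (bdx.obj O).obj (-(g : ℤ))
  let Sω := (HomologicalComplex.single Y.Modules (ComplexShape.up ℤ) 0).obj ω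
  let s := DerivedCategory.singleFunctorIsoCompQ Y.Modules 0
  obtain ⟨sw⟩ := KExact.nonempty_ltensor_swap Sω C
  let eW : (DCoh.LTensorCx Sω).obj (DCoh.toD Y C) ≅ (DCoh.RSheafHom K).obj (DCoh.inD Y ω) :=
    sw.symm ≪≫ (DCoh.LTensorCx C).mapIso (s.app ω).symm ≪≫ lK.app _
  obtain ⟨hcC, lC, uC, hbC⟩ := AmpleDetect.coherent_bounded hC
  have hWc : DCoh.IsCohD ((DCoh.LTensorCx Sω).obj (DCoh.toD Y C)) :=
    H23.CohTensor.isCohD_ltensor Sω _ hcC (fun j => by
      refine isCoh_of_iso ((DerivedCategory.homologyFunctor _ j).mapIso (s.app ω)) ?_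
      by_cases hj : j = 0
      · subst hj
        exact isCoh_of_iso ((DerivedCategory.singleFunctorCompHomologyFunctorIso Y.Modules 0).app ω).symm hωc
      · refine isCoh_of_isZero ?_
        rcases lt_or_gt_of_ne hj with h | h
        · exact DerivedCategory.isZero_of_isGE ((DerivedCategory.singleFunctor Y.Modules 0).obj ω) 0 j h
        · exact DerivedCategory.isZero_of_isLE ((DerivedCategory.singleFunctor Y.Modules 0).obj ω) 0 j h)
      uC 0 (fun j hj => hbC j (Or.inr hj)) (fun j hj => IsZero.of_iso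
        (DerivedCategory.isZero_of_isLE ((DerivedCategory.singleFunctor Y.Modules 0).obj ω) 0 j hj)
        ((DerivedCategory.homologyFunctor _ j).mapIso (s.app ω).symm))
  refine (CodimRHom.isZero_hd_RSheafHom_codim k b hg K hK hωc (fun y => ?_) k' hcodim
    (fun n => isCoh_of_iso ((DerivedCategory.homologyFunctor _ n).mapIso eW) (hWc n)) i hi).of_iso
      ((DerivedCategory.homologyFunctor _ i).mapIso eW)
  exact ((hωs y).2.symm.trans (ZClosLib.supportDim_stalk_eq hωc (fun y => (hωs y).1) y))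

end Groth.Agent.KExact.DualTwistVan
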