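import Groth.Agent.KFlatLib.Ring.DualizingFibre
import Groth.Agent.LC.GorHull
import Groth.Agent.Synt29.SmoothProps
import Groth.Agent.FibDim.RingLoc
import Groth.Agent.S0319
import Groth.Agent.S2141
import Groth.Agent.S2768
import Groth.Prelude.Def_FlatCA
import Mathlib.RingTheory.SurjectiveOnStalks

/-!
# The normalizing shift of a dualizing complex along a smooth map
-/

set_option linter.style.haveILetI false
set_option backward.isDefEq.respectTransparency false

universe u

open CategoryTheory CategoryTheory.Limits Pretriangulated MonoidalCategory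

open scoped TensorProduct

attribute [local instance] HasDerivedCategory.standard

namespace Groth.Agent.KExact

open Groth.Agent.KFlatLib

/-- `Ext^{dim F}(κ, F) ≠ 0` for a Gorenstein local ring `F`. -/
theorem nontrivial_hom_residue_self {F : Type u} [CommRing F] [LocCoh.IsGorensteinLocalRing F]
    (r : ℕ) (hr : ringKrullDim F = r) :
    Nontrivial (Dual.inD F (F ⧸ IsLocalRing.maximalIdeal F) ⟶ (Dual.inD F F)⟦(r : ℤ)⟧) := by
  obtain ⟨d, hd, hδ, -⟩ := LC.gorenstein_basic (R := F)
  obtain rfl : d = r := by exact_mod_cast hd.symm.trans hr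
  have h := ((Groth.Agent.S0319.result F (IsLocalRing.maximalIdeal F) F
    (LC.smul_top_ne_top_of_le_maximal le_rfl) d).1 hδ).2
  exact (Abelian.Ext.homEquiv (X := ModuleCat.of F (F ⧸ IsLocalRing.maximalIdeal F)) (Y := ModuleCat.of F F)
    (n := d)).symm.nontrivial

section Local

variable {A B : Type u} [CommRing A] [CommRing B] [Algebra A B] [IsLocalRing A] [IsLocalRing B]
  [IsNoetherianRing B] [Module.Flat A B] [DTen.HasLBase (algebraMap A B)]

/-- The normalizing degree along a flat local map with Gorenstein fibre moves up by the fibre dimension. -/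
theorem nontrivial_hom_LBase_of_gorenstein_fibre {ω : Dual.D A} (hω : Dual.IsDualizing A ω)
    (hle : (IsLocalRing.maximalIdeal A).map (algebraMap A B) ≤ IsLocalRing.maximalIdeal B)
    (hF : LocCoh.IsGorensteinLocalRing (B ⧸ (IsLocalRing.maximalIdeal A).map (algebraMap A B)))
    (d : ℤ) (hd : Nontrivial (Dual.inD A (A ⧸ IsLocalRing.maximalIdeal A) ⟶ ω⟦d⟧)) (r : ℕ)
    (hr : ringKrullDim (B ⧸ (IsLocalRing.maximalIdeal A).map (algebraMap A B)) = r) :
    Nontrivial (Dual.inD B (B ⧸ IsLocalRing.maximalIdeal B) ⟶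
      ((DTen.LBase (algebraMap A B)).obj ω)⟦d + (r : ℤ)⟧) := by
  haveI := hω.isNoetherianRing
  haveI := hasLTen A
  haveI := hasRHom (A := A)
  haveI := hasLTen B
  haveI := hasRHom (A := B)
  let W := (DTen.LBase (algebraMap A B)).obj ω
  let J := (IsLocalRing.maximalIdeal A).map (algebraMap A B)
  let F := B ⧸ J
  haveI : LocCoh.IsGorensteinLocalRing F := hF
  haveI : IsNoetherianRing F := inferInstance
  haveI : IsLocalRing F := inferInstance
  haveI := hasLTen F
  haveI := hasRHom (A := F)
  obtain ⟨n, hvan, ⟨eA⟩⟩ := exists_unique_ext_point (IsLocalRing.maximalIdeal A) hω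
  obtain rfl : d = n := by
    by_contra hne
    exact not_subsingleton_iff_nontrivial.2 hd (hvan d hne)
  obtain ⟨a, b, -, _, _⟩ := exists_bounds_of_isDualizing hω
  haveI := isGE_LBase_flat (B := B) ω a
  obtain ⟨eJ⟩ := nonempty_LBase_inD_quotient (B := B) (IsLocalRing.maximalIdeal A)
  have hpc := (Groth.Agent.S6942.result A 0 ω (A ⧸ IsLocalRing.maximalIdeal A)).2.2 inferInstance
  -- Ext out of the closed fibre
  have hEvan : ∀ i : ℤ, i ≠ d → Subsingleton (Dual.inD B F ⟶ W⟦i⟧) := fun i hi => by
    obtain ⟨e⟩ := exists_homBaseChangeLEquiv (B := B) (X := Dual.inD A (A ⧸ IsLocalRing.maximalIdeal A))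
      (Y := ω) hpc a i
    haveI := hvan i hi
    haveI := e.injective.subsingleton
    exact eJ.homFromEquiv.symm.subsingleton
  obtain ⟨eF⟩ : Nonempty ((Dual.inD B F ⟶ W⟦d⟧) ≃ₗ[B] F) := by
    obtain ⟨e⟩ := exists_homBaseChangeLEquiv (B := B) (X := Dual.inD A (A ⧸ IsLocalRing.maximalIdeal A))
      (Y := ω) hpc a d
    exact ⟨(Linear.homCongr B eJ.symm (Iso.refl _)).trans (e.trans
      ((TensorProduct.AlgebraTensorModule.congr (LinearEquiv.refl B B) eA).trans
        (Algebra.TensorProduct.quotIdealMapEquivTensorQuot B (IsLocalRing.maximalIdeal A)).symm.toLinearEquiv))⟩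
  -- the fibre's share
  obtain ⟨R, ⟨adj⟩⟩ := exists_shriek (algebraMap B F)
  let RW := R.obj W
  have hsurj : Function.Surjective (algebraMap B F) := Ideal.Quotient.mk_surjective
  let eFres : (DRing.restrictD (algebraMap B F)).obj (Dual.inD F F) ≅ Dual.inD B F :=
    H9Misc.DRingRestrict.restrictInDIso (algebraMap B F) (ModuleCat.of F F) ≪≫
      (DerivedCategory.singleFunctor (ModuleCat.{u} B) 0).mapIso
        (LinearEquiv.ofBijective
          ({ toFun := fun x => x
             map_add' := fun _ _ => rfl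
             map_smul' := fun r (x : F) => (Algebra.smul_def r x).symm } :
            ((ModuleCat.restrictScalars (algebraMap B F)).obj (ModuleCat.of F F) : Type u) →ₗ[B] F)
          Function.bijective_id).toModuleIso
  have key : ∀ i : ℤ, ∃ e : Dual.HD F RW i ≃ (Dual.inD B F ⟶ W⟦i⟧),
      (∀ x y, e (x + y) = e x + e y) ∧ ∀ r x, e (algebraMap B F r • x) = r • e x := by
    intro i
    obtain ⟨e₁⟩ := exists_homRingLEquiv RW i
    obtain ⟨e₂, hadd, hsmul⟩ := exists_shriekHomEquiv (algebraMap B F) R adj (Dual.inD F F) W i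
    let c := Linear.homCongr B eFres (Iso.refl (W⟦i⟧))
    exact ⟨e₁.symm.toEquiv.trans (e₂.trans c.toEquiv),
      fun x y => (congrArg (fun z => c (e₂ z)) (map_add e₁.symm x y)).trans
        ((congrArg c (hadd _ _)).trans (map_add c _ _)),
      fun r x => (congrArg (fun z => c (e₂ z)) (map_smul e₁.symm (algebraMap B F r) x)).trans
        ((congrArg c (hsmul r _)).trans (map_smul c r _))⟩
  have hz : ∀ i : ℤ, i ≠ d → IsZero ((DerivedCategory.homologyFunctor (ModuleCat.{u} F) i).obj RW) :=
    fun i hi => by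
      obtain ⟨e, -, -⟩ := key i
      haveI := hEvan i hi
      exact @ModuleCat.isZero_of_subsingleton _ _ _ e.subsingleton
  obtain ⟨en⟩ : Nonempty (Dual.HD F RW d ≃ₗ[F] F) := by
    obtain ⟨e, hadd, hsmul⟩ := key d
    exact ⟨{ (e.trans eF.toEquiv) with
      map_add' := fun x y => by simp [hadd]
      map_smul' := fun r x => by
        obtain ⟨s, rfl⟩ := hsurj r
        change eF (e (algebraMap B F s • x)) = algebraMap B F s • eF (e x)
        rw [hsmul, map_smul]
        exact Algebra.smul_def s (eF (e x)) }⟩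
  haveI : RW.IsGE d := (DerivedCategory.isGE_iff _ _).2 fun i hi => hz i (by omega)
  haveI : RW.IsLE d := (DerivedCategory.isLE_iff _ _).2 fun i hi => hz i (by omega)
  obtain ⟨e₁⟩ := H9Misc.nonempty_iso_single_homology d RW
  let eRW : (Dual.inD F F)⟦-d⟧ ≅ RW :=
    ((DerivedCategory.singleFunctors (ModuleCat.{u} F)).shiftIso (-d) d 0 (by omega)).app (ModuleCat.of F F) ≪≫
      (DerivedCategory.singleFunctor (ModuleCat.{u} F) d).mapIso en.symm.toModuleIso ≪≫ e₁.symm
  haveI := nontrivial_hom_residue_self (F := F) r hr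
  haveI hFn : Nontrivial (Dual.inD F (F ⧸ IsLocalRing.maximalIdeal F) ⟶ RW⟦d + (r : ℤ)⟧) :=
    ((Iso.homToEquiv ((shiftFunctorAdd' (Dual.D F) (-d) (d + r) (r : ℤ) (by omega)).app (Dual.inD F F) ≪≫
      (shiftFunctor _ (d + (r : ℤ))).mapIso eRW))).symm.nontrivial
  -- the residue field
  let g : (B ⧸ IsLocalRing.maximalIdeal B) →ₗ[B]
      (ModuleCat.restrictScalars (algebraMap B F)).obj (ModuleCat.of F (F ⧸ IsLocalRing.maximalIdeal F)) :=
    Submodule.liftQ (IsLocalRing.maximalIdeal B)
      { toFun := fun x => Ideal.Quotient.mk (IsLocalRing.maximalIdeal F) (algebraMap B F x)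
        map_add' := fun x y => by rw [map_add, map_add]
        map_smul' := fun x y => by rw [smul_eq_mul, map_mul, map_mul]; try rfl }
      (fun x hx => Ideal.Quotient.eq_zero_iff_mem.2 (by
        intro hu
        obtain ⟨y, hy⟩ := hu.exists_right_inv
        obtain ⟨z, rfl⟩ := hsurj y
        rw [← map_mul, ← map_one (algebraMap B F)] at hy
        have h1 : x * z - 1 ∈ J := Ideal.Quotient.eq.1 hy
        have h2 := (IsLocalRing.maximalIdeal B).sub_mem
          ((IsLocalRing.maximalIdeal B).mul_mem_right z hx) (hle h1)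
        rw [sub_sub_cancel] at h2
        exact (IsLocalRing.maximalIdeal.isMaximal B).ne_top ((Ideal.eq_top_iff_one _).2 h2)))
  have hg : Function.Bijective g := by
    constructor
    · rw [← LinearMap.ker_eq_bot, LinearMap.ker_eq_bot']
      intro x
      obtain ⟨x, rfl⟩ := Submodule.Quotient.mk_surjective _ x
      intro h
      refine (Submodule.Quotient.mk_eq_zero _).2 fun hu => ?_
      exact (IsLocalRing.mem_maximalIdeal _).1
        ((Ideal.Quotient.eq_zero_iff_mem (I := IsLocalRing.maximalIdeal F)).1 h) (hu.map (algebraMap B F))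
    · intro y
      obtain ⟨y, rfl⟩ := Ideal.Quotient.mk_surjective (I := IsLocalRing.maximalIdeal F) y
      obtain ⟨x, rfl⟩ := hsurj y
      exact ⟨Submodule.Quotient.mk x, rfl⟩
  let eκ : (DRing.restrictD (algebraMap B F)).obj (Dual.inD F (F ⧸ IsLocalRing.maximalIdeal F)) ≅
      Dual.inD B (B ⧸ IsLocalRing.maximalIdeal B) :=
    H9Misc.DRingRestrict.restrictInDIso (algebraMap B F) (ModuleCat.of F (F ⧸ IsLocalRing.maximalIdeal F)) ≪≫
      (DerivedCategory.singleFunctor (ModuleCat.{u} B) 0).mapIso (LinearEquiv.ofBijective g hg).toModuleIso.symm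
  obtain ⟨e, -, -⟩ := exists_shriekHomEquiv (algebraMap B F) R adj
    (Dual.inD F (F ⧸ IsLocalRing.maximalIdeal F)) W (d + (r : ℤ))
  exact (e.trans (Linear.homCongr B eκ (Iso.refl _)).toEquiv).symm.nontrivial

end Local

/-- The residue field extension at a point of the fibre is that at the point. -/
theorem trdeg_fiber_residueField {A B : Type u} [CommRing A] [CommRing B] [Algebra A B]
    (p : Ideal A) [p.IsPrime] (q : Ideal B) [q.IsPrime] (hp : p = q.comap (algebraMap A B))
    (Q : Ideal (p.Fiber B)) [Q.IsPrime] (hQ : q = Q.comap Algebra.TensorProduct.includeRight.toRingHom) :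
    @Algebra.trdeg p.ResidueField q.ResidueField _ _
      (Ideal.ResidueField.mapₐ p q (Algebra.ofId A B) hp).toRingHom.toAlgebra =
    Algebra.trdeg p.ResidueField Q.ResidueField := by
  letI := (Ideal.ResidueField.mapₐ p q (Algebra.ofId A B) hp).toRingHom.toAlgebra
  let f : B →+* p.Fiber B := Algebra.TensorProduct.includeRight.toRingHom
  let φ := Ideal.ResidueField.map q Q f hQ
  have hφ : φ.comp (algebraMap p.ResidueField q.ResidueField) = algebraMap p.ResidueField Q.ResidueField := by
    refine Ideal.ResidueField.ringHom_ext (RingHom.ext fun a => ?_)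
    change φ ((Ideal.ResidueField.mapₐ p q (Algebra.ofId A B) hp) (algebraMap A p.ResidueField a)) =
      algebraMap p.ResidueField Q.ResidueField (algebraMap A p.ResidueField a)
    rw [AlgHom.commutes, IsScalarTower.algebraMap_apply A B q.ResidueField,
      Ideal.ResidueField.map_algebraMap, ← IsScalarTower.algebraMap_apply A p.ResidueField Q.ResidueField,
      IsScalarTower.algebraMap_apply A (p.Fiber B) Q.ResidueField]
    exact congrArg _ (Algebra.TensorProduct.includeRight.commutes a)
  exact AlgEquiv.trdeg_eq (AlgEquiv.ofBijective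
    (⟨φ, fun x => RingHom.congr_fun hφ x⟩ : q.ResidueField →ₐ[p.ResidueField] Q.ResidueField)
    ((p.surjectiveOnStalks_residueField.baseChange').residueFieldMap_bijective q Q hQ))

theorem localDim_fiber_eq {A B : Type u} [CommRing A] [CommRing B] [Algebra A B] (q : PrimeSpectrum B)
    (p : Ideal A) [p.IsPrime] (hp : q.asIdeal.under A = p) (Q : PrimeSpectrum (p.Fiber B))
    (hQ : Q.asIdeal.comap (Algebra.TensorProduct.includeRight.toRingHom) = q.asIdeal) :
    FlatMor.localDim (PrimeSpectrum (p.Fiber B)) Q =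
      FlatMor.fibreDimAt (AlgebraicGeometry.Spec.map (CommRingCat.ofHom (algebraMap A B))) q := by
  subst hp
  exact FibDim.localDim_fiber_eq_fibreDimAt q Q hQ


set_option maxHeartbeats 400000 in
theorem exists_ringKrullDim_fibLocRing {A B : Type u} [CommRing A] [CommRing B] [Algebra A B]
    [IsNoetherianRing A] [IsNoetherianRing B] [Algebra.Smooth A B] (n : ℕ) (hs : FlatCA.SmoothRelDim n A B)
    (p : Ideal A) [p.IsPrime] (q : Ideal B) [q.IsPrime] (hp : p = q.comap (algebraMap A B)) (t : ℕ)
    (ht : @Algebra.trdeg p.ResidueField q.ResidueField _ _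
      (Ideal.ResidueField.mapₐ p q (Algebra.ofId A B) hp).toRingHom.toAlgebra = (t : Cardinal.{u})) :
    ∃ r : ℕ, ringKrullDim (EGA4.FibLocRing A B q) = r ∧ r + t = n := by
  subst hp
  obtain ⟨Q, hQ⟩ := FlatLoc6.exists_fiber_prime (q.comap (algebraMap A B)) q rfl
  have ht' : Algebra.trdeg (q.comap (algebraMap A B)).ResidueField Q.asIdeal.ResidueField = t :=
    (trdeg_fiber_residueField (q.comap (algebraMap A B)) q rfl Q.asIdeal hQ.symm).symm.trans ht
  haveI : Algebra.FiniteType (q.comap (algebraMap A B)).ResidueField ((q.comap (algebraMap A B)).Fiber B) :=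
    inferInstance
  have hS := Groth.Agent.S2141.result (k := (q.comap (algebraMap A B)).ResidueField)
    (S := (q.comap (algebraMap A B)).Fiber B) Q.asIdeal t
  have hS' := hS (by
    refine Eq.trans ?_ ht'
    congr 1
    refine Algebra.algebra_ext _ _ fun x => RingHom.congr_fun (Ideal.ResidueField.ringHom_ext
      (RingHom.ext fun a => Eq.trans (b := IsLocalRing.residue (Localization.AtPrime Q.asIdeal)
        (algebraMap A (Localization.AtPrime Q.asIdeal) a)) ?_ ?_)) x
    · exact congrArg (IsLocalRing.residue (Localization.AtPrime Q.asIdeal))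
        (IsScalarTower.algebraMap_apply A (q.comap (algebraMap A B)).ResidueField
          (Localization.AtPrime Q.asIdeal) a).symm
    · exact IsScalarTower.algebraMap_apply A (q.comap (algebraMap A B)).ResidueField Q.asIdeal.ResidueField a)
  haveI : AlgebraicGeometry.SmoothOfRelativeDimension n
      (AlgebraicGeometry.Spec.map (CommRingCat.ofHom (algebraMap A B))) := hs
  have hn : FlatMor.localDim (PrimeSpectrum ((q.comap (algebraMap A B)).Fiber B)) Q = (n : WithBot ℕ∞) :=
    (localDim_fiber_eq ⟨q, inferInstance⟩ (q.comap (algebraMap A B)) rfl Q hQ).trans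
      (Groth.Agent.S2768.result n (AlgebraicGeometry.Spec.map (CommRingCat.ofHom (algebraMap A B))) ⟨q, inferInstance⟩)
  haveI := Synt29.SmoothProps.regular_fibLocRing (A := A) q
  haveI := LC.gorenstein_of_isRegularLocalRing (R := EGA4.FibLocRing A B q)
  obtain ⟨r, hr, -, -⟩ := LC.gorenstein_basic (R := EGA4.FibLocRing A B q)
  refine ⟨r, hr, ?_⟩
  have key : ∀ (q' : Ideal B) [q'.IsPrime], Q.asIdeal.comap Algebra.TensorProduct.includeRight = q' →
      ringKrullDim (Localization.AtPrime Q.asIdeal) = ringKrullDim (EGA4.FibLocRing A B q') := by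
    intro q' _ h
    subst h
    obtain ⟨e⟩ := FlatLoc6.exists_fibLocEquiv (q.comap (algebraMap A B)) Q.asIdeal
    exact ringKrullDim_eq_of_ringEquiv e
  rw [show FlatMor.localDim _ Q = _ from hS'] at hn
  rw [key q hQ, hr] at hn
  exact_mod_cast hn

end Groth.Agent.KExact
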