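import Groth.Agent.KExact.AffineRHom
import Groth.Agent.KFlatLib.Ring.Dualizing
import Groth.Agent.KFlatLib.Ring.DualizingPair
import Groth.Agent.KFlatLib.Scheme.RestrictHom
import Groth.Agent.KFlatLib.Scheme.DualTensorMod
import Groth.Agent.KFlatLib.Scheme.EvalPerfect
import Groth.Prelude.Def_DualSch

/-!
# Evaluation between two dualizing complexes of a scheme
-/

set_option autoImplicit false
set_option linter.style.haveILetI false
set_option linter.unusedSectionVars false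
set_option backward.isDefEq.respectTransparency false
set_option backward.isDefEq.respectTransparency.types false

universe u

open CategoryTheory CategoryTheory.Limits AlgebraicGeometry MonoidalCategory

attribute [local instance] HasDerivedCategory.standard

namespace Groth.Agent.KExact.DualTwist

open KFlatLib TildeTensor AffineRHom

/-- A split epimorphism onto an object with commutative endomorphisms, from an isomorphic object,
is an isomorphism. -/
lemma isIso_of_section {C : Type*} [Category C] {A B : C} (f : A ⟶ B) (ψ : A ≅ B) (s : B ⟶ A)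
    (h : s ≫ f = 𝟙 B) (hcomm : ∀ a b : B ⟶ B, a ≫ b = b ≫ a) : IsIso f := by
  have h₁ : (s ≫ ψ.hom) ≫ ψ.inv ≫ f = 𝟙 B := by simp [h]
  haveI : IsIso (ψ.inv ≫ f) := ⟨s ≫ ψ.hom, (hcomm _ _).trans h₁, h₁⟩
  exact IsIso.of_isIso_comp_left ψ.inv f

/-- Maps out of the restriction of `T (G Y)` factor through the restricted counit, given the
projection formula. -/
lemma exists_factor_of_adj {C D : Type*} [Category C] [Category D] {L : D ⥤ C} {Rf : C ⥤ D}
    (a : L ⊣ Rf) {T G : C ⥤ C} (b : T ⊣ G) (Y C₀ : C) (i : T.obj C₀ ≅ L.obj (Rf.obj (T.obj (G.obj Y))))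
    (φ : Rf.obj (T.obj (G.obj Y)) ⟶ Rf.obj Y) : ∃ g, g ≫ Rf.map (b.counit.app Y) = φ := by
  let τ := b.homEquiv C₀ Y (i.hom ≫ (a.homEquiv _ _).symm φ)
  refine ⟨a.unit.app _ ≫ Rf.map (i.inv ≫ T.map τ), ?_⟩
  have hτ : T.map τ ≫ b.counit.app Y = i.hom ≫ (a.homEquiv _ _).symm φ :=
    (b.homEquiv_counit _ _ _).symm.trans ((b.homEquiv _ _).symm_apply_apply _)
  rw [Category.assoc, ← Functor.map_comp, Category.assoc, hτ, Iso.inv_hom_id_assoc,
    ← a.homEquiv_unit]
  exact (a.homEquiv _ _).apply_symm_apply φ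

section Affine

variable {R : CommRingCat.{u}} [PreservesFiniteLimits (tilde.functor R)]

/-- Endomorphisms of a dualizing complex, read on `Spec`, commute. -/
lemma comm_end_tildeD {ω : Dual.D R} (hω : Dual.IsDualizing R ω) {K : DCoh.D (Spec R)}
    (e : K ≅ (DCoh.tildeD R).obj ω) (a b : K ⟶ K) : a ≫ b = b ≫ a := by
  obtain ⟨a', ha⟩ := (tildeD_map_bijective ω ω).2 (e.inv ≫ a ≫ e.hom)
  obtain ⟨b', hb⟩ := (tildeD_map_bijective ω ω).2 (e.inv ≫ b ≫ e.hom)
  have h : a' ≫ b' = b' ≫ a' := by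
    obtain ⟨r, rfl⟩ := hω.toEnd_bijective.2 a'
    simp [Linear.smul_comp, Linear.comp_smul]
  have h' := congrArg (DCoh.tildeD R).map h
  rw [Functor.map_comp, Functor.map_comp, ha, hb] at h'
  simpa using h'

variable [IsNoetherianRing R] [DTen.HasLTen (R : Type u)] [DTen.HasRHom (R : Type u)]

/-- The internal hom of two dualizing complexes, and its tensor product with the first one. -/
theorem nonempty_twist_iso {ω ω' : Dual.D R} (hω : Dual.IsDualizing R ω) (hω' : Dual.IsDualizing R ω')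
    (J J' P : CochainComplex (Spec R).Modules ℤ) [J.IsKInjective] [∀ n, Injective (J.X n)]
    [J'.IsKInjective] [∀ n, Injective (J'.X n)]
    (eJ : DerivedCategory.Q.obj J ≅ (DCoh.tildeD R).obj ω)
    (eJ' : DerivedCategory.Q.obj J' ≅ (DCoh.tildeD R).obj ω')
    (π : P ⟶ J) [QuasiIso π] (hP : DCoh.IsKFlat P) :
    Nonempty (DerivedCategory.Q.obj ((iHom P).obj J') ≅
        (DCoh.tildeD R).obj ((DTen.RHomR (R : Type u) ω).obj ω')) ∧
      Nonempty (DerivedCategory.Q.obj ((DCoh.tensorCx.obj ((iHom P).obj J')).obj P) ≅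
        DerivedCategory.Q.obj J') := by
  haveI : (tilde.functor R).Additive := tilde_additive _
  haveI := hasLTen₃ (R : Type u)
  haveI := isSymMonoidal (R : Type u)
  let T : CochainComplex (ModuleCat.{u} R) ℤ ⥤ CochainComplex (Spec R).Modules ℤ :=
    (tilde.functor R).mapHomologicalComplex (ComplexShape.up ℤ)
  let P₀ := DerivedCategory.Q.objPreimage ω
  let P' := (ringCover R).P.obj P₀
  haveI := (ringCover R).quasiIso_ψ P₀
  haveI : IsIso (DerivedCategory.Q.map ((ringCover R).ψ.app P₀)) :=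
    (DerivedCategory.isIso_Q_map_iff_quasiIso _ _).2 inferInstance
  let eω : DerivedCategory.Q.obj P' ≅ ω :=
    asIso (DerivedCategory.Q.map ((ringCover R).ψ.app P₀)) ≪≫ DerivedCategory.Q.objObjPreimageIso ω
  let P₁ : CochainComplex (Spec R).Modules ℤ := T.obj P'
  have hP₁ : DCoh.IsKFlat P₁ := isKFlat_tilde P' (kFlat_ringRes P₀)
  haveI := isIso_Q_map π inferInstance
  let eJ₁ : DerivedCategory.Q.obj P₁ ≅ DerivedCategory.Q.obj J :=
    (tildeQ P').symm ≪≫ (DCoh.tildeD R).mapIso eω ≪≫ eJ.symm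
  let eP : DerivedCategory.Q.obj P₁ ≅ DerivedCategory.Q.obj P :=
    eJ₁ ≪≫ (asIso (DerivedCategory.Q.map π)).symm
  obtain ⟨φ, hφ⟩ := exists_Q_map eJ₁.hom
  haveI : QuasiIso φ := (DerivedCategory.isIso_Q_map_iff_quasiIso _ _).1 (hφ ▸ inferInstance)
  -- the internal hom
  haveI := hasLTensorCx P₁
  haveI := hasRSheafHom_of_isKFlat P₁ hP₁
  haveI := H9Misc.DRingHomCx.hasRHomCx P'
  have hfin : ∀ i : ℤ, Module.Finite R (Dual.HD R (DRing.toD P') i) := fun i =>
    haveI := hω.finite_cohomology i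
    Module.Finite.equiv ((DerivedCategory.homologyFunctor _ i).mapIso eω.symm).toLinearEquiv
  obtain ⟨a, b, hab, hge, hle⟩ := exists_bounds_of_isDualizing hω
  obtain ⟨a', b', hab'⟩ := finiteInjDim_of_isDualizing hω'
  obtain ⟨e₁⟩ := nonempty_RSheafHom_tilde_iso P' hfin ω' ⟨a', b', hab'⟩ P₁ (tildeQ P').symm
  obtain ⟨e₂⟩ := nonempty_RHomCx_iso P' ω'
  obtain ⟨e₃⟩ := nonempty_RSheafHom_iso P₁ J'
  obtain ⟨e₄⟩ := nonempty_iHom_iso_of_iso eP J'
  let Λ := (DTen.RHomR (R : Type u) ω).obj ω'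
  let eH : DerivedCategory.Q.obj ((iHom P).obj J') ≅ (DCoh.tildeD R).obj Λ :=
    e₄.symm ≪≫ e₃.symm ≪≫ (DCoh.RSheafHom P₁).mapIso eJ' ≪≫ e₁ ≪≫
      (DCoh.tildeD R).mapIso (e₂ ≪≫ ((DTen.RHom (R : Type u)).mapIso eω.symm.op).app ω')
  refine ⟨⟨eH⟩, ?_⟩
  -- the tensor product
  let A₀ := DerivedCategory.Q.objPreimage Λ
  let A' := (ringCover R).P.obj A₀
  haveI := (ringCover R).quasiIso_ψ A₀
  haveI : IsIso (DerivedCategory.Q.map ((ringCover R).ψ.app A₀)) :=
    (DerivedCategory.isIso_Q_map_iff_quasiIso _ _).2 inferInstance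
  let eΛ : DerivedCategory.Q.obj A' ≅ Λ :=
    asIso (DerivedCategory.Q.map ((ringCover R).ψ.app A₀)) ≪≫ DerivedCategory.Q.objObjPreimageIso Λ
  let W : CochainComplex (Spec R).Modules ℤ := T.obj A'
  have hW : DCoh.IsKFlat W := isKFlat_tilde A' (kFlat_ringRes A₀)
  let eW : DerivedCategory.Q.obj W ≅ DerivedCategory.Q.obj ((iHom P).obj J') :=
    (tildeQ A').symm ≪≫ (DCoh.tildeD R).mapIso eΛ ≪≫ eH.symm
  haveI := hasLTensorCx P
  haveI := isIso_LTensorCx_counit_of_isKFlat_right P hP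
  let c := (DCoh.tensorCxQ P).totalLeftDerivedCounit DerivedCategory.Q (qisX (Spec R))
  let b₁ : DerivedCategory.Q.obj ((DCoh.tensorCx.obj ((iHom P).obj J')).obj P) ≅
      DerivedCategory.Q.obj ((DCoh.tensorCx.obj W).obj P) :=
    (asIso (c.app ((iHom P).obj J'))).symm ≪≫ (DCoh.LTensorCx P).mapIso eW.symm ≪≫ asIso (c.app W)
  haveI : QuasiIso ((DCoh.tensorCx.obj W).map π) :=
    KFlat.quasiIso_map' (tensorBiFlipIso _) hW π
  haveI : QuasiIso ((DCoh.tensorCx.obj W).map φ) :=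
    KFlat.quasiIso_map' (tensorBiFlipIso _) hW φ
  haveI := isIso_Q_map ((DCoh.tensorCx.obj W).map π) inferInstance
  haveI := isIso_Q_map ((DCoh.tensorCx.obj W).map φ) inferInstance
  obtain ⟨α⟩ := exists_tenCxIso (A := (R : Type u)) (R := P') (kFlat_ringRes P₀)
  haveI := isIso_evalHom_of_pseudoCoherent ω ω ω' (pc'_of_finite_hd _ b hω.finite_cohomology) a
    inferInstance ⟨a', b', hab'⟩
  obtain ⟨eself⟩ := nonempty_RHom_self_iso hω
  obtain ⟨r⟩ := nonempty_RHomR_unit ω'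
  let m : DerivedCategory.Q.obj ((tenCx P').obj A') ≅ ω' :=
    (α.app A').symm ≪≫ (DTen.LTen₂ (R : Type u)).mapIso (Iso.prod eΛ eω) ≪≫ asIso (DTen.evalHom ω ω ω') ≪≫ ((DTen.RHom (R : Type u)).mapIso eself.symm.op).app _ ≪≫ r
  exact ⟨b₁ ≪≫ asIso (DerivedCategory.Q.map ((DCoh.tensorCx.obj W).map π)) ≪≫
    (asIso (DerivedCategory.Q.map ((DCoh.tensorCx.obj W).map φ))).symm ≪≫
    DerivedCategory.Q.mapIso ((tildeTenIso P').app A') ≪≫ (tildeQ _).symm ≪≫
    (DCoh.tildeD R).mapIso m ≪≫ eJ'.symm⟩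

end Affine

section Local

variable {X U : Scheme.{u}} (j : U ⟶ X) [IsOpenImmersion j]

/-- The projection formula for extension by zero of complexes. -/
noncomputable def projCxIso (P : CochainComplex X.Modules ℤ) (A : CochainComplex U.Modules ℤ) :
    (Inner.tenX DCoh.tensorBi P).obj ((lshCx j).obj A) ≅
      (lshCx j).obj ((Inner.tenX DCoh.tensorBi ((rCx j).obj P)).obj A) :=
  (totalProjIso (Ψ := lsh j) (R := Scheme.Modules.restrictFunctor j) (T := DCoh.tensorBi (X := U))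
    (S := DCoh.tensorBi (X := X)) (projIso j) (lshCx j) rfl (rCx j) rfl _ rfl _ rfl P).app A

/-- Restriction commutes with the tensor product of complexes. -/
noncomputable def restrictTenIso (A P : CochainComplex X.Modules ℤ) :
    (rCx j).obj ((Inner.tenX DCoh.tensorBi P).obj A) ≅
      (Inner.tenX DCoh.tensorBi ((rCx j).obj P)).obj ((rCx j).obj A) :=
  (totalMapIso (restrictTensorBiIso j) A P).symm

/-- Every map out of `H ⊗ P` over an open factors through the evaluation. -/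
lemma exists_factor (P J' : CochainComplex X.Modules ℤ)
    (φ : (rCx j).obj ((Inner.tenX DCoh.tensorBi P).obj ((iHom P).obj J')) ⟶ (rCx j).obj J') :
    ∃ g, g ≫ (rCx j).map ((iHomAdj P).counit.app J') = φ :=
  exists_factor_of_adj (lshCxAdj j) (iHomAdj P) J' ((lshCx j).obj ((rCx j).obj ((iHom P).obj J')))
    (projCxIso j P _ ≪≫ (lshCx j).mapIso (restrictTenIso j ((iHom P).obj J') P).symm) φ

end Local

section Scheme

variable {X : Scheme.{u}}
  [∀ (U : Scheme.{u}) (j : U ⟶ X) [IsOpenImmersion j], PreservesFiniteLimits (Scheme.Modules.restrictFunctor j)]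
  [∀ (R : CommRingCat.{u}), PreservesFiniteLimits (tilde.functor R)]
  {J J' P : CochainComplex X.Modules ℤ} [J.IsKInjective] [∀ n, Injective (J.X n)]
  [J'.IsKInjective] [∀ n, Injective (J'.X n)] (π : P ⟶ J) [QuasiIso π] (hP : DCoh.IsKFlat P)
  (hJ : Dual2.IsDualizingSch X (DerivedCategory.Q.obj J))
  (hJ' : Dual2.IsDualizingSch X (DerivedCategory.Q.obj J'))

include π hP hJ hJ' in
/-- On a chart: the twisting object and the evaluation. -/
theorem exists_chart_twist {R : CommRingCat.{u}} (j : Spec R ⟶ X) [IsOpenImmersion j] :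
    ∃ (ω ω' : Dual.D R) (_ : Dual.IsDualizing R ω) (_ : Dual.IsDualizing R ω')
      (_ : IsNoetherianRing R) (_ : DTen.HasLTen (R : Type u)) (_ : DTen.HasRHom (R : Type u)),
      Nonempty ((DCoh.restrictD j).obj (DerivedCategory.Q.obj ((iHom P).obj J')) ≅
        (DCoh.tildeD R).obj ((DTen.RHomR (R : Type u) ω).obj ω')) ∧
      QuasiIso ((rCx j).map ((iHomAdj P).counit.app J')) := by
  obtain ⟨ω, hω, ⟨e⟩⟩ := hJ R j
  obtain ⟨ω', hω', ⟨e'⟩⟩ := hJ' R j
  haveI := hω.isNoetherianRing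
  haveI := hasLTen (R : Type u)
  haveI := hasRHom (A := (R : Type u))
  let eJ : DerivedCategory.Q.obj ((rCx j).obj J) ≅ (DCoh.tildeD R).obj ω := ((rhoQ j).app J).symm ≪≫ e
  let eJ' : DerivedCategory.Q.obj ((rCx j).obj J') ≅ (DCoh.tildeD R).obj ω' :=
    ((rhoQ j).app J').symm ≪≫ e'
  haveI := isKInjective_rCx j J
  haveI := injective_rCx j J
  haveI := isKInjective_rCx j J'
  haveI := injective_rCx j J'
  obtain ⟨⟨eH⟩, ⟨eT⟩⟩ := nonempty_twist_iso hω hω' ((rCx j).obj J) ((rCx j).obj J') ((rCx j).obj P)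
    eJ eJ' ((rCx j).map π) (isKFlat_restrict j hP)
  obtain ⟨er⟩ := nonempty_iHomRestrictIso j P
  refine ⟨ω, ω', hω, hω', inferInstance, inferInstance, inferInstance,
    ⟨(rhoQ j).app _ ≪≫ DerivedCategory.Q.mapIso (er.app J') ≪≫ eH⟩, ?_⟩
  let eT' : DerivedCategory.Q.obj ((rCx j).obj ((DCoh.tensorCx.obj ((iHom P).obj J')).obj P)) ≅
      DerivedCategory.Q.obj ((rCx j).obj J') :=
    DerivedCategory.Q.mapIso (restrictTenIso j ((iHom P).obj J') P ≪≫
      (Inner.tenX DCoh.tensorBi ((rCx j).obj P)).mapIso (er.app J')) ≪≫ eT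
  obtain ⟨φ, hφ⟩ := exists_Q_map eT'.hom
  obtain ⟨g, hg⟩ := exists_factor j P J' φ
  refine (DerivedCategory.isIso_Q_map_iff_quasiIso _ _).1
    (isIso_of_section _ eT' (eT'.inv ≫ DerivedCategory.Q.map g) ?_ (comm_end_tildeD hω' eJ'))
  rw [Category.assoc, ← Functor.map_comp, hg, hφ, Iso.inv_hom_id]

include π hP hJ hJ' in
/-- The evaluation `iHom(P, J') ⊗ P ⟶ J'` is a quasi-isomorphism. -/
theorem quasiIso_eval : QuasiIso ((iHomAdj P).counit.app J') := by
  refine quasiIso_of_local _ fun x => ?_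
  obtain ⟨i, y, hy⟩ := X.affineCover.exists_eq x
  obtain ⟨-, -, -, -, -, -, -, -, h⟩ := exists_chart_twist π hP hJ hJ' (X.affineCover.f i)
  exact ⟨_, X.affineCover.f i, inferInstance, ⟨y, hy⟩, h⟩

end Scheme

end Groth.Agent.KExact.DualTwist
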