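import Groth.Agent.KFlatLib.Scheme.ExtBound
import Groth.Agent.KFlatLib.Scheme.RpushFF
import Groth.Agent.KFlatLib.Scheme.AffineRpush
import Groth.Agent.KFlatLib.Scheme.DQCohCompact
import Groth.Agent.KFlatLib.Ring.ShriekGorenstein
import Groth.Agent.H9Misc.AffineHomAcyclic
import Groth.Agent.KExact.AffineInter
import Groth.Agent.KFlatLib.Scheme.CohWindow
import Groth.Agent.KFlatLib.Scheme.ProjAffineFlat
import Groth.Agent.QCoh.DevissageIdeal

/-!
# Effacing derived maps out of finite locally free modules under the resolution property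
-/

set_option linter.style.haveILetI false
set_option backward.isDefEq.respectTransparency false
set_option backward.isDefEq.respectTransparency.types false
set_option maxHeartbeats 800000

universe u

open CategoryTheory CategoryTheory.Limits AlgebraicGeometry Pretriangulated TopologicalSpace

attribute [local instance] HasDerivedCategory.standard
attribute [local instance] Groth.Agent.QCoh.hasFiniteBiproducts

namespace Groth.Agent.KExact.Efface

open Groth.Agent Groth.Agent.KFlatLib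

variable {X : Scheme.{u}}

section Affine

/-- The structure sheaf of an affine spectrum sees no negative objects. -/
theorem eq_zero_spec_unit {A : Type u} [CommRing A] (N : DCoh.D (Spec (CommRingCat.of A)))
    (hN : DCoh.IsQCohD N) (hle : N.IsLE (-1))
    (φ : DCoh.inD (Spec (CommRingCat.of A)) (Coh.structureModule (Spec (CommRingCat.of A))) ⟶ N) : φ = 0 := by
  haveI : PreservesFiniteLimits (tilde.functor (CommRingCat.of A)) := QCoh.tilde_preservesFiniteLimits
  haveI : (tilde.functor (CommRingCat.of A)).Additive := tilde_additive _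
  haveI : PreservesFiniteColimits (tilde.functor (CommRingCat.of A)) := QCoh.tilde_preservesFiniteColimits
  haveI := hasLTen A
  obtain ⟨M, ⟨eM⟩⟩ := exists_tildeD_iso (R := CommRingCat.of A) hN
  have hM : M.IsLE (-1) := (DerivedCategory.isLE_iff _ _).2 fun i hi => by
    obtain ⟨e⟩ := KoszulOrth.nonempty_hd_tld M i
    have hz := ((DerivedCategory.isZero_of_isLE N (-1) i hi).of_iso
      ((DerivedCategory.homologyFunctor _ i).mapIso eM)).of_iso e.symm
    haveI := (tilde.fullyFaithfulFunctor (R := CommRingCat.of A)).faithful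
    exact (IsZero.iff_id_eq_zero _).2 ((tilde.functor (CommRingCat.of A)).map_injective (hz.eq_of_src _ _))
  haveI := hM
  obtain ⟨θ⟩ := exists_homUnitLEquiv (A := A) M 0 0 (zero_add 0)
  obtain ⟨u₁⟩ := nonempty_unit_iso_inD A
  haveI : Subsingleton (Dual.HD A M 0) :=
    ModuleCat.subsingleton_of_isZero (DerivedCategory.isZero_of_isLE M (-1) 0 (by omega))
  let eU : (DCoh.tildeD (CommRingCat.of A)).obj (Dual.inD A A) ≅
      DCoh.inD (Spec (CommRingCat.of A)) (Coh.structureModule (Spec (CommRingCat.of A))) :=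
    ((tilde.functor (CommRingCat.of A)).mapDerivedCategorySingleFunctor 0).app (ModuleCat.of A A) ≪≫
      (DerivedCategory.singleFunctor (Spec (CommRingCat.of A)).Modules 0).mapIso tildeSelf
  obtain ⟨ψ, hψ⟩ := (tildeD_map_bijective (R := CommRingCat.of A) (Dual.inD A A) M).2 (eU.hom ≫ φ ≫ eM.inv)
  have h0 : ψ = 0 := by
    let z : (DTen.unit A)⟦(0 : ℤ)⟧ ≅ Dual.inD A A := (shiftFunctorZero (Dual.D A) ℤ).app _ ≪≫ u₁
    exact (cancel_epi z.hom).1 ((θ.injective (Subsingleton.elim (θ (z.hom ≫ ψ)) (θ 0))).trans comp_zero.symm)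
  rw [h0, Functor.map_zero] at hψ
  exact (cancel_mono eM.inv).1 ((cancel_epi eU.hom).1 (by rw [← hψ, zero_comp, comp_zero]))

/-- Finite locally free modules on affine schemes see no negative objects. -/
theorem eq_zero_affine {Y : Scheme.{u}} [IsAffine Y] {F : Y.Modules} (hF : FlatMod.IsFinLocFree F)
    (N : DCoh.D Y) (hN : DCoh.IsQCohD N) (hle : N.IsLE (-1)) (φ : DCoh.inD Y F ⟶ N) : φ = 0 := by
  let g : Spec (CommRingCat.of Γ(Y, ⊤)) ⟶ Y := Y.isoSpec.inv
  haveI := AffineLift.isEquivalence_rho g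
  haveI := hle
  refine (rho g).map_injective ?_
  rw [Functor.map_zero]
  let F' := (Scheme.Modules.restrictFunctor g).obj F
  let e : (rho g).obj (DCoh.inD Y F) ≅ DCoh.inD _ F' :=
    ((Scheme.Modules.restrictFunctor g).mapDerivedCategorySingleFunctor 0).app F
  obtain ⟨n, i, p, hip⟩ := ExtBound.exists_retract_spec (F := F')
    (H23.PullPush.isFinLocFree_of_iso ((Scheme.Modules.restrictFunctorIsoPullback g).app F).symm
      (isFinLocFree_pullback g hF))
  have hle' : ((rho g).obj N).IsLE (-1) := (DerivedCategory.isLE_iff _ _).2 fun k hk =>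
    ((Scheme.Modules.restrictFunctor g).map_isZero (DerivedCategory.isZero_of_isLE N (-1) k hk)).of_iso
      (restrictHDIso g N k)
  haveI : HasBiproduct (fun _ : Fin n => Coh.structureModule (Spec (CommRingCat.of Γ(Y, ⊤)))) :=
    HasBiproduct.of_hasCoproduct _
  let O' := fun _ : Fin n => Coh.structureModule (Spec (CommRingCat.of Γ(Y, ⊤)))
  have key : ∀ ψ : DCoh.inD _ (FlatMod.freeMod (Spec (CommRingCat.of Γ(Y, ⊤))) n) ⟶ (rho g).obj N, ψ = 0 := by
    intro ψ
    have h : 𝟙 (FlatMod.freeMod (Spec (CommRingCat.of Γ(Y, ⊤))) n) = ∑ k : Fin n,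
        (biproduct.isoCoproduct O').inv ≫ biproduct.π O' k ≫ biproduct.ι O' k ≫ (biproduct.isoCoproduct O').hom := by
      rw [← Preadditive.comp_sum]
      simp only [← Category.assoc (biproduct.π _ _), ← Preadditive.sum_comp]
      simp only [biproduct.total, Category.id_comp]
      exact (biproduct.isoCoproduct O').inv_hom_id.symm
    rw [← Category.id_comp ψ, ← CategoryTheory.Functor.map_id, h, Functor.map_sum, Preadditive.sum_comp]
    refine Finset.sum_eq_zero fun k _ => ?_
    simp only [Functor.map_comp, Category.assoc]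
    rw [eq_zero_spec_unit _ (isQCohD_rho g hN) hle' (_ ≫ (_ ≫ ψ))]
    simp only [comp_zero]
  rw [← cancel_epi e.inv, comp_zero, ← Category.id_comp (e.inv ≫ _),
    show 𝟙 (DCoh.inD _ F') = (DerivedCategory.singleFunctor _ 0).map (i ≫ p) by rw [hip]; simp,
    Functor.map_comp, Category.assoc, key ((DerivedCategory.singleFunctor _ 0).map p ≫ e.inv ≫ (rho g).map φ),
    comp_zero]

end Affine

/-- Direct images from affine opens along affine immersions are acyclic for finite locally free modules. -/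
theorem eq_zero_push (U : X.Opens) (hU : IsAffineOpen U) [IsAffineHom U.ι] {M : (U : Scheme.{u}).Modules}
    (hM : Coh.IsQCoh M) {F : X.Modules} (hF : FlatMod.IsFinLocFree F) (q : ℤ) (hq : 1 ≤ q)
    (φ : DCoh.inD X F ⟶ (DCoh.inD X ((Scheme.Modules.pushforward U.ι).obj M))⟦q⟧) : φ = 0 := by
  haveI : IsAffine (U : Scheme.{u}) := hU
  haveI := hasRpush_scheme U.ι
  obtain ⟨adj⟩ := nonempty_rho_adj U.ι
  obtain ⟨eP⟩ := H9Misc.AffineHomAcyclic.nonempty_rpush_inD_iso U.ι hM
  let A := DCoh.inD X F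
  let w : (A⟦-q⟧)⟦q⟧ ≅ A := (shiftFunctorCompIsoId (DCoh.D X) (-q) q (by omega)).app A
  obtain ⟨φ₀, hφ₀⟩ := (shiftFunctor (DCoh.D X) q).map_surjective (w.hom ≫ φ)
  suffices φ₀ = 0 by
    rw [this, Functor.map_zero] at hφ₀
    exact (cancel_epi w.hom).1 (hφ₀.symm.trans comp_zero.symm)
  refine (cancel_mono eP.inv).1 ((adj.homEquiv _ _).symm.injective ?_)
  suffices hz : ∀ χ : (rho U.ι).obj (A⟦-q⟧) ⟶ DCoh.inD (U : Scheme.{u}) M, χ = 0 from (hz _).trans (hz _).symm
  intro χ
  let r : DCoh.inD _ ((Scheme.Modules.restrictFunctor U.ι).obj F) ≅ (rho U.ι).obj A :=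
    (((Scheme.Modules.restrictFunctor U.ι).mapDerivedCategorySingleFunctor 0).app F).symm
  let B := (rho U.ι).obj A
  let c : B⟦-q⟧ ≅ (rho U.ι).obj (A⟦-q⟧) := (((rho U.ι).commShiftIso (-q)).app A).symm
  let w' : (B⟦-q⟧)⟦q⟧ ≅ B := (shiftFunctorCompIsoId (DCoh.D (U : Scheme.{u})) (-q) q (by omega)).app B
  refine (cancel_epi c.hom).1 ((shiftFunctor (DCoh.D (U : Scheme.{u})) q).map_injective ?_)
  rw [comp_zero, Functor.map_zero]
  refine (cancel_epi (r.hom ≫ w'.inv)).1 ?_
  rw [comp_zero]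
  have hq' : DCoh.IsQCohD ((DCoh.inD (U : Scheme.{u}) M)⟦q⟧) := isQCohD_shift (isQCohD_inD_of_isQCoh hM) q
  refine eq_zero_affine (H23.PullPush.isFinLocFree_of_iso
    ((Scheme.Modules.restrictFunctorIsoPullback U.ι).app F).symm (isFinLocFree_pullback U.ι hF)) _ hq' ?_ _
  haveI : (DCoh.inD (U : Scheme.{u}) M).IsLE 0 := inferInstance
  exact (DerivedCategory.isLE_iff _ _).2 fun j hj =>
    Window.isZero_hd_shift _ q j (DerivedCategory.isZero_of_isLE _ 0 (q + j) (by omega))

variable [CompactSpace X] [QuasiSeparatedSpace X]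

/-- A quasi-coherent module embeds into one acyclic for finite locally free modules. -/
theorem exists_embed (hX : PerfAux.HasResolutionProperty X) {G : X.Modules} (hG : Coh.IsQCoh G) :
    ∃ (I : X.Modules) (i : G ⟶ I), Mono i ∧ Coh.IsQCoh I ∧
      ∀ (F : X.Modules), FlatMod.IsFinLocFree F → ∀ q : ℤ, 1 ≤ q →
        ∀ φ : DCoh.inD X F ⟶ (DCoh.inD X I)⟦q⟧, φ = 0 := by
  classical
  obtain ⟨t, ht⟩ := FPEnough.exists_finite_affine_cover (X := X)
  haveI : ∀ a : t, IsAffineHom a.1.1.ι := fun a =>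
    ⟨fun V hV => by
      rw [← a.1.1.ι.isAffineOpen_iff_of_isOpenImmersion, Scheme.Hom.image_preimage_eq_opensRange_inf,
        Scheme.Opens.opensRange_ι]
      exact AffineInter.isAffineOpen_inf hX a.1.2 hV⟩
  let T : t → X.Modules := fun a => (Scheme.Modules.pushforward a.1.1.ι).obj (G.restrict a.1.1.ι)
  have hTq : ∀ a, Coh.IsQCoh (T a) := fun a => QCoh.isQCoh_pushforward _ (QCoh.isQCoh_restrict _ hG)
  refine ⟨⨁ T, biproduct.lift fun a => (Scheme.Modules.restrictAdjunction a.1.1.ι).unit.app G, ?_,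
    QCoh.isQCoh_biproduct T hTq, fun F hF q hq φ => ?_⟩
  · refine Preadditive.mono_of_cancel_zero _ fun {Z} g hg => ?_
    refine H23.ModLoc.hom_ext_of_locally g 0 fun x => ?_
    obtain ⟨a, ha, hx⟩ := ht x
    refine ⟨a.1, hx, ?_⟩
    let adj := Scheme.Modules.restrictAdjunction a.1.ι
    have h : g ≫ adj.unit.app G = 0 := by
      have := congrArg (· ≫ biproduct.π T ⟨a, ha⟩) hg
      rwa [Category.assoc, biproduct.lift_π, zero_comp] at this
    rw [Functor.map_zero]
    have h2 := adj.left_triangle_components G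
    rw [← Category.comp_id ((Scheme.Modules.restrictFunctor a.1.ι).map g)]
    refine (congrArg ((Scheme.Modules.restrictFunctor a.1.ι).map g ≫ ·) h2.symm).trans ?_
    rw [← Category.assoc, ← Functor.map_comp, h, Functor.map_zero, zero_comp]
  · let S := DerivedCategory.singleFunctor X.Modules 0 ⋙ shiftFunctor (DCoh.D X) q
    have h : 𝟙 (⨁ T) = ∑ a, biproduct.π T a ≫ biproduct.ι T a := (QCoh.biproduct_total' T).symm
    show (φ : DCoh.inD X F ⟶ S.obj (⨁ T)) = 0
    rw [← Category.comp_id φ, show 𝟙 ((DCoh.inD X (⨁ T))⟦q⟧) = S.map (𝟙 (⨁ T)) from (S.map_id _).symm, h,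
      Functor.map_sum, Preadditive.comp_sum]
    refine Finset.sum_eq_zero fun a _ => ?_
    rw [S.map_comp, ← Category.assoc,
      eq_zero_push a.1.1 a.1.2 (QCoh.isQCoh_restrict _ hG) hF q hq (φ ≫ S.map (biproduct.π T a)), zero_comp]

/-- An epimorphism onto a module of finite type is already one from a finite locally free module. -/
theorem exists_epi_factor (hX : PerfAux.HasResolutionProperty X) {P E : X.Modules} (hP : Coh.IsQCoh P)
    (hE : Coh.IsQCoh E) (hft : CohB1.IsFT E) (p : P ⟶ E) [Epi p] :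
    ∃ (E' : X.Modules) (π : E' ⟶ E) (g : E' ⟶ P), FlatMod.IsFinLocFree E' ∧ Epi π ∧ g ≫ p = π := by
  classical
  obtain ⟨t, ht⟩ := FPEnough.exists_finite_affine_cover (X := X)
  suffices h : ∀ s : Finset X.affineOpens, ∃ (H : X.Modules) (ψ : H ⟶ P), Coh.IsQCoh H ∧ CohB1.IsFP H ∧
      ∀ a ∈ s, Function.Surjective ((ψ ≫ p).app a.1) by
    obtain ⟨H, ψ, hH, hfp, hsurj⟩ := h t
    obtain ⟨E', π', hE', hπ'⟩ := hX H hH (QCoh.isFT_of_isFP hfp)
    haveI := hπ'
    haveI : Epi (ψ ≫ p) := by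
      refine Abelian.epi_of_cokernel_π_eq_zero _ ?_
      refine QCoh.hom_eq_zero_of_cover hE (QCoh.isQCoh_cokernel hH hE (ψ ≫ p)) _ (fun a : t => a.1.1)
        (fun a => a.1.2) (fun x => by obtain ⟨a, ha, hx⟩ := ht x; exact ⟨⟨a, ha⟩, hx⟩) fun a y => ?_
      obtain ⟨z, rfl⟩ := hsurj a.1 a.2 y
      exact congr(($(cokernel.condition (ψ ≫ p))).app a.1.1 z)
    exact ⟨E', π' ≫ ψ ≫ p, π' ≫ ψ, hE', epi_comp _ _, Category.assoc _ _ _⟩
  intro s
  induction s using Finset.induction with
  | empty =>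
    obtain ⟨H, ψ, hH, hfp, -⟩ := FPEnough.exists_isFP_range hP ⟨⊥, isAffineOpen_bot X⟩ (S := ∅) Set.finite_empty
    exact ⟨H, ψ, hH, hfp, fun a ha => by simp at ha⟩
  | insert W s _ ih =>
    obtain ⟨H, ψ, hH, hfp, hsurj⟩ := ih
    haveI := QCoh.finite_of_isFT hE hft W.2
    obtain ⟨T, hT⟩ := Module.Finite.fg_top (R := Γ(X, W.1)) (M := Γ(E, W.1))
    choose l hl using fun z => QCoh.app_surjective_of_epi hP hE p W.2 z
    obtain ⟨H', ψ', hH', hfp', hT'⟩ := FPEnough.exists_isFP_range hP W (S := l '' (T : Set Γ(E, W.1)))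
      (T.finite_toSet.image l)
    obtain ⟨hq, hfp''⟩ := FPEnough.isFP_biprod hH hfp hH' hfp'
    refine ⟨H ⊞ H', biprod.desc ψ ψ', hq, hfp'', fun a ha => ?_⟩
    rcases Finset.mem_insert.1 ha with rfl | ha
    · intro y
      have hy : y ∈ Submodule.span Γ(X, a.1) (T : Set Γ(E, a.1)) := hT.ge trivial
      refine (?_ : y ∈ LinearMap.range (QCoh.appLin (biprod.desc ψ ψ' ≫ p) a.1))
      refine Submodule.span_le.2 (fun z hz => ?_) hy
      obtain ⟨x, hx⟩ := hT' ⟨z, hz, rfl⟩
      refine ⟨(biprod.inr : H' ⟶ H ⊞ H').app a.1 x, ?_⟩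
      refine (congr(($(biprod.inr_desc_assoc ψ ψ' p)).app a.1 x)).trans ?_
      exact (congrArg (p.app a.1) hx).trans (hl z)
    · intro y
      obtain ⟨x, hx⟩ := hsurj a ha y
      exact ⟨(biprod.inl : H ⟶ H ⊞ H').app a.1 x,
        (congr(($(biprod.inl_desc_assoc ψ ψ' p)).app a.1 x)).trans hx⟩

/-- Higher extensions by a quasi-coherent module are effaced by finite locally free covers. -/
theorem exists_kill_ext (hX : PerfAux.HasResolutionProperty X) :
    ∀ (p : ℕ) (E : X.Modules), FlatMod.IsFinLocFree E → ∀ (G : X.Modules), Coh.IsQCoh G →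
      ∀ c : DCoh.inD X E ⟶ (DCoh.inD X G)⟦((p + 1 : ℕ) : ℤ)⟧,
      ∃ (E' : X.Modules) (π : E' ⟶ E), FlatMod.IsFinLocFree E' ∧ Epi π ∧
        (DerivedCategory.singleFunctor X.Modules 0).map π ≫ c = 0 := by
  intro p
  induction p with
  | zero =>
    intro E hE G hG c
    obtain ⟨I, i, hi, hI, hvan⟩ := exists_embed hX hG
    haveI := hi
    let S : ShortComplex X.Modules := ShortComplex.mk i (cokernel.π i) (cokernel.condition i)
    have hS : S.ShortExact := { exact := ShortComplex.exact_cokernel i }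
    let S0 := DerivedCategory.singleFunctor X.Modules 0
    let T := hS.singleTriangle
    have hT : T ∈ distTriang (DCoh.D X) := hS.singleTriangle_distinguished
    obtain ⟨g, hg⟩ := Triangle.coyoneda_exact₁ T hT c (hvan E hE _ (by simp) _)
    obtain ⟨h, rfl⟩ := S0.map_surjective g
    have hQ : Coh.IsQCoh (cokernel i) := QCoh.isQCoh_cokernel hG hI i
    have hEq := QCoh.isQCoh_of_isFinLocFree hE
    let k : I ⊞ E ⟶ cokernel i := biprod.desc (cokernel.π i) (-h)
    have hk : kernel.ι k ≫ biprod.fst ≫ cokernel.π i = kernel.ι k ≫ biprod.snd ≫ h := by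
      have hk0 : kernel.ι k ≫ (biprod.fst ≫ cokernel.π i + biprod.snd ≫ (-h)) = 0 :=
        (congrArg (kernel.ι k ≫ ·) biprod.desc_eq.symm).trans (kernel.condition k)
      rw [Preadditive.comp_neg, Preadditive.comp_add, Preadditive.comp_neg, add_neg_eq_zero] at hk0
      exact hk0
    have hIE : Coh.IsQCoh (I ⊞ E) := QCoh.isQCoh_X₂
      (S := ShortComplex.mk (biprod.inl : I ⟶ I ⊞ E) biprod.snd biprod.inl_snd)
      (ShortComplex.Splitting.ofHasBinaryBiproduct _ _).shortExact hI hEq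
    have hP := QCoh.isQCoh_kernel hIE hQ k
    haveI : Epi (kernel.ι k ≫ (biprod.snd : I ⊞ E ⟶ E)) := by
      have sq : IsPullback (kernel.ι k ≫ biprod.fst) (kernel.ι k ≫ biprod.snd) (cokernel.π i) h := by
        refine IsPullback.of_isLimit' ⟨?_⟩ (PullbackCone.IsLimit.mk _
          (fun s => kernel.lift k (biprod.lift s.fst s.snd) ?_) ?_ ?_ ?_)
        · simpa only [Category.assoc] using hk
        · rw [biprod.lift_desc, Preadditive.comp_neg, s.condition, add_neg_cancel]
        · intro s; rw [kernel.lift_ι_assoc, biprod.lift_fst]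
        · intro s; rw [kernel.lift_ι_assoc, biprod.lift_snd]
        · intro s m h₁ h₂
          refine (cancel_mono (kernel.ι k)).1 ?_
          rw [kernel.lift_ι]
          apply biprod.hom_ext
          · rw [Category.assoc, h₁, biprod.lift_fst]
          · rw [Category.assoc, h₂, biprod.lift_snd]
      exact Abelian.epi_snd_of_isLimit _ _ sq.isLimit
    obtain ⟨E', π, g', hE', hπ, hg'⟩ := exists_epi_factor hX hP hEq
      (QCoh.isFT_of_isFP (QCoh.isFP_of_isFinLocFree hE)) (kernel.ι k ≫ biprod.snd)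
    refine ⟨E', π, hE', hπ, ?_⟩
    have hπh : π ≫ h = (g' ≫ kernel.ι k ≫ biprod.fst) ≫ cokernel.π i := by
      rw [← hg']
      simp only [Category.assoc, hk]
    rw [hg, ← Category.assoc]
    refine (congrArg (· ≫ T.mor₃) ((S0.map_comp _ _).symm.trans ((congrArg S0.map hπh).trans (S0.map_comp _ _)))).trans ?_
    rw [Category.assoc]
    exact (congrArg (S0.map _ ≫ ·) (comp_distTriang_mor_zero₂₃ _ hT)).trans comp_zero
  | succ p ih =>
    intro E hE G hG c
    obtain ⟨I, i, hi, hI, hvan⟩ := exists_embed hX hG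
    haveI := hi
    let S : ShortComplex X.Modules := ShortComplex.mk i (cokernel.π i) (cokernel.condition i)
    have hS : S.ShortExact := { exact := ShortComplex.exact_cokernel i }
    let n : ℤ := ((p + 1 : ℕ) : ℤ)
    let T := (Triangle.shiftFunctor (DCoh.D X) n).obj hS.singleTriangle
    have hT : T ∈ distTriang (DCoh.D X) := Triangle.shift_distinguished _ hS.singleTriangle_distinguished n
    let w : ∀ A : DCoh.D X, A⟦((p + 1 + 1 : ℕ) : ℤ)⟧ ≅ (A⟦n⟧)⟦(1 : ℤ)⟧ := fun A =>
      (shiftFunctorAdd' (DCoh.D X) n 1 _ (by simp [n])).app A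
    have hv : (c ≫ (w _).hom) ≫ T.mor₁⟦(1 : ℤ)⟧' = 0 :=
      (cancel_mono (w (DCoh.inD X I)).inv).1 ((hvan E hE _ (by omega) _).trans zero_comp.symm)
    obtain ⟨g, hg⟩ := Triangle.coyoneda_exact₁ T hT (c ≫ (w _).hom) hv
    obtain ⟨E', π, hE', hπ, hkill⟩ := ih E hE (cokernel i) (QCoh.isQCoh_cokernel hG hI i) g
    refine ⟨E', π, hE', hπ, (cancel_mono (w (DCoh.inD X G)).hom).1 ?_⟩
    rw [Category.assoc, zero_comp, hg, ← Category.assoc]
    exact (congrArg (· ≫ T.mor₃) hkill).trans zero_comp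

/-- Maps from finite locally free modules into negative objects are effaced by finite locally free covers. -/
theorem exists_kill (hX : PerfAux.HasResolutionProperty X) {E : X.Modules} (hE : FlatMod.IsFinLocFree E)
    (N : DCoh.D X) (hN : DCoh.IsQCohD N) [N.IsLE (-1)] (φ : DCoh.inD X E ⟶ N) :
    ∃ (E' : X.Modules) (π : E' ⟶ E), FlatMod.IsFinLocFree E' ∧ Epi π ∧
      (DerivedCategory.singleFunctor X.Modules 0).map π ≫ φ = 0 := by
  obtain ⟨b, hb⟩ := ExtBound.exists_bound (X := X)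
  let t : Triangulated.TStructure (DCoh.D X) := DerivedCategory.TStructure.t
  suffices H : ∀ (m : ℕ) (n : ℤ), n ≤ -1 → n ≤ b + m → ∀ (E : X.Modules), FlatMod.IsFinLocFree E →
      ∀ (N : DCoh.D X), DCoh.IsQCohD N → N.IsLE n → ∀ φ : DCoh.inD X E ⟶ N,
      ∃ (E' : X.Modules) (π : E' ⟶ E), FlatMod.IsFinLocFree E' ∧ Epi π ∧
        (DerivedCategory.singleFunctor X.Modules 0).map π ≫ φ = 0 by
    exact H ((-1 : ℤ) - b).toNat (-1) le_rfl (by omega) E hE N hN inferInstance φ
  intro m
  induction m with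
  | zero =>
    intro n _ hn E hE N hN hle φ
    haveI := hle
    refine ⟨E, 𝟙 E, hE, inferInstance, ?_⟩
    rw [hb E hE N hN (t.isLE_of_le N n b (by omega)) φ, comp_zero]
  | succ m ih =>
    intro n hn1 hn E hE N hN hle φ
    haveI := hle
    have hT := t.triangleLTGE_distinguished n N
    let H := (t.truncGE n).obj N
    haveI : t.IsGE H n := t.isGE_truncGE_obj N _ _ le_rfl
    haveI : t.IsLE H n := inferInstance
    haveI : DerivedCategory.IsGE H n := ‹t.IsGE H n›
    haveI : DerivedCategory.IsLE H n := ‹t.IsLE H n›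
    obtain ⟨M, ⟨eM⟩⟩ := DerivedCategory.exists_iso_singleFunctor_obj_of_isGE_of_isLE H n
    have hM : Coh.IsQCoh M := isQCoh_of_iso
      (((DerivedCategory.homologyFunctor X.Modules n).mapIso eM) ≪≫
        (DerivedCategory.singleFunctorCompHomologyFunctorIso X.Modules n).app M)
      (Window.isQCohD_truncGE hN n n)
    obtain ⟨p, hp⟩ : ∃ p : ℕ, -n = ((p + 1 : ℕ) : ℤ) := ⟨(-n - 1).toNat, by omega⟩
    let v : (DerivedCategory.singleFunctor X.Modules n).obj M ≅ (DCoh.inD X M)⟦((p + 1 : ℕ) : ℤ)⟧ :=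
      (((DerivedCategory.singleFunctors X.Modules).shiftIso ((p + 1 : ℕ) : ℤ) n 0 (by omega)).app M).symm
    obtain ⟨E₁, π₁, hE₁, hπ₁, h1⟩ := exists_kill_ext hX p E hE M hM
      (φ ≫ (t.truncGEπ n).app N ≫ eM.hom ≫ v.hom)
    let P := (DerivedCategory.singleFunctor X.Modules 0).map π₁ ≫ φ
    have hP : P ≫ (t.truncGEπ n).app N = 0 := by
      refine (cancel_mono (eM.hom ≫ v.hom)).1 ?_
      rw [zero_comp]
      simpa only [P, Category.assoc] using h1
    obtain ⟨χ, hχ⟩ := Triangle.coyoneda_exact₂ _ hT P hP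
    haveI hlt : DerivedCategory.IsLE ((t.truncLT n).obj N) (n - 1) := t.isLE_truncLT_obj N _ _ (by omega)
    obtain ⟨E', π₂, hE', hπ₂, h2⟩ := ih (n - 1) (by omega) (by omega) E₁ hE₁ _ (Window.isQCohD_truncLT hN n) hlt χ
    haveI := hπ₁
    haveI := hπ₂
    refine ⟨E', π₂ ≫ π₁, hE', epi_comp _ _, ?_⟩
    rw [Functor.map_comp, Category.assoc]
    show _ ≫ P = 0
    rw [hχ, ← Category.assoc, h2, zero_comp]

end Groth.Agent.KExact.Efface
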