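import Groth.Agent.KExact.FlatTest
import Groth.Agent.QCohAb.Basic
import Mathlib.Algebra.Homology.HomologySequence
import Mathlib.CategoryTheory.Limits.Constructions.EpiMono
import Mathlib.CategoryTheory.Preadditive.LeftExact

/-!
# Exactness of `G ↦ H^p(R ⊗ G)` and flatness of opcycles
-/

set_option autoImplicit false
set_option linter.style.haveILetI false
set_option backward.isDefEq.respectTransparency false
set_option backward.isDefEq.respectTransparency.types false

universe u

open CategoryTheory CategoryTheory.Limits AlgebraicGeometry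

attribute [local instance] HasDerivedCategory.standard

namespace Groth.Agent.KExact

open KFlatLib

variable {X : Scheme.{u}} (R : CochainComplex X.Modules ℤ)

/-- A flat complex tensored with a short exact sequence of modules. -/
lemma shortExact_tenR (hR : ∀ n, FlatMod.IsFlat (R.X n)) {S : ShortComplex X.Modules}
    (hS : S.ShortExact) : (S.map (tenR R)).ShortExact :=
  (HomologicalComplex.shortExact_iff_degreewise_shortExact _).2 fun n =>
    ShortComplex.shortExact_of_iso (S.mapNatIso ((tensorBiFlipIso X).app (R.X n)))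
      (flatObj_of_isFlat (hR n) S hS)

/-- The long exact sequence: `H^p` stays right exact iff `H^(p+1)` stays left exact. -/
lemma epi_psi_iff_mono (hR : ∀ n, FlatMod.IsFlat (R.X n)) {S : ShortComplex X.Modules}
    (hS : S.ShortExact) (p : ℤ) : Epi ((psi R p).map S.g) ↔ Mono ((psi R (p + 1)).map S.f) := by
  have h := shortExact_tenR R hR hS
  have hr : (ComplexShape.up ℤ).Rel p (p + 1) := rfl
  have h₁ := h.homology_exact₁ p (p + 1) hr
  have h₃ := h.homology_exact₃ p (p + 1) hr
  constructor
  · intro he
    exact h₁.mono_g (h₃.epi_f_iff.1 he)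
  · intro hm
    exact h₃.epi_f (h₁.mono_g_iff.1 hm)

/-- Flat opcycles make `H^p(R ⊗ -)` preserve monomorphisms. -/
lemma mono_psi_of_isFlat {p : ℤ} (hR : FlatMod.IsFlat (R.X (p + 1)))
    (hC : FlatMod.IsFlat (R.opcycles p)) {G G' : X.Modules} (g : G ⟶ G') [Mono g] :
    Mono ((psi R p).map g) := by
  haveI : Mono (((DCoh.tensorBi (X := X)).flip.map g).app (R.X (p + 1))) := mono_tensor_of_isFlat hR g
  exact (mono_homologyMap_iff ((DCoh.tensorBi (X := X)).flip.map g) R p).2
    (mono_tensor_of_isFlat hC g)

/-- Flat opcycles in two degrees make `H^p(R ⊗ -)` exact. -/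
theorem exact_psi (hR : ∀ n, FlatMod.IsFlat (R.X n)) (p : ℤ)
    (hp : FlatMod.IsFlat (R.opcycles p)) (hp' : FlatMod.IsFlat (R.opcycles (p + 1))) :
    PreservesFiniteLimits (psi R p) ∧ PreservesFiniteColimits (psi R p) := by
  have h : ∀ S : ShortComplex X.Modules, S.ShortExact → (S.map (psi R p)).ShortExact := fun S hS =>
    { exact := (shortExact_tenR R hR hS).homology_exact₂ p
      mono_f := by
        haveI := hS.mono_f
        exact mono_psi_of_isFlat R (hR _) hp S.f
      epi_g := by
        haveI := hS.mono_f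
        exact (epi_psi_iff_mono R hR hS p).2 (mono_psi_of_isFlat R (hR _) hp' S.f) }
  exact ((Functor.exact_tfae (psi R p)).out 0 3).1 h

/-- Left exactness forces flat opcycles. -/
theorem isFlat_opcycles_of_preservesFiniteLimits (hR : ∀ n, FlatMod.IsFlat (R.X n)) (p : ℤ)
    [PreservesFiniteLimits (psi R p)] : FlatMod.IsFlat (R.opcycles p) :=
  isFlat_opcycles_of_mono R p (hR _) fun G G' g hg _ => by
    haveI := hg
    infer_instance

/-- Right exactness forces flat opcycles one step up. -/
theorem isFlat_opcycles_succ_of_preservesFiniteColimits (hR : ∀ n, FlatMod.IsFlat (R.X n)) (p : ℤ)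
    [PreservesFiniteColimits (psi R p)] : FlatMod.IsFlat (R.opcycles (p + 1)) :=
  isFlat_opcycles_of_mono R (p + 1) (hR _) fun G G' g hg _ => by
    haveI := hg
    have hS : (ShortComplex.mk g (cokernel.π g) (cokernel.condition g)).ShortExact :=
      { exact := ShortComplex.exact_of_g_is_cokernel _ (cokernelIsCokernel g) }
    exact (epi_psi_iff_mono R hR hS p).1 inferInstance

/-- Left exactness on quasi-coherent modules forces flat opcycles. -/
theorem isFlat_opcycles_of_preservesFiniteLimits_qcoh [QuasiSeparatedSpace X]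
    (hR : ∀ n, FlatMod.IsFlat (R.X n)) (p : ℤ)
    [PreservesFiniteLimits ((QCohCat.isQCoh X).ι ⋙ psi R p)] : FlatMod.IsFlat (R.opcycles p) :=
  isFlat_opcycles_of_mono R p (hR _) fun G G' g hg hq => by
    haveI := hg
    let G₁ : (QCohCat.isQCoh X).FullSubcategory := ⟨G, (hq inferInstance).1⟩
    let G₂ : (QCohCat.isQCoh X).FullSubcategory := ⟨G', (hq inferInstance).2⟩
    let g' : G₁ ⟶ G₂ := ObjectProperty.homMk g
    haveI : Mono ((QCohCat.isQCoh X).ι.map g') := hg
    haveI : Mono g' := (QCohCat.isQCoh X).ι.mono_of_mono_map inferInstance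
    exact inferInstanceAs (Mono (((QCohCat.isQCoh X).ι ⋙ psi R p).map g'))

/-- Right exactness on quasi-coherent modules forces flat opcycles one step up. -/
theorem isFlat_opcycles_succ_of_preservesFiniteColimits_qcoh [QuasiSeparatedSpace X]
    (hR : ∀ n, FlatMod.IsFlat (R.X n)) (p : ℤ)
    [PreservesFiniteColimits ((QCohCat.isQCoh X).ι ⋙ psi R p)] :
    FlatMod.IsFlat (R.opcycles (p + 1)) :=
  isFlat_opcycles_of_mono R (p + 1) (hR _) fun G G' g hg hq => by
    haveI := hg
    let G₂ : (QCohCat.isQCoh X).FullSubcategory := ⟨G', (hq inferInstance).2⟩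
    let G₃ : (QCohCat.isQCoh X).FullSubcategory :=
      ⟨cokernel g, QCoh.isQCoh_cokernel (hq inferInstance).1 (hq inferInstance).2 g⟩
    let π : G₂ ⟶ G₃ := ObjectProperty.homMk (cokernel.π g)
    haveI : Epi ((QCohCat.isQCoh X).ι.map π) := inferInstanceAs (Epi (cokernel.π g))
    haveI : Epi π := (QCohCat.isQCoh X).ι.epi_of_epi_map inferInstance
    have hS : (ShortComplex.mk g (cokernel.π g) (cokernel.condition g)).ShortExact :=
      { exact := ShortComplex.exact_of_g_is_cokernel _ (cokernelIsCokernel g) }
    exact (epi_psi_iff_mono R hR hS p).1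
      (inferInstanceAs (Epi (((QCohCat.isQCoh X).ι ⋙ psi R p).map π)))

end Groth.Agent.KExact
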