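import Groth.Agent.LC.DepthExt
import Groth.Agent.H28.ExtAlg
import Groth.Agent.Synt29.ExtBC
import Groth.Agent.QFD.Invert
import Mathlib.RingTheory.Regular.Flat
import Mathlib.RingTheory.Smooth.Basic
import Mathlib.LinearAlgebra.ExteriorPower.Basis
import Mathlib.Algebra.Homology.DerivedCategory.Ext.Linear

/-!
# `Ext^p(Ω^(n-p)_{A/J}, Ω^n_A) = A/J` for a smooth quotient by a regular sequence
-/

set_option autoImplicit false
set_option linter.style.haveILetI false
set_option linter.unusedSectionVars false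
set_option maxHeartbeats 1000000

universe u

open CategoryTheory RingTheory.Sequence Abelian TensorProduct

namespace Groth.Agent.KExact.ExtTopForms

section Shift

variable {A : Type u} [CommRing A]

/-- Linear maps into a quotient by an element and by the rest. -/
theorem ext_shift (xs : List A) : ∀ (L : Type u) [AddCommGroup L] [Module A L], IsWeaklyRegular L xs →
    ∀ (M : Type u) [AddCommGroup M] [Module A M], (∀ x ∈ xs, ∀ m : M, x • m = 0) →
      (∀ i, i < xs.length → Subsingleton (Ext (ModuleCat.of A M) (ModuleCat.of A L) i)) ∧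
      Nonempty (Ext (ModuleCat.of A M) (ModuleCat.of A L) xs.length ≃ₗ[A]
        (M →ₗ[A] L ⧸ (Ideal.ofList xs • ⊤ : Submodule A L))) := by
  induction xs with
  | nil =>
    intro L _ _ _ M _ _ _
    refine ⟨fun i hi => absurd hi (by simp), ⟨?_⟩⟩
    refine (Ext.linearEquiv₀ (R := A)).trans (ModuleCat.homLinearEquiv.trans
      (LinearEquiv.congrRight (Submodule.quotEquivOfEqBot _ (by rw [Ideal.ofList_nil, Submodule.bot_smul])).symm))
  | cons x xs ih =>
    intro L _ _ hreg M _ _ hM
    obtain ⟨hx, hxs⟩ := (isWeaklyRegular_cons_iff L x xs).1 hreg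
    let L' := QuotSMulTop x L
    let Y := ModuleCat.of A L
    let Z := ModuleCat.of A M
    let Y' := ModuleCat.of A L'
    have hS := IsSMulRegular.smulShortComplex_shortExact (M := Y) hx
    obtain ⟨hvan, ⟨e⟩⟩ := ih L' hxs M fun y hy m => hM y (List.mem_cons_of_mem _ hy) m
    have hzero : ∀ (i : ℕ) (t : Ext Z Y i),
        t.comp (Ext.mk₀ (ModuleCat.smulShortComplex Y x).f) (add_zero i) = 0 := fun i t => by
      change t.comp (Ext.mk₀ (x • 𝟙 Y : Y ⟶ Y)) (add_zero i) = 0
      have h2 : x • 𝟙 Z = 0 := by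
        ext m
        exact hM x (List.mem_cons_self ..) m
      rw [Ext.mk₀_smul, Ext.comp_smul, Ext.comp_mk₀_id, ← Ext.mk₀_id_comp t, ← Ext.smul_comp,
        ← Ext.mk₀_smul, h2, Ext.mk₀_zero, Ext.zero_comp]
    have h0 : ∀ i, i ≤ xs.length → Subsingleton (Ext Z Y i) := by
      intro i hi
      refine subsingleton_of_forall_eq 0 fun t => ?_
      rcases Nat.eq_zero_or_pos i with rfl | hpos
      · obtain ⟨f, rfl⟩ := (Ext.mk₀_bijective Z Y).2 t
        have : f = 0 := by
          ext m
          refine hx ?_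
          change x • f.hom m = x • (0 : L)
          rw [← map_smul, hM x (List.mem_cons_self ..) m, map_zero, smul_zero]
        rw [this, Ext.mk₀_zero]
      · obtain ⟨j, rfl⟩ : ∃ j, i = j + 1 := ⟨i - 1, by omega⟩
        obtain ⟨s, hs⟩ := Ext.covariant_sequence_exact₁ Z hS t (hzero _ t) rfl
        haveI : Subsingleton (Ext Z (ModuleCat.smulShortComplex Y x).X₃ j) := hvan j (by omega)
        rw [← hs, Subsingleton.elim s 0, Ext.zero_comp]
        rfl
    refine ⟨fun i hi => h0 i (by simp at hi; omega), ⟨?_⟩⟩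
    let δ : Ext Z (ModuleCat.smulShortComplex Y x).X₃ xs.length →ₗ[A] Ext Z Y (xs.length + 1) :=
      hS.extClass.postcompOfLinear A Z rfl
    have hδ : ∀ s, δ s = s.comp hS.extClass rfl := fun s => rfl
    have hbij : Function.Bijective δ := by
      refine ⟨(injective_iff_map_eq_zero δ).2 fun s hs => ?_, fun t => ?_⟩
      · obtain ⟨r, hr⟩ := Ext.covariant_sequence_exact₃ Z hS s rfl ((hδ s).symm.trans hs)
        haveI : Subsingleton (Ext Z (ModuleCat.smulShortComplex Y x).X₂ xs.length) := h0 _ le_rfl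
        rw [← hr, Subsingleton.elim r 0, Ext.zero_comp]
      · obtain ⟨s, hs⟩ := Ext.covariant_sequence_exact₁ Z hS t (hzero _ t) rfl
        exact ⟨s, (hδ s).trans hs⟩
    exact (LinearEquiv.ofBijective δ hbij).symm.trans (e.trans (LinearEquiv.congrRight
      (Submodule.quotOfListConsSMulTopEquivQuotSMulTopInner L x xs).symm))

/-- A relation between the members of a regular sequence has coefficients in the ideal. -/
theorem coeff_mem_of_sum_eq_zero : ∀ (p : ℕ) (x : Fin p → A), IsWeaklyRegular A (List.ofFn x) →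
    ∀ a : Fin p → A, ∑ i, a i * x i = 0 → ∀ i, a i ∈ Ideal.span (Set.range x) := by
  intro p
  induction p with
  | zero => exact fun x _ a _ i => i.elim0
  | succ p ih =>
    intro x hreg a ha
    rw [List.ofFn_succ', List.concat_eq_append] at hreg
    obtain ⟨hl, hlast⟩ := (LC.isWeaklyRegular_concat_iff _ _).1 hreg
    let x' : Fin p → A := fun i => x i.castSucc
    have hI : Ideal.ofList (List.ofFn x') = Ideal.span (Set.range x') := by
      exact congrArg Ideal.span (Set.ext fun a => List.mem_ofFn' _ _)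
    have hI' : (Ideal.ofList (List.ofFn x') • ⊤ : Submodule A A) = Ideal.span (Set.range x') := by
      rw [Ideal.smul_eq_mul, Ideal.mul_top, hI]
    rw [Fin.sum_univ_castSucc] at ha
    have hap : a (Fin.last p) ∈ Ideal.span (Set.range x') := by
      have h := hlast.right_eq_zero_of_smul (x := Submodule.Quotient.mk (a (Fin.last p))) (by
        rw [← Submodule.Quotient.mk_smul, Submodule.Quotient.mk_eq_zero, hI', smul_eq_mul, mul_comm,
          eq_neg_of_add_eq_zero_right ha]
        exact neg_mem (Ideal.sum_mem _ fun i _ =>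
          Ideal.mul_mem_left _ _ (Ideal.subset_span ⟨i, rfl⟩)))
      rwa [Submodule.Quotient.mk_eq_zero, hI'] at h
    obtain ⟨c, hc⟩ := (Submodule.mem_span_range_iff_exists_fun A).1 hap
    have hle : Ideal.span (Set.range x') ≤ Ideal.span (Set.range x) :=
      Ideal.span_mono (Set.range_comp_subset_range _ _)
    intro i
    refine Fin.lastCases (hle hap) (fun i => ?_) i
    have h := ih x' hl (fun j => a j.castSucc + c j * x (Fin.last p)) (by
      have h1 : ∑ j, c j * x (Fin.last p) * x' j = a (Fin.last p) * x (Fin.last p) := by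
        rw [← hc, Finset.sum_mul]
        exact Finset.sum_congr rfl fun j _ => by rw [smul_eq_mul, mul_right_comm]
      simp only [add_mul, Finset.sum_add_distrib, h1]
      exact ha) i
    have h2 : c i * x (Fin.last p) ∈ Ideal.span (Set.range x) := Ideal.mul_mem_left _ _ (Ideal.subset_span ⟨_, rfl⟩)
    simpa using sub_mem (hle h) h2

end Shift

section Exterior

variable {R : Type u} [CommRing R] (M : Type u) [AddCommGroup M] [Module R M]
  [Module.Finite R M] [Module.Projective R M]

instance projective_exteriorPower (k : ℕ) : Module.Projective R ↥(⋀[R]^k M) := by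
  classical
  obtain ⟨m, π, hπ⟩ := Module.Finite.exists_fin' R M
  obtain ⟨σ, hσ⟩ := Module.projective_lifting_property π LinearMap.id hπ
  refine Module.Projective.of_split (exteriorPower.map k σ) (exteriorPower.map k π) ?_
  rw [← exteriorPower.map_comp, hσ, exteriorPower.map_id]

/-- Ranks of exterior powers. -/
theorem rankAtStalk_exteriorPower (k : ℕ) (q : PrimeSpectrum R) :
    Module.rankAtStalk ↥(⋀[R]^k M) q = (Module.rankAtStalk M q).choose k := by
  rw [Module.rankAtStalk_eq, Module.rankAtStalk_eq]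
  let κ := q.asIdeal.ResidueField
  rw [(LinearEquiv.ofBijective _ (Synt29.ExtBC.bijective_fwd (A := R) (B := κ) (M := M) k)).finrank_eq,
    exteriorPower.finrank_eq]

/-- A projective module of rank one is invertible. -/
theorem invertible_of_rankAtStalk (h : ∀ q, Module.rankAtStalk (R := R) M q = 1) : Module.Invertible R M := by
  haveI : Module.FinitePresentation R M := Module.finitePresentation_of_projective R M
  refine QFD.invertible_of_forall_maximal fun Q hQ => ?_
  let S := Localization.AtPrime Q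
  haveI : Module.Free S (S ⊗[R] M) := Module.free_of_flat_of_isLocalRing
  have h1 := h ⟨Q, inferInstance⟩
  rw [Module.rankAtStalk_eq_finrank_tensorProduct] at h1
  exact ⟨(Module.finBasisOfFinrankEq S (S ⊗[R] M) h1).equivFun.trans (LinearEquiv.funUnique (Fin 1) S S)⟩

/-- The top exterior power of a split extension by a free module. -/
theorem nonempty_top_equiv {Q : Type u} [AddCommGroup Q] [Module R Q] [Module.Finite R Q] [Module.Projective R Q]
    (n p : ℕ) (hpn : p ≤ n) (f : (Fin p → R) →ₗ[R] M) (π : M →ₗ[R] Q) (hf : Function.Injective f)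
    (hπ : Function.Surjective π) (hex : Function.Exact f π) (hn : ∀ q, Module.rankAtStalk (R := R) M q = n) :
    (∀ q, Module.rankAtStalk (R := R) ↥(⋀[R]^(n - p) Q) q = 1) ∧ Nonempty (↥(⋀[R]^(n - p) Q) ≃ₗ[R] ↥(⋀[R]^n M)) := by
  obtain ⟨σ, hσ⟩ := Module.projective_lifting_property π LinearMap.id hπ
  have hs : ∀ z, π (σ z) = z := fun z => LinearMap.congr_fun hσ z
  have hk : ∀ z, π z = 0 → z ∈ LinearMap.range f := fun z hz => (hex z).1 hz
  have hz0 : ∀ w, π (f w) = 0 := fun w => (hex _).2 ⟨w, rfl⟩
  let e : ((Fin p → R) × Q) ≃ₗ[R] M := LinearEquiv.ofBijective (f.coprod σ) ⟨by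
    rw [injective_iff_map_eq_zero]
    rintro ⟨a, b⟩ hab
    rw [LinearMap.coprod_apply] at hab
    have hb : b = 0 := by simpa [hs, hz0] using congrArg π hab
    subst hb
    rw [map_zero, add_zero] at hab
    exact Prod.ext (hf (hab.trans (map_zero f).symm)) rfl, fun z => by
    obtain ⟨a, ha⟩ := hk (z - σ (π z)) (by rw [map_sub, hs, sub_self])
    exact ⟨(a, π z), by rw [LinearMap.coprod_apply, ha, sub_add_cancel]⟩⟩
  have hQ : ∀ q, Module.rankAtStalk (R := R) Q q = n - p := fun q => by
    haveI : Nontrivial R := q.nontrivial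
    have h := congrFun (Module.rankAtStalk_eq_of_equiv e) q
    rw [Module.rankAtStalk_prod, Pi.add_apply, Module.rankAtStalk_eq_finrank_of_free, Pi.natCast_apply,
      Module.finrank_fin_fun, hn] at h
    simp only [Nat.cast_id] at h
    omega
  have h1 : ∀ q, Module.rankAtStalk (R := R) ↥(⋀[R]^(n - p) Q) q = 1 := fun q => by
    rw [rankAtStalk_exteriorPower, hQ, Nat.choose_self]
  refine ⟨h1, ?_⟩
  have h2 : ∀ q, Module.rankAtStalk (R := R) ↥(⋀[R]^n M) q = 1 := fun q => by
    rw [rankAtStalk_exteriorPower, hn, Nat.choose_self]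
  haveI := invertible_of_rankAtStalk _ h1
  haveI := invertible_of_rankAtStalk _ h2
  obtain ⟨top, hgen⟩ : ∃ top : ↥(⋀[R]^p (Fin p → R)), ∀ t, ∃ r : R, r • top = t := by
    rcases subsingleton_or_nontrivial R with h | h
    · exact ⟨0, fun t => ⟨0, @Subsingleton.elim _ (Module.subsingleton R _) _ _⟩⟩
    · have hfr : Module.finrank R ↥(⋀[R]^p (Fin p → R)) = 1 := by
        rw [exteriorPower.finrank_eq, Module.finrank_fin_fun, Nat.choose_self]
      let b := Module.finBasisOfFinrankEq R ↥(⋀[R]^p (Fin p → R)) hfr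
      exact ⟨b 0, fun t => ⟨b.repr t 0, by
        conv_rhs => rw [← b.sum_repr t, Fin.sum_univ_one]⟩⟩
  let θ : ↥(⋀[R]^(n - p) Q) →ₗ[R] ↥(⋀[R]^n M) :=
    (H28.ExtAlg.Θ f σ (Nat.add_sub_cancel' hpn)).comp (TensorProduct.mk R _ _ top)
  refine ⟨LinearEquiv.ofBijective θ (Module.Invertible.bijective_of_surjective fun z => ?_)⟩
  obtain ⟨c, hc⟩ := H28.ExtAlg.tot_surjective f hs hk n z
  have hmem : ∀ (k : Fin (n + 1)) (t : ↥(⋀[R]^(k : ℕ) (Fin p → R)) ⊗[R] ↥(⋀[R]^(n - k) Q)),
      H28.ExtAlg.Θ f σ (Nat.add_sub_cancel' k.is_le) t ∈ LinearMap.range θ := by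
    rintro ⟨k, hk'⟩ t
    rcases eq_or_ne k p with rfl | hne
    · induction t using TensorProduct.induction_on with
      | zero => rw [map_zero]; exact zero_mem _
      | add a b ha hb => rw [map_add]; exact add_mem ha hb
      | tmul a b =>
        obtain ⟨r, rfl⟩ := hgen a
        rw [TensorProduct.smul_tmul, show top ⊗ₜ[R] (r • b) = TensorProduct.mk R _ _ top (r • b) from rfl]
        exact ⟨r • b, rfl⟩
    · have hz : Subsingleton (↥(⋀[R]^k (Fin p → R)) ⊗[R] ↥(⋀[R]^(n - k) Q)) := by
        rcases Nat.lt_or_ge p k with h | h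
        · haveI : Subsingleton ↥(⋀[R]^k (Fin p → R)) :=
            (Module.rankAtStalk_eq_zero_iff_subsingleton (R := R)).1 (funext fun q => by
              haveI : Nontrivial R := q.nontrivial
              rw [rankAtStalk_exteriorPower, Module.rankAtStalk_eq_finrank_of_free, Pi.natCast_apply,
                Module.finrank_fin_fun]
              exact Nat.choose_eq_zero_of_lt h)
          infer_instance
        · haveI : Subsingleton ↥(⋀[R]^(n - k) Q) :=
            (Module.rankAtStalk_eq_zero_iff_subsingleton (R := R)).1 (funext fun q => by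
              rw [rankAtStalk_exteriorPower, hQ]
              exact Nat.choose_eq_zero_of_lt (by omega))
          infer_instance
      rw [Subsingleton.elim t 0, map_zero]
      exact zero_mem _
  rw [← hc]
  have hsum : H28.ExtAlg.tot f σ n c = ∑ k, H28.ExtAlg.Θ f σ (Nat.add_sub_cancel' k.is_le) (c k) := by
    rw [H28.ExtAlg.tot, LinearMap.sum_apply]
    rfl
  have hr : H28.ExtAlg.tot f σ n c ∈ LinearMap.range θ := hsum ▸ Submodule.sum_mem _ fun k _ => hmem k (c k)
  exact hr

end Exterior

section Main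

open KaehlerDifferential

/-- Endomorphisms of an invertible module over a quotient ring. -/
theorem nonempty_end_equiv {A B M : Type u} [CommRing A] [CommRing B] [Algebra A B]
    (hs : Function.Surjective (algebraMap A B)) [AddCommGroup M] [Module A M] [Module B M] [IsScalarTower A B M]
    [Module.Invertible B M] : Nonempty ((M →ₗ[A] M) ≃ₗ[A] B) := by
  let ψ : B →ₗ[A] (M →ₗ[A] M) :=
    { toFun := fun b => (b • (LinearMap.id : M →ₗ[B] M)).restrictScalars A
      map_add' := fun a b => LinearMap.ext fun m => add_smul a b m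
      map_smul' := fun a b => LinearMap.ext fun m => smul_assoc a b m }
  refine ⟨(LinearEquiv.ofBijective ψ ⟨fun a b h => ?_, fun g => ?_⟩).symm⟩
  · exact (Module.Invertible.toModuleEnd_bijective B M).1 (LinearMap.ext fun m => LinearMap.congr_fun h m)
  · let g' : M →ₗ[B] M :=
      { toFun := g, map_add' := g.map_add
        map_smul' := fun b m => by
          obtain ⟨a, rfl⟩ := hs b
          simp only [RingHom.id_apply, algebraMap_smul, map_smul] }
    obtain ⟨b, hb⟩ := (Module.Invertible.toModuleEnd_bijective B M).2 g'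
    exact ⟨b, LinearMap.ext fun m => LinearMap.congr_fun hb m⟩

/-- The fundamental class of a smooth quotient by a regular sequence. -/
theorem nonempty_ext_equiv (k : Type u) [Field k] (A : Type u) [CommRing A] [Algebra k A] [Algebra.FiniteType k A]
    [Algebra.Smooth k A] (n : ℕ) (hn : ∀ q : PrimeSpectrum A, Module.rankAtStalk (Ω[A⁄k]) q = n)
    (p : ℕ) (x : Fin p → A) (hreg : IsWeaklyRegular A (List.ofFn x)) (J : Ideal A)
    (hJ : Ideal.ofList (List.ofFn x) = J) [Algebra.Smooth k (A ⧸ J)] (hpn : p ≤ n) :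
    Nonempty (Ext (ModuleCat.of A ↥((⋀[A ⧸ J]^(n - p) (Ω[(A ⧸ J)⁄k])).restrictScalars A))
      (ModuleCat.of A ↥(⋀[A]^n (Ω[A⁄k]))) p ≃ₗ[A] (A ⧸ J)) := by
  classical
  let B := A ⧸ J
  have hs : Function.Surjective (algebraMap A B) := Ideal.Quotient.mk_surjective
  have hker : RingHom.ker (algebraMap A B) = J := Ideal.mk_ker
  have hspan : J = Ideal.span (Set.range x) := by
    rw [← hJ]
    exact congrArg Ideal.span (Set.ext fun a => List.mem_ofFn' _ _)
  let E := B ⊗[A] Ω[A⁄k]
  let v : Fin p → E := fun i => (1 : B) ⊗ₜ[A] D k A (x i)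
  let f : (Fin p → B) →ₗ[B] E := Fintype.linearCombination B v
  let xk : Fin p → RingHom.ker (algebraMap A B) := fun i => ⟨x i, by
    rw [hker, hspan]; exact Ideal.subset_span ⟨i, rfl⟩⟩
  let π : E →ₗ[B] Ω[B⁄k] := mapBaseChange k A B
  have hf : ∀ a : Fin p → A, f (fun i => algebraMap A B (a i)) =
      kerCotangentToTensor k A B (Ideal.toCotangent _ (∑ i, a i • xk i)) := fun a => by
    rw [map_sum, map_sum]
    change ∑ i, algebraMap A B (a i) • v i = _
    refine Finset.sum_congr rfl fun i _ => ?_
    rw [map_smul, map_smul, kerCotangentToTensor_toCotangent, algebraMap_smul]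
  have hinj : Function.Injective f := by
    rw [injective_iff_map_eq_zero]
    intro c hc
    choose a ha using fun i => hs (c i)
    obtain ⟨l, hl⟩ := (Algebra.FormallySmooth.iff_split_injection (R := k) (P := A) (A := B) hs).1 inferInstance
    have h0 : Ideal.toCotangent _ (∑ i, a i • xk i) = 0 := by
      have h := LinearMap.congr_fun hl (Ideal.toCotangent _ (∑ i, a i • xk i))
      rw [LinearMap.comp_apply, ← hf a, funext ha, hc, map_zero] at h
      exact h.symm
    have hsq : (∑ i, a i * x i) ∈ J • Submodule.span A (Set.range x) := by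
      have h1 := (Ideal.toCotangent_eq_zero _ _).1 h0
      have h2 : ((∑ i, a i • xk i : RingHom.ker (algebraMap A B)) : A) = ∑ i, a i * x i := by
        rw [Submodule.coe_sum]
        rfl
      rw [h2, hker, pow_two] at h1
      rwa [Ideal.smul_eq_mul, ← hspan.trans (Ideal.submodule_span_eq (s := Set.range x)).symm]
    obtain ⟨b, hb, hsum⟩ := (Submodule.mem_ideal_smul_span_iff_exists_sum J x _).1 hsq
    rw [Finsupp.sum_fintype _ _ (by simp)] at hsum
    have hrel := coeff_mem_of_sum_eq_zero p x hreg (fun i => a i - b i) (by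
      simp only [sub_mul, Finset.sum_sub_distrib, sub_eq_zero]
      exact hsum.symm.trans (Finset.sum_congr rfl fun i _ => rfl))
    funext i
    rw [← ha i, Pi.zero_apply]
    refine (Ideal.Quotient.eq_zero_iff_mem).2 ?_
    simpa using add_mem (hspan ▸ hrel i : a i - b i ∈ J) (hb i)
  have hex : Function.Exact f π := by
    intro z
    constructor
    · intro hz
      obtain ⟨c, rfl⟩ := (exact_kerCotangentToTensor_mapBaseChange k A B hs z).1 hz
      obtain ⟨⟨y, hy⟩, rfl⟩ := Ideal.toCotangent_surjective _ c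
      obtain ⟨a, ha⟩ := (Submodule.mem_span_range_iff_exists_fun A).1 (hspan ▸ hker ▸ hy : y ∈ Ideal.span (Set.range x))
      refine ⟨fun i => algebraMap A B (a i), (hf a).trans ?_⟩
      congr 2
      apply Subtype.ext
      rw [Submodule.coe_sum]
      exact ha
    · rintro ⟨c, rfl⟩
      choose a ha using fun i => hs (c i)
      rw [← funext ha, hf a]
      exact (exact_kerCotangentToTensor_mapBaseChange k A B hs _).2 ⟨_, rfl⟩
  have hnE : ∀ q, Module.rankAtStalk (R := B) E q = n := fun q => by
    rw [Module.rankAtStalk_baseChange]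
    exact hn _
  obtain ⟨h1, ⟨e⟩⟩ := nonempty_top_equiv E n p hpn f π hinj (mapBaseChange_surjective k A B hs) hex hnE
  haveI := invertible_of_rankAtStalk _ h1
  let Λ := ↥(⋀[A]^n (Ω[A⁄k]))
  let M := ↥(⋀[B]^(n - p) (Ω[B⁄k]))
  have hΛ : IsWeaklyRegular Λ (List.ofFn x) :=
    ((TensorProduct.lid A Λ).isWeaklyRegular_congr _).1 (hreg.isWeaklyRegular_rTensor (M₂ := Λ))
  have hM : ∀ y ∈ List.ofFn x, ∀ m : M, y • m = 0 := fun y hy m => by
    obtain ⟨i, rfl⟩ := (List.mem_ofFn' _ _).1 hy
    rw [← algebraMap_smul B (x i) m, show algebraMap A B (x i) = 0 from RingHom.mem_ker.1 (xk i).2, zero_smul]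
  obtain ⟨-, ⟨e2⟩⟩ := ext_shift (List.ofFn x) Λ hΛ M hM
  rw [List.length_ofFn] at e2
  let e1 : M ≃ₗ[A] (Λ ⧸ (Ideal.ofList (List.ofFn x) • ⊤ : Submodule A Λ)) :=
    ((e.trans (LinearEquiv.ofBijective _ (Synt29.ExtBC.bijective_fwd (A := A) (B := B) (M := Ω[A⁄k]) n)).symm).restrictScalars A).trans
      ((TensorProduct.quotTensorEquivQuotSMul Λ J).trans (Submodule.quotEquivOfEq _ _ (by rw [hJ])))
  obtain ⟨e3⟩ := nonempty_end_equiv (M := M) hs
  exact ⟨e2.trans ((LinearEquiv.congrRight e1.symm).trans e3)⟩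

end Main

end Groth.Agent.KExact.ExtTopForms
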