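import Groth.Agent.KExact.KilledDevissage
import Groth.Agent.KFlatLib.Ring.KoszulOrth
import Groth.Agent.KFlatLib.Ring.DualizingRange
import Groth.Agent.KFlatLib.Ring.RHomFinite
import Groth.Agent.H9Misc.DRingInjAmp

/-!
# Eventual vanishing of Ext into a pointwise finite injective dimensional object
-/

set_option autoImplicit false
set_option linter.style.haveILetI false
set_option linter.unusedSectionVars false
set_option backward.isDefEq.respectTransparency false

universe u

open CategoryTheory CategoryTheory.Limits Pretriangulated DerivedCategory.TStructure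

attribute [local instance] HasDerivedCategory.standard

namespace Groth.Agent.KExact

open KFlatLib KFlatLib.KoszulOrth

variable {A : Type u} [CommRing A] [IsNoetherianRing A] {R : Dual.D A}

theorem killedExt_iff (q : Ideal A) [q.IsPrime] (M : Type u) [AddCommGroup M] [Module A M] (t : ℤ) :
    KilledExt q R M t ↔ Subsingleton (LocalizedModule q.primeCompl (Dual.inD A M ⟶ R⟦t⟧)) := by
  obtain ⟨e⟩ := exists_shiftHomLEquiv (Dual.inD A M) R t
  rw [LocalizedModule.subsingleton_iff]
  refine ⟨fun h φ => ?_, fun h φ => ?_⟩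
  · obtain ⟨r, hr, h0⟩ := h (e φ)
    exact ⟨r, hr, e.injective (by rw [map_smul, map_zero, h0])⟩
  · obtain ⟨r, hr, h0⟩ := h (e.symm φ)
    exact ⟨r, hr, e.symm.injective (by rw [map_smul, map_zero, h0])⟩

/-- Finite injective dimension at `q`. -/
theorem exists_killedExt_of_gt (a : ℤ) [R.IsGE a] (q : PrimeSpectrum A)
    [DRing.HasLBaseChange (algebraMap A (Localization.AtPrime q.asIdeal))]
    (h : DRing.HasFiniteInjDim (Localization.AtPrime q.asIdeal)
      ((DRing.LBaseChange (algebraMap A (Localization.AtPrime q.asIdeal))).obj R)) :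
    ∃ N : ℤ, ∀ (M : Type u) [AddCommGroup M] [Module A M] [Module.Finite A M] (t : ℤ), N < t →
      KilledExt q.asIdeal R M t := by
  haveI := hasLBase (algebraMap A (Localization.AtPrime q.asIdeal))
  obtain ⟨a', b', E, hz, hE, ⟨e⟩⟩ := h
  obtain ⟨c⟩ := nonempty_LBaseChange_iso (algebraMap A (Localization.AtPrime q.asIdeal))
  refine ⟨b', fun M _ _ _ t ht => (killedExt_iff _ _ _).2 ?_⟩
  obtain ⟨θ⟩ := exists_localModuleExtEquiv (ω := R) a q.asIdeal M t
  haveI := H9Misc.DRingInjAmp.ext_subsingleton hz hE (e ≪≫ c.app R)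
    (ModuleCat.of (Localization.AtPrime q.asIdeal) (LocalizedModule q.asIdeal.primeCompl M)) t (Or.inr ht)
  exact θ.symm.subsingleton

theorem killedExt_of_smul_eq_zero (q : Ideal A) [q.IsPrime] {M : Type u} [AddCommGroup M] [Module A M] {g : A}
    (hg : ∀ x : M, g • x = 0) (hgq : g ∉ q) (t : ℤ) : KilledExt q R M t := by
  rw [killedExt_iff, LocalizedModule.subsingleton_iff]
  exact fun φ => ⟨g, hgq, smul_hom_inD_eq_zero hg φ⟩

theorem exists_smul_eq_zero_of_subsingleton (p : Ideal A) [p.IsPrime] (M : Type u) [AddCommGroup M] [Module A M]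
    [Module.Finite A M] (h : Subsingleton (LocalizedModule p.primeCompl M)) :
    ∃ g : A, g ∉ p ∧ ∀ x : M, g • x = 0 := by
  have hp : (⟨p, inferInstance⟩ : PrimeSpectrum A) ∉ Module.support A M := Module.notMem_support_iff.2 h
  rw [Module.support_eq_zeroLocus, PrimeSpectrum.mem_zeroLocus] at hp
  obtain ⟨g, hg, hgp⟩ := Set.not_subset.1 hp
  exact ⟨g, hgp, fun x => Module.mem_annihilator.1 hg x⟩

/-- Modules supported in `V(p)` behave as `A/p` near `p`. -/
theorem exists_nhd_of_support_subset (p : Ideal A) [p.IsPrime] (M : Type u) [AddCommGroup M] [Module A M]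
    [Module.Finite A M] (hM : Module.support A M ⊆ PrimeSpectrum.zeroLocus p) :
    ∃ f : A, f ∉ p ∧ ∀ (q : Ideal A) [q.IsPrime], p ≤ q → f ∉ q → ∀ s : ℤ,
      (∀ t, s < t → KilledExt q R (A ⧸ p) t) →
      (∀ t, s < t → KilledExt q R M t) ∧
        (KilledExt q R M s → ¬ Subsingleton (LocalizedModule p.primeCompl M) → KilledExt q R (A ⧸ p) s) := by
  revert hM
  refine IsNoetherianRing.induction_on_isQuotientEquivQuotientPrime A (M := M) inferInstance
    (motive := fun N _ _ _ => Module.support A N ⊆ PrimeSpectrum.zeroLocus p →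
      ∃ f : A, f ∉ p ∧ ∀ (q : Ideal A) [q.IsPrime], p ≤ q → f ∉ q → ∀ s : ℤ,
      (∀ t, s < t → KilledExt q R (A ⧸ p) t) →
      (∀ t, s < t → KilledExt q R N t) ∧
        (KilledExt q R N s → ¬ Subsingleton (LocalizedModule p.primeCompl N) → KilledExt q R (A ⧸ p) s)) ?_ ?_ ?_
  · intro N _ _ _ _ _
    exact ⟨1, p.one_notMem, fun q _ _ _ s _ => ⟨fun t _ => killedExt_of_subsingleton N t,
      fun _ h => absurd (LocalizedModule.subsingleton_iff.2 fun x => ⟨1, one_mem _, Subsingleton.elim _ _⟩) h⟩⟩
  · intro N _ _ _ P e hN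
    have hP : p ≤ P.1 := by
      refine hN ?_
      rw [e.support_eq, Module.support_eq_zeroLocus, Ideal.annihilator_quotient]
      exact PrimeSpectrum.mem_zeroLocus _ _ |>.2 subset_rfl
    rcases hP.eq_or_lt with hpP | hpP
    · let e' : N ≃ₗ[A] A ⧸ p := e.trans (Submodule.quotEquivOfEq _ _ hpP.symm)
      exact ⟨1, p.one_notMem, fun q _ _ _ s hs => ⟨fun t ht => killedExt_congr e'.symm t (hs t ht),
        fun h _ => killedExt_congr e' s h⟩⟩
    · obtain ⟨g, hgP, hgp⟩ := SetLike.exists_of_lt hpP
      have hg : ∀ x : N, g • x = 0 := fun x => e.injective (by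
        rw [map_smul, map_zero]
        obtain ⟨y, hy⟩ := Submodule.Quotient.mk_surjective _ (e x)
        rw [← hy, ← Submodule.Quotient.mk_smul]
        exact (Submodule.Quotient.mk_eq_zero _).2 (Ideal.mul_mem_right y _ hgP))
      exact ⟨g, hgp, fun q _ _ hgq s _ => ⟨fun t _ => killedExt_of_smul_eq_zero q hg hgq t,
        fun _ h => absurd (LocalizedModule.subsingleton_iff.2 fun x => ⟨g, hgp, hg x⟩) h⟩⟩
  · intro N₁ _ _ _ N₂ _ _ _ N₃ _ _ _ f g hf hg hfg ih₁ ih₃ hN
    obtain ⟨f₁, hf₁, H₁⟩ := ih₁ fun P hP => hN (Module.support_subset_of_injective f hf hP)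
    obtain ⟨f₃, hf₃, H₃⟩ := ih₃ fun P hP => hN (Module.support_subset_of_surjective g hg hP)
    obtain ⟨g₁, hg₁, hg₁'⟩ : ∃ g₁ : A, g₁ ∉ p ∧
        (Subsingleton (LocalizedModule p.primeCompl N₁) → ∀ x : N₁, g₁ • x = 0) := by
      by_cases h : Subsingleton (LocalizedModule p.primeCompl N₁)
      · obtain ⟨g₁, h1, h2⟩ := exists_smul_eq_zero_of_subsingleton p N₁ h
        exact ⟨g₁, h1, fun _ => h2⟩
      · exact ⟨1, p.one_notMem, fun h' => absurd h' h⟩
    have hmul : ∀ {x y : A}, x ∉ p → y ∉ p → x * y ∉ p := fun hx hy h =>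
      (Ideal.IsPrime.mem_or_mem ‹p.IsPrime› h).elim hx hy
    refine ⟨f₁ * f₃ * g₁, hmul (hmul hf₁ hf₃) hg₁, fun q _ hpq hq s hs => ?_⟩
    obtain ⟨h11, h12⟩ := H₁ q hpq (fun h => hq (q.mul_mem_right _ (q.mul_mem_right _ h))) s hs
    obtain ⟨h31, h32⟩ := H₃ q hpq (fun h => hq (q.mul_mem_right _ (q.mul_mem_left _ h))) s hs
    obtain ⟨w, hS⟩ := exists_ses_of_exact hf hg hfg
    let T := hS.singleTriangle
    have hT : ∀ n : ℤ, (Triangle.shiftFunctor (Dual.D A) n).obj T ∈ distTriang (Dual.D A) := fun n =>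
      Triangle.shift_distinguished _ hS.singleTriangle_distinguished n
    refine ⟨fun t ht => killed_mid (hT (-t)) (h11 t ht) (h31 t ht), fun h hne => ?_⟩
    by_cases h1 : Subsingleton (LocalizedModule p.primeCompl N₁)
    · refine h32 (killed_thd (hT (-s)) h ((killed_shift_shift (-s) 1 (-(s - 1)) (by omega)).2 ?_)) fun h3 => hne ?_
      · exact killedExt_of_smul_eq_zero q (hg₁' h1) (fun h => hq (q.mul_mem_left _ h)) _
      · have hP : ∀ (N : Type u) [AddCommGroup N] [Module A N], Subsingleton (LocalizedModule p.primeCompl N) ↔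
            (⟨p, inferInstance⟩ : PrimeSpectrum A) ∉ Module.support A N := fun N _ _ =>
              (Module.notMem_support_iff (p := (⟨p, inferInstance⟩ : PrimeSpectrum A))).symm
        rw [hP] at h1 h3 ⊢
        rw [Module.support_of_exact hfg hf hg]
        exact fun h => h.elim h1 h3
    · exact h12 (killed_fst (hT (-s)) h ((killed_shift_shift (-s) (-1) (-(s + 1)) (by omega)).2 (h31 _ (by omega)))) h1

/-- The Koszul complex maps only in a bounded range. -/
theorem killed_kQ (q : Ideal A) [q.IsPrime] (b : ℤ) [R.IsLE b] : ∀ (l : List A) (t : ℤ), b + l.length < t →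
    Killed q R ((kQ l)⟦-t⟧) := by
  intro l
  induction l with
  | nil =>
    intro t ht
    refine killed_of_iso ((shiftFunctor _ (-t)).mapIso
      ((DerivedCategory.singleFunctorIsoCompQ (ModuleCat.{u} A) 0).app (ModuleCat.of A A))) ?_
    refine (killedExt_iff (R := R) q A t).2 ?_
    obtain ⟨e⟩ := exists_homRingLEquiv R t
    haveI : Subsingleton (Dual.HD A R t) :=
      ModuleCat.subsingleton_of_isZero (R.isZero_of_isLE b t (by simp at ht; omega))
    haveI := e.injective.subsingleton
    exact LocalizedModule.subsingleton_iff.2 fun x => ⟨1, one_mem _, Subsingleton.elim _ _⟩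
  | cons f l ih =>
    intro t ht
    simp only [List.length_cons, Nat.cast_add, Nat.cast_one] at ht
    obtain ⟨u, v, hT⟩ := exists_triangle f l
    exact killed_thd (Triangle.shift_distinguished _ hT (-t)) (ih t (by omega))
      ((killed_shift_shift (-t) 1 (-(t - 1)) (by omega)).2 (ih (t - 1) (by omega)))

/-- The cohomology of the Koszul complex. -/
theorem finite_and_amplitude_kQ : ∀ l : List A, (∀ i, Module.Finite A (Dual.HD A (kQ l) i)) ∧
    (∀ i, 0 < i → Subsingleton (Dual.HD A (kQ l) i)) ∧
    (∀ i, i < -(l.length : ℤ) → Subsingleton (Dual.HD A (kQ l) i)) := by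
  intro l
  induction l with
  | nil =>
    let e : Dual.inD A A ≅ kQ ([] : List A) :=
      (DerivedCategory.singleFunctorIsoCompQ (ModuleCat.{u} A) 0).app (ModuleCat.of A A)
    have hs : ∀ i : ℤ, i ≠ 0 → Subsingleton (Dual.HD A (kQ ([] : List A)) i) := fun i hi => by
      haveI := H9Misc.DRingTel.subsingleton_homology_inD (A := A) A (i := i) hi
      exact ((DerivedCategory.homologyFunctor (ModuleCat.{u} A) i).mapIso e).toLinearEquiv.symm.injective.subsingleton
    refine ⟨fun i => ?_, fun i hi => hs i (by omega), fun i hi => hs i (by simp at hi; omega)⟩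
    by_cases hi : i = 0
    · subst hi
      exact Module.Finite.equiv ((H9Misc.DRingTel.homologyInD A).symm.trans
        ((DerivedCategory.homologyFunctor (ModuleCat.{u} A) 0).mapIso e).toLinearEquiv)
    · haveI := hs i hi
      exact Module.Finite.of_finite
  | cons f l ih =>
    obtain ⟨u, v, hT⟩ := exists_triangle f l
    obtain ⟨hfin, hhi, hlo⟩ := ih
    have hz : ∀ i, Subsingleton (Dual.HD A (kQ l) i) → Subsingleton (Dual.HD A (kQ l) (i + 1)) →
        Subsingleton (Dual.HD A (kQ (f :: l)) i) := fun i h1 h2 => ModuleCat.subsingleton_of_isZero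
      ((DerivedCategory.HomologySequence.exact₃ _ hT i (i + 1) rfl).isZero_of_both_zeros
        ((@ModuleCat.isZero_of_subsingleton _ _ _ h1).eq_of_src _ _)
        ((@ModuleCat.isZero_of_subsingleton _ _ _ h2).eq_of_tgt _ _))
    refine ⟨fun i => ?_, fun i hi => hz i (hhi i hi) (hhi _ (by omega)), fun i hi => ?_⟩
    · have hex := (ShortComplex.moduleCat_exact_iff _).1
        (DerivedCategory.HomologySequence.exact₃ _ hT i (i + 1) rfl)
      exact KFlatLib.finite_of_exact ((DerivedCategory.homologyFunctor (ModuleCat.{u} A) i).map u).hom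
        (DerivedCategory.HomologySequence.δ (Triangle.mk (f • 𝟙 (kQ l)) u v) i (i + 1) rfl).hom hex (hfin i) (hfin (i + 1))
    · simp only [List.length_cons, Nat.cast_add, Nat.cast_one] at hi
      exact hz i (hlo i (by omega)) (hlo (i + 1) (by omega))

/-- The top cohomology of the Koszul complex is nonzero on the zero locus. -/
theorem mem_support_hd_kQ (p : PrimeSpectrum A) : ∀ l : List A, (∀ x ∈ l, x ∈ p.asIdeal) →
    p ∈ Module.support A (Dual.HD A (kQ l) 0) := by
  intro l
  induction l with
  | nil =>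
    intro _
    let e : Dual.inD A A ≅ kQ ([] : List A) :=
      (DerivedCategory.singleFunctorIsoCompQ (ModuleCat.{u} A) 0).app (ModuleCat.of A A)
    rw [← (((H9Misc.DRingTel.homologyInD A).symm.trans
        ((DerivedCategory.homologyFunctor (ModuleCat.{u} A) 0).mapIso e).toLinearEquiv)).support_eq,
      Module.support_eq_zeroLocus, Module.annihilator_eq_bot.2 inferInstance]
    simp
  | cons f l ih =>
    intro hl
    obtain ⟨u, v, hT⟩ := exists_triangle f l
    let H := DerivedCategory.homologyFunctor (ModuleCat.{u} A) 0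
    haveI := (finite_and_amplitude_kQ l).1 0
    have hker : LinearMap.ker (H.map u).hom = Ideal.span {f} • (⊤ : Submodule A (Dual.HD A (kQ l) 0)) := by
      have hex := DerivedCategory.HomologySequence.exact₂ _ hT 0
      rw [ShortComplex.moduleCat_exact_iff_range_eq_ker] at hex
      refine hex.symm.trans ?_
      have hm : H.map (f • 𝟙 (kQ l)) = f • 𝟙 _ := by rw [Functor.map_smul, CategoryTheory.Functor.map_id]
      rw [Submodule.ideal_span_singleton_smul]
      ext x
      simp only [LinearMap.mem_range, Submodule.mem_smul_pointwise_iff_exists, Submodule.mem_top, true_and]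
      refine exists_congr fun y => ?_
      show (H.map (f • 𝟙 (kQ l))) y = x ↔ f • y = x
      rw [hm]
      rfl
    have hs := Module.support_subset_of_injective ((LinearMap.ker (H.map u).hom).liftQ (H.map u).hom le_rfl)
      (by rw [← LinearMap.ker_eq_bot, Submodule.ker_liftQ, Submodule.mkQ_map_self])
    refine hs ?_
    rw [hker, Module.support_quotient]
    exact ⟨ih fun x hx => hl x (List.mem_cons_of_mem _ hx), (PrimeSpectrum.mem_zeroLocus _ _).2
      ((Ideal.span_singleton_le_iff_mem _).2 (hl f List.mem_cons_self))⟩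

/-- Near a prime, the Exts out of `A/p` vanish in high degrees, uniformly. -/
theorem exists_nhd_killedExt (a b : ℤ) [R.IsGE a] [R.IsLE b]
    (hev : ∀ q : PrimeSpectrum A, ∃ N : ℤ, ∀ (M : Type u) [AddCommGroup M] [Module A M] [Module.Finite A M] (t : ℤ),
      N < t → KilledExt q.asIdeal R M t)
    (p : Ideal A) [p.IsPrime] :
    ∃ (f : A) (N : ℤ), f ∉ p ∧ ∀ (q : Ideal A) [q.IsPrime], p ≤ q → f ∉ q → ∀ t, N < t →
      KilledExt q R (A ⧸ p) t := by
  classical
  obtain ⟨S, hS⟩ := (IsNoetherian.noetherian p : p.FG)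
  let l := S.toList
  obtain ⟨hfin, hhi, hlo⟩ := finite_and_amplitude_kQ (A := A) l
  let H : ℤ → Type u := fun i => Dual.HD A (kQ l) i
  have hlp : ∀ x ∈ l, x ∈ p := fun x hx => hS ▸ Ideal.subset_span (Finset.mem_coe.2 (Finset.mem_toList.1 hx))
  have hsupp : ∀ i, Module.support A (H i) ⊆ PrimeSpectrum.zeroLocus p := fun i P hP => by
    rw [PrimeSpectrum.mem_zeroLocus, SetLike.coe_subset_coe, ← hS]
    refine Submodule.span_le.2 ?_
    intro x hx
    obtain ⟨k, hk⟩ := exists_pow_smul_hd_eq_zero l x (Finset.mem_toList.2 hx)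
    haveI := hfin i
    rw [Module.support_eq_zeroLocus, PrimeSpectrum.mem_zeroLocus] at hP
    exact P.isPrime.mem_of_pow_mem k (hP (Module.mem_annihilator.2 fun m => hk i m))
  haveI : ∀ i, Module.Finite A (H i) := hfin
  choose F hF hFq using fun i : ℤ => exists_nhd_of_support_subset (R := R) p (H i) (hsupp i)
  let I := Finset.Icc (-(l.length : ℤ)) 0
  let ℘ : PrimeSpectrum A := ⟨p, inferInstance⟩
  have hI0 : (0 : ℤ) ∈ I.filter fun i => ℘ ∈ Module.support A (H i) :=
    Finset.mem_filter.2 ⟨Finset.mem_Icc.2 ⟨by omega, le_rfl⟩, mem_support_hd_kQ ℘ l hlp⟩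
  let c := (I.filter fun i => ℘ ∈ Module.support A (H i)).min' ⟨0, hI0⟩
  have hc := Finset.mem_filter.1 ((I.filter fun i => ℘ ∈ Module.support A (H i)).min'_mem ⟨0, hI0⟩)
  have hc0 : c ≤ 0 := Finset.min'_le _ _ hI0
  have hlow : ∀ i, i < c → Subsingleton (LocalizedModule p.primeCompl (H i)) := fun i hi => by
    by_cases hiI : i ∈ I
    · refine (Module.notMem_support_iff (p := ℘)).1 fun h => ?_
      have := Finset.min'_le (I.filter fun i => ℘ ∈ Module.support A (H i)) i (Finset.mem_filter.2 ⟨hiI, h⟩)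
      omega
    · haveI : Subsingleton (H i) := by
        simp only [I, Finset.mem_Icc, not_and_or, not_le] at hiI
        exact hiI.elim (hlo i) (hhi i)
      exact LocalizedModule.subsingleton_iff.2 fun x => ⟨1, one_mem _, Subsingleton.elim _ _⟩
  have hann : ∀ i, ∃ g : A, g ∉ p ∧ (i < c → ∀ x : H i, g • x = 0) := fun i => by
    by_cases hi : i < c
    · obtain ⟨g, h1, h2⟩ := exists_smul_eq_zero_of_subsingleton p (H i) (hlow i hi)
      exact ⟨g, h1, fun _ => h2⟩
    · exact ⟨1, p.one_notMem, fun h => absurd h hi⟩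
  choose G hG hG' using hann
  refine ⟨∏ i ∈ I, F i * G i, b + l.length, fun h => ?_, fun q _ hpq hfq t ht => ?_⟩
  · obtain ⟨i, -, hi⟩ := (Ideal.IsPrime.prod_mem_iff).1 h
    exact (Ideal.IsPrime.mem_or_mem ‹p.IsPrime› hi).elim (hF i) (hG i)
  have hq : ∀ i ∈ I, F i ∉ q ∧ G i ∉ q := fun i hi => by
    refine ⟨fun h => hfq ?_, fun h => hfq ?_⟩
    · exact Ideal.IsPrime.prod_mem_iff.2 ⟨i, hi, q.mul_mem_right _ h⟩
    · exact Ideal.IsPrime.prod_mem_iff.2 ⟨i, hi, q.mul_mem_left _ h⟩
  obtain ⟨M, hM⟩ := hev ⟨q, inferInstance⟩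
  haveI : (kQ l).IsGE (-(l.length : ℤ)) := (DerivedCategory.isGE_iff _ _).2 fun i hi =>
    @ModuleCat.isZero_of_subsingleton _ _ _ (hlo i hi)
  haveI : (kQ l).IsLE 0 := (DerivedCategory.isLE_iff _ _).2 fun i hi =>
    @ModuleCat.isZero_of_subsingleton _ _ _ (hhi i hi)
  have key : ∀ t, b + l.length < t → (∀ u, t < u → KilledExt q R (A ⧸ p) u) → KilledExt q R (A ⧸ p) t := by
    intro t ht hs
    refine (hFq c q hpq (hq c hc.1).1 t hs).2 ?_ ((Module.mem_support_iff (p := ℘)).1 hc.2 |> not_subsingleton_iff_nontrivial.2)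
    refine killedExt_of_killed (c + l.length).toNat (kQ l) (-(l.length : ℤ)) 0 c t ?_ (fun i hi u => ?_)
      (fun i hi u hu => ?_) ?_
    · have := (Finset.mem_Icc.1 hc.1).1
      omega
    · by_cases hiI : i ∈ I
      · exact killedExt_of_smul_eq_zero q (hG' i hi) (hq i hiI).2 u
      · haveI : Subsingleton (H i) := by
          simp only [I, Finset.mem_Icc, not_and_or, not_le] at hiI
          exact hiI.elim (hlo i) (hhi i)
        exact killedExt_of_subsingleton _ _
    · by_cases hiI : i ∈ I
      · exact (hFq i q hpq (hq i hiI).1 t hs).1 u hu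
      · haveI : Subsingleton (H i) := by
          simp only [I, Finset.mem_Icc, not_and_or, not_le] at hiI
          exact hiI.elim (hlo i) (hhi i)
        exact killedExt_of_subsingleton _ _
    · rw [show c - t = -(t - c) by omega]
      exact killed_kQ q b l (t - c) (by omega)
  suffices ∀ (k : ℕ) (t : ℤ), b + l.length < t → M < t + k → KilledExt q R (A ⧸ p) t from
    this ((M - t).toNat + 1) t ht (by omega)
  intro k
  induction k using Nat.strong_induction_on with
  | _ k ih =>
    intro t ht hk
    refine key t ht fun u hu => ?_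
    by_cases hu' : M < u
    · exact hM _ u hu'
    · exact ih (k - 1) (by omega) u (by omega) (by omega)

/-- Ext out of a finite module into a pointwise finite injective dimensional object eventually vanishes. -/
theorem exists_ext_bound (a b : ℤ) [R.IsGE a] [R.IsLE b]
    (hev : ∀ q : PrimeSpectrum A, ∃ N : ℤ, ∀ (M : Type u) [AddCommGroup M] [Module A M] [Module.Finite A M] (t : ℤ),
      N < t → KilledExt q.asIdeal R M t)
    (M : Type u) [AddCommGroup M] [Module A M] [Module.Finite A M] :
    ∃ N : ℤ, ∀ i : ℤ, N < i → Subsingleton (Dual.inD A M ⟶ R⟦i⟧) := by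
  classical
  have hI : ∀ I : Ideal A, ∃ N : ℤ, ∀ i : ℤ, N < i → Subsingleton (Dual.inD A (A ⧸ I) ⟶ R⟦i⟧) := by
    intro I
    induction I using (wellFounded_gt (α := Ideal A)).induction with
    | _ I ih =>
      by_cases hI : I.IsPrime
      · obtain ⟨f, N, hf, hN⟩ := exists_nhd_killedExt a b hev I
        obtain ⟨N', hN'⟩ := ih (I ⊔ Ideal.span {f}) (left_lt_sup.2 fun h => hf (h (Ideal.mem_span_singleton_self f)))
        refine ⟨max N N', fun i hi => subsingleton_of_forall_eq 0 fun φ => ?_⟩
        have hinj : ∀ ψ : Dual.inD A (A ⧸ I) ⟶ R⟦i⟧, f • ψ = 0 → ψ = 0 := fun ψ hψ => by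
          let m : (A ⧸ I) →ₗ[A] A ⧸ I := LinearMap.lsmul A _ f
          let π : (A ⧸ I) →ₗ[A] A ⧸ (I ⊔ Ideal.span {f}) := Submodule.factor le_sup_left
          have h1 : Function.Injective m := by
            rw [← LinearMap.ker_eq_bot, Submodule.eq_bot_iff]
            intro x hx
            obtain ⟨y, rfl⟩ := Submodule.Quotient.mk_surjective _ x
            rw [LinearMap.mem_ker, LinearMap.lsmul_apply, ← Submodule.Quotient.mk_smul,
              Submodule.Quotient.mk_eq_zero, smul_eq_mul] at hx
            exact (Submodule.Quotient.mk_eq_zero _).2 ((hI.mem_or_mem hx).resolve_left hf)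
          have h3 : Function.Exact m π := fun x => by
            obtain ⟨y, rfl⟩ := Submodule.Quotient.mk_surjective _ x
            show Submodule.Quotient.mk y = 0 ↔ _
            rw [Submodule.Quotient.mk_eq_zero, Submodule.mem_sup]
            constructor
            · rintro ⟨u, hu, v, hv, rfl⟩
              obtain ⟨w, rfl⟩ := Ideal.mem_span_singleton'.1 hv
              refine ⟨Submodule.Quotient.mk w, ?_⟩
              rw [LinearMap.lsmul_apply, ← Submodule.Quotient.mk_smul, Submodule.Quotient.eq, smul_eq_mul]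
              have : f * w - (u + w * f) = -u := by ring
              rw [this]
              exact I.neg_mem hu
            · rintro ⟨x, hx⟩
              obtain ⟨w, rfl⟩ := Submodule.Quotient.mk_surjective _ x
              rw [LinearMap.lsmul_apply, ← Submodule.Quotient.mk_smul, Submodule.Quotient.eq, smul_eq_mul] at hx
              exact ⟨y - f * w, by rw [← neg_sub]; exact I.neg_mem hx, f * w,
                Ideal.mul_mem_right _ _ (Ideal.mem_span_singleton_self f), sub_add_cancel y _⟩
          have hm : inDMap m ≫ ψ = 0 := by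
            have : ModuleCat.ofHom m = f • 𝟙 (ModuleCat.of A (A ⧸ I)) := rfl
            rw [inDMap, this, Functor.map_smul, CategoryTheory.Functor.map_id, Linear.smul_comp, Category.id_comp, hψ]
          obtain ⟨χ, rfl⟩ := exists_factor_inD h1 (Submodule.factor_surjective le_sup_left) h3 _ ψ hm
          haveI := hN' i (lt_of_le_of_lt (le_max_right _ _) hi)
          rw [Subsingleton.elim χ 0, comp_zero]
        let J : Ideal A := Ideal.torsionOf A (Dual.inD A (A ⧸ I) ⟶ R⟦i⟧) φ
        obtain ⟨k, hk⟩ : f ∈ J.radical := by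
          rw [Ideal.radical_eq_sInf, Submodule.mem_sInf]
          rintro q ⟨hJq, hq⟩
          by_contra hfq
          haveI := hq
          by_cases hIq : I ≤ q
          · obtain ⟨r, hr, hr0⟩ := LocalizedModule.subsingleton_iff.1 ((killedExt_iff q (A ⧸ I) i).1
              (hN q hIq hfq i (lt_of_le_of_lt (le_max_left _ _) hi))) φ
            exact hr (hJq ((Ideal.mem_torsionOf_iff _ _).2 hr0))
          · obtain ⟨r, hr, hr'⟩ := SetLike.not_le_iff_exists.1 hIq
            refine hr' (hJq ((Ideal.mem_torsionOf_iff _ _).2 (smul_hom_inD_eq_zero (fun x => ?_) φ)))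
            obtain ⟨y, rfl⟩ := Submodule.Quotient.mk_surjective _ x
            exact (Submodule.Quotient.mk_eq_zero _).2 (Ideal.mul_mem_right y _ hr)
        rw [Ideal.mem_torsionOf_iff] at hk
        induction k with
        | zero => rwa [pow_zero, one_smul] at hk
        | succ k ih' => exact ih' (hinj _ (by rw [smul_smul, ← pow_succ']; exact hk))
      · by_cases htop : I = ⊤
        · subst htop
          exact ⟨0, fun i _ => subsingleton_of_forall_eq 0 fun φ =>
            ((DerivedCategory.singleFunctor (ModuleCat.{u} A) 0).map_isZero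
              (ModuleCat.isZero_of_subsingleton _)).eq_of_src _ _⟩
        obtain ⟨x, hx, y, hy, hxy⟩ : ∃ x ∉ I, ∃ y ∉ I, x * y ∈ I := by
          by_contra hc
          push Not at hc
          exact hI ⟨htop, fun {x y} h => by
            by_contra h'
            rw [not_or] at h'
            exact hc x h'.1 y h'.2 h⟩
        let J : Ideal A := Submodule.comap (LinearMap.mulLeft A x) I
        have hJ : I < J := lt_of_le_of_ne (fun z hz => I.mul_mem_left x hz) fun h => hy (h ▸ hxy)
        obtain ⟨N₁, h₁⟩ := ih J hJ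
        obtain ⟨N₂, h₂⟩ := ih (I ⊔ Ideal.span {x})
          (left_lt_sup.2 fun h => hx (h (Ideal.mem_span_singleton_self x)))
        let m : (A ⧸ J) →ₗ[A] A ⧸ I := Submodule.mapQ J I (LinearMap.mulLeft A x) le_rfl
        let π : (A ⧸ I) →ₗ[A] A ⧸ (I ⊔ Ideal.span {x}) := Submodule.factor le_sup_left
        have hm : Function.Injective m := by
          rw [← LinearMap.ker_eq_bot, Submodule.eq_bot_iff]
          intro z hz
          obtain ⟨w, rfl⟩ := Submodule.Quotient.mk_surjective _ z
          exact (Submodule.Quotient.mk_eq_zero _).2 ((Submodule.Quotient.mk_eq_zero _).1 hz : x * w ∈ I)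
        have hex : Function.Exact m π := fun z => by
          obtain ⟨w, rfl⟩ := Submodule.Quotient.mk_surjective _ z
          show Submodule.Quotient.mk w = 0 ↔ _
          rw [Submodule.Quotient.mk_eq_zero, Submodule.mem_sup]
          constructor
          · rintro ⟨u, hu, v, hv, rfl⟩
            obtain ⟨c, rfl⟩ := Ideal.mem_span_singleton'.1 hv
            refine ⟨Submodule.Quotient.mk c, (Submodule.Quotient.eq _).2 ?_⟩
            show x * c - (u + c * x) ∈ I
            have : x * c - (u + c * x) = -u := by ring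
            rw [this]
            exact I.neg_mem hu
          · rintro ⟨c, hc⟩
            obtain ⟨c, rfl⟩ := Submodule.Quotient.mk_surjective _ c
            have hc' : x * c - w ∈ I := (Submodule.Quotient.eq _).1 hc
            exact ⟨w - x * c, by rw [← neg_sub]; exact I.neg_mem hc', x * c,
              Ideal.mul_mem_right _ _ (Ideal.mem_span_singleton_self x), sub_add_cancel w _⟩
        exact ⟨max N₁ N₂, fun i hi => subsingleton_hom_inD_mid hm (Submodule.factor_surjective le_sup_left) hex _
          (h₁ i (lt_of_le_of_lt (le_max_left _ _) hi)) (h₂ i (lt_of_le_of_lt (le_max_right _ _) hi))⟩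
  refine IsNoetherianRing.induction_on_isQuotientEquivQuotientPrime A (M := M) inferInstance
    (motive := fun N _ _ _ => ∃ n : ℤ, ∀ i : ℤ, n < i → Subsingleton (Dual.inD A N ⟶ R⟦i⟧)) ?_ ?_ ?_
  · intro N _ _ _ _
    exact ⟨0, fun i _ => subsingleton_of_forall_eq 0 fun φ =>
      ((DerivedCategory.singleFunctor (ModuleCat.{u} A) 0).map_isZero
        (ModuleCat.isZero_of_subsingleton (ModuleCat.of A N))).eq_of_src _ _⟩
  · intro N _ _ _ P e
    obtain ⟨n, hn⟩ := hI P.1
    exact ⟨n, fun i hi => by
      haveI := hn i hi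
      exact (((DerivedCategory.singleFunctor (ModuleCat.{u} A) 0).mapIso e.toModuleIso).homFromEquiv
        (Z := R⟦i⟧)).subsingleton⟩
  · intro N₁ _ _ _ N₂ _ _ _ N₃ _ _ _ f g hf hg hfg ⟨n₁, h₁⟩ ⟨n₃, h₃⟩
    exact ⟨max n₁ n₃, fun i hi => subsingleton_hom_inD_mid hf hg hfg _
      (h₁ i (lt_of_le_of_lt (le_max_left _ _) hi)) (h₃ i (lt_of_le_of_lt (le_max_right _ _) hi))⟩

end Groth.Agent.KExact
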