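import Groth.Agent.KExact.FreeExtend
import Groth.Agent.KFlatLib.Scheme.DQCohCompact
import Groth.Agent.KFlatLib.Perfect.Criterion
import Groth.Agent.KFlatLib.Perfect.Amplitude
import Groth.Agent.KFlatLib.BrutalTrunc

/-!
# A perfect object plus a shifted vector bundle extends from a quasi-compact open of an affine scheme
-/

set_option linter.style.haveILetI false
set_option backward.isDefEq.respectTransparency false

universe u

open CategoryTheory CategoryTheory.Limits AlgebraicGeometry Pretriangulated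
open scoped ZeroObject

attribute [local instance] HasDerivedCategory.standard

namespace Groth.Agent.KExact.ExtendPlus

open KFlatLib

variable {X : Scheme.{u}}

/-- On a quasi-compact scheme perfect objects have finite tor amplitude. -/
theorem exists_torAmplitude [CompactSpace X] {E : DCoh.D X} (h : LocSP E) :
    ∃ a b : ℤ, DCoh.HasTorAmplitudeIn a b E := by
  choose U j hj hx P hP e using h
  choose a b hb using fun x => (hP x).1
  obtain ⟨t, ht⟩ := isCompact_univ.elim_finite_subcover (fun x : X => Set.range (j x).base)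
    (fun x => haveI := hj x; (j x).isOpenEmbedding.isOpen_range) (fun x _ => Set.mem_iUnion.2 ⟨x, hx x⟩)
  let N : ℕ := ∑ x ∈ t, ((a x).natAbs + (b x).natAbs)
  refine ⟨-(N : ℤ), N, torAmplitude_of_local E fun y => ?_⟩
  obtain ⟨x, hxt, hy⟩ := Set.mem_iUnion₂.1 (ht (Set.mem_univ y))
  obtain ⟨ex⟩ := e x
  have hle : (a x).natAbs + (b x).natAbs ≤ N :=
    Finset.single_le_sum (f := fun x => (a x).natAbs + (b x).natAbs) (fun _ _ => Nat.zero_le _) hxt
  exact ⟨U x, j x, hj x, hy, torAmplitude_of_flatAmplitude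
    ⟨P x, fun i hi => hb x i (by omega), fun i => isFlat_of_isFinLocFree ((hP x).2 i), ⟨ex⟩⟩⟩

/-- The ring-level construction. -/
theorem exists_extension_spec {A : Type u} [CommRing A] [PreservesFiniteLimits (tilde.functor (CommRingCat.of A))]
    (fs : List A) [CompactSpace (KoszulOrth.pU fs : Scheme.{u})]
    (E : DCoh.D (KoszulOrth.pU fs : Scheme.{u})) (hE : LocSP E)
    [∀ (P Q : DCoh.D (KoszulOrth.pU fs : Scheme.{u})), HasBinaryBiproduct P Q] :
    ∃ (r : ℤ) (F : (KoszulOrth.pU fs : Scheme.{u}).Modules) (P : CochainComplex (ModuleCat.{u} A) ℤ),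
      FlatMod.IsFinLocFree F ∧ LocSP (KoszulOrth.tld (DerivedCategory.Q.obj P)) ∧
      Nonempty ((rho (KoszulOrth.pU fs).ι).obj (KoszulOrth.tld (DerivedCategory.Q.obj P)) ≅
        (DCoh.inD _ F)⟦-r⟧ ⊞ E) := by
  let j := (KoszulOrth.pU fs).ι
  haveI : QuasiCompact j := quasiCompact_of_compactSpace _
  haveI : QuasiSeparatedSpace (KoszulOrth.pU fs) := quasiSeparatedSpace_of_quasiSeparated j
  haveI : (tilde.functor (CommRingCat.of A)).Additive := tilde_additive _
  haveI : PreservesFiniteColimits (tilde.functor (CommRingCat.of A)) := QCoh.tilde_preservesFiniteColimits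
  obtain ⟨G, b, hG, hfree, ⟨eG⟩⟩ := FreeExtend.exists_extension_spec fs E fun m => hE.locPC m
  obtain ⟨a, b', hab⟩ := exists_torAmplitude hE
  obtain ⟨la, hla⟩ := exists_lower_bound_of_locSP hE
  obtain ⟨b₀, hb₀⟩ := DQCompact.exists_bound hE
  obtain ⟨r, hra, hrl, hr0, hrb⟩ : ∃ r : ℤ, r ≤ a ∧ r ≤ la ∧ r - 1 ≤ b₀ ∧ r ≤ b :=
    ⟨min (min a la) (min (b₀ + 1) b), by omega, by omega, by omega, by omega⟩
  let S := sigmaSES G r
  have hS : S.ShortExact := sigmaSES_shortExact G r
  let R := DCoh.tildeD (CommRingCat.of A) ⋙ rho j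
  let T : Triangle (DCoh.D (KoszulOrth.pU fs : Scheme.{u})) :=
    (rho j).mapTriangle.obj ((DCoh.tildeD (CommRingCat.of A)).mapTriangle.obj (DerivedCategory.triangleOfSES hS))
  have hT : T ∈ distinguishedTriangles := (rho j).map_distinguished _
    ((DCoh.tildeD (CommRingCat.of A)).map_distinguished _ (DerivedCategory.triangleOfSES_distinguished hS))
  let tj := (tilde.functor (CommRingCat.of A)).mapHomologicalComplex (ComplexShape.up ℤ) ⋙ rCx j
  let eR : ∀ C, R.obj (DerivedCategory.Q.obj C) ≅ DerivedCategory.Q.obj (tj.obj C) := fun C =>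
    (rho j).mapIso ((tilde.functor (CommRingCat.of A)).mapDerivedCategoryFactors.app C) ≪≫ (rhoQ j).app _
  have hfl : ∀ (N : ModuleCat.{u} A), Module.Finite A N → Module.Free A N →
      FlatMod.IsFinLocFree ((Scheme.Modules.restrictFunctor j).obj ((tilde.functor (CommRingCat.of A)).obj N)) :=
    fun N h1 h2 => by
      obtain ⟨n, ⟨e⟩⟩ := FreeExtend.exists_freeMod_iso N
      exact H23.PullPush.isFinLocFree_of_iso
        ((Scheme.Modules.restrictFunctor j).mapIso e ≪≫ QCoh.freeModRestrict j n).symm (isFinLocFree_freeMod n)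
  -- the truncation `P`
  have hX₁ : ∀ i, Module.Finite A (S.X₁.X i) ∧ Module.Free A (S.X₁.X i) := fun i => by
    by_cases h : r ≤ i
    · haveI := isIso_sigmaGEι_f G r i h
      exact KFlatLib.finite_free_of_iso (R := CommRingCat.of A) (asIso ((sigmaGEι G r).f i)).symm (hfree i)
    · exact KFlatLib.finite_free_of_isZero (R := CommRingCat.of A) (isZero_stupidTrunc_of_lt G r i (by omega))
  have hv₁ : ∀ i, i < r ∨ b < i → IsZero (S.X₁.X i) := fun i hi => by
    rcases hi with hi | hi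
    · exact isZero_stupidTrunc_of_lt G r i hi
    · haveI := isIso_sigmaGEι_f G r i (by omega)
      exact (hG i hi).of_iso (asIso ((sigmaGEι G r).f i))
  have hPX : LocSP (KoszulOrth.tld (DerivedCategory.Q.obj S.X₁)) :=
    (isPerfect_iff _).1 ((perfect_tildeD_iff (R := CommRingCat.of A) _).2 ⟨S.X₁, r, b, hv₁,
      fun i => ⟨(hX₁ i).1, haveI := (hX₁ i).2; inferInstance⟩, ⟨Iso.refl _⟩⟩)
  have h₁ : DCoh.HasTorAmplitudeIn r b T.obj₁ := torAmplitude_of_flatAmplitude
    ⟨tj.obj S.X₁, fun i hi => (Scheme.Modules.restrictFunctor j).map_isZero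
      ((tilde.functor (CommRingCat.of A)).map_isZero (hv₁ i hi)),
      fun i => isFlat_of_isFinLocFree (hfl _ (hX₁ i).1 (hX₁ i).2), ⟨(eR S.X₁).symm⟩⟩
  -- the quotient
  let e₂ : T.obj₂ ≅ E := eG
  let Zc := tj.obj S.X₃
  haveI : S.X₃.IsStrictlyLE (r - 1) := isStrictlyLE_sigmaSES_X₃ G r
  have hv₃ : ∀ i, r - 1 < i → IsZero (Zc.X i) := fun i hi => (Scheme.Modules.restrictFunctor j).map_isZero
    ((tilde.functor (CommRingCat.of A)).map_isZero (S.X₃.isZero_of_isStrictlyLE (r - 1) i hi))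
  haveI hle : T.obj₃.IsLE (r - 1) := by
    haveI : Zc.IsStrictlyLE (r - 1) := (CochainComplex.isStrictlyLE_iff _ _).2 hv₃
    exact ⟨⟨Zc, eR S.X₃, inferInstance⟩⟩
  haveI hge : T.obj₃.IsGE (r - 1) := (DerivedCategory.isGE_iff _ _).2 fun i hi => by
    refine ShortComplex.Exact.isZero_of_both_zeros
      (DerivedCategory.HomologySequence.exact₃ T hT i (i + 1) rfl) ?_ ?_
    · exact ((hla i (by omega)).of_iso ((DerivedCategory.homologyFunctor _ i).mapIso e₂)).eq_of_src _ _
    · refine IsZero.eq_of_tgt ?_ _ _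
      exact (ShortComplex.isZero_homology_of_isZero_X₂ _ ((Scheme.Modules.restrictFunctor j).map_isZero
        ((tilde.functor (CommRingCat.of A)).map_isZero (hv₁ (i + 1) (Or.inl (by omega)))))).of_iso
          ((DerivedCategory.homologyFunctor _ (i + 1)).mapIso (eR S.X₁) ≪≫
            (DerivedCategory.homologyFunctorFactors _ (i + 1)).app (tj.obj S.X₁))
  obtain ⟨F, ⟨eF⟩⟩ := DerivedCategory.exists_iso_singleFunctor_obj_of_isGE_of_isLE T.obj₃ (r - 1)
  let eS : DerivedCategory.Q.obj ((HomologicalComplex.single _ (ComplexShape.up ℤ) (r - 1)).obj F) ≅ T.obj₃ :=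
    (DerivedCategory.singleFunctorIsoCompQ _ (r - 1)).symm.app F ≪≫ eF.symm
  have hflat : FlatMod.IsFlat F := isFlat_of_isZero_tor_single F (r - 1) @fun G' _ => by
    refine IsZero.of_iso ?_ ((DerivedCategory.homologyFunctor _ _).mapIso ((DCoh.LTensorMod G').mapIso eS))
    refine (isZero_hd_ltensorMod_triangle T hT G' (r - 1 - 1)).1 ?_ (h₁ G' _ (Or.inl (by omega)))
    exact (hab G' _ (Or.inl (by omega))).of_iso
      ((DerivedCategory.homologyFunctor _ _).mapIso ((DCoh.LTensorMod G').mapIso e₂))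
  have hF : FlatMod.IsFinLocFree F := by
    haveI : IsIso (Zc.homologyι (r - 1)) :=
      Zc.isIso_homologyι (r - 1) r (by simp) ((hv₃ r (by omega)).eq_of_tgt _ _)
    let ec : cokernel (Zc.d (r - 1 - 1) (r - 1)) ≅ F :=
      IsColimit.coconePointUniqueUpToIso (colimit.isColimit (parallelPair (Zc.d (r - 1 - 1) (r - 1)) 0)) (Zc.opcyclesIsCokernel (r - 1 - 1) (r - 1) (by simp)) ≪≫
      (asIso (Zc.homologyι (r - 1))).symm ≪≫
      ((DerivedCategory.homologyFunctorFactors _ (r - 1)).app Zc).symm ≪≫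
      (DerivedCategory.homologyFunctor _ (r - 1)).mapIso ((eR S.X₃).symm ≪≫ eS.symm) ≪≫
      (DerivedCategory.homologyFunctorFactors _ (r - 1)).app _ ≪≫
      HomologicalComplex.singleObjHomologySelfIso _ (r - 1) F
    have hfl₃ : ∀ i, i < r → FlatMod.IsFinLocFree (Zc.X i) := fun i hi => by
      obtain ⟨e⟩ := nonempty_sigmaSES_X₃_iso G r i hi
      exact H23.PullPush.isFinLocFree_of_iso ((Scheme.Modules.restrictFunctor j).mapIso
        ((tilde.functor (CommRingCat.of A)).mapIso e)) (hfl _ (hfree i).1 (hfree i).2)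
    exact H23.PullPush.isFinLocFree_of_iso ec
      (isFinLocFree_cokernel _ (hfl₃ _ (by omega)) (hfl₃ _ (by omega)) (IsFlat.of_iso ec.symm hflat))
  -- the splitting
  have h0 : T.mor₂ = 0 := by
    have hqc : DCoh.IsQCohD T.obj₃ := isQCohD_rho j (isQCohD_tildeD (CommRingCat.of A) _)
    have := hb₀ T.obj₃ hqc ((DerivedCategory.isLE_iff _ _).2 fun i hi => DerivedCategory.isZero_of_isLE T.obj₃ (r - 1) i (by omega)) (e₂.inv ≫ T.mor₂)
    rw [← cancel_epi e₂.inv, this, comp_zero]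
  obtain ⟨e, -, -⟩ := exists_iso_binaryBiproduct_of_distTriang _ (inv_rot_of_distTriang _ hT)
    (by simp [Triangle.invRotate, h0])
  refine ⟨r, F, S.X₁, hF, hPX, ⟨e ≪≫ biprod.mapIso ?_ e₂⟩⟩
  exact (shiftFunctor _ (-1 : ℤ)).mapIso (eF ≪≫
      (((DerivedCategory.singleFunctors _).shiftIso (-(r - 1)) (r - 1) 0 (by omega)).app F).symm) ≪≫
    ((shiftFunctorAdd' _ (-(r - 1)) (-1) (-r) (by omega)).app (DCoh.inD _ F)).symm

/-- A perfect object plus a shifted finite locally free module extends. -/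
theorem exists_extension [IsAffine X] (U : X.Opens) (hU : IsCompact (U : Set X))
    (E : DCoh.D (U : Scheme.{u})) (hE : LocSP E)
    [∀ (P Q : DCoh.D (U : Scheme.{u})), HasBinaryBiproduct P Q] :
    ∃ (r : ℤ) (F : (U : Scheme.{u}).Modules) (G : CochainComplex X.Modules ℤ),
      FlatMod.IsFinLocFree F ∧ LocSP (DerivedCategory.Q.obj G) ∧
      Nonempty (DerivedCategory.Q.obj ((DCoh.restrictCx U).obj G) ≅ (DCoh.inD (U : Scheme.{u}) F)⟦-r⟧ ⊞ E) := by
  haveI : PreservesFiniteLimits (tilde.functor (CommRingCat.of Γ(X, ⊤))) := QCoh.tilde_preservesFiniteLimits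
  haveI : (tilde.functor (CommRingCat.of Γ(X, ⊤))).Additive := tilde_additive _
  let g : Spec (CommRingCat.of Γ(X, ⊤)) ⟶ X := X.isoSpec.inv
  let h : X ⟶ Spec (CommRingCat.of Γ(X, ⊤)) := X.isoSpec.hom
  have hO : IsCompact ((g ⁻¹ᵁ U : (Spec (CommRingCat.of Γ(X, ⊤))).Opens) : Set (Spec (CommRingCat.of Γ(X, ⊤)))) :=
    (Scheme.homeoOfIso X.isoSpec.symm).isCompact_preimage.2 hU
  obtain ⟨fs, hfs⟩ := AffineLift.exists_list (A := Γ(X, ⊤)) (g ⁻¹ᵁ U) hO
  haveI : CompactSpace (KoszulOrth.pU fs : Scheme.{u}) := isCompact_iff_compactSpace.1 (hfs ▸ hO)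
  let t : (KoszulOrth.pU fs : Scheme.{u}) ⟶ (U : Scheme.{u}) :=
    ((Spec (CommRingCat.of Γ(X, ⊤))).isoOfEq hfs.symm).hom ≫ (g ∣_ U)
  haveI : IsIso t := inferInstance
  have ht : t ≫ U.ι ≫ h = (KoszulOrth.pU fs).ι := by
    simp [t, g, h, morphismRestrict_ι_assoc]
  obtain ⟨r, F', P, hF, hP, ⟨e₀⟩⟩ := exists_extension_spec fs ((rho t).obj E) (hE.restrict' t)
  let C := ((tilde.functor (CommRingCat.of Γ(X, ⊤))).mapHomologicalComplex (ComplexShape.up ℤ)).obj P
  let eC : DerivedCategory.Q.obj C ≅ KoszulOrth.tld (DerivedCategory.Q.obj P) :=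
    ((tilde.functor (CommRingCat.of Γ(X, ⊤))).mapDerivedCategoryFactors.app P).symm
  refine ⟨r, (Scheme.Modules.restrictFunctor (inv t)).obj F', (rCx h).obj C,
    H23.PullPush.isFinLocFree_of_iso ((Scheme.Modules.restrictFunctorIsoPullback (inv t)).app F').symm
      (isFinLocFree_pullback (inv t) hF),
    ((hP.of_iso eC.symm).restrict' h).of_iso ((rhoQ h).app C), ?_⟩
  obtain ⟨eid⟩ := AffineLift.nonempty_rho_id (inv t ≫ t) (by simp)
  let ei := ((Scheme.Modules.restrictFunctor (inv t)).mapDerivedCategorySingleFunctor 0).app F'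
  haveI := preservesBinaryBiproducts_of_preservesBiproducts (rho (inv t))
  exact ⟨((rhoQ U.ι).app _).symm ≪≫ (rho U.ι).mapIso ((rhoQ h).app C).symm ≪≫
    rhoComp U.ι h (inv t ≫ (KoszulOrth.pU fs).ι) (by rw [← ht]; simp) _ ≪≫
    (rhoComp (inv t) (KoszulOrth.pU fs).ι _ rfl _).symm ≪≫
    (rho (inv t)).mapIso ((rho _).mapIso eC ≪≫ e₀) ≪≫
    (rho (inv t)).mapBiprod _ _ ≪≫
    biprod.mapIso (((rho (inv t)).commShiftIso (-r)).app _ ≪≫ (shiftFunctor _ (-r)).mapIso ei)
      (rhoComp (inv t) t (inv t ≫ t) rfl _ ≪≫ eid.app E)⟩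

end Groth.Agent.KExact.ExtendPlus
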