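import Groth.Agent.KFlatLib.Perfect.LocFreeLocus
import Groth.Agent.KFlatLib.Scheme.LpullLE
import Groth.Agent.Lib.DerivedBC
import Groth.Agent.KExact.KernelDualVan

/-!
# Fibre hypercohomology and fibre dimensions
-/

set_option autoImplicit false
set_option linter.style.haveILetI false
set_option backward.isDefEq.respectTransparency false
set_option backward.isDefEq.respectTransparency.types false
set_option maxHeartbeats 1000000

universe u

open CategoryTheory CategoryTheory.Limits AlgebraicGeometry Opposite Module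

attribute [local instance] HasDerivedCategory.standard

noncomputable section

namespace Groth.Agent.KExact.FibreBetti

open KFlatLib H9Misc

variable {X Y : Scheme.{u}}

/-- A coherent module on a point vanishes exactly when its sections have dimension zero. -/
theorem finrank_top_eq_zero_iff (κ : Type u) [Field κ] (M : (Spec (CommRingCat.of κ)).Modules) (hM : Coh.IsCoh M) :
    finrank (Coh.Γtop (Spec (CommRingCat.of κ))) (M.val.obj (op ⊤)) = 0 ↔ IsZero M := by
  haveI : Unique (Spec (CommRingCat.of κ)) := inferInstanceAs (Unique (PrimeSpectrum κ))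
  let T := Spec (CommRingCat.of κ)
  let t : T := default
  rw [finrank_top_eq_stalk M t]
  letI := (isField_stalk_spec κ t).toField
  haveI : Module.Finite (T.presheaf.stalk t) ((DerSch.stalkFunctor T t).obj M) :=
    QCoh.finite_stalk_of_isFT hM.1 hM.2 t
  rw [Module.finrank_zero_iff]
  refine ⟨fun h => isZero_of_stalk _ fun s => ?_, fun h => ModuleCat.subsingleton_of_isZero ((DerSch.stalkFunctor T t).map_isZero h)⟩
  obtain rfl : s = t := Subsingleton.elim _ _
  exact @ModuleCat.isZero_of_subsingleton _ _ _ h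

/-- Fibre hypercohomology of a perfect object is read on the fibre of its direct image. -/
theorem isZero_fibre_iff_betti [IsLocallyNoetherian Y] (q : X ⟶ Y) [IsProper q] [Flat q] [DCoh.HasRpush q]
    (y : Y) [DCoh.HasLpull (Y.fromSpecResidueField y)] [DCoh.HasLpull (pullback.fst q (Y.fromSpecResidueField y))]
    [DCoh.HasRΓ (pullback q (Y.fromSpecResidueField y))] (E : DCoh.D X) (hE : DCoh.IsPerfect E) (i : ℤ) :
    IsZero ((DerivedCategory.homologyFunctor AddCommGrpCat.{u} i).obj
      ((DCoh.RΓ (pullback q (Y.fromSpecResidueField y))).obj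
        ((DCoh.Lpull (pullback.fst q (Y.fromSpecResidueField y))).obj E))) ↔
      PerfD.betti ((DCoh.Rpush q).obj E) y i = 0 := by
  let g := Y.fromSpecResidueField y
  let g' := pullback.fst q g
  let f' := pullback.snd q g
  haveI := hasRpush_scheme f'
  obtain ⟨bc⟩ := Lib.DerivedBC.nonempty_baseChange_of_flat (IsPullback.of_hasPullback q g)
  let V := (DCoh.Lpull g').obj E
  have hV : DCoh.IsPerfect ((DCoh.Rpush f').obj V) :=
    (isPerfect_iff _).2 (TorBC.locSP_rpush_properFlat f' ((isPerfect_iff _).1 (isPerfect_lpull g' hE)))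
  let eBC : (DCoh.Lpull g).obj ((DCoh.Rpush q).obj E) ≅ (DCoh.Rpush f').obj V :=
    bc.app ⟨E, isQCohD_of_isPerfect hE⟩
  refine (KernelDualVan.isZero_RΓ_iff_point (Y.residueField y) f' V hV i).trans ?_
  refine ((DerivedCategory.homologyFunctor _ i).mapIso eBC).isZero_iff.symm.trans ?_
  exact (finrank_top_eq_zero_iff (Y.residueField y) _
    (isCoh_of_iso ((DerivedCategory.homologyFunctor _ i).mapIso eBC).symm ((AmpleDetect.coherent_bounded hV).1 i))).symm

/-- A vanishing fibre dimension forces the stalk of the cohomology to vanish. -/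
theorem subsingleton_stalk_of_betti {E : DCoh.D X} (hE : DCoh.IsPerfect E) (x : X)
    [DCoh.HasLpull (X.fromSpecResidueField x)] (k : ℤ) (h : PerfD.betti E x k = 0) :
    Subsingleton ((DCoh.HD E k).presheaf.stalk x) := by
  obtain ⟨U, j, _, ⟨y, rfl⟩, P, a, b, hab, hfree, ⟨eE⟩⟩ := exists_free_rep hE x
  obtain ⟨n, e, hP, -⟩ := exists_free_bounded hab hfree
  have hf := betti_formula E (j.base y) j y rfl hP e eE.hom (isPcMap_of_isIso (k - 1) eE.hom)
    (k - 1) k (k + 1) (by omega) rfl (by omega)
  rw [h] at hf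
  obtain ⟨hex, -, -⟩ := exact_free_stalk y e (k - 1) k (k + 1) (by omega)
  haveI : (DerSch.stalkFunctor U y).PreservesHomology :=
    Functor.preservesHomology_of_map_exact _ fun S hS => (exact_iff_stalk S).1 hS y
  have hz : IsZero ((DerSch.stalkFunctor U y).obj ((DCoh.HD E k).restrict j)) := by
    refine IsZero.of_iso ((ShortComplex.exact_iff_isZero_homology _).1 hex) ?_
    exact (DerSch.stalkFunctor U y).mapIso ((hdRhoIso j E k).symm ≪≫
      (DerivedCategory.homologyFunctor _ k).mapIso eE.symm ≪≫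
      (DerivedCategory.homologyFunctorFactors _ k).app P ≪≫
      P.homologyIsoSc' (k - 1) k (k + 1) (by simp) (by simp)) ≪≫
      ((P.sc' (k - 1) k (k + 1)).mapHomologyIso _).symm
  haveI := ModuleCat.subsingleton_of_isZero hz
  let eAb := (Scheme.Modules.restrictStalkNatIso j y).app (DCoh.HD E k)
  exact @Equiv.subsingleton _ _ eAb.addCommGroupIsoToAddEquiv.symm.toEquiv ‹_›

/-- Vanishing stalks of the cohomology from a degree on force the fibre dimension to vanish. -/
theorem betti_eq_zero_of_stalk [IsLocallyNoetherian X] {E : DCoh.D X} (hE : DCoh.IsPerfect E) (x : X)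
    [DCoh.HasLpull (X.fromSpecResidueField x)] (i : ℤ)
    (h : ∀ j, i ≤ j → Subsingleton ((DCoh.HD E j).presheaf.stalk x)) :
    PerfD.betti E x i = 0 := by
  classical
  obtain ⟨U, j₀, _, hx, P, a, b, hab, hfree, ⟨eE⟩⟩ := exists_free_rep hE x
  have hsp := (isPerfect_iff _).1 hE
  have hcoh : ∀ j, Coh.IsCoh (DCoh.HD E j) := fun j =>
    isCoh_of_locPC (AffineLift.isQCohD_of_locSP hsp) (hsp.locPC j) j le_rfl
  let C : ℤ → X.Opens := fun j =>
    ⟨(CohB1.support (DCoh.HD E j))ᶜ, (QCoh.isClosed_support_of_isFT (hcoh j).1 (hcoh j).2).isOpen_compl⟩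
  let W : X.Opens := j₀.opensRange ⊓ (Finset.Icc i b).inf C
  have hxW : x ∈ W := ⟨hx, Finset.inf_induction (s := Finset.Icc i b) (f := C) (p := fun V => x ∈ V) trivial
    (fun _ h₁ _ h₂ => ⟨h₁, h₂⟩) fun j hj => fun hs => hs (h j (Finset.mem_Icc.1 hj).1)⟩
  have hz : ∀ z : X, z ∈ W → ∀ j, i ≤ j → Subsingleton ((DCoh.HD E j).presheaf.stalk z) := by
    intro z hz j hj
    by_cases hjb : j ≤ b
    · exact not_not.1 ((Finset.inf_le (f := C) (Finset.mem_Icc.2 ⟨hj, hjb⟩)) hz.2)
    · obtain ⟨w, rfl⟩ := hz.1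
      have h0 : IsZero ((DCoh.HD E j).restrict j₀) := by
        refine IsZero.of_iso ?_ ((hdRhoIso j₀ E j).symm ≪≫ (DerivedCategory.homologyFunctor _ j).mapIso eE.symm ≪≫
          (DerivedCategory.homologyFunctorFactors _ j).app P)
        exact ShortComplex.isZero_homology_of_isZero_X₂ _ (hab j (Or.inr (by omega)))
      haveI := ModuleCat.subsingleton_of_isZero ((DerSch.stalkFunctor U w).map_isZero h0)
      exact @Equiv.subsingleton _ _
        ((Scheme.Modules.restrictStalkNatIso j₀ w).app (DCoh.HD E j)).addCommGroupIsoToAddEquiv.symm.toEquiv ‹_›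
  let k := X.fromSpecResidueField x
  have hr : Set.range k.base ⊆ Set.range W.ι.base := by
    rintro _ ⟨s, rfl⟩
    rw [Scheme.fromSpecResidueField_apply, Scheme.Opens.range_ι]
    exact hxW
  let g := IsOpenImmersion.lift W.ι k hr
  haveI := hasLpull g
  obtain ⟨eL⟩ := nonempty_lpull_factor g W.ι k (IsOpenImmersion.lift_fac _ _ hr) E
  haveI : ((rho W.ι).obj E).IsLE (i - 1) := (DerivedCategory.isLE_iff _ _).2 fun j hj => by
    refine IsZero.of_iso ?_ (hdRhoIso W.ι E j)
    refine isZero_of_stalk _ fun z => ?_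
    haveI := hz z.1 z.2 j (by omega)
    haveI : Subsingleton (((DCoh.HD E j).restrict W.ι).presheaf.stalk z) := @Equiv.subsingleton _ _
      ((Scheme.Modules.restrictStalkNatIso W.ι z).app (DCoh.HD E j)).addCommGroupIsoToAddEquiv.toEquiv ‹_›
    exact @ModuleCat.isZero_of_subsingleton _ _ (ModuleCat.of _ _) ‹_›
  haveI := isLE_lpull g ((rho W.ι).obj E) (i - 1)
  haveI : Unique (Spec (X.residueField x)) := inferInstanceAs (Unique (PrimeSpectrum (X.residueField x)))
  have hzero : IsZero (DCoh.HD ((DCoh.Lpull k).obj E) i) :=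
    (DerivedCategory.isZero_of_isLE ((DCoh.Lpull g).obj ((rho W.ι).obj E)) (i - 1) i (by omega)).of_iso
      ((DerivedCategory.homologyFunctor _ i).mapIso eL.symm)
  rw [PerfD.betti, finrank_top_eq_stalk _ default]
  haveI := ModuleCat.subsingleton_of_isZero
    ((DerSch.stalkFunctor (Spec (X.residueField x)) default).map_isZero hzero)
  exact Module.finrank_zero_of_subsingleton

end Groth.Agent.KExact.FibreBetti
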