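import Groth.Agent.KExact.FibreBetti
import Groth.Agent.KExact.DualTwistVan
import Groth.Agent.KExact.FreeAt
import Groth.Agent.Hensel.DepthFlat
import Mathlib.Algebra.Homology.Embedding.CochainComplex

/-!
# Propagation of vanishing of fibre dimensions under codimension bounds
-/

set_option autoImplicit false
set_option linter.style.haveILetI false
set_option backward.isDefEq.respectTransparency false
set_option backward.isDefEq.respectTransparency.types false
set_option maxHeartbeats 1000000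

universe u

open CategoryTheory CategoryTheory.Limits AlgebraicGeometry Opposite Module

attribute [local instance] HasDerivedCategory.standard

noncomputable section

namespace Groth.Agent.KExact.FibreSplit

open KFlatLib H9Misc

variable {X : Scheme.{u}}

/-- The depth of the structure module of a Cohen–Macaulay scheme is the dimension. -/
theorem depth_structure {Y : Scheme.{u}} (y : Y) (h : LocCoh.IsCohenMacaulayLocalRing ↑(Y.presheaf.stalk y)) :
    ((LocCoh.depth (Y.presheaf.stalk y) ((Coh.structureModule Y).presheaf.stalk y) : ℕ∞) : WithBot ℕ∞) =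
      ringKrullDim (Y.presheaf.stalk y) := by
  haveI := h
  rw [show LocCoh.depth (Y.presheaf.stalk y) ((Coh.structureModule Y).presheaf.stalk y) =
      LocCoh.depth (Y.presheaf.stalk y) (Y.presheaf.stalk y) from
    (Hensel.depth_congr (stalkUnitEquiv y)).symm, ← h.supportDim_eq_depth, Module.supportDim_self_eq_ringKrullDim]

/-- An object whose truncated cohomology has supports of large codimension and amplitude above `-k'` is zero. -/
theorem isZero_hd_of_amp (k : Type u) [Field k] (a : X ⟶ Spec (CommRingCat.of k)) [IsLocallyNoetherian X]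
    {g : ℕ} (hg : topologicalKrullDim ↥X ≤ (g : WithBot ℕ∞)) {L : X.Modules} (eL : L ≅ Coh.structureModule X)
    (hdep : ∀ x : X, ((LocCoh.depth (X.presheaf.stalk x) (L.presheaf.stalk x) : ℕ∞) : WithBot ℕ∞) =
      ringKrullDim (X.presheaf.stalk x))
    (K : CochainComplex X.Modules ℤ) (hK : DCoh.IsPerfect (DCoh.toD X K)) (lo hi : ℤ) (hlh : lo ≤ hi)
    (k' : ℕ) (hlo : (k' : ℤ) + 1 ≤ lo)
    (hamp : DCoh.HasTorAmplitudeIn lo hi (DCoh.toD X K))
    (hcodim : ∀ (n : ℕ) (x : ↥X), x ∈ CohB1.support (DCoh.HD (DCoh.toD X K) (n : ℤ)) →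
      ((n - k' : ℕ) : WithBot ℕ∞) ≤ ringKrullDim ↑(X.presheaf.stalk x)) (m : ℤ) :
    IsZero (DCoh.HD (DCoh.toD X K) m) := by
  haveI := hasLTensorCx K
  haveI := PerfShriek.hasRSheafHom K
  let T := (DCoh.RSheafHom K).obj (DCoh.inD X (Coh.structureModule X))
  have hT : DCoh.IsPerfect T := isPerfect_RSheafHom_structure K hK
  have hsp := (isPerfect_iff _).1 hT
  let eT : (DCoh.RSheafHom K).obj (DCoh.inD X L) ≅ T :=
    (DCoh.RSheafHom K).mapIso ((DerivedCategory.singleFunctor X.Modules 0).mapIso eL)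
  have hzero : ∀ i, IsZero (DCoh.HD T i) := fun i => by
    by_cases hi' : i < -(k' : ℤ)
    · refine (CodimRHom.isZero_hd_RSheafHom_codim k a hg K hK
        (isCoh_of_iso eL.symm QCoh.isCoh_structureModule') hdep k' hcodim (fun n => ?_) i hi').of_iso
        ((DerivedCategory.homologyFunctor _ i).mapIso eT.symm)
      exact isCoh_of_iso ((DerivedCategory.homologyFunctor _ n).mapIso eT.symm)
        (isCoh_of_locPC (AffineLift.isQCohD_of_locSP hsp) (hsp.locPC n) n le_rfl)
    · exact DualTwistVan.isZero_hd_dual K hK lo hi hlh hamp i (by omega)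
  obtain ⟨D, ⟨eD⟩⟩ : ∃ D : CochainComplex X.Modules ℤ, Nonempty (DCoh.toD X D ≅ T) :=
    ⟨_, ⟨DerivedCategory.Q.objObjPreimageIso _⟩⟩
  haveI := hasLTensorCx D
  haveI := PerfShriek.hasRSheafHom D
  obtain ⟨bd⟩ := PerfShriek.nonempty_bidual K hK D eD
  have hD : DCoh.IsPerfect (DCoh.toD X D) := isPerfect_congr eD.symm hT
  haveI : ∀ x : X, DCoh.HasLpull (X.fromSpecResidueField x) := fun x => hasLpull _
  let A : ℤ := max (1 - m) 0
  have hampD : DCoh.HasTorAmplitudeIn A A (DCoh.toD X D) := fun G _ i _ => by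
    have hG : ∀ c i : ℤ, c < i → IsZero (DCoh.HD ((DCoh.LTensorMod G).obj (DCoh.toD X D)) i) := fun c i hci =>
      isZero_hd_ltensorMod_of_isLE G _ c (fun j _ => (hzero j).of_iso
        ((DerivedCategory.homologyFunctor _ j).mapIso eD)) i hci
    exact hG (i - 1) i (by omega)
  exact (DualTwistVan.isZero_hd_dual D hD A A le_rfl hampD m (by omega)).of_iso
    ((DerivedCategory.homologyFunctor _ m).mapIso bd)

/-- A vanishing fibre dimension in a degree `≥ k'` forces the next one to vanish. -/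
theorem betti_succ_eq_zero (k : Type u) [Field k] {Y : Scheme.{u}} (b : Y ⟶ Spec (CommRingCat.of k))
    [IsLocallyNoetherian Y] (hYcm : ∀ y : ↥Y, LocCoh.IsCohenMacaulayLocalRing ↑(Y.presheaf.stalk y))
    {g : ℕ} (hg : topologicalKrullDim ↥Y ≤ (g : WithBot ℕ∞))
    {E : DCoh.D Y} (hE : DCoh.IsPerfect E) (k' : ℕ)
    (hcodim : ∀ (n : ℕ) (y : ↥Y), y ∈ CohB1.support (DCoh.HD E (n : ℤ)) →
      ((n - k' : ℕ) : WithBot ℕ∞) ≤ ringKrullDim ↑(Y.presheaf.stalk y))
    (y : Y) [DCoh.HasLpull (Y.fromSpecResidueField y)] (i : ℤ) (hi : (k' : ℤ) ≤ i)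
    (h : PerfD.betti E y i = 0) : PerfD.betti E y (i + 1) = 0 := by
  obtain ⟨U, j₀, _, ⟨y₀, rfl⟩, P, lo, hi₀, hab, hfree, ⟨eE⟩⟩ := exists_free_rep hE y
  obtain ⟨n, e, hP, -⟩ := exists_free_bounded hab hfree
  have hf := betti_formula E (j₀.base y₀) j₀ y₀ rfl hP e eE.hom (isPcMap_of_isIso (i - 1) eE.hom)
    (i - 1) i (i + 1) (by omega) rfl (by omega)
  rw [h] at hf
  obtain ⟨-, hfr, -⟩ := exact_free_stalk y₀ e (i - 1) i (i + 1) (by omega)
  let d' := (e i).inv ≫ P.d i (i + 1) ≫ (e (i + 1)).hom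
  let ec : cokernel (P.d i (i + 1)) ≅ cokernel d' :=
    cokernel.mapIso _ _ (e i) (e (i + 1)) (Iso.hom_inv_id_assoc (e i) _).symm
  have hflat : Module.Flat (U.presheaf.stalk y₀) ((DerSch.stalkFunctor U y₀).obj (cokernel d') : Type u) := by
    haveI := hfr
    exact Module.Flat.of_linearEquiv ((DerSch.stalkFunctor U y₀).mapIso ec).symm.toLinearEquiv
  obtain ⟨W, r, hyW, ⟨eW⟩⟩ := exists_free_of_flat_at d' y₀ hflat
  let R := Scheme.Modules.restrictFunctor W.ι
  let PW := (rCx W.ι).obj P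
  let Q := PW.truncGE (i + 1)
  have hXW : ∀ l, ∃ N, Nonempty (PW.X l ≅ FlatMod.freeMod (W : Scheme.{u}) N) := fun l =>
    ⟨n l, ⟨R.mapIso (e l) ≪≫ (Scheme.Modules.restrictFunctorIsoPullback W.ι).app _ ≪≫ pullFreeIso _ _⟩⟩
  have hQf : ∀ l, FlatMod.IsFinLocFree (Q.X l) := fun l => by
    rcases lt_trichotomy l (i + 1) with hl | rfl | hl
    · exact H23.PullPush.isFinLocFree_of_iso
        (isZero_freeMod_zero.iso (CochainComplex.isZero_of_isStrictlyGE Q (i + 1) l hl)) (fun x => isFinLocFree_freeMod 0 x)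
    · refine H23.PullPush.isFinLocFree_of_iso ?_ (fun x => isFinLocFree_freeMod r x)
      exact eW.symm ≪≫ R.mapIso ec.symm ≪≫ PreservesCokernel.iso R _ ≪≫
        (cokernelIsCokernel (PW.d i (i + 1))).coconePointUniqueUpToIso (PW.opcyclesIsCokernel i (i + 1) (by simp)) ≪≫
        (PW.truncGEXIsoOpcycles (i + 1)).symm
    · obtain ⟨N, ⟨eN⟩⟩ := hXW l
      exact H23.PullPush.isFinLocFree_of_iso (eN.symm ≪≫ (PW.truncGEXIso (i + 1) l hl).symm)
        (fun x => isFinLocFree_freeMod N x)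
  let hiQ : ℤ := max hi₀ (i + 1)
  have hQv : DCoh.VanishesOutside Q (i + 1) hiQ := fun l hl => by
    rcases hl with hl | hl
    · exact CochainComplex.isZero_of_isStrictlyGE Q (i + 1) l hl
    · exact ((Scheme.Modules.restrictFunctor W.ι).map_isZero (hab l (Or.inr (by omega)))).of_iso
        (PW.truncGEXIso (i + 1) l (by omega))
  have hQp : DCoh.IsPerfect (DCoh.toD (W : Scheme.{u}) Q) := (isPerfect_iff _).2 fun x =>
    ⟨(W : Scheme.{u}), 𝟙 _, inferInstance, ⟨x, rfl⟩, (rCx (𝟙 _)).obj Q,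
      ⟨⟨i + 1, hiQ, fun l hl => (Scheme.Modules.restrictFunctor _).map_isZero (hQv l hl)⟩, fun l =>
        H23.PullPush.isFinLocFree_of_iso ((Scheme.Modules.restrictFunctorIsoPullback (𝟙 _)).symm.app _)
          (isFinLocFree_pullback _ (hQf l))⟩, ⟨((rhoQ (𝟙 _)).app Q).symm⟩⟩
  let j := W.ι ≫ j₀
  haveI : IsLocallyNoetherian (W : Scheme.{u}) := isLocallyNoetherian_of_isOpenImmersion j
  let eQ : ∀ l, i + 1 ≤ l → (DCoh.HD (DCoh.toD (W : Scheme.{u}) Q) l ≅ (DCoh.HD E l).restrict j) := fun l hl =>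
    haveI := CochainComplex.quasiIsoAt_πTruncGE PW (i + 1) l hl
    (DerivedCategory.homologyFunctorFactors _ l).app Q ≪≫
      (asIso (HomologicalComplex.homologyMap (PW.πTruncGE (i + 1)) l)).symm ≪≫
      ((DerivedCategory.homologyFunctorFactors _ l).app PW).symm ≪≫
      (DerivedCategory.homologyFunctor _ l).mapIso (((rhoQ W.ι).app P).symm ≪≫ (rho W.ι).mapIso eE ≪≫
        rhoComp W.ι j₀ j rfl E) ≪≫ hdRhoIso j E l
  have hsub : ∀ (M : Y.Modules) (z : W), Subsingleton ((M.restrict j).presheaf.stalk z) ↔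
      Subsingleton (M.presheaf.stalk (j.base z)) := fun M z =>
    ((Scheme.Modules.restrictStalkNatIso j z).app M).addCommGroupIsoToAddEquiv.toEquiv.subsingleton_congr
  have htrans : ∀ (z : W) (l : ℤ) (hl : i + 1 ≤ l),
      Subsingleton ((DCoh.HD (DCoh.toD (W : Scheme.{u}) Q) l).presheaf.stalk z) ↔
        Subsingleton ((DCoh.HD E l).presheaf.stalk (j.base z)) := fun z l hl => by
    have h1 := ((DerSch.stalkFunctor (W : Scheme.{u}) z).mapIso (eQ l hl)).toLinearEquiv.toEquiv.subsingleton_congr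
    exact Iff.trans h1 (hsub (DCoh.HD E l) z)
  have hall := isZero_hd_of_amp k (j ≫ b)
    ((Topology.IsInducing.topologicalKrullDim_le j.isOpenEmbedding.isInducing).trans hg)
    (restrictStructureIso j) (fun z => CodimExt.depth_eq_dim_restrict j _ z (depth_structure _ (hYcm _)))
    Q hQp (i + 1) hiQ (le_max_right _ _) k' (by omega)
    (torAmplitude_of_flatAmplitude ⟨Q, hQv, fun l => isFlat_of_isFinLocFree (hQf l), ⟨Iso.refl _⟩⟩)
    (fun l z hz => by
      by_cases hl : i + 1 ≤ (l : ℤ)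
      · rw [show ringKrullDim ((W : Scheme.{u}).presheaf.stalk z) = ringKrullDim (Y.presheaf.stalk (j.base z)) from
          (ringKrullDim_eq_of_ringEquiv (asIso (j.stalkMap z)).commRingCatIsoToRingEquiv).symm]
        exact hcodim l _ fun hs => hz ((htrans z l hl).2 hs)
      · refine absurd ?_ hz
        have h0 : IsZero (DCoh.HD (DCoh.toD (W : Scheme.{u}) Q) l) :=
          (ShortComplex.isZero_homology_of_isZero_X₂ _ (hQv l (Or.inl (by omega)))).of_iso
            ((DerivedCategory.homologyFunctorFactors _ (l : ℤ)).app Q)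
        exact ModuleCat.subsingleton_of_isZero ((DerSch.stalkFunctor (W : Scheme.{u}) z).map_isZero h0))
  refine FibreBetti.betti_eq_zero_of_stalk hE _ (i + 1) fun l hl => ?_
  exact (htrans ⟨y₀, hyW⟩ l hl).1
    (ModuleCat.subsingleton_of_isZero ((DerSch.stalkFunctor (W : Scheme.{u}) ⟨y₀, hyW⟩).map_isZero (hall l)))

end Groth.Agent.KExact.FibreSplit
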