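import Groth.Agent.KExact.DualCM
import Groth.Agent.S1773

/-!
# The twisted inverse image through a finite extension of fields
-/

set_option autoImplicit false
set_option linter.style.haveILetI false
set_option linter.unusedSectionVars false
set_option linter.unusedVariables false
set_option backward.isDefEq.respectTransparency false
set_option backward.isDefEq.respectTransparency.types false

universe u

open CategoryTheory CategoryTheory.Limits AlgebraicGeometry

attribute [local instance] HasDerivedCategory.standard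

namespace Groth.Agent.KExact.FieldShriek

open KFlatLib BCNat BCComp DualShriek

/-- The shriek of a field along a finite extension is the extension. -/
theorem nonempty_shriek_iso {k k' : Type u} [Field k] [Field k'] [Algebra k k'] [Module.Finite k k']
    (R : Dual.D k ⥤ Dual.D k') (adj : DRing.restrictD (algebraMap k k') ⊣ R) :
    Nonempty (R.obj (Dual.inD k k) ≅ Dual.inD k' k') := by
  obtain ⟨hω, hn⟩ := DualNormalized.field_normalized k
  haveI : IsLocalHom (algebraMap k k') := ⟨fun a ha => isUnit_iff_ne_zero.2 fun h => ha.ne_zero (by rw [h, map_zero])⟩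
  obtain ⟨hω', hn'⟩ := S1773.result k k' R adj (Dual.inD k k) hω hn
  haveI := hasLTen k'
  haveI := hasRHom (A := k')
  let ω' := R.obj (Dual.inD k k)
  have hz : ∀ i : ℤ, i ≠ 0 → IsZero ((DerivedCategory.homologyFunctor (ModuleCat.{u} k') i).obj ω') := fun i hi => by
    obtain ⟨e⟩ := exists_homRingLEquiv ω' i
    haveI : Subsingleton (Dual.HD k' ω' i) := not_nontrivial_iff_subsingleton.1 fun h => by
      have := (S0366.result k' ω' hω' hn' k' 0
        (by rw [Module.supportDim_self_eq_ringKrullDim, ringKrullDim_eq_zero_of_field]; rfl) i).1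
        e.toEquiv.nontrivial
      omega
    exact @ModuleCat.isZero_of_subsingleton _ _ _ this
  haveI : ω'.IsGE 0 := (DerivedCategory.isGE_iff _ _).2 fun i hi => hz i (by omega)
  haveI : ω'.IsLE 0 := (DerivedCategory.isLE_iff _ _).2 fun i hi => hz i (by omega)
  obtain ⟨N, ⟨eN⟩⟩ := DerivedCategory.exists_iso_singleFunctor_obj_of_isGE_of_isLE ω' 0
  haveI : (⊥ : Ideal k').IsMaximal := Ideal.bot_isMaximal
  obtain ⟨n, hvan, ⟨en⟩⟩ := exists_unique_ext_point (⊥ : Ideal k') hω'
  let q : (k' ⧸ (⊥ : Ideal k')) ≃ₗ[k'] k' := Submodule.quotEquivOfEqBot _ rfl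
  let eI := (DerivedCategory.singleFunctor (ModuleCat.{u} k') 0).mapIso q.toModuleIso
  obtain rfl : n = 0 := by
    by_contra hne
    obtain ⟨e⟩ := exists_homRingLEquiv ω' n
    haveI : Subsingleton (Dual.HD k' ω' n) := ModuleCat.subsingleton_of_isZero (hz n hne)
    haveI : Subsingleton (Dual.inD k' k' ⟶ ω'⟦n⟧) := e.injective.subsingleton
    haveI : Subsingleton (Dual.inD k' (k' ⧸ (⊥ : Ideal k')) ⟶ ω'⟦n⟧) := eI.homFromEquiv.subsingleton
    haveI : Nontrivial (k' ⧸ (⊥ : Ideal k')) := Ideal.Quotient.nontrivial_iff.2 bot_ne_top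
    exact not_subsingleton _ (en.symm.injective.subsingleton : Subsingleton (k' ⧸ (⊥ : Ideal k')))
  obtain ⟨e⟩ := exists_homRingLEquiv ω' 0
  let eH : N ≃ₗ[k'] Dual.HD k' ω' 0 :=
    ((DerivedCategory.singleFunctorCompHomologyFunctorIso (ModuleCat.{u} k') 0).app N).toLinearEquiv.symm.trans
      ((DerivedCategory.homologyFunctor _ 0).mapIso eN).toLinearEquiv.symm
  let eL : N ≃ₗ[k'] k' := eH.trans (e.symm.trans
    ((Linear.homCongr k' eI.symm (Iso.refl _)).trans (en.trans q)))
  exact ⟨eN ≪≫ (DerivedCategory.singleFunctor (ModuleCat.{u} k') 0).mapIso eL.toModuleIso⟩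

/-- An object without cohomology is zero. -/
theorem isZero_of_isEmpty {X : Scheme.{u}} [IsEmpty X] (K : DCoh.D X) : IsZero K := by
  have h : ∀ i : ℤ, IsZero (DCoh.HD K i) := fun i => isZero_of_stalk _ fun x => isEmptyElim x
  haveI : K.IsLE 0 := (DerivedCategory.isLE_iff _ _).2 fun i _ => h i
  haveI : K.IsGE 1 := (DerivedCategory.isGE_iff _ _).2 fun i _ => h i
  exact DerivedCategory.TStructure.t.isZero K 0 1 (by omega)

variable [∀ (U V : Scheme.{u}) (j : U ⟶ V) [IsOpenImmersion j], PreservesFiniteLimits (Scheme.Modules.restrictFunctor j)]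
  [∀ (R : CommRingCat.{u}), PreservesFiniteLimits (tilde.functor R)]

/-- A field through which a nonempty proper scheme factors is finite. -/
theorem finite_of_factor {k k' : Type u} [Field k] [Field k'] [Algebra k k'] {X : Scheme.{u}} [Nonempty X]
    (f : X ⟶ Spec (CommRingCat.of k)) [IsProper f] (f' : X ⟶ Spec (CommRingCat.of k'))
    (hff' : f' ≫ Spec.map (CommRingCat.ofHom (algebraMap k k')) = f) : Module.Finite k k' := by
  haveI : IsNoetherian X := BCNat.isNoetherian_of_ft f
  obtain ⟨x, -, hx⟩ := (isClosed_univ (X := X)).exists_closed_singleton Set.univ_nonempty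
  haveI : IsClosedImmersion (X.fromSpecResidueField x) := by
    refine IsClosedImmersion.of_isPreimmersion _ ?_
    rw [Scheme.range_fromSpecResidueField]
    exact hx
  let ψ : CommRingCat.of k' ⟶ X.residueField x := Spec.preimage (X.fromSpecResidueField x ≫ f')
  have hψ : Spec.map (CommRingCat.ofHom (algebraMap k k') ≫ ψ) = X.fromSpecResidueField x ≫ f := by
    rw [Spec.map_comp, Spec.map_preimage, Category.assoc, hff']
  haveI : IsFinite (Spec.map (CommRingCat.ofHom (algebraMap k k') ≫ ψ)) :=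
    IsFinite.iff_isProper_and_isAffineHom.2 ⟨hψ ▸ inferInstance, inferInstance⟩
  letI := ((CommRingCat.ofHom (algebraMap k k') ≫ ψ).hom).toAlgebra
  haveI : Module.Finite k (X.residueField x) :=
    RingHom.finite_algebraMap.1 ((IsFinite.SpecMap_iff _).1 inferInstance)
  exact Module.Finite.of_injective
    ({ toFun := ψ.hom, map_add' := map_add _, map_smul' := fun r z => by
        rw [Algebra.smul_def, Algebra.smul_def, map_mul]; rfl } : k' →ₗ[k] X.residueField x)
    ψ.hom.injective

/-- The twisted inverse images of the two structure morphisms agree on the structure sheaf. -/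
theorem nonempty_iso {k k' : Type u} [Field k] [Field k'] [Algebra k k'] {X : Scheme.{u}} [Nonempty X]
    (f : X ⟶ Spec (CommRingCat.of k)) [IsProper f] (f' : X ⟶ Spec (CommRingCat.of k'))
    (hff' : f' ≫ Spec.map (CommRingCat.ofHom (algebraMap k k')) = f) [DCoh.HasRpush f]
    {hf : DCoh.RpushPreservesQCoh f} {a : DCoh.DQCoh (Spec (CommRingCat.of k)) ⥤ DCoh.DQCoh X}
    (adj : DCoh.RpushQ f hf ⊣ a) [DCoh.HasRpush f'] {hf' : DCoh.RpushPreservesQCoh f'}
    {a' : DCoh.DQCoh (Spec (CommRingCat.of k')) ⥤ DCoh.DQCoh X} (adj' : DCoh.RpushQ f' hf' ⊣ a')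
    (O : DCoh.DQCoh (Spec (CommRingCat.of k)))
    (eO : O.obj ≅ DCoh.inD (Spec (CommRingCat.of k)) (Coh.structureModule (Spec (CommRingCat.of k))))
    (O' : DCoh.DQCoh (Spec (CommRingCat.of k')))
    (eO' : O'.obj ≅ DCoh.inD (Spec (CommRingCat.of k')) (Coh.structureModule (Spec (CommRingCat.of k')))) :
    Nonempty ((a.obj O).obj ≅ (a'.obj O').obj) := by
  haveI : IsNoetherian X := BCNat.isNoetherian_of_ft f
  haveI := finite_of_factor f f' hff'
  let θ := Spec.map (CommRingCat.ofHom (algebraMap k k'))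
  haveI : IsFinite θ := (IsFinite.SpecMap_iff _).2 (RingHom.finite_algebraMap.2 inferInstance)
  haveI : IsProper θ := (IsFinite.iff_isProper_and_isAffineHom.1 ‹_›).1
  haveI : IsProper (f' ≫ θ) := by rw [hff']; infer_instance
  haveI : IsProper f' := IsProper.of_comp f' θ
  haveI := hasRpush_scheme θ
  have hθq : DCoh.RpushPreservesQCoh θ := fun K hK => isQCohD_rpush θ hK
  obtain ⟨b, ⟨adjb⟩⟩ := exists_adj θ hθq
  obtain ⟨et⟩ := DualNormalized.nonempty_tildeD_iso k
  obtain ⟨et'⟩ := DualNormalized.nonempty_tildeD_iso k'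
  obtain ⟨hω, hn⟩ := DualNormalized.field_normalized k
  obtain ⟨R, ⟨adjR⟩⟩ := exists_shriek (algebraMap k k')
  obtain ⟨eR⟩ := nonempty_shriek_iso R adjR
  obtain ⟨eb⟩ := DualNormalized.nonempty_specMap_iso (CommRingCat.ofHom (algebraMap k k')) adjb adjR O
    (Dual.inD k k) (eO ≪≫ et.symm)
  obtain ⟨E⟩ := nonempty_comp (𝟙 X) f' (𝟙 _) θ (𝟙 X) f (by rw [Category.id_comp, Category.id_comp, Category.id_comp, hff']) adj' adjb adj
  obtain ⟨i1⟩ := nonempty_rQ_id (𝟙 X) rfl
  obtain ⟨i2⟩ := nonempty_rQ_id (𝟙 (Spec (CommRingCat.of k'))) rfl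
  let eO'' : b.obj O ≅ O' := (DCoh.IsQCohD (X := Spec (CommRingCat.of k'))).isoMk
    (eb ≪≫ (DCoh.tildeD (CommRingCat.of k')).mapIso eR ≪≫ et' ≪≫ eO'.symm)
  exact ⟨(ObjectProperty.ι _).mapIso ((i1.app _).symm ≪≫
    E.app ⟨O, DualNormalized.isBddBelowQ_of_iso hω (eO ≪≫ et.symm)⟩ ≪≫ i1.app _ ≪≫
      a'.mapIso (i2.app _ ≪≫ eO''))⟩

end Groth.Agent.KExact.FieldShriek
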