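import Mathlib.Algebra.Homology.GrothendieckAbelian
import Mathlib.Algebra.Homology.DerivedCategory.ShortExact
import Mathlib.Algebra.Homology.DerivedCategory.HomologySequence
import Mathlib.Algebra.Homology.DerivedCategory.TStructure
import Mathlib.Algebra.Homology.Embedding.CochainComplex
import Mathlib.CategoryTheory.Abelian.FunctorCategory
import Mathlib.CategoryTheory.Abelian.Refinements
import Mathlib.CategoryTheory.Triangulated.Functor

/-!
# Exact colimits and triangulated functors on complexes bounded below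
-/

set_option autoImplicit false
set_option linter.style.haveILetI false
set_option linter.unusedSectionVars false
set_option backward.isDefEq.respectTransparency false
set_option backward.isDefEq.respectTransparency.types false

universe w w' v v' u u'

open CategoryTheory CategoryTheory.Limits CategoryTheory.Pretriangulated

attribute [local instance] HasDerivedCategory.standard

namespace Groth.Agent.KExact.Filtered

section Diagram

variable {C : Type u} [Category.{v} C] [Abelian C]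
  {A B Z D E A' B' Z' D' E' : C} {f : A ⟶ B} {g : B ⟶ Z} {h : Z ⟶ D} {k : D ⟶ E}
  {f' : A' ⟶ B'} {g' : B' ⟶ Z'} {h' : Z' ⟶ D'} {k' : D' ⟶ E'}
  (α : A ⟶ A') (β : B ⟶ B') (γ : Z ⟶ Z') (δ : D ⟶ D') (ε : E ⟶ E')

/-- The mono form of the four lemma. -/
theorem mono_four (c₁ : f ≫ β = α ≫ f') (c₂ : g ≫ γ = β ≫ g') (c₃ : h ≫ δ = γ ≫ h')
    (w : f ≫ g = 0) (w' : g ≫ h = 0) (hex : (ShortComplex.mk g h w').Exact)
    (v : f' ≫ g' = 0) (hex' : (ShortComplex.mk f' g' v).Exact)
    (hα : Epi α) (hβ : Mono β) (hδ : Mono δ) : Mono γ := by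
  refine Preadditive.mono_of_cancel_zero γ fun {T} z hz => ?_
  have hzh : z ≫ h = 0 := by
    rw [← cancel_mono δ, Category.assoc, c₃, ← Category.assoc, hz, zero_comp, zero_comp]
  obtain ⟨T₁, π₁, _, b, hb⟩ := hex.exact_up_to_refinements z hzh
  dsimp at b hb
  have hb' : (b ≫ β) ≫ g' = 0 := by
    rw [Category.assoc, ← c₂, ← Category.assoc, ← hb, Category.assoc, hz, comp_zero]
  obtain ⟨T₂, π₂, _, a', ha'⟩ := hex'.exact_up_to_refinements (b ≫ β) hb'
  dsimp at a' ha'
  obtain ⟨T₃, π₃, _, a, ha⟩ := surjective_up_to_refinements_of_epi α a'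
  have key : a ≫ f = π₃ ≫ π₂ ≫ b := by
    rw [← cancel_mono β, Category.assoc, c₁, ← Category.assoc, ← ha]
    simp only [Category.assoc, ← ha']
  rw [← cancel_epi π₁, comp_zero, hb, ← cancel_epi π₂, ← cancel_epi π₃, comp_zero, comp_zero]
  calc π₃ ≫ π₂ ≫ b ≫ g = (a ≫ f) ≫ g := by rw [key]; simp
    _ = 0 := by rw [Category.assoc, w, comp_zero]

/-- The epi form of the four lemma. -/
theorem epi_four (c₂ : g ≫ γ = β ≫ g') (c₃ : h ≫ δ = γ ≫ h') (c₄ : k ≫ ε = δ ≫ k')
    (w : h ≫ k = 0) (hex : (ShortComplex.mk h k w).Exact)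
    (v : g' ≫ h' = 0) (v' : h' ≫ k' = 0) (hex' : (ShortComplex.mk g' h' v).Exact)
    (hβ : Epi β) (hδ : Epi δ) (hε : Mono ε) : Epi γ := by
  rw [epi_iff_surjective_up_to_refinements]
  intro T z'
  obtain ⟨T₁, π₁, _, d, hd⟩ := surjective_up_to_refinements_of_epi δ (z' ≫ h')
  have hdk : d ≫ k = 0 := by
    rw [← cancel_mono ε, Category.assoc, c₄, ← Category.assoc, ← hd, zero_comp]
    simp [v']
  obtain ⟨T₂, π₂, _, z, hz⟩ := hex.exact_up_to_refinements d hdk
  dsimp at z hz
  have hdiff : (π₂ ≫ π₁ ≫ z' - z ≫ γ) ≫ h' = 0 := by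
    rw [Preadditive.sub_comp, Category.assoc, Category.assoc, Category.assoc, ← c₃, hd,
      ← Category.assoc z, ← hz, Category.assoc, sub_self]
  obtain ⟨T₃, π₃, _, b', hb'⟩ := hex'.exact_up_to_refinements _ hdiff
  dsimp at b' hb'
  obtain ⟨T₄, π₄, _, b, hb⟩ := surjective_up_to_refinements_of_epi β b'
  refine ⟨T₄, π₄ ≫ π₃ ≫ π₂ ≫ π₁, inferInstance, π₄ ≫ π₃ ≫ z + b ≫ g, ?_⟩
  have : π₄ ≫ π₃ ≫ (π₂ ≫ π₁ ≫ z' - z ≫ γ) = b ≫ g ≫ γ := by
    rw [hb', c₂, ← Category.assoc, hb, Category.assoc]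
  simp only [Preadditive.comp_sub] at this
  rw [Preadditive.add_comp, Category.assoc b, ← this]
  simp only [Category.assoc]
  abel

end Diagram

section Pointwise

variable {J : Type w} [Category.{w'} J] {C : Type u} [Category.{v} C] [Abelian C]

/-- Exactness of functors is pointwise. -/
theorem exact_of_eval (T : ShortComplex (J ⥤ C)) (h : ∀ j, (T.map ((evaluation J C).obj j)).Exact) :
    T.Exact := by
  rw [ShortComplex.exact_iff_isZero_homology]
  refine Functor.isZero _ fun j => ?_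
  exact ((ShortComplex.exact_iff_isZero_homology _).1 (h j)).of_iso
    (T.mapHomologyIso ((evaluation J C).obj j)).symm

/-- Short exactness of functors is pointwise. -/
theorem shortExact_of_eval (T : ShortComplex (J ⥤ C))
    (h : ∀ j, (T.map ((evaluation J C).obj j)).ShortExact) : T.ShortExact :=
  { exact := exact_of_eval T fun j => (h j).exact
    mono_f := haveI : ∀ j, Mono (T.f.app j) := fun j => (h j).mono_f
      NatTrans.mono_of_mono_app _
    epi_g := haveI : ∀ j, Epi (T.g.app j) := fun j => (h j).epi_g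
      NatTrans.epi_of_epi_app _ }

end Pointwise

variable {A : Type u} [Category.{v} A] [Abelian A] {B : Type u'} [Category.{v'} B] [Abelian B]
  (Φ : DerivedCategory A ⥤ DerivedCategory B) [Φ.CommShift ℤ] [Φ.IsTriangulated]

/-- Cohomology of the functor on complexes. -/
noncomputable abbrev Hn (i : ℤ) : CochainComplex A ℤ ⥤ B :=
  DerivedCategory.Q ⋙ Φ ⋙ DerivedCategory.homologyFunctor B i

/-- The connecting map of a short exact sequence. -/
noncomputable def δH {S : ShortComplex (CochainComplex A ℤ)} (hS : S.ShortExact) (n : ℤ) :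
    (Hn Φ n).obj S.X₃ ⟶ (Hn Φ (n + 1)).obj S.X₁ :=
  DerivedCategory.HomologySequence.δ (Φ.mapTriangle.obj (DerivedCategory.triangleOfSES hS)) n (n + 1)

lemma δH_naturality {S₁ S₂ : ShortComplex (CochainComplex A ℤ)} (h₁ : S₁.ShortExact)
    (h₂ : S₂.ShortExact) (ψ : S₁ ⟶ S₂) (n : ℤ) :
    (Hn Φ n).map ψ.τ₃ ≫ δH Φ h₂ n = δH Φ h₁ n ≫ (Hn Φ (n + 1)).map ψ.τ₁ :=
  (DerivedCategory.homologyFunctor B 0).homologySequenceδ_naturality _ _
    (Φ.mapTriangle.map (Triangle.homMk (DerivedCategory.triangleOfSES h₁)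
      (DerivedCategory.triangleOfSES h₂) (DerivedCategory.Q.map ψ.τ₁) (DerivedCategory.Q.map ψ.τ₂)
      (DerivedCategory.Q.map ψ.τ₃)
      (by
        change DerivedCategory.Q.map S₁.f ≫ _ = _ ≫ DerivedCategory.Q.map S₂.f
        rw [← Functor.map_comp, ← Functor.map_comp, ψ.comm₁₂])
      (by
        change DerivedCategory.Q.map S₁.g ≫ _ = _ ≫ DerivedCategory.Q.map S₂.g
        rw [← Functor.map_comp, ← Functor.map_comp, ψ.comm₂₃])
      (DerivedCategory.triangleOfSESδ_naturality h₁ h₂ ψ))) n (n + 1) rfl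

section LES

variable {S : ShortComplex (CochainComplex A ℤ)} (hS : S.ShortExact) (n : ℤ)
include hS

lemma Hn_comp : (Hn Φ n).map S.f ≫ (Hn Φ n).map S.g = 0 := by
  have h := comp_distTriang_mor_zero₁₂ _ (Φ.map_distinguished _ (DerivedCategory.triangleOfSES_distinguished hS))
  change Φ.map (DerivedCategory.Q.map S.f) ≫ Φ.map (DerivedCategory.Q.map S.g) = 0 at h
  change (DerivedCategory.homologyFunctor B n).map _ ≫ (DerivedCategory.homologyFunctor B n).map _ = 0
  rw [← Functor.map_comp]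
  exact (congrArg _ h).trans (Functor.map_zero _ _ _)

lemma δH_comp : δH Φ hS n ≫ (Hn Φ (n + 1)).map S.f = 0 :=
  DerivedCategory.HomologySequence.δ_comp _
    (Φ.map_distinguished _ (DerivedCategory.triangleOfSES_distinguished hS)) n (n + 1) rfl

lemma comp_δH : (Hn Φ n).map S.g ≫ δH Φ hS n = 0 :=
  DerivedCategory.HomologySequence.comp_δ _
    (Φ.map_distinguished _ (DerivedCategory.triangleOfSES_distinguished hS)) n (n + 1) rfl

lemma exact_middle : (ShortComplex.mk _ _ (Hn_comp Φ hS n)).Exact :=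
  DerivedCategory.HomologySequence.exact₂ _
    (Φ.map_distinguished _ (DerivedCategory.triangleOfSES_distinguished hS)) n

lemma exact_third : (ShortComplex.mk _ _ (comp_δH Φ hS n)).Exact :=
  DerivedCategory.HomologySequence.exact₃ _
    (Φ.map_distinguished _ (DerivedCategory.triangleOfSES_distinguished hS)) n (n + 1) rfl

lemma exact_first : (ShortComplex.mk _ _ (δH_comp Φ hS n)).Exact :=
  DerivedCategory.HomologySequence.exact₁ _
    (Φ.map_distinguished _ (DerivedCategory.triangleOfSES_distinguished hS)) n (n + 1) rfl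

end LES

variable {J : Type w} [Category.{w'} J] [HasColimitsOfShape J A] [HasExactColimitsOfShape J A]
  [HasColimitsOfShape J B] [HasExactColimitsOfShape J B]

/-- The comparison map. -/
noncomputable abbrev κ (D : J ⥤ CochainComplex A ℤ) (i : ℤ) :
    colimit (D ⋙ Hn Φ i) ⟶ (Hn Φ i).obj (colimit D) :=
  colimit.post D (Hn Φ i)

lemma κ_naturality {D D' : J ⥤ CochainComplex A ℤ} (φ : D ⟶ D') (i : ℤ) :
    colimMap (Functor.whiskerRight φ (Hn Φ i)) ≫ κ Φ D' i = κ Φ D i ≫ (Hn Φ i).map (colimMap φ) := by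
  refine colimit.hom_ext fun j => ?_
  rw [ι_colimMap_assoc, colimit.ι_post, colimit.ι_post_assoc, Functor.whiskerRight_app,
    ← Functor.map_comp, ← Functor.map_comp, ι_colimMap]

variable {S : ShortComplex (J ⥤ CochainComplex A ℤ)} (hS : S.ShortExact)

include hS in
lemma eval_shortExact (j : J) : (S.map ((evaluation J (CochainComplex A ℤ)).obj j)).ShortExact :=
  hS.map_of_exact _

include hS in
lemma colim_shortExact : (S.map (colim (J := J) (C := CochainComplex A ℤ))).ShortExact :=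
  hS.map_of_exact _

/-- The morphism from a stage to the colimit. -/
noncomputable def ιS (S : ShortComplex (J ⥤ CochainComplex A ℤ)) (j : J) :
    S.map ((evaluation J (CochainComplex A ℤ)).obj j) ⟶ S.map colim :=
  S.mapNatTrans { app := fun D => colimit.ι D j, naturality := fun _ _ φ => (ι_colimMap φ j).symm }

/-- The connecting maps form a natural transformation. -/
noncomputable def δnat (n : ℤ) : S.X₃ ⋙ Hn Φ n ⟶ S.X₁ ⋙ Hn Φ (n + 1) where
  app j := δH Φ (eval_shortExact hS j) n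
  naturality j j' g := δH_naturality Φ (eval_shortExact hS j) (eval_shortExact hS j')
    (S.mapNatTrans ((evaluation J (CochainComplex A ℤ)).map g)) n

lemma δ_square (n : ℤ) : colimMap (δnat Φ hS n) ≫ κ Φ S.X₁ (n + 1) =
    κ Φ S.X₃ n ≫ δH Φ (colim_shortExact hS) n := by
  refine colimit.hom_ext fun j => ?_
  rw [ι_colimMap_assoc, colimit.ι_post, colimit.ι_post_assoc]
  exact (δH_naturality Φ (eval_shortExact hS j) (colim_shortExact hS) (ιS S j) n).symm

include hS in
lemma top_middle (n : ℤ) : ∃ w : colimMap (Functor.whiskerRight S.f (Hn Φ n)) ≫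
    colimMap (Functor.whiskerRight S.g (Hn Φ n)) = 0, (ShortComplex.mk _ _ w).Exact := by
  let T : ShortComplex (J ⥤ B) := ShortComplex.mk (Functor.whiskerRight S.f (Hn Φ n))
    (Functor.whiskerRight S.g (Hn Φ n)) (NatTrans.ext (funext fun j => Hn_comp Φ (eval_shortExact hS j) n))
  exact ⟨(T.map colim).zero, (exact_of_eval T fun j => exact_middle Φ (eval_shortExact hS j) n).map colim⟩

include hS in
lemma top_third (n : ℤ) : ∃ w : colimMap (Functor.whiskerRight S.g (Hn Φ n)) ≫
    colimMap (δnat Φ hS n) = 0, (ShortComplex.mk _ _ w).Exact := by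
  let T : ShortComplex (J ⥤ B) := ShortComplex.mk (Functor.whiskerRight S.g (Hn Φ n))
    (δnat Φ hS n) (NatTrans.ext (funext fun j => comp_δH Φ (eval_shortExact hS j) n))
  exact ⟨(T.map colim).zero, (exact_of_eval T fun j => exact_third Φ (eval_shortExact hS j) n).map colim⟩

include hS in
lemma top_first (n : ℤ) : ∃ w : colimMap (δnat Φ hS n) ≫
    colimMap (Functor.whiskerRight S.f (Hn Φ (n + 1))) = 0, (ShortComplex.mk _ _ w).Exact := by
  let T : ShortComplex (J ⥤ B) := ShortComplex.mk (δnat Φ hS n)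
    (Functor.whiskerRight S.f (Hn Φ (n + 1))) (NatTrans.ext (funext fun j => δH_comp Φ (eval_shortExact hS j) n))
  exact ⟨(T.map colim).zero, (exact_of_eval T fun j => exact_first Φ (eval_shortExact hS j) n).map colim⟩

include hS in
theorem mono_κ₂ (n : ℤ) (h₀ : Epi (κ Φ S.X₃ n)) (h₁ : Mono (κ Φ S.X₁ (n + 1)))
    (h₃ : Mono (κ Φ S.X₃ (n + 1))) : Mono (κ Φ S.X₂ (n + 1)) := by
  obtain ⟨w, -⟩ := top_first Φ hS n
  obtain ⟨w', hex⟩ := top_middle Φ hS (n + 1)
  exact mono_four _ _ _ _ (δ_square Φ hS n) (κ_naturality Φ S.f _) (κ_naturality Φ S.g _) w w' hex _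
    (exact_first Φ (colim_shortExact hS) n) h₀ h₁ h₃

include hS in
theorem isIso_κ₂ (n : ℤ) (h₀ : Epi (κ Φ S.X₃ n)) (h₁ : IsIso (κ Φ S.X₁ (n + 1)))
    (h₃ : IsIso (κ Φ S.X₃ (n + 1))) (h₄ : Mono (κ Φ S.X₁ (n + 1 + 1))) :
    IsIso (κ Φ S.X₂ (n + 1)) := by
  haveI := h₁
  haveI := h₃
  haveI := mono_κ₂ Φ hS n h₀ inferInstance inferInstance
  obtain ⟨w, hex⟩ := top_third Φ hS (n + 1)
  haveI : Epi (κ Φ S.X₂ (n + 1)) := epi_four _ _ _ _ (κ_naturality Φ S.f _) (κ_naturality Φ S.g _)
    (δ_square Φ hS (n + 1)) w hex _ (comp_δH Φ (colim_shortExact hS) (n + 1))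
    (exact_middle Φ (colim_shortExact hS) (n + 1)) inferInstance inferInstance h₄
  exact isIso_of_mono_of_epi _

include hS in
theorem mono_κ₁ (n : ℤ) (h₀ : Epi (κ Φ S.X₂ n)) (h₁ : Mono (κ Φ S.X₃ n))
    (h₃ : Mono (κ Φ S.X₂ (n + 1))) : Mono (κ Φ S.X₁ (n + 1)) := by
  obtain ⟨w, -⟩ := top_third Φ hS n
  obtain ⟨w', hex⟩ := top_first Φ hS n
  exact mono_four _ _ _ _ (κ_naturality Φ S.g _) (δ_square Φ hS n) (κ_naturality Φ S.f _) w w' hex _
    (exact_third Φ (colim_shortExact hS) n) h₀ h₁ h₃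

include hS in
theorem isIso_κ₁ (n : ℤ) (h₀ : Epi (κ Φ S.X₂ n)) (h₁ : IsIso (κ Φ S.X₃ n))
    (h₃ : IsIso (κ Φ S.X₂ (n + 1))) (h₄ : Mono (κ Φ S.X₃ (n + 1))) :
    IsIso (κ Φ S.X₁ (n + 1)) := by
  haveI := h₁
  haveI := h₃
  haveI := mono_κ₁ Φ hS n h₀ inferInstance inferInstance
  obtain ⟨w, hex⟩ := top_middle Φ hS (n + 1)
  haveI : Epi (κ Φ S.X₁ (n + 1)) := epi_four _ _ _ _ (δ_square Φ hS n) (κ_naturality Φ S.f _)
    (κ_naturality Φ S.g _) w hex _ (Hn_comp Φ (colim_shortExact hS) (n + 1))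
    (exact_first Φ (colim_shortExact hS) n) inferInstance inferInstance h₄
  exact isIso_of_mono_of_epi _

section Induction

/-- A colimit of zero objects vanishes. -/
lemma isZero_colimit {C : Type*} [Category C] [HasZeroMorphisms C] (F : J ⥤ C) [HasColimit F]
    (h : ∀ j, IsZero (F.obj j)) : IsZero (colimit F) := by
  rw [IsZero.iff_id_eq_zero]
  exact colimit.hom_ext fun j => (h j).eq_of_src _ _

/-- The colimit of complexes strictly above a degree is so. -/
lemma isStrictlyGE_colimit (D : J ⥤ CochainComplex A ℤ) (n : ℤ) (hD : ∀ j, CochainComplex.IsStrictlyGE (D.obj j) n) :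
    CochainComplex.IsStrictlyGE (colimit D) n := (CochainComplex.isStrictlyGE_iff _ n).2 fun i hi =>
  (isZero_colimit _ fun j => by
    haveI := hD j
    exact CochainComplex.isZero_of_isStrictlyGE (D.obj j) n i hi).of_iso
    (preservesColimitIso (HomologicalComplex.eval A (ComplexShape.up ℤ) i) D)

variable (hneg : ∀ (K : CochainComplex A ℤ) (n i : ℤ), CochainComplex.IsStrictlyGE K n → i < n → IsZero ((Hn Φ i).obj K))

include hneg in
lemma isIso_κ_of_lt (D : J ⥤ CochainComplex A ℤ) (n i : ℤ) (hD : ∀ j, CochainComplex.IsStrictlyGE (D.obj j) n)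
    (hi : i < n) : IsIso (κ Φ D i) :=
  ⟨0, (isZero_colimit (D ⋙ Hn Φ i) fun j => hneg (D.obj j) n i (hD j) hi).eq_of_src _ _,
    (hneg _ n i (isStrictlyGE_colimit D n hD) hi).eq_of_src _ _⟩

variable (hres : ∀ (n : ℤ) (M : J ⥤ A), ∃ (G Q : J ⥤ A) (ι : M ⟶ G) (p : G ⟶ Q) (w : ι ≫ p = 0),
  (ShortComplex.mk ι p w).ShortExact ∧
    ∀ i : ℤ, IsIso (κ Φ (G ⋙ HomologicalComplex.single A (ComplexShape.up ℤ) n) i))

lemma isStrictlyGE_single (M : J ⥤ A) (n : ℤ) (j : J) :
    CochainComplex.IsStrictlyGE ((M ⋙ HomologicalComplex.single A (ComplexShape.up ℤ) n).obj j) n :=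
  (CochainComplex.isStrictlyGE_iff _ n).2 fun i hi =>
    HomologicalComplex.isZero_single_obj_X (ComplexShape.up ℤ) n _ i (by omega)

lemma single_shortExact {M G Q : J ⥤ A} (ι : M ⟶ G) (p : G ⟶ Q) (w : ι ≫ p = 0)
    (h : (ShortComplex.mk ι p w).ShortExact) (n : ℤ) :
    ∃ w' : Functor.whiskerRight ι (HomologicalComplex.single A (ComplexShape.up ℤ) n) ≫
      Functor.whiskerRight p (HomologicalComplex.single A (ComplexShape.up ℤ) n) = 0,
      (ShortComplex.mk _ _ w').ShortExact := by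
  let T : ShortComplex (J ⥤ CochainComplex A ℤ) := ShortComplex.mk
    (Functor.whiskerRight ι (HomologicalComplex.single A (ComplexShape.up ℤ) n))
    (Functor.whiskerRight p (HomologicalComplex.single A (ComplexShape.up ℤ) n)) (by
      ext j : 2
      change (HomologicalComplex.single A (ComplexShape.up ℤ) n).map (ι.app j) ≫
        (HomologicalComplex.single A (ComplexShape.up ℤ) n).map (p.app j) = 0
      rw [← Functor.map_comp, ← NatTrans.comp_app, w, NatTrans.app_zero, Functor.map_zero])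
  exact ⟨T.zero, shortExact_of_eval T fun j => (h.map_of_exact ((evaluation J A).obj j)).map_of_exact
    (HomologicalComplex.single A (ComplexShape.up ℤ) n)⟩

include hneg hres in
theorem mono_single (n : ℤ) : ∀ (k : ℕ) (M : J ⥤ A),
    Mono (κ Φ (M ⋙ HomologicalComplex.single A (ComplexShape.up ℤ) n) (n - 1 + k))
  | 0, M => by
    haveI := isIso_κ_of_lt Φ hneg _ n (n - 1 + ((0 : ℕ) : ℤ)) (isStrictlyGE_single M n) (by omega)
    infer_instance
  | k + 1, M => by
    obtain ⟨G, Q, ι, p, w, h, hG⟩ := hres n M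
    obtain ⟨w', h'⟩ := single_shortExact ι p w h n
    haveI := hG (n - 1 + k)
    haveI := hG (n - 1 + k + 1)
    rw [show n - 1 + ((k + 1 : ℕ) : ℤ) = n - 1 + k + 1 by omega]
    exact mono_κ₁ Φ h' (n - 1 + k) inferInstance (mono_single n k Q) inferInstance

include hneg hres in
theorem isIso_single (n : ℤ) : ∀ (k : ℕ) (M : J ⥤ A),
    IsIso (κ Φ (M ⋙ HomologicalComplex.single A (ComplexShape.up ℤ) n) (n - 1 + k))
  | 0, M => isIso_κ_of_lt Φ hneg _ n _ (isStrictlyGE_single M n) (by omega)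
  | k + 1, M => by
    obtain ⟨G, Q, ι, p, w, h, hG⟩ := hres n M
    obtain ⟨w', h'⟩ := single_shortExact ι p w h n
    haveI := hG (n - 1 + k)
    rw [show n - 1 + ((k + 1 : ℕ) : ℤ) = n - 1 + k + 1 by omega]
    refine isIso_κ₁ Φ h' (n - 1 + k) inferInstance (isIso_single n k Q) (hG _) ?_
    rw [show n - 1 + k + 1 = n - 1 + ((k + 1 : ℕ) : ℤ) by omega]
    exact mono_single Φ hneg hres n (k + 1) Q

include hneg hres in
theorem isIso_single' (n : ℤ) (M : J ⥤ A) (i : ℤ) :
    IsIso (κ Φ (M ⋙ HomologicalComplex.single A (ComplexShape.up ℤ) n) i) := by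
  by_cases hi : i < n
  · exact isIso_κ_of_lt Φ hneg _ n i (isStrictlyGE_single M n) hi
  · obtain ⟨k, rfl⟩ : ∃ k : ℕ, i = n - 1 + k := ⟨(i - n + 1).toNat, by omega⟩
    exact isIso_single Φ hneg hres n k M

/-- Peeling off the lowest term. -/
theorem exists_peel (D : J ⥤ CochainComplex A ℤ) (n : ℤ) (hD : ∀ j, CochainComplex.IsStrictlyGE (D.obj j) n) :
    ∃ (D' : J ⥤ CochainComplex A ℤ) (ι : D' ⟶ D)
      (π : D ⟶ (D ⋙ HomologicalComplex.eval A (ComplexShape.up ℤ) n) ⋙
        HomologicalComplex.single A (ComplexShape.up ℤ) n) (w : ι ≫ π = 0),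
      (∀ j, CochainComplex.IsStrictlyGE (D'.obj j) (n + 1)) ∧ (ShortComplex.mk ι π w).ShortExact := by
  have hz : ∀ j i, i < n → IsZero ((D.obj j).X i) := fun j i hi => by
    haveI := hD j
    exact CochainComplex.isZero_of_isStrictlyGE (D.obj j) n i hi
  let π : D ⟶ (D ⋙ HomologicalComplex.eval A (ComplexShape.up ℤ) n) ⋙
      HomologicalComplex.single A (ComplexShape.up ℤ) n :=
    { app := fun j => HomologicalComplex.mkHomToSingle (𝟙 _) fun i (hi : i + 1 = n) =>
        (hz j i (by omega)).eq_of_src _ _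
      naturality := fun j j' g => by
        apply HomologicalComplex.to_single_hom_ext
        simp [HomologicalComplex.single_map_f_self] }
  have hπn : ∀ j, IsIso ((π.app j).f n) := fun j => by
    rw [show (π.app j).f n = (HomologicalComplex.singleObjXSelf (ComplexShape.up ℤ) n _).inv by simp [π]; rfl]
    infer_instance
  haveI : ∀ j, Epi (π.app j) := fun j => by
    haveI : ∀ i, Epi ((π.app j).f i) := fun i => by
      rcases eq_or_ne i n with rfl | hi
      · haveI := hπn j
        infer_instance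
      · exact ⟨fun g h _ => (HomologicalComplex.isZero_single_obj_X _ _ _ _ hi).eq_of_src g h⟩
    exact HomologicalComplex.epi_of_epi_f _ inferInstance
  haveI : Epi π := NatTrans.epi_of_epi_app _
  let S := ShortComplex.mk (kernel.ι π) π (kernel.condition π)
  have hS : S.ShortExact := { exact := ShortComplex.exact_of_f_is_kernel _ (kernelIsKernel π) }
  refine ⟨kernel π, kernel.ι π, π, kernel.condition π, fun j => ?_, hS⟩
  refine (CochainComplex.isStrictlyGE_iff _ _).2 fun i hi => ?_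
  have hj := (eval_shortExact hS j).map_of_exact (HomologicalComplex.eval A (ComplexShape.up ℤ) i)
  haveI : Mono (((kernel.ι π).app j).f i) := hj.mono_f
  refine IsZero.of_mono_eq_zero (((kernel.ι π).app j).f i) ?_
  rcases eq_or_ne i n with rfl | hin
  · haveI := hπn j
    rw [← cancel_mono ((π.app j).f i), zero_comp]
    exact hj.exact |> fun _ => (by
      rw [← HomologicalComplex.comp_f, ← NatTrans.comp_app, kernel.condition]
      rfl)
  · exact (hz j i (by omega)).eq_of_tgt _ _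

include hneg hres in
theorem mono_complex : ∀ (k : ℕ) (n : ℤ) (D : J ⥤ CochainComplex A ℤ),
    (∀ j, CochainComplex.IsStrictlyGE (D.obj j) n) → Mono (κ Φ D (n - 1 + k))
  | 0, n, D, hD => by
    haveI := isIso_κ_of_lt Φ hneg D n (n - 1 + ((0 : ℕ) : ℤ)) hD (by omega)
    infer_instance
  | k + 1, n, D, hD => by
    obtain ⟨D', ι, π, w, hD', h⟩ := exists_peel D n hD
    haveI := isIso_single' Φ hneg hres n (D ⋙ HomologicalComplex.eval A _ n) (n - 1 + k)
    haveI := isIso_single' Φ hneg hres n (D ⋙ HomologicalComplex.eval A _ n) (n - 1 + k + 1)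
    have h' := mono_complex k (n + 1) D' hD'
    rw [show n + 1 - 1 + (k : ℤ) = n - 1 + k + 1 by omega] at h'
    rw [show n - 1 + ((k + 1 : ℕ) : ℤ) = n - 1 + k + 1 by omega]
    exact mono_κ₂ Φ h (n - 1 + k) inferInstance h' inferInstance

include hneg hres in
theorem isIso_complex : ∀ (k : ℕ) (n : ℤ) (D : J ⥤ CochainComplex A ℤ),
    (∀ j, CochainComplex.IsStrictlyGE (D.obj j) n) → IsIso (κ Φ D (n - 1 + k))
  | 0, n, D, hD => isIso_κ_of_lt Φ hneg D n _ hD (by omega)
  | k + 1, n, D, hD => by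
    obtain ⟨D', ι, π, w, hD', h⟩ := exists_peel D n hD
    haveI := isIso_single' Φ hneg hres n (D ⋙ HomologicalComplex.eval A _ n) (n - 1 + k)
    have h₁ := isIso_complex k (n + 1) D' hD'
    rw [show n + 1 - 1 + (k : ℤ) = n - 1 + k + 1 by omega] at h₁
    have h₄ := mono_complex Φ hneg hres (k + 1) (n + 1) D' hD'
    rw [show n + 1 - 1 + ((k + 1 : ℕ) : ℤ) = n - 1 + k + 1 + 1 by omega] at h₄
    rw [show n - 1 + ((k + 1 : ℕ) : ℤ) = n - 1 + k + 1 by omega]
    exact isIso_κ₂ Φ h (n - 1 + k) inferInstance h₁ (isIso_single' Φ hneg hres n _ _) h₄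

include hneg hres in
/-- The comparison map is invertible for systems of complexes uniformly bounded below. -/
theorem isIso_κ (D : J ⥤ CochainComplex A ℤ) (n i : ℤ) (hD : ∀ j, CochainComplex.IsStrictlyGE (D.obj j) n) :
    IsIso (κ Φ D i) := by
  by_cases hi : i < n
  · exact isIso_κ_of_lt Φ hneg D n i hD hi
  · obtain ⟨k, rfl⟩ : ∃ k : ℕ, i = n - 1 + k := ⟨(i - n + 1).toNat, by omega⟩
    exact isIso_complex Φ hneg hres k n D hD

end Induction

end Groth.Agent.KExact.Filtered
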