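import Groth.Agent.KExact.FilteredRpush
import Groth.Agent.KFlatLib.Scheme.RpushCoprodQCoh

/-!
# `Rf_*` commutes with filtered colimits of complexes with quasi-coherent cohomology
-/

set_option autoImplicit false
set_option linter.style.haveILetI false
set_option linter.unusedSectionVars false
set_option backward.isDefEq.respectTransparency false
set_option backward.isDefEq.respectTransparency.types false

universe u

open CategoryTheory CategoryTheory.Limits AlgebraicGeometry TopologicalSpace Opposite

attribute [local instance] HasDerivedCategory.standard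

namespace Groth.Agent.KExact.Filtered

open KFlatLib

variable {X Y : Scheme.{u}} {J : Type u} [SmallCategory J] [IsFiltered J]

/-- Colimits of complexes with quasi-coherent cohomology have quasi-coherent cohomology. -/
lemma isQCohD_Q_colimit (C : J ⥤ CochainComplex X.Modules ℤ)
    (hC : ∀ j, DCoh.IsQCohD (DerivedCategory.Q.obj (C.obj j))) :
    DCoh.IsQCohD (DerivedCategory.Q.obj (colimit C)) := by
  refine (isQCohD_Q_iff _).2 fun i => ?_
  haveI := FlatCxLib.preservesColimitsOfShape_complexHomology (C := X.Modules) (J := J)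
    (ComplexShape.up ℤ) i
  exact KFlatLib.isQCoh_of_iso
    (preservesColimitIso (HomologicalComplex.homologyFunctor X.Modules (ComplexShape.up ℤ) i) C).symm
    (QCoh.isQCoh_colimit _ fun j => (isQCohD_Q_iff _).1 (hC j) i)

variable (f : X ⟶ Y) [QuasiCompact f] [QuasiSeparated f] [DCoh.HasRpush f]

/-- `Rf_*` commutes with filtered colimits of complexes with quasi-coherent cohomology. -/
theorem preservesColimit_hd_rpush_qcoh (C : J ⥤ CochainComplex X.Modules ℤ)
    (hC : ∀ j, DCoh.IsQCohD (DCoh.toD X (C.obj j))) (k : ℤ) :
    PreservesColimit C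
      (DerivedCategory.Q ⋙ DCoh.Rpush f ⋙ DerivedCategory.homologyFunctor Y.Modules k) := by
  let G := DerivedCategory.Q ⋙ DCoh.Rpush f ⋙ DerivedCategory.homologyFunctor Y.Modules k
  haveI : IsIso (colimit.post C G) := isIso_of_isIso_restrict _ fun y => by
    obtain ⟨_, ⟨U, hU, rfl⟩, hyU, -⟩ :=
      Y.isBasis_affineOpens.exists_subset_of_mem_open (Set.mem_univ y) isOpen_univ
    refine ⟨U, hyU, ?_⟩
    obtain ⟨N₀, hN⟩ := exists_Rpush_bound_near f hU
    let N := k.natAbs + N₀ + 2
    let R := Scheme.Modules.restrictFunctor (Scheme.Opens.ι (X := Y) U)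
    haveI : R.IsLeftAdjoint := (Scheme.Modules.restrictAdjunction _).isLeftAdjoint
    let ce := ComplexShape.embeddingUpIntGE (-(N : ℤ))
    let C' := C ⋙ ce.truncGEFunctor X.Modules
    let φ : C ⟶ C' :=
      (Functor.rightUnitor C).inv ≫ Functor.whiskerLeft C (ce.πTruncGENatTrans X.Modules)
    have hge : ∀ j, CochainComplex.IsStrictlyGE (C'.obj j) (-(N : ℤ)) := fun j =>
      inferInstanceAs (CochainComplex.IsStrictlyGE (HomologicalComplex.truncGE (C.obj j) ce) (-(N : ℤ)))
    have hφ : ∀ (j : J) (i : ℤ), -(N : ℤ) ≤ i →
        IsIso (HomologicalComplex.homologyMap (φ.app j) i) := fun j i hi => by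
      change IsIso (HomologicalComplex.homologyMap (𝟙 _ ≫ HomologicalComplex.πTruncGE (C.obj j) ce) i)
      rw [Category.id_comp]
      exact (quasiIsoAt_iff_isIso_homologyMap _ i).1 (HomologicalComplex.quasiIsoAt_πTruncGE (C.obj j) ce
        (j := (i + N).toNat) (by change -(N : ℤ) + ((i + N).toNat : ℤ) = i; omega))
    have hH : ∀ {K L : CochainComplex X.Modules ℤ} (g : K ⟶ L) (i : ℤ),
        IsIso (HomologicalComplex.homologyMap g i) →
          IsIso ((DerivedCategory.homologyFunctor X.Modules i).map (DerivedCategory.Q.map g)) :=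
      fun g i hg => (NatIso.isIso_map_iff (DerivedCategory.homologyFunctorFactors X.Modules i) g).2 hg
    have hC' : ∀ j, DCoh.IsQCohD (DerivedCategory.Q.obj (C'.obj j)) := fun j i => by
      by_cases hi : -(N : ℤ) ≤ i
      · haveI := hH (φ.app j) i (hφ j i hi)
        exact KFlatLib.isQCoh_of_iso
          (asIso ((DerivedCategory.homologyFunctor X.Modules i).map (DerivedCategory.Q.map (φ.app j))))
          (hC j i)
      · haveI := hge j
        exact KFlatLib.isQCoh_of_isZero (DerivedCategory.isZero_of_isGE
          (DerivedCategory.Q.obj (C'.obj j)) (-(N : ℤ)) i (by omega))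
    haveI : PreservesColimit C' G := preservesColimit_hd_rpush f C' (-(N : ℤ)) (fun j => by
      haveI := hge j
      exact inferInstanceAs ((DerivedCategory.Q.obj (C'.obj j)).IsGE (-(N : ℤ)))) k
    haveI := isIso_post C' G
    haveI : IsIso (R.map (colimMap (Functor.whiskerRight φ G))) :=
      isIso_map_colimMap R (Functor.whiskerRight φ G) fun j =>
        isIso_restrict_rpush_of_isIso_h f (hC j) (hC' j) _ U N₀ hN k N le_rfl fun i hi =>
          hH _ i (hφ j i hi)
    haveI : IsIso (R.map (G.map (colimMap φ))) := by
      refine isIso_restrict_rpush_of_isIso_h f (isQCohD_Q_colimit C hC) (isQCohD_Q_colimit C' hC')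
        _ U N₀ hN k N le_rfl fun i hi => hH _ i ?_
      haveI := FlatCxLib.preservesColimitsOfShape_complexHomology (C := X.Modules) (J := J)
        (ComplexShape.up ℤ) i
      exact isIso_map_colimMap (HomologicalComplex.homologyFunctor X.Modules (ComplexShape.up ℤ) i) φ
        fun j => hφ j i hi
    have hsq : colimit.post C G ≫ G.map (colimMap φ) =
        colimMap (Functor.whiskerRight φ G) ≫ colimit.post C' G := by
      refine colimit.hom_ext fun j => ?_
      rw [colimit.ι_post_assoc, ← G.map_comp, ι_colimMap, ι_colimMap_assoc, colimit.ι_post, G.map_comp,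
        Functor.whiskerRight_app]
    haveI : IsIso (R.map (colimit.post C G) ≫ R.map (G.map (colimMap φ))) := by
      rw [← R.map_comp, hsq, R.map_comp]
      infer_instance
    exact IsIso.of_isIso_comp_right (R.map (colimit.post C G)) (R.map (G.map (colimMap φ)))
  exact preservesColimit_of_isIso_post G C

end Groth.Agent.KExact.Filtered
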