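import Groth.Agent.KExact.FilteredAbstract
import Groth.Agent.QcqsColim.Rpush
import Groth.Agent.QCoh.RpushGod
import Groth.Agent.QCoh.RpushAbGod
import Groth.Agent.KFlatLib.Scheme.AcyclicPush
import Groth.Agent.KFlatLib.Scheme.LpullLE
import Groth.Agent.KFlatLib.Scheme.RpushTriangle
import Groth.Agent.KFlatLib.Scheme.Exact
import Groth.Agent.KFlatLib.Scheme.Grothendieck
import Groth.Agent.FlatCxLib.HomologyColim
import Groth.Agent.H9Misc.RelExtTwistVanish

/-!
# `Rf_*` commutes with filtered colimits of uniformly bounded below complexes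
-/

set_option autoImplicit false
set_option linter.style.haveILetI false
set_option linter.unusedSectionVars false
set_option backward.isDefEq.respectTransparency false
set_option backward.isDefEq.respectTransparency.types false

universe v v' u u'

open CategoryTheory CategoryTheory.Limits AlgebraicGeometry TopologicalSpace Opposite

attribute [local instance] HasDerivedCategory.standard

namespace Groth.Agent.KExact.Filtered

open KFlatLib

section General

variable {C : Type u} [Category.{v} C] {D : Type u'} [Category.{v'} D] {J : Type*} [Category J]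

/-- Preservation passes along a transformation invertible on the diagram and on its colimit. -/
lemma preservesColimit_of_natTrans {L L' : C ⥤ D} (ψ : L ⟶ L') (F : J ⥤ C) [HasColimit F]
    [PreservesColimit F L] (h : ∀ j, IsIso (ψ.app (F.obj j))) (hc : IsIso (ψ.app (colimit F))) :
    PreservesColimit F L' := by
  refine preservesColimit_of_preserves_colimit_cocone (colimit.isColimit F) ?_
  refine IsColimit.equivOfNatIsoOfIso
    (NatIso.ofComponents (fun j => @asIso _ _ _ _ (ψ.app (F.obj j)) (h j)) fun g => ψ.naturality _) _ _ ?_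
    (isColimitOfPreserves L (colimit.isColimit F))
  refine Cocone.ext (@asIso _ _ _ _ (ψ.app (colimit F)) hc) fun j => ?_
  haveI := h j
  change (inv (ψ.app (F.obj j)) ≫ _) ≫ ψ.app (colimit F) = _
  rw [Category.assoc, IsIso.inv_comp_eq]
  exact ψ.naturality _

/-- A preserved colimit has invertible comparison map. -/
lemma isIso_post (F : J ⥤ C) (L : C ⥤ D) [HasColimit F] [HasColimit (F ⋙ L)] [PreservesColimit F L] :
    IsIso (colimit.post F L) := by
  have h : colimit.post F L = (preservesColimitIso L F).inv :=
    colimit.hom_ext fun j => by rw [colimit.ι_post, ι_preservesColimitIso_inv]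
  rw [h]
  infer_instance

/-- A preserving functor carries a colimit of inverted maps to an inverted map. -/
lemma isIso_map_colimMap [HasColimitsOfShape J C] [HasColimitsOfShape J D] (L : C ⥤ D)
    [PreservesColimitsOfShape J L] {F G : J ⥤ C} (φ : F ⟶ G) (h : ∀ j, IsIso (L.map (φ.app j))) :
    IsIso (L.map (colimMap φ)) := by
  haveI : ∀ j, IsIso ((Functor.whiskerRight φ L).app j) := h
  haveI := NatIso.isIso_of_isIso_app (Functor.whiskerRight φ L)
  haveI := isIso_post F L
  haveI := isIso_post G L
  haveI : IsIso (colimMap (Functor.whiskerRight φ L)) :=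
    inferInstanceAs (IsIso (colim.map (Functor.whiskerRight φ L)))
  have h' : colimit.post F L ≫ L.map (colimMap φ) = colimMap (Functor.whiskerRight φ L) ≫ colimit.post G L := by
    refine colimit.hom_ext fun j => ?_
    rw [colimit.ι_post_assoc, ← L.map_comp, ι_colimMap, ι_colimMap_assoc, colimit.ι_post, L.map_comp,
      Functor.whiskerRight_app]
  haveI : IsIso (colimit.post F L ≫ L.map (colimMap φ)) := by
    rw [h']
    infer_instance
  exact IsIso.of_isIso_comp_left (colimit.post F L) _

end General

variable {X Y : Scheme.{u}} {J : Type u} [SmallCategory J]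

section God

/-- The Godement module, functorially. -/
noncomputable def godFun : X.Modules ⥤ X.Modules where
  obj M := QCoh.God M
  map {M N} g := ⟨PresheafOfModules.homMk
    { app := fun U => AddCommGrpCat.ofHom (AddMonoidHom.mk'
        (fun s : Γ(QCoh.God M, U.unop) => (show Γ(QCoh.God N, U.unop) from
          (fun y => (DerSch.stalkFunctor X y.1).map g (QCoh.godVal s y.1 y.2) :
            ∀ y : U.unop, QCoh.stk N y.1)))
        fun s t => funext fun y => map_add ((DerSch.stalkFunctor X y.1).map g).hom _ _)
      naturality := fun U V i => AddCommGrpCat.ext fun s => funext fun y => rfl }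
    fun U (r : Γ(X, U.unop)) (s : Γ(QCoh.God M, U.unop)) => funext fun y => by
      refine (congrArg ((DerSch.stalkFunctor X y.1).map g) (QCoh.godVal_smul r s y.1 y.2)).trans ?_
      exact ((DerSch.stalkFunctor X y.1).map g).hom.map_smul _ _⟩
  map_id M := by
    refine Scheme.Modules.hom_ext _ _ fun U => ?_
    ext s
    funext y
    change (DerSch.stalkFunctor X y.1).map (𝟙 M) (QCoh.godVal s y.1 y.2) = QCoh.godVal s y.1 y.2
    rw [CategoryTheory.Functor.map_id]
    rfl
  map_comp {M N P} g h := by
    refine Scheme.Modules.hom_ext _ _ fun U => ?_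
    ext s
    funext y
    change (DerSch.stalkFunctor X y.1).map (g ≫ h) (QCoh.godVal s y.1 y.2) =
      (DerSch.stalkFunctor X y.1).map h ((DerSch.stalkFunctor X y.1).map g (QCoh.godVal s y.1 y.2))
    rw [Functor.map_comp]
    rfl

/-- The embedding into the Godement module, naturally. -/
noncomputable def toGodNat : 𝟭 X.Modules ⟶ godFun where
  app M := QCoh.toGod M
  naturality M N g := by
    refine Scheme.Modules.hom_ext _ _ fun U => ?_
    ext s
    funext y
    exact (DerSch.stalkFunctor_map_germ y.1 g U y.2 s).symm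

end God

variable [IsFiltered J] (f : X ⟶ Y) [QuasiCompact f] [QuasiSeparated f]

/-- Direct images commute with filtered colimits. -/
theorem preservesColimitsOfShape_pushforward :
    PreservesColimitsOfShape J (Scheme.Modules.pushforward f) := by
  haveI := QcqsColim.preservesColimitsOfShape_RpushAb f 0 J
  haveI := QCoh.preservesFiniteLimits_pushAb f
  haveI : PreservesColimitsOfShape J (Coh.pushAb f) :=
    preservesColimitsOfShape_of_natIso (Coh.pushAb f).rightDerivedZeroIsoSelf
  haveI : PreservesColimitsOfShape J (toAb X ⋙ Coh.pushAb f) := comp_preservesColimitsOfShape _ _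
  haveI : PreservesColimitsOfShape J (Scheme.Modules.pushforward f ⋙ toAb Y) :=
    preservesColimitsOfShape_of_natIso (NatIso.ofComponents (fun M => Iso.refl _) (fun g => rfl) :
      toAb X ⋙ Coh.pushAb f ≅ Scheme.Modules.pushforward f ⋙ toAb Y)
  haveI : (toAb Y).ReflectsIsomorphisms := inferInstance
  haveI : ReflectsColimitsOfShape J (toAb Y) := reflectsColimitsOfShape_of_reflectsIsomorphisms
  exact preservesColimitsOfShape_of_reflects_of_preserves (Scheme.Modules.pushforward f) (toAb Y)

variable [HasInjectiveResolutions X.Modules]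

/-- A filtered colimit of flasque modules is acyclic for `f_*`. -/
theorem isRightAcyclic_colimit_flasque (G : J ⥤ X.Modules) (hG : ∀ j, QCoh.IsFlasqueMod (G.obj j)) :
    TriCat.IsRightAcyclic (Scheme.Modules.pushforward f) (colimit G) := by
  intro k hk
  obtain ⟨q, rfl⟩ : ∃ q, k = q + 1 := ⟨k - 1, by omega⟩
  refine H9Misc.RelExtTwistVanish.isZero_Rpush_of_RpushAb f _ q ?_
  haveI := QcqsColim.preservesColimitsOfShape_RpushAb f (q + 1) J
  haveI : PreservesColimitsOfShape J (toAb X ⋙ Coh.RpushAb f (q + 1)) := comp_preservesColimitsOfShape _ _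
  refine (isZero_colimit (G ⋙ toAb X ⋙ Coh.RpushAb f (q + 1)) fun j => ?_).of_iso
    (preservesColimitIso (toAb X ⋙ Coh.RpushAb f (q + 1)) G)
  obtain ⟨e⟩ := QCoh.nonempty_RpushAb_iso f (G.obj j) q
  obtain ⟨e'⟩ := QCoh.nonempty_Rpush_iso f (G.obj j) q
  exact ((toAb Y).map_isZero ((QCoh.isZero_Rpush_of_flasque f _ (hG j) q).of_iso e'.symm)).of_iso e

variable [DCoh.HasRpush f]

/-- `Rf_*` commutes with filtered colimits of uniformly bounded below complexes, in each degree. -/
theorem preservesColimit_hd_rpush (C : J ⥤ CochainComplex X.Modules ℤ) (n : ℤ)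
    (hC : ∀ j, (DCoh.toD X (C.obj j)).IsGE n) (i : ℤ) :
    PreservesColimit C
      (DerivedCategory.Q ⋙ DCoh.Rpush f ⋙ DerivedCategory.homologyFunctor Y.Modules i) := by
  haveI := TriCat.qh_isLeftAdjoint_of_exists_resolution (A := X.Modules) exists_kInjective_res
  let adjQ := Adjunction.ofIsLeftAdjoint (DerivedCategory.Qh (C := X.Modules))
  let ρ := (DerivedCategory.Qh (C := X.Modules)).rightAdjoint
  let W := HomotopyCategory.quasiIso X.Modules (ComplexShape.up ℤ)
  haveI : (ρ ⋙ DCoh.pushKh f).IsRightDerivedFunctor
      (Functor.whiskerRight adjQ.unit (DCoh.pushKh f)) W :=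
    TriCat.isRightDerivedFunctor_of_adjunction adjQ W (DCoh.pushKh f)
  let e : ρ ⋙ DCoh.pushKh f ≅ DCoh.Rpush f :=
    Functor.rightDerivedUnique _ _ (Functor.whiskerRight adjQ.unit (DCoh.pushKh f))
      ((DCoh.pushKh f).totalRightDerivedUnit DerivedCategory.Qh W) W
  letI := adjQ.rightAdjointCommShift ℤ
  haveI := adjQ.commShift_of_leftAdjoint ℤ
  haveI : ρ.IsTriangulated := adjQ.isTriangulated_rightAdjoint
  let Φ := ρ ⋙ DCoh.pushKh f
  let H := fun i => DerivedCategory.homologyFunctor Y.Modules i
  let eH : ∀ i, Hn Φ i ≅ DerivedCategory.Q ⋙ DCoh.Rpush f ⋙ H i := fun i =>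
    Functor.isoWhiskerLeft DerivedCategory.Q (Functor.isoWhiskerRight e (H i))
  haveI : HasExactColimitsOfShape J X.Modules := inferInstance
  haveI : HasExactColimitsOfShape J Y.Modules := inferInstance
  have hneg : ∀ (K : CochainComplex X.Modules ℤ) (n i : ℤ), CochainComplex.IsStrictlyGE K n → i < n →
      IsZero ((Hn Φ i).obj K) := fun K n i hK hi => by
    haveI := hK
    haveI : (DerivedCategory.Q.obj K).IsGE n := inferInstance
    haveI := isGE_rpush f (DerivedCategory.Q.obj K) n
    exact (DerivedCategory.isZero_of_isGE ((DCoh.Rpush f).obj (DerivedCategory.Q.obj K)) n i hi).of_iso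
      ((eH i).app K)
  have hres : ∀ (n : ℤ) (M : J ⥤ X.Modules), ∃ (G Q : J ⥤ X.Modules) (ι : M ⟶ G) (p : G ⟶ Q)
      (w : ι ≫ p = 0), (ShortComplex.mk ι p w).ShortExact ∧
        ∀ i : ℤ, IsIso (κ Φ (G ⋙ HomologicalComplex.single X.Modules (ComplexShape.up ℤ) n) i) := by
    intro n M
    let ι : M ⟶ M ⋙ godFun := (Functor.rightUnitor M).inv ≫ Functor.whiskerLeft M toGodNat
    haveI : ∀ j, Mono (ι.app j) := fun j => by
      change Mono (𝟙 _ ≫ QCoh.toGod (M.obj j))
      infer_instance
    haveI : Mono ι := NatTrans.mono_of_mono_app _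
    refine ⟨M ⋙ godFun, cokernel ι, ι, cokernel.π ι, cokernel.condition ι,
      { exact := ShortComplex.exact_of_g_is_cokernel _ (cokernelIsCokernel ι) }, fun i => ?_⟩
    let G := M ⋙ godFun
    let sg := HomologicalComplex.single X.Modules (ComplexShape.up ℤ) n
    haveI : PreservesColimitsOfShape J sg := inferInstance
    haveI := preservesColimitsOfShape_pushforward (J := J) f
    let P := (Scheme.Modules.pushforward f).mapHomologicalComplex (ComplexShape.up ℤ)
    haveI : PreservesColimitsOfShape J P :=
      ⟨fun {K} => ⟨fun {c} hc => ⟨HomologicalComplex.isColimitOfEval _ _ fun m =>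
        isColimitOfPreserves (HomologicalComplex.eval X.Modules (ComplexShape.up ℤ) m ⋙
          Scheme.Modules.pushforward f) hc⟩⟩⟩
    haveI := FlatCxLib.preservesColimitsOfShape_complexHomology (C := Y.Modules) (J := J)
      (ComplexShape.up ℤ) i
    haveI : PreservesColimitsOfShape J (P ⋙ DerivedCategory.Q ⋙ H i) :=
      preservesColimitsOfShape_of_natIso
        (Functor.isoWhiskerLeft P (DerivedCategory.homologyFunctorFactors Y.Modules i).symm)
    let ψ : sg ⋙ P ⋙ DerivedCategory.Q ⋙ H i ⟶ sg ⋙ Hn Φ i :=
      Functor.whiskerLeft sg (Functor.whiskerRight (rpushUnit f) (H i) ≫ (eH i).inv)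
    have hψ : ∀ F : X.Modules, TriCat.IsRightAcyclic (Scheme.Modules.pushforward f) F → IsIso (ψ.app F) :=
      fun F hF => by
        haveI : CochainComplex.IsStrictlyGE (sg.obj F) n := (CochainComplex.isStrictlyGE_iff _ n).2
          fun k hk => HomologicalComplex.isZero_single_obj_X (ComplexShape.up ℤ) n _ k (by omega)
        haveI : IsIso ((rpushUnit f).app (sg.obj F)) := isIso_rpushUnit_of_isStrictlyGE f _ n fun k => by
          intro q hq
          rcases eq_or_ne k n with rfl | hk
          · exact (hF q hq).of_iso (((Scheme.Modules.pushforward f).rightDerived q).mapIso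
              (HomologicalComplex.singleObjXSelf (ComplexShape.up ℤ) k F))
          · exact ((Scheme.Modules.pushforward f).rightDerived q).map_isZero
              (HomologicalComplex.isZero_single_obj_X (ComplexShape.up ℤ) n _ k hk)
        change IsIso ((H i).map ((rpushUnit f).app (sg.obj F)) ≫ (eH i).inv.app (sg.obj F))
        infer_instance
    haveI : PreservesColimit G (sg ⋙ Hn Φ i) := preservesColimit_of_natTrans ψ G
      (fun j => hψ _ fun q hq => by
        obtain ⟨q, rfl⟩ : ∃ r, q = r + 1 := ⟨q - 1, by omega⟩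
        exact QCoh.isZero_Rpush_of_flasque f _ (QCoh.isFlasqueMod_God _) q)
      (hψ _ (isRightAcyclic_colimit_flasque f G fun j => QCoh.isFlasqueMod_God _))
    haveI : PreservesColimit (G ⋙ sg) (Hn Φ i) :=
      preservesColimit_of_preserves_colimit_cocone (isColimitOfPreserves sg (colimit.isColimit G))
        (isColimitOfPreserves (sg ⋙ Hn Φ i) (colimit.isColimit G))
    exact isIso_post _ _
  -- replace the complexes by their truncations
  let ce := ComplexShape.embeddingUpIntGE n
  let C' := C ⋙ ce.truncGEFunctor X.Modules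
  let φ : C ⟶ C' := (Functor.rightUnitor C).inv ≫ Functor.whiskerLeft C (ce.πTruncGENatTrans X.Modules)
  have hqis : ∀ j, QuasiIso (φ.app j) := fun j => by
    haveI : CochainComplex.IsGE (C.obj j) n := (CochainComplex.isGE_iff _ n).2 fun k hk =>
      (HomologicalComplex.exactAt_iff_isZero_homology _ _).2 ((haveI := hC j;
        DerivedCategory.isZero_of_isGE (DCoh.toD X (C.obj j)) n k hk).of_iso
          ((DerivedCategory.homologyFunctorFactors X.Modules k).app (C.obj j)).symm)
    change QuasiIso (𝟙 _ ≫ HomologicalComplex.πTruncGE (C.obj j) ce)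
    haveI : QuasiIso (HomologicalComplex.πTruncGE (C.obj j) ce) := inferInstanceAs (QuasiIso (CochainComplex.πTruncGE (C.obj j) n))
    infer_instance
  haveI := isIso_κ Φ hneg hres C' n i fun j =>
    inferInstanceAs (CochainComplex.IsStrictlyGE (HomologicalComplex.truncGE (C.obj j) ce) n)
  haveI : ∀ j, IsIso ((Functor.whiskerRight φ (Hn Φ i)).app j) := fun j => by
    haveI := hqis j
    haveI : IsIso (DerivedCategory.Q.map (φ.app j)) := (DerivedCategory.isIso_Q_map_iff_quasiIso _ _).2 (hqis j)
    change IsIso ((H i).map (Φ.map (DerivedCategory.Q.map (φ.app j))))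
    infer_instance
  haveI := NatIso.isIso_of_isIso_app (Functor.whiskerRight φ (Hn Φ i))
  haveI : IsIso (colimMap (Functor.whiskerRight φ (Hn Φ i))) :=
    inferInstanceAs (IsIso (colim.map (Functor.whiskerRight φ (Hn Φ i))))
  haveI : QuasiIso (colimMap φ) := ⟨fun k => by
    haveI := FlatCxLib.preservesColimitsOfShape_complexHomology (C := X.Modules) (J := J)
      (ComplexShape.up ℤ) k
    rw [quasiIsoAt_iff_isIso_homologyMap]
    exact isIso_map_colimMap (HomologicalComplex.homologyFunctor X.Modules (ComplexShape.up ℤ) k) φ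
      fun j => by
        haveI := hqis j
        exact (quasiIsoAt_iff_isIso_homologyMap (φ.app j) k).1 inferInstance⟩
  haveI : IsIso (DerivedCategory.Q.map (colimMap φ)) :=
    (DerivedCategory.isIso_Q_map_iff_quasiIso _ _).2 inferInstance
  haveI : IsIso ((Hn Φ i).map (colimMap φ)) := by
    change IsIso ((H i).map (Φ.map (DerivedCategory.Q.map (colimMap φ))))
    infer_instance
  haveI : IsIso (κ Φ C i ≫ (Hn Φ i).map (colimMap φ)) := by
    rw [← κ_naturality]
    infer_instance
  haveI : IsIso (κ Φ C i) := IsIso.of_isIso_comp_right _ ((Hn Φ i).map (colimMap φ))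
  haveI : PreservesColimit C (Hn Φ i) := preservesColimit_of_isIso_post (Hn Φ i) C
  exact preservesColimit_of_natIso C (eH i)

end Groth.Agent.KExact.Filtered
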