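import Groth.Agent.KExact.Psi
import Groth.Agent.KExact.Opcycles
import Groth.Agent.KFlatLib.Perfect.Spread
import Groth.Agent.KFlatLib.Perfect.LocFree
import Groth.Agent.KFlatLib.Scheme.QCohD
import Groth.Agent.QCoh.Qcqs
import Groth.Agent.QCoh.LocFree
import Mathlib.RingTheory.Flat.Basic
import Mathlib.AlgebraicGeometry.Morphisms.QuasiSeparated

/-!
# Left exactness of `G ↦ H^p(R ⊗ G)` forces flat opcycles
-/

set_option autoImplicit false
set_option linter.style.haveILetI false
set_option backward.isDefEq.respectTransparency false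
set_option backward.isDefEq.respectTransparency.types false

universe u

open CategoryTheory CategoryTheory.Limits AlgebraicGeometry TopologicalSpace

attribute [local instance] HasDerivedCategory.standard

namespace Groth.Agent.KExact

open KFlatLib

variable {X : Scheme.{u}}

/-- Tensoring with a flat module preserves monomorphisms. -/
lemma mono_tensor_of_isFlat {M : X.Modules} (hM : FlatMod.IsFlat M) {G G' : X.Modules} (g : G ⟶ G')
    [Mono g] : Mono ((DCoh.tensorBi.obj M).map g) := by
  let S := ShortComplex.mk g (cokernel.π g) (cokernel.condition g)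
  have hS : S.ShortExact :=
    { exact := ShortComplex.exact_of_g_is_cokernel _ (cokernelIsCokernel g) }
  have hM' := ShortComplex.shortExact_of_iso (S.mapNatIso ((tensorBiFlipIso X).app M))
    (flatObj_of_isFlat hM S hS)
  exact hM'.mono_f

/-- The stalk of the structure sheaf. -/
noncomputable def stalkOEquiv (x : X) :
    ((DerSch.stalkFunctor X x).obj (Coh.structureModule X) : Type u) ≃ₗ[X.presheaf.stalk x]
      X.presheaf.stalk x :=
  ((stalkToPIso x).app _).toLinearEquiv.trans (stalkUnitEquiv x).symm

/-- Finitely generated ideals of stalks are stalks of injections of modules. -/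
theorem exists_test_mono (x : X) {n : ℕ} (v : Fin n → X.presheaf.stalk x) :
    ∃ (G G' : X.Modules) (g : G ⟶ G'), Mono g ∧
      (QuasiSeparatedSpace X → Coh.IsQCoh G ∧ Coh.IsQCoh G') ∧
      ∃ e : ((DerSch.stalkFunctor X x).obj G' : Type u) ≃ₗ[X.presheaf.stalk x] X.presheaf.stalk x,
        LinearMap.range (e.toLinearMap ∘ₗ ((DerSch.stalkFunctor X x).map g).hom) =
          Submodule.span _ (Set.range v) := by
  obtain ⟨U, hxU, hU⟩ := exists_of_germs (Coh.structureModule X) x fun i => (stalkOEquiv x).symm (v i)
  obtain ⟨_, ⟨(W : X.Opens), hW, rfl⟩, hx, (hle : W ≤ U)⟩ :=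
    X.isBasis_affineOpens.exists_subset_of_mem_open hxU U.2
  obtain ⟨g, hg⟩ := hU W hx hle
  let G' := (Scheme.Modules.pushforward W.ι).obj ((Coh.structureModule X).restrict W.ι)
  let a : FlatMod.freeMod X n ⟶ G' :=
    unitW W _ ≫ (Scheme.Modules.pushforward W.ι).map g
  haveI := isIso_stalk_unitW hx (Coh.structureModule X)
  let eu : ((DerSch.stalkFunctor X x).obj G' : Type u) ≃ₗ[X.presheaf.stalk x] X.presheaf.stalk x :=
    (asIso ((DerSch.stalkFunctor X x).map (unitW W (Coh.structureModule X)))).symm.toLinearEquiv.trans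
      (stalkOEquiv x)
  refine ⟨Abelian.image a, G', Abelian.image.ι a, inferInstance, fun hqs => ?_, eu, ?_⟩
  · haveI := hqs
    haveI : IsAffine (W : Scheme.{u}) := hW
    have hG' : Coh.IsQCoh G' :=
      QCoh.isQCoh_pushforward W.ι (QCoh.isQCoh_restrict W.ι QCoh.isQCoh_structureModule)
    exact ⟨QCoh.isQCoh_kernel hG' (QCoh.isQCoh_cokernel
      (QCoh.isQCoh_of_isFinLocFree (isFinLocFree_freeMod n)) hG' a) _, hG'⟩
  · let b : (DerSch.stalkFunctor X x).obj (FlatMod.freeMod X n) ⟶ ModuleCat.of _ (X.presheaf.stalk x) :=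
      (DerSch.stalkFunctor X x).map a ≫ ModuleCat.ofHom eu.toLinearMap
    have hb : ∀ i, b (eGerm x i) = v i := fun i => by
      have hs : (DerSch.stalkFunctor X x).map a (eGerm x i) =
          (DerSch.stalkFunctor X x).map (unitW W (Coh.structureModule X)) ((stalkOEquiv x).symm (v i)) := by
        rw [← hg i, ← CategoryTheory.comp_apply, stalkAt_spec]
      refine (congrArg eu hs).trans ?_
      refine (congrArg (stalkOEquiv x) ((asIso ((DerSch.stalkFunctor X x).map
        (unitW W (Coh.structureModule X)))).toLinearEquiv.symm_apply_apply _)).trans ?_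
      exact (stalkOEquiv x).apply_symm_apply (v i)
    have hle' : LinearMap.range b.hom = Submodule.span _ (Set.range v) := by
      refine le_antisymm ?_ (Submodule.span_le.2 ?_)
      · let S := Submodule.span (X.presheaf.stalk x) (Set.range v)
        have hz : b ≫ ModuleCat.ofHom S.mkQ = 0 := free_stalk_ext fun i => by
          change S.mkQ (b (eGerm x i)) = 0
          rw [hb, Submodule.mkQ_apply, Submodule.Quotient.mk_eq_zero]
          exact Submodule.subset_span ⟨i, rfl⟩
        rintro _ ⟨m, rfl⟩
        exact (Submodule.Quotient.mk_eq_zero S).1 (ConcreteCategory.congr_hom hz m)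
      · rintro _ ⟨i, rfl⟩
        exact ⟨_, hb i⟩
    rw [← hle']
    have hsurj : Function.Surjective ((DerSch.stalkFunctor X x).map (Abelian.factorThruImage a)) :=
      (ModuleCat.epi_iff_surjective _).1 inferInstance
    have hb' : b.hom = (eu.toLinearMap ∘ₗ ((DerSch.stalkFunctor X x).map (Abelian.image.ι a)).hom) ∘ₗ
        ((DerSch.stalkFunctor X x).map (Abelian.factorThruImage a)).hom := by
      have := (DerSch.stalkFunctor X x).map_comp (Abelian.factorThruImage a) (Abelian.image.ι a)
      rw [Abelian.image.fac] at this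
      change eu.toLinearMap ∘ₗ ((DerSch.stalkFunctor X x).map a).hom = _
      rw [this]
      rfl
    rw [hb', LinearMap.range_comp_of_range_eq_top _ (LinearMap.range_eq_top.2 hsurj)]

/-- If `G ↦ H^p(R ⊗ G)` preserves injections of test modules, the opcycles in degree `p` are flat. -/
theorem isFlat_opcycles_of_mono (R : CochainComplex X.Modules ℤ) (p : ℤ)
    (hR : FlatMod.IsFlat (R.X (p + 1)))
    (h : ∀ (G G' : X.Modules) (g : G ⟶ G'), Mono g →
      (QuasiSeparatedSpace X → Coh.IsQCoh G ∧ Coh.IsQCoh G') → Mono ((psi R p).map g)) :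
    FlatMod.IsFlat (R.opcycles p) := fun x => by
  change Module.Flat (X.presheaf.stalk x) ((DerSch.stalkFunctor X x).obj (R.opcycles p) : Type u)
  rw [Module.Flat.iff_lTensor_injective]
  intro I hI
  obtain ⟨n, v, hv⟩ := Submodule.fg_iff_exists_fin_generating_family.1 hI
  obtain ⟨G, G', g, hg, hq, e, hrange⟩ := exists_test_mono x v
  haveI := hg
  have hm := h G G' g hg hq
  let τ := (DCoh.tensorBi (X := X)).flip.map g
  haveI : Mono (τ.app (R.X (p + 1))) := mono_tensor_of_isFlat hR g
  have hC : Mono ((DCoh.tensorBi.obj (R.opcycles p)).map g) :=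
    (mono_homologyMap_iff τ R p).1 hm
  haveI : Mono ((DCoh.tensorBi.obj (R.opcycles p) ⋙ DerSch.stalkFunctor X x).map g) :=
    inferInstanceAs (Mono ((DerSch.stalkFunctor X x).map _))
  have hs : Mono ((DerSch.stalkFunctor X x ⋙ MonoidalCategory.tensorLeft
      ((DerSch.stalkFunctor X x).obj (R.opcycles p))).map g) :=
    ((MorphismProperty.monomorphisms _).arrow_mk_iso_iff
      (((Functor.mapArrowFunctor _ _).mapIso (stalkTensorLeftIso (R.opcycles p) x)).app (Arrow.mk g))).1
      (by assumption)
  let l : ((DerSch.stalkFunctor X x).obj G : Type u) →ₗ[X.presheaf.stalk x] X.presheaf.stalk x :=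
    e.toLinearMap ∘ₗ ((DerSch.stalkFunctor X x).map g).hom
  have hl : Function.Injective l :=
    e.injective.comp ((ModuleCat.mono_iff_injective _).1 inferInstance)
  have hl' : Function.Injective (LinearMap.lTensor
      ((DerSch.stalkFunctor X x).obj (R.opcycles p) : Type u) l) := by
    rw [LinearMap.lTensor_comp]
    exact (e.lTensor _).injective.comp ((ModuleCat.mono_iff_injective _).1 hs)
  have hI' : LinearMap.range l = I := hrange.trans hv
  let q : I ≃ₗ[X.presheaf.stalk x] ((DerSch.stalkFunctor X x).obj G : Type u) :=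
    (LinearEquiv.ofEq _ _ hI'.symm).trans (LinearEquiv.ofInjective l hl).symm
  have hq' : I.subtype = l ∘ₗ q.toLinearMap := LinearMap.ext fun i => by
    have := congrArg Subtype.val ((LinearEquiv.ofInjective l hl).apply_symm_apply
      (LinearEquiv.ofEq _ _ hI'.symm i))
    exact this.symm
  rw [hq', LinearMap.lTensor_comp]
  exact hl'.comp (q.lTensor _).injective

end Groth.Agent.KExact
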