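import Groth.Agent.CAlgOdd.PCResolve
import Groth.Agent.KFlatLib.Scheme.AffineLift
import Groth.Agent.KFlatLib.Scheme.KoszulPunctured
import Groth.Agent.KFlatLib.Scheme.RpushUnbounded
import Groth.Agent.KFlatLib.Scheme.RpushFF
import Groth.Agent.KFlatLib.Scheme.CohD
import Groth.Agent.KFlatLib.Scheme.ProperFlatPC
import Groth.Agent.QCoh.LocFree
import Groth.Prelude.Def_CxOX
import Groth.Agent.KFlatLib.Scheme.LocFinite

/-!
# Pseudo-coherent objects of quasi-compact opens of affine schemes extend to complexes of free modules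
-/

set_option linter.style.haveILetI false
set_option backward.isDefEq.respectTransparency false

universe u

open CategoryTheory CategoryTheory.Limits CochainComplex CochainComplex.HomComplex AlgebraicGeometry
open scoped ZeroObject TensorProduct

attribute [local instance] HasDerivedCategory.standard

namespace Groth.Agent.KExact.FreeExtend

open CAlgOdd.PCResolve

variable {A : Type u} [CommRing A]

/-- Cycles in degree `i` are boundaries up to powers of the `f`'s. -/
def Tors (fs : List A) (C : CochainComplex (ModuleCat.{u} A) ℤ) (i : ℤ) : Prop :=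
  ∀ x : C.X i, C.d i (i + 1) x = 0 → ∀ f ∈ fs, ∃ (k : ℕ) (y : C.X (i - 1)), C.d (i - 1) i y = f ^ k • x

lemma Tors.of_iso {fs : List A} {C C' : CochainComplex (ModuleCat.{u} A) ℤ} (e : C ≅ C') {i : ℤ}
    (h : Tors fs C i) : Tors fs C' i := fun x hx f hf => by
  obtain ⟨k, y, hy⟩ := h (e.inv.f i x) (by
    rw [← ConcreteCategory.comp_apply, e.inv.comm, ConcreteCategory.comp_apply, hx, map_zero]) f hf
  refine ⟨k, e.hom.f _ y, ?_⟩
  rw [← ConcreteCategory.comp_apply, e.hom.comm, ConcreteCategory.comp_apply, hy, map_smul,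
    ← ConcreteCategory.comp_apply, ← HomologicalComplex.comp_f, e.inv_hom_id]
  rfl

/-- `Tors` is torsion of homology. -/
lemma tors_iff (fs : List A) (C : CochainComplex (ModuleCat.{u} A) ℤ) (i : ℤ) :
    Tors fs C i ↔ ∀ z : C.homology i, ∀ f ∈ fs, ∃ k : ℕ, f ^ k • z = 0 := by
  let S := C.sc' (i - 1) i (i + 1)
  let e : C.homology i ≅ S.moduleCatLeftHomologyData.H :=
    C.homologyIsoSc' (i - 1) i (i + 1) (by simp) (by simp) ≪≫ S.moduleCatHomologyIso
  constructor
  · intro h z f hf
    obtain ⟨w, hw⟩ := Submodule.mkQ_surjective _ (e.toLinearEquiv z : S.g.hom.ker ⧸ S.moduleCatToCycles.range)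
    obtain ⟨k, y, hy⟩ := h w.1 w.2 f hf
    refine ⟨k, e.toLinearEquiv.injective ?_⟩
    rw [map_smul, map_zero]
    have h2 : f ^ k • (Submodule.Quotient.mk w : S.g.hom.ker ⧸ S.moduleCatToCycles.range) = 0 := by
      rw [← Submodule.Quotient.mk_smul, Submodule.Quotient.mk_eq_zero]
      exact ⟨y, Subtype.ext hy⟩
    exact (congrArg (f ^ k • ·) hw.symm).trans h2
  · intro h x hx f hf
    let w : S.g.hom.ker := ⟨x, hx⟩
    obtain ⟨k, hk⟩ := h (e.toLinearEquiv.symm (Submodule.Quotient.mk (p := S.moduleCatToCycles.range) w)) f hf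
    have h1 : (Submodule.Quotient.mk (p := S.moduleCatToCycles.range) (f ^ k • w)) = 0 := by
      have := congrArg e.toLinearEquiv hk
      rw [map_smul, LinearEquiv.apply_symm_apply, map_zero] at this
      rw [Submodule.Quotient.mk_smul]
      exact this
    obtain ⟨y, hy⟩ := (Submodule.Quotient.mk_eq_zero _).1 h1
    exact ⟨k, y, congrArg Subtype.val hy⟩

variable {F : CochainComplex (ModuleCat.{u} A) ℤ} (fs : List A)

variable (F) in
/-- A stage of the construction. -/
structure Stage (b n : ℤ) where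
  E : CochainComplex (ModuleCat.{u} A) ℤ
  α : E ⟶ F
  free : ∀ i, Module.Finite A (E.X i) ∧ Module.Free A (E.X i)
  below : ∀ i, i < n → IsZero (E.X i)
  above : ∀ i, b < i → IsZero (E.X i)
  tors : ∀ i, n ≤ i → Tors fs (mappingCone α) i

/-- Finitely many cycles generating homology up to powers of the `f`'s. -/
def Gen (C : CochainComplex (ModuleCat.{u} A) ℤ) (h i j : ℤ) : Prop :=
  ∃ (k : ℕ) (φ : ModuleCat.of A (Fin k → A) ⟶ C.X i), φ ≫ C.d i j = 0 ∧
    ∀ x : C.X i, C.d i j x = 0 → ∀ f ∈ fs, ∃ (m : ℕ) (c : Fin k → A) (y : C.X h),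
      f ^ m • x = φ c + C.d h i y

variable {fs}

theorem exists_next {b n n' : ℤ} (hn' : n' + 1 = n) (hn : n ≤ b + 1) (s : Stage F fs b n)
    (hgen : Gen fs (mappingCone s.α) (n' - 1) n' n) :
    ∃ (s' : Stage F fs b n') (ι : s.E ⟶ s'.E), ι ≫ s'.α = s.α ∧ ∀ i, n ≤ i → IsIso (ι.f i) := by
  obtain ⟨n'', hn'', rfl⟩ : ∃ n'' : ℤ, n'' + 1 = n' ∧ n'' = n' - 1 := ⟨n' - 1, by omega, rfl⟩
  obtain ⟨k, φ, hφd, hφ⟩ := hgen
  let N := ModuleCat.of A (Fin k → A)
  let S := (HomologicalComplex.single (ModuleCat.{u} A) (ComplexShape.up ℤ) n).obj N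
  let σ := HomologicalComplex.singleObjXSelf (ComplexShape.up ℤ) n N
  let g : S ⟶ s.E := HomologicalComplex.mkHomFromSingle (-(φ ≫ (mappingCone.fst s.α).1.v n' n hn')) (by
    intro j hj
    obtain rfl : n + 1 = j := hj
    have := φ ≫= mappingCone.d_fst_v s.α n' n (n + 1) hn' rfl
    rw [← Category.assoc, hφd, zero_comp] at this
    simp only [Category.assoc, Preadditive.neg_comp, Preadditive.comp_neg] at this ⊢
    exact this.symm)
  have hgn : g.f n = σ.hom ≫ (-(φ ≫ (mappingCone.fst s.α).1.v n' n hn')) :=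
    HomologicalComplex.mkHomFromSingle_f _ _
  let f : S.X n ⟶ F.X n' := σ.hom ≫ φ ≫ (mappingCone.snd s.α).v n' n' (add_zero n')
  let β : Cochain S F (-1) := Cochain.single f (-1)
  have heq : δ (-1) 0 β = Cochain.ofHom (g ≫ s.α) := by
    have h2 := φ ≫= mappingCone.d_snd_v s.α n' n hn'
    rw [← Category.assoc, hφd, zero_comp, Preadditive.comp_add] at h2
    rw [Cochain.δ_single f (-1) 0 (by omega) (n' - 1 + 1) n (by omega) hn']
    refine Cochain.ext₀ _ _ fun p => ?_
    rcases eq_or_ne p n with hp | hp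
    · subst hp
      rw [Cochain.add_v, Cochain.units_smul_v, Cochain.single_v,
        Cochain.single_v_eq_zero _ _ p p (add_zero p) (by omega), smul_zero, add_zero, Cochain.ofHom_v,
        HomologicalComplex.comp_f, hgn]
      simp only [f, Category.assoc, Preadditive.neg_comp]
      exact congrArg (σ.hom ≫ ·) (eq_neg_of_add_eq_zero_right h2.symm)
    · exact (HomologicalComplex.isZero_single_obj_X (ComplexShape.up ℤ) n N p hp).eq_of_src _ _
  let α' := mappingCone.desc g β s.α heq
  let ι := mappingCone.inr g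
  have hfac : ι ≫ α' = s.α := mappingCone.inr_desc ..
  have hiso : ∀ i, n ≤ i → IsIso (ι.f i) := fun i hi => isIso_inr_f g i
    (HomologicalComplex.isZero_single_obj_X (ComplexShape.up ℤ) n N (i + 1) (by omega))
  have e : ∀ i, (mappingCone g).X i ≅ ModuleCat.of A (S.X (i + 1) × s.E.X i) := fun i =>
    HomologicalComplex.homotopyCofiber.XIsoBiprod g i (i + 1) rfl ≪≫ ModuleCat.biprodIsoProd _ _
  have hzero : ∀ i, IsZero (S.X (i + 1)) → IsZero (s.E.X i) → IsZero ((mappingCone g).X i) :=
    fun i h1 h2 => by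
      haveI := ModuleCat.subsingleton_of_isZero h1
      haveI := ModuleCat.subsingleton_of_isZero h2
      exact (ModuleCat.isZero_of_subsingleton _).of_iso (e i)
  have hfree : ∀ i, Module.Finite A ((mappingCone g).X i) ∧ Module.Free A ((mappingCone g).X i) := fun i => by
    have h1 : Module.Finite A (S.X (i + 1)) ∧ Module.Free A (S.X (i + 1)) := by
      rcases eq_or_ne (i + 1) n with h | h
      · subst h
        exact KFlatLib.finite_free_of_iso (R := CommRingCat.of A) σ.symm ⟨inferInstance, inferInstance⟩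
      · exact KFlatLib.finite_free_of_isZero (R := CommRingCat.of A)
          (HomologicalComplex.isZero_single_obj_X (ComplexShape.up ℤ) n N (i + 1) h)
    haveI := h1.1
    haveI := h1.2
    haveI := (s.free i).1
    haveI := (s.free i).2
    exact KFlatLib.finite_free_of_iso (R := CommRingCat.of A) (e i).symm ⟨inferInstance, inferInstance⟩
  let θ : mappingCone s.α ⟶ mappingCone α' := mappingCone.map s.α α' ι (𝟙 F) (by rw [hfac, Category.comp_id])
  have hθf : ∀ p q (h : p + 1 = q), θ.f p = (mappingCone.fst s.α).1.v p q h ≫ ι.f q ≫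
      (mappingCone.inl α').v q p (by omega) +
      (mappingCone.snd s.α).v p p (add_zero p) ≫ (mappingCone.inr α').f p := fun p q h => by
    simp [θ, mappingCone.map, mappingCone.desc_f _ _ _ _ p q h]
  have hθ : ∀ i, n' ≤ i → IsIso (θ.f i) := fun i hi => by
    haveI := hiso (i + 1) (by omega)
    refine ⟨(mappingCone.fst α').1.v i (i + 1) rfl ≫ inv (ι.f (i + 1)) ≫
      (mappingCone.inl s.α).v (i + 1) i (by omega) +
      (mappingCone.snd α').v i i (add_zero i) ≫ (mappingCone.inr s.α).f i, ?_, ?_⟩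
    · rw [hθf i (i + 1) rfl, ← mappingCone.id_X s.α i (i + 1) rfl]; simp
    · rw [hθf i (i + 1) rfl, ← mappingCone.id_X α' i (i + 1) rfl]; simp
  have hkill : ∀ c, ∃ y, (mappingCone α').d (n' - 1) n' y = θ.f n' (φ c) := by
    have h3 : (σ.inv ≫ (mappingCone.inl g).v n n' (by omega) ≫
        (mappingCone.inl α').v n' (n' - 1) (by omega)) ≫
        (mappingCone α').d (n' - 1) n' = φ ≫ θ.f n' := by
      have hd : S.d n (n + 1) = 0 :=
        (HomologicalComplex.isZero_single_obj_X (ComplexShape.up ℤ) n N (n + 1) (by omega)).eq_of_tgt _ _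
      rw [hθf n' n hn', Category.assoc, Category.assoc,
        mappingCone.inl_v_d α' n' (n' - 1) n (by omega) (by omega),
        Preadditive.comp_sub, mappingCone.inl_v_desc_f_assoc,
        mappingCone.inl_v_d_assoc g n n' (n + 1) (by omega) (by omega)]
      simp [β, f, hgn, hd, Preadditive.comp_add]
      abel
    exact fun c => ⟨_, ConcreteCategory.congr_hom h3 c⟩
  refine ⟨⟨mappingCone g, α', hfree, fun i hi => hzero i
      (HomologicalComplex.isZero_single_obj_X (ComplexShape.up ℤ) n N (i + 1) (by omega)) (s.below i (by omega)),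
    fun i hi => hzero i
      (HomologicalComplex.isZero_single_obj_X (ComplexShape.up ℤ) n N (i + 1) (by omega)) (s.above i hi),
    fun i hi x hx a ha => ?_⟩, ι, hfac, hiso⟩
  haveI := hθ i hi
  haveI := hθ (i + 1) (by omega)
  obtain ⟨x, rfl⟩ := ((ConcreteCategory.isIso_iff_bijective (θ.f i)).1 inferInstance).2 x
  have hx0 : (mappingCone s.α).d i (i + 1) x = 0 := by
    apply ((ConcreteCategory.isIso_iff_bijective (θ.f (i + 1))).1 inferInstance).1
    rw [map_zero, ← ConcreteCategory.comp_apply, ← θ.comm, ConcreteCategory.comp_apply, hx]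
  have hnat : ∀ p q y, (mappingCone α').d p q (θ.f p y) = θ.f q ((mappingCone s.α).d p q y) := fun p q y => by
    rw [← ConcreteCategory.comp_apply, θ.comm, ConcreteCategory.comp_apply]
  rcases eq_or_lt_of_le hi with h | h
  · subst h
    obtain rfl : n = n' + 1 := hn'.symm
    obtain ⟨m, c, y, hy⟩ := hφ x hx0 a ha
    obtain ⟨z, hz⟩ := hkill c
    exact ⟨m, z + θ.f _ y, by rw [map_add, hz, hnat, ← map_add, ← hy, map_smul]⟩
  · obtain ⟨m, y, hy⟩ := s.tors i (by omega) x hx0 a ha
    exact ⟨m, θ.f _ y, by rw [hnat, hy, map_smul]⟩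

section Geometry

open KFlatLib

variable (A)

/-- The ring map to a localization away from an element. -/
noncomputable abbrev awayMap (a : A) : CommRingCat.of A ⟶ CommRingCat.of (Localization.Away a) :=
  CommRingCat.ofHom (algebraMap A (Localization.Away a))

/-- The open immersion of a basic open. -/
noncomputable abbrev awaySpec (a : A) : Spec (CommRingCat.of (Localization.Away a)) ⟶ Spec (CommRingCat.of A) :=
  Spec.map (awayMap A a)

variable {A}

instance (a : A) : IsOpenImmersion (awaySpec A a) := IsOpenImmersion.of_isLocalization a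

lemma range_awaySpec (a : A) : Set.range (awaySpec A a).base = (PrimeSpectrum.basicOpen a : Set (PrimeSpectrum A)) :=
  PrimeSpectrum.localization_away_comap_range (Localization.Away a) a

/-- Base change of a module to a localization. -/
noncomputable abbrev loc (a : A) (M : ModuleCat.{u} A) : ModuleCat.{u} (Localization.Away a) :=
  (ModuleCat.extendScalars.{u, u, u} (awayMap A a).hom).obj M

/-- Cohomology over a basic open. -/
theorem nonempty_hd_away [PreservesFiniteLimits (tilde.functor (CommRingCat.of A))]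
    (a : A) (C : CochainComplex (ModuleCat.{u} A) ℤ) (i : ℤ) :
    Nonempty (DCoh.HD ((rho (awaySpec A a)).obj (KoszulOrth.tld (DerivedCategory.Q.obj C))) i ≅
      tilde (R := CommRingCat.of (Localization.Away a)) (loc a (C.homology i))) := by
  obtain ⟨e⟩ := KoszulOrth.nonempty_hd_tld (DerivedCategory.Q.obj C) i
  exact ⟨restrictHDIso (awaySpec A a) (KoszulOrth.tld (DerivedCategory.Q.obj C)) i ≪≫ (Scheme.Modules.restrictFunctor (awaySpec A a)).mapIso
      (e ≪≫ (tilde.functor (CommRingCat.of A)).mapIso ((DerivedCategory.homologyFunctorFactors _ i).app C)) ≪≫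
    (Scheme.Modules.restrictFunctorIsoPullback (awaySpec A a)).app _ ≪≫
    (QCoh.tildePullbackIso (awayMap A a)).app (C.homology i)⟩

lemma subsingleton_loc_of_torsion (a : A) (M : ModuleCat.{u} A) (h : ∀ z : M, ∃ k : ℕ, a ^ k • z = 0) :
    Subsingleton (loc a M) := by
  let R₀ := (ModuleCat.restrictScalars (algebraMap A (Localization.Away a))).obj
    (ModuleCat.of (Localization.Away a) (Localization.Away a))
  let e : R₀ ≃ₗ[A] Localization.Away a :=
    { toFun := fun x => x
      invFun := fun x => x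
      map_add' := fun _ _ => rfl
      map_smul' := fun r x => (Algebra.smul_def r (show Localization.Away a from x)).symm
      left_inv := fun _ => rfl
      right_inv := fun _ => rfl }
  have hB : Subsingleton (Localization.Away a ⊗[A] M) := subsingleton_of_forall_eq 0 fun t => by
    induction t using TensorProduct.induction_on with
    | zero => rfl
    | tmul b z =>
      obtain ⟨k, hk⟩ := h z
      obtain ⟨u, hu⟩ := (IsLocalization.map_units (Localization.Away a) (⟨a ^ k, k, rfl⟩ : Submonoid.powers a))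
      have hb : b = (a ^ k) • ((↑u⁻¹ : Localization.Away a) * b) := by
        rw [Algebra.smul_def, ← mul_assoc,
          show algebraMap A (Localization.Away a) (a ^ k) = (u : Localization.Away a) from hu.symm,
          Units.mul_inv, one_mul]
      rw [hb, TensorProduct.smul_tmul, hk, TensorProduct.tmul_zero]
    | add x y hx hy => rw [hx, hy, add_zero]
  exact (TensorProduct.congr e (LinearEquiv.refl A M)).toEquiv.subsingleton

/-- Generators up to torsion from finiteness of the localization. -/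
lemma exists_gen_loc (a : A) (M : ModuleCat.{u} A) (h : Module.Finite (Localization.Away a) (loc a M)) :
    ∃ s : Finset M, ∀ z : M, ∃ k : ℕ, a ^ k • z ∈ Submodule.span A (s : Set M) := by
  haveI : Module.Finite (Localization.Away a) (Localization.Away a ⊗[A] M) :=
    LocFinite.finite_tensor_of_extendScalars M a h
  exact LocFinite.exists_finset_span M a

/-- Generators of homology from finiteness over the basic opens. -/
lemma gen_of_finite (fs : List A) (C : CochainComplex (ModuleCat.{u} A) ℤ) (i : ℤ)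
    (h : ∀ a ∈ fs, ∃ s : Finset (C.homology i), ∀ z, ∃ k : ℕ, a ^ k • z ∈ Submodule.span A (s : Set (C.homology i))) :
    Gen fs C (i - 1) i (i + 1) := by
  classical
  choose s hs using h
  let T : Finset (C.homology i) := fs.toFinset.attach.biUnion fun a => s a.1 (List.mem_toFinset.1 a.2)
  let S := C.sc' (i - 1) i (i + 1)
  let e : C.homology i ≅ S.moduleCatLeftHomologyData.H :=
    C.homologyIsoSc' (i - 1) i (i + 1) (by simp) (by simp) ≪≫ S.moduleCatHomologyIso
  let t : Fin T.card → C.homology i := fun j => (T.equivFin.symm j).1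
  have hl : ∀ j, ∃ w : S.g.hom.ker, Submodule.mkQ S.moduleCatToCycles.range w = e.toLinearEquiv (t j) :=
    fun j => Submodule.mkQ_surjective _ _
  choose w hw using hl
  let l : (Fin T.card → A) →ₗ[A] S.g.hom.ker := Fintype.linearCombination A w
  refine ⟨T.card, ModuleCat.ofHom (S.g.hom.ker.subtype ∘ₗ l), ?_, fun x hx a ha => ?_⟩
  · ext c
    exact (l _).2
  let xw : S.g.hom.ker := ⟨x, hx⟩
  obtain ⟨k, hk⟩ := hs a ha (e.toLinearEquiv.symm (Submodule.Quotient.mk (p := S.moduleCatToCycles.range) xw))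
  have hsub : (↑(s a ha) : Set (C.homology i)) ⊆ Set.range t := fun z hz => by
    have hzT : z ∈ T := Finset.mem_biUnion.2 ⟨⟨a, List.mem_toFinset.2 ha⟩, Finset.mem_attach _ _, hz⟩
    exact ⟨T.equivFin ⟨z, hzT⟩, by simp [t]⟩
  obtain ⟨c, hc⟩ := (Submodule.mem_span_range_iff_exists_fun A).1 (Submodule.span_mono hsub hk)
  refine ⟨k, c, ?_⟩
  have h1 : Submodule.Quotient.mk (p := S.moduleCatToCycles.range) (a ^ k • xw - l c) = 0 := by
    have h2 := congrArg e.toLinearEquiv hc
    rw [map_sum, map_smul, LinearEquiv.apply_symm_apply] at h2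
    rw [Submodule.Quotient.mk_sub, Submodule.Quotient.mk_smul, sub_eq_zero]
    refine h2.symm.trans ?_
    rw [Fintype.linearCombination_apply, ← Submodule.mkQ_apply, map_sum]
    refine Finset.sum_congr rfl fun j _ => ?_
    rw [map_smul, map_smul]
    exact congrArg (c j • ·) (hw j).symm
  obtain ⟨y, hy⟩ := (Submodule.Quotient.mk_eq_zero _).1 h1
  exact ⟨y, eq_add_of_sub_eq' (congrArg Subtype.val hy).symm⟩

omit A in
/-- A sheaf of modules with vanishing stalks on an open restricts to zero. -/
lemma isZero_restrict_of_stalk {X : Scheme.{u}} (U : X.Opens) (M : X.Modules)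
    (h : ∀ x ∈ U, Subsingleton (M.presheaf.stalk x)) : IsZero ((Scheme.Modules.restrictFunctor U.ι).obj M) := by
  have h := isIso_restrict_of_stalk U (0 : M ⟶ M) fun x hx => by
    haveI := h x hx
    exact (ConcreteCategory.isIso_iff_bijective _).2
      ⟨fun a b _ => Subsingleton.elim (α := M.presheaf.stalk x) a b,
        fun a => ⟨a, Subsingleton.elim (α := M.presheaf.stalk x) _ a⟩⟩
  rw [Functor.map_zero] at h
  exact (IsZero.iff_id_eq_zero _).2 ((isIsoZeroEquiv _ _).toFun h).1

variable [PreservesFiniteLimits (tilde.functor (CommRingCat.of A))]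

theorem gen_cone {fs : List A} {F : CochainComplex (ModuleCat.{u} A) ℤ}
    (hF : ∀ a ∈ fs, ∀ m, LocPC m ((rho (awaySpec A a)).obj (KoszulOrth.tld (DerivedCategory.Q.obj F))))
    {b n n' : ℤ} (hn' : n' + 1 = n) (s : Stage F fs b n) :
    Gen fs (mappingCone s.α) (n' - 1) n' n := by
  subst hn'
  refine gen_of_finite fs _ n' fun a ha => exists_gen_loc a _ ?_
  let R := rho (awaySpec A a)
  haveI : (tilde.functor (CommRingCat.of A)).Additive := tilde_additive _
  haveI : PreservesFiniteColimits (tilde.functor (CommRingCat.of A)) := QCoh.tilde_preservesFiniteColimits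
  let T₀ := DerivedCategory.Q.mapTriangle.obj (mappingCone.triangle s.α)
  have hT₀ : T₀ ∈ Pretriangulated.distinguishedTriangles :=
    DerivedCategory.mappingCone_triangle_distinguished s.α
  let T := R.mapTriangle.obj ((DCoh.tildeD (CommRingCat.of A)).mapTriangle.obj T₀)
  have hT : T ∈ Pretriangulated.distinguishedTriangles :=
    R.map_distinguished _ ((DCoh.tildeD (CommRingCat.of A)).map_distinguished _ hT₀)
  have hE : LocSP (KoszulOrth.tld (DerivedCategory.Q.obj s.E)) :=
    (isPerfect_iff _).1 ((perfect_tildeD_iff (R := CommRingCat.of A) _).2 ⟨s.E, n' + 1, b,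
      fun i hi => hi.elim (s.below i) (s.above i),
      fun i => ⟨(s.free i).1, haveI := (s.free i).2; inferInstance⟩, ⟨Iso.refl _⟩⟩)
  have h3 : LocPC n' T.obj₃ :=
    (locPC_two_of_three n' T hT).1 ((hE.restrict' (awaySpec A a)).locPC (n' + 1)) (hF a ha n')
  have hz : ∀ i, n' < i → IsZero (DCoh.HD T.obj₃ i) := fun i hi => by
    obtain ⟨e⟩ := nonempty_hd_away a (mappingCone s.α) i
    haveI : (tilde.functor (CommRingCat.of (Localization.Away a))).Additive := tilde_additive _
    haveI := subsingleton_loc_of_torsion a _ fun z => (tors_iff fs _ i).1 (s.tors i (by omega)) z a ha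
    exact ((tilde.functor (CommRingCat.of (Localization.Away a))).map_isZero
      (ModuleCat.isZero_of_subsingleton (R := Localization.Away a) (loc a ((mappingCone s.α).homology i)))).of_iso e
  obtain ⟨e⟩ := nonempty_hd_away a (mappingCone s.α) n'
  exact (QCoh.isFT_tilde_iff _).1 (isFT_of_iso' e (isFT_top h3 hz))

theorem exists_free_complex {fs : List A} {F : CochainComplex (ModuleCat.{u} A) ℤ} (b : ℤ)
    (hb : ∀ i, b < i → Tors fs F i)
    (hF : ∀ a ∈ fs, ∀ m, LocPC m ((rho (awaySpec A a)).obj (KoszulOrth.tld (DerivedCategory.Q.obj F)))) :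
    ∃ (E : CochainComplex (ModuleCat.{u} A) ℤ) (α : E ⟶ F), DRing.VanishesAbove E b ∧
      DRing.TermwiseFiniteFree E ∧
      IsIso ((rho (KoszulOrth.pU fs).ι).map ((DCoh.tildeD (CommRingCat.of A)).map (DerivedCategory.Q.map α))) := by
  have base : Stage F fs b (b + 1) := by
    have hz : ∀ i, IsZero ((0 : CochainComplex (ModuleCat.{u} A) ℤ).X i) := fun i =>
      (HomologicalComplex.eval _ _ i).map_isZero (isZero_zero _)
    refine ⟨0, 0, fun i => KFlatLib.finite_free_of_isZero (R := CommRingCat.of A) (hz i),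
      fun i _ => hz i, fun i _ => hz i, fun i hi => ?_⟩
    haveI : ∀ i, IsIso ((mappingCone.inr (0 : (0 : CochainComplex (ModuleCat.{u} A) ℤ) ⟶ F)).f i) :=
      fun i => isIso_inr_f _ i (hz _)
    haveI : IsIso (mappingCone.inr (0 : (0 : CochainComplex (ModuleCat.{u} A) ℤ) ⟶ F)) :=
      HomologicalComplex.Hom.isIso_of_components _
    exact (hb i (by omega)).of_iso (asIso (mappingCone.inr _))
  have hstep : ∀ (k : ℕ) (s : Stage F fs b (b + 1 - k)), ∃ (s' : Stage F fs b (b + 1 - (k + 1 : ℕ)))
      (ι : s.E ⟶ s'.E), ι ≫ s'.α = s.α ∧ ∀ i, b + 1 - k ≤ i → IsIso (ι.f i) := fun k s =>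
    exists_next (by push_cast; omega) (by omega) s (gen_cone hF (by push_cast; omega) s)
  choose next nι hfac hiso using hstep
  let st : ∀ k : ℕ, Stage F fs b (b + 1 - k) := fun k =>
    Nat.rec (motive := fun k => Stage F fs b (b + 1 - (k : ℕ))) (cast (by simp) base) next k
  let D : ℕ ⥤ CochainComplex (ModuleCat.{u} A) ℤ :=
    Functor.ofSequence (X := fun k => (st k).E) fun k => nι k (st k)
  let c : Cocone D := Cocone.mk F (NatTrans.ofSequence (fun k => (st k).α)
    fun k => (by rw [Functor.ofSequence_map_homOfLE_succ]; exact (hfac k (st k)).trans (Category.comp_id _).symm))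
  have hmap : ∀ (k l : ℕ) (hkl : k ≤ l) (i : ℤ), b + 1 - k ≤ i → IsIso ((D.map (homOfLE hkl)).f i) := by
    intro k l hkl i hi
    induction l, hkl using Nat.le_induction with
    | base => rw [show homOfLE (le_refl k) = 𝟙 k from Subsingleton.elim _ _, D.map_id]; exact inferInstanceAs (IsIso (𝟙 _))
    | succ l hkl ih =>
      rw [show homOfLE (hkl.trans (Nat.le_succ l)) = homOfLE hkl ≫ homOfLE (Nat.le_succ l) from Subsingleton.elim _ _,
        D.map_comp, HomologicalComplex.comp_f]
      haveI := ih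
      haveI : IsIso ((D.map (homOfLE (Nat.le_succ l))).f i) := by
        rw [Functor.ofSequence_map_homOfLE_succ]; exact hiso l (st l) i (by omega)
      infer_instance
  have hι : ∀ (k : ℕ) (i : ℤ), b + 1 - k ≤ i → IsIso ((colimit.ι D k).f i) := fun k i hi => by
    have h : (D ⋙ HomologicalComplex.eval _ _ i).IsEventuallyConstantFrom k := fun l f =>
      hmap k l (leOfHom f) i hi
    exact h.isIso_ι_of_isColimit (isColimitOfPreserves (HomologicalComplex.eval _ _ i) (colimit.isColimit D))
  let E := colimit D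
  let α := colimit.desc D c
  have hE : DRing.VanishesAbove E b := fun i hi => by
    haveI := hι 0 i (by omega)
    exact ((st 0).above i hi).of_iso (asIso ((colimit.ι D 0).f i)).symm
  refine ⟨E, α, hE, fun i => ?_, ?_⟩
  · obtain ⟨k, hk⟩ : ∃ k : ℕ, b + 1 - k ≤ i := ⟨(b + 1 - i).toNat, by omega⟩
    haveI := hι k i hk
    exact KFlatLib.finite_free_of_iso (R := CommRingCat.of A) (asIso ((colimit.ι D k).f i)) ((st k).free i)
  let U := KoszulOrth.pU fs
  let R := rho U.ι
  haveI : (tilde.functor (CommRingCat.of A)).Additive := tilde_additive _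
  haveI : PreservesFiniteColimits (tilde.functor (CommRingCat.of A)) := QCoh.tilde_preservesFiniteColimits
  let L := DCoh.tildeD (CommRingCat.of A) ⋙ R
  refine (DerivedCategory.isIso_iff _ _).2 fun i => ?_
  obtain ⟨k, hk⟩ : ∃ k : ℕ, b + 1 - k < i - 1 := ⟨(b + 3 - i).toNat, by omega⟩
  let H := DerivedCategory.homologyFunctor (U : Scheme.{u}).Modules i
  let φ := L.map (DerivedCategory.Q.map (colimit.ι D k))
  let ψ := L.map (DerivedCategory.Q.map α)
  have h1 : IsIso (H.map φ) := by
    haveI : QuasiIsoAt (colimit.ι D k) i := by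
      rw [quasiIsoAt_iff' _ (i - 1) i (i + 1) (by simp) (by simp)]
      let ψ := (HomologicalComplex.shortComplexFunctor' (ModuleCat.{u} A) (ComplexShape.up ℤ) (i - 1) i (i + 1)).map
        (colimit.ι D k)
      haveI : IsIso ψ.τ₁ := hι k (i - 1) (by omega)
      haveI : IsIso ψ.τ₂ := hι k i (by omega)
      haveI : IsIso ψ.τ₃ := hι k (i + 1) (by omega)
      exact ShortComplex.quasiIso_of_epi_of_isIso_of_mono ψ
    have hA : IsIso ((DerivedCategory.homologyFunctor (ModuleCat.{u} A) i).map
        (DerivedCategory.Q.map (colimit.ι D k))) :=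
      (NatIso.isIso_map_iff (DerivedCategory.homologyFunctorFactors (ModuleCat.{u} A) i) _).2
        ((quasiIsoAt_iff_isIso_homologyMap _ _).1 inferInstance)
    haveI : IsIso ((DerivedCategory.homologyFunctor (Spec (CommRingCat.of A)).Modules i).map
        ((DCoh.tildeD (CommRingCat.of A)).map (DerivedCategory.Q.map (colimit.ι D k)))) :=
      (NatIso.isIso_map_iff (mapDCHomologyIso (tilde.functor (CommRingCat.of A)) i)
        (DerivedCategory.Q.map (colimit.ι D k))).2 (Functor.map_isIso (tilde.functor (CommRingCat.of A))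
          ((DerivedCategory.homologyFunctor (ModuleCat.{u} A) i).map (DerivedCategory.Q.map (colimit.ι D k))))
    exact (NatIso.isIso_map_iff (mapDCHomologyIso (Scheme.Modules.restrictFunctor U.ι) i) _).2
      (Functor.map_isIso (Scheme.Modules.restrictFunctor U.ι)
        ((DerivedCategory.homologyFunctor _ i).map ((DCoh.tildeD (CommRingCat.of A)).map
          (DerivedCategory.Q.map (colimit.ι D k)))))
  have h2 : IsIso (H.map (φ ≫ ψ)) := by
    rw [← Functor.map_comp, ← Functor.map_comp, colimit.ι_desc]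
    let T₀ := DerivedCategory.Q.mapTriangle.obj (mappingCone.triangle (st k).α)
    let T := R.mapTriangle.obj ((DCoh.tildeD (CommRingCat.of A)).mapTriangle.obj T₀)
    have hT : T ∈ Pretriangulated.distinguishedTriangles := R.map_distinguished _
      ((DCoh.tildeD (CommRingCat.of A)).map_distinguished _
        (DerivedCategory.mappingCone_triangle_distinguished (st k).α))
    have hz : ∀ j, b + 1 - k ≤ j → IsZero (DCoh.HD T.obj₃ j) := fun j hj => by
      refine (isZero_restrict_of_stalk U _ fun p hp => ?_).of_iso (restrictHDIso U.ι _ j)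
      obtain ⟨f, hf, hfp⟩ := (KoszulOrth.mem_pU_iff fs p).1 hp
      refine not_nontrivial_iff_subsingleton.1 fun hn => ?_
      refine not_subsingleton_iff_nontrivial.2 ((KoszulOrth.nontrivial_stalk_tld _ j p).1 hn)
        (LocalizedModule.subsingleton_iff.2 fun z => ?_)
      let eh := ((DerivedCategory.homologyFunctorFactors (ModuleCat.{u} A) j).app
        (mappingCone (st k).α)).toLinearEquiv
      obtain ⟨m, hm⟩ := (tors_iff fs _ j).1 ((st k).tors j hj) (eh z) f hf
      exact ⟨f ^ m, p.asIdeal.primeCompl.pow_mem hfp m, eh.injective (by rw [map_smul, hm, map_zero])⟩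
    change IsIso (H.map T.mor₁)
    haveI : Mono (H.map T.mor₁) := (DerivedCategory.HomologySequence.mono_homologyMap_mor₁_iff _ hT
      (i - 1) i (by omega)).2 ((hz (i - 1) (by omega)).eq_of_src _ _)
    haveI : Epi (H.map T.mor₁) := (DerivedCategory.HomologySequence.epi_homologyMap_mor₁_iff _ hT i).2
      ((hz i (by omega)).eq_of_tgt _ _)
    exact isIso_of_mono_of_epi _
  rw [Functor.map_comp] at h2
  exact @IsIso.of_isIso_comp_left _ _ _ _ _ (H.map φ) (H.map ψ) h1 h2

/-- A local object vanishing on a basic open has torsion there. -/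
lemma torsion_of_isZero_away (a : A) (C : CochainComplex (ModuleCat.{u} A) ℤ) (i : ℤ)
    (h : IsZero (DCoh.HD ((rho (awaySpec A a)).obj (KoszulOrth.tld (DerivedCategory.Q.obj C))) i))
    (z : C.homology i) : ∃ k : ℕ, a ^ k • z = 0 := by
  obtain ⟨e⟩ := nonempty_hd_away a C i
  haveI : Subsingleton (loc a (C.homology i)) :=
    ModuleCat.subsingleton_of_isZero ((IsZero.iff_id_eq_zero _).2
      ((tilde.fullyFaithfulFunctor (R := CommRingCat.of (Localization.Away a))).map_injective ((h.of_iso e.symm).eq_of_src _ _)))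
  let R₀ := (ModuleCat.restrictScalars (algebraMap A (Localization.Away a))).obj
    (ModuleCat.of (Localization.Away a) (Localization.Away a))
  let l : R₀ ≃ₗ[A] Localization.Away a :=
    { toFun := fun x => x
      invFun := fun x => x
      map_add' := fun _ _ => rfl
      map_smul' := fun r x => (Algebra.smul_def r (show Localization.Away a from x)).symm
      left_inv := fun _ => rfl
      right_inv := fun _ => rfl }
  let c : loc a (C.homology i) ≃ Localization.Away a ⊗[A] C.homology i :=
    (TensorProduct.congr l (LinearEquiv.refl A (C.homology i))).toEquiv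
  haveI := c.symm.subsingleton
  let μ := TensorProduct.mk A (Localization.Away a) (C.homology i) 1
  obtain ⟨⟨_, k, rfl⟩, hk⟩ := (IsLocalizedModule.eq_zero_iff (Submonoid.powers a) μ).1
    (Subsingleton.elim (μ z) 0)
  exact ⟨k, hk⟩

/-- Pseudo-coherent objects on a quasi-compact open of `Spec A` extend to complexes of free modules. -/
theorem exists_extension_spec (fs : List A) [CompactSpace (KoszulOrth.pU fs : Scheme.{u})]
    (E : DCoh.D (KoszulOrth.pU fs : Scheme.{u})) (hE : ∀ m, LocPC m E) :
    ∃ (G : CochainComplex (ModuleCat.{u} A) ℤ) (b : ℤ), DRing.VanishesAbove G b ∧ DRing.TermwiseFiniteFree G ∧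
      Nonempty ((rho (KoszulOrth.pU fs).ι).obj (KoszulOrth.tld (DerivedCategory.Q.obj G)) ≅ E) := by
  let j := (KoszulOrth.pU fs).ι
  haveI := hasRpush_scheme j
  haveI : QuasiCompact j := quasiCompact_of_compactSpace _
  obtain ⟨M, ⟨eM⟩⟩ := exists_tildeD_iso (R := CommRingCat.of A) (isQCohD_rpush j (TorBC.isQCohD_of_locPC' hE))
  obtain ⟨eJ⟩ := nonempty_rpush_restrictD_id j
  let F := DerivedCategory.Q.objPreimage M
  let eF : (rho j).obj (KoszulOrth.tld (DerivedCategory.Q.obj F)) ≅ E :=
    (rho j).mapIso ((DCoh.tildeD (CommRingCat.of A)).mapIso (DerivedCategory.Q.objObjPreimageIso M) ≪≫ eM) ≪≫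
      eJ.app E
  obtain ⟨b, hb⟩ := KFlatLib.exists_bound_of_locPC (hE 0)
  have hsub : ∀ a ∈ fs, Set.range (awaySpec A a).base ⊆ Set.range j.base := fun a ha p hp => by
    rw [range_awaySpec] at hp
    rw [Scheme.Opens.range_ι]
    exact (KoszulOrth.mem_pU_iff fs p).2 ⟨a, ha, hp⟩
  let k := fun a ha => IsOpenImmersion.lift j (awaySpec A a) (hsub a ha)
  have hk : ∀ a ha, IsOpenImmersion (k a ha) := fun a ha => by
    haveI : IsOpenImmersion (k a ha ≫ j) := by
      change IsOpenImmersion (IsOpenImmersion.lift j (awaySpec A a) (hsub a ha) ≫ j)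
      rw [IsOpenImmersion.lift_fac]; infer_instance
    exact IsOpenImmersion.of_comp (k a ha) j
  let ek : ∀ a ha, haveI := hk a ha
      (rho (awaySpec A a)).obj (KoszulOrth.tld (DerivedCategory.Q.obj F)) ≅ (rho (k a ha)).obj E := fun a ha =>
    haveI := hk a ha
    (rhoComp (k a ha) j (awaySpec A a) (IsOpenImmersion.lift_fac _ _ _) _).symm ≪≫ (rho (k a ha)).mapIso eF
  have hF : ∀ a ∈ fs, ∀ m, LocPC m ((rho (awaySpec A a)).obj (KoszulOrth.tld (DerivedCategory.Q.obj F))) :=
    fun a ha m => by
      haveI := hk a ha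
      exact ((hE m).restrict (k a ha)).of_iso (ek a ha).symm
  obtain ⟨G, α, hG, hfree, hiso⟩ := exists_free_complex b (fun i hi => (tors_iff fs F i).2 fun z a ha => by
    haveI := hk a ha
    refine torsion_of_isZero_away a F i ?_ z
    exact (((Scheme.Modules.restrictFunctor (k a ha)).map_isZero (hb i hi)).of_iso
      (restrictHDIso (k a ha) E i)).of_iso ((DerivedCategory.homologyFunctor _ i).mapIso (ek a ha))) hF
  exact ⟨G, b, hG, hfree, ⟨@asIso _ _ _ _ _ hiso ≪≫ eF⟩⟩

end Geometry

/-- Finite free modules give standard free sheaves. -/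
lemma exists_freeMod_iso (N : ModuleCat.{u} A) [Module.Finite A N] [Module.Free A N] :
    ∃ n : ℕ, Nonempty (tilde (R := CommRingCat.of A) N ≅ FlatMod.freeMod (Spec (CommRingCat.of A)) n) := by
  classical
  let v := Module.Free.chooseBasis A N
  haveI := Module.Free.ChooseBasisIndex.fintype A N
  let e := v.repr.trans (Finsupp.domLCongr ((Fintype.equivFin (Module.Free.ChooseBasisIndex A N)).trans Equiv.ulift.{u}.symm))
  exact ⟨_, ⟨(tilde.functor (CommRingCat.of A)).mapIso e.toModuleIso ≪≫ tildeFinsupp (R := CommRingCat.of A) _ ≪≫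
    (QCoh.freeModIso _ _).symm⟩⟩

/-- Pseudo-coherent objects of a quasi-compact open of an affine scheme extend to complexes of free modules. -/
theorem exists_extension {X : Scheme.{u}} [IsAffine X] (U : X.Opens) (hU : IsCompact (U : Set X))
    (E : DCoh.D (U : Scheme.{u})) (hE : ∀ m, KFlatLib.LocPC m E) :
    ∃ (G : CochainComplex X.Modules ℤ) (b : ℤ), (∀ i : ℤ, b < i → IsZero (G.X i)) ∧
      (∀ i : ℤ, ∃ n : ℕ, Nonempty (G.X i ≅ FlatMod.freeMod X n)) ∧
      Nonempty (DerivedCategory.Q.obj ((DCoh.restrictCx U).obj G) ≅ E) := by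
  open KFlatLib in
  let A := CommRingCat.of Γ(X, ⊤)
  haveI : PreservesFiniteLimits (tilde.functor (CommRingCat.of Γ(X, ⊤))) := QCoh.tilde_preservesFiniteLimits
  haveI : (tilde.functor (CommRingCat.of Γ(X, ⊤))).Additive := tilde_additive _
  let g : Spec (CommRingCat.of Γ(X, ⊤)) ⟶ X := X.isoSpec.inv
  let h : X ⟶ Spec (CommRingCat.of Γ(X, ⊤)) := X.isoSpec.hom
  have hO : IsCompact ((g ⁻¹ᵁ U : (Spec (CommRingCat.of Γ(X, ⊤))).Opens) : Set (Spec (CommRingCat.of Γ(X, ⊤)))) :=
    (Scheme.homeoOfIso X.isoSpec.symm).isCompact_preimage.2 hU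
  obtain ⟨fs, hfs⟩ := KFlatLib.AffineLift.exists_list (A := Γ(X, ⊤)) (g ⁻¹ᵁ U) hO
  haveI : CompactSpace (KFlatLib.KoszulOrth.pU fs : Scheme.{u}) := isCompact_iff_compactSpace.1 (hfs ▸ hO)
  let t : (KFlatLib.KoszulOrth.pU fs : Scheme.{u}) ⟶ (U : Scheme.{u}) :=
    ((Spec (CommRingCat.of Γ(X, ⊤))).isoOfEq hfs.symm).hom ≫ (g ∣_ U)
  haveI : IsIso t := by
    infer_instance
  have ht : t ≫ U.ι ≫ h = (KFlatLib.KoszulOrth.pU fs).ι := by
    simp [t, g, h, morphismRestrict_ι_assoc]
  obtain ⟨G₀, b, hb, hfree, ⟨e₀⟩⟩ := exists_extension_spec fs ((KFlatLib.rho t).obj E) (fun m => (hE m).restrict t)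
  let C := ((tilde.functor (CommRingCat.of Γ(X, ⊤))).mapHomologicalComplex (ComplexShape.up ℤ)).obj G₀
  refine ⟨(KFlatLib.rCx h).obj C, b, fun i hi => (Scheme.Modules.restrictFunctor h).map_isZero
    ((tilde.functor (CommRingCat.of Γ(X, ⊤))).map_isZero (hb i hi)), fun i => ?_, ?_⟩
  · haveI := (hfree i).1
    haveI := (hfree i).2
    obtain ⟨n, ⟨e⟩⟩ := exists_freeMod_iso (G₀.X i)
    exact ⟨n, ⟨(Scheme.Modules.restrictFunctor h).mapIso e ≪≫ QCoh.freeModRestrict h n⟩⟩
  · obtain ⟨eid⟩ := KFlatLib.AffineLift.nonempty_rho_id (inv t ≫ t) (by simp)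
    exact ⟨((KFlatLib.rhoQ U.ι).app _).symm ≪≫ (KFlatLib.rho U.ι).mapIso ((KFlatLib.rhoQ h).app C).symm ≪≫
      KFlatLib.rhoComp U.ι h (inv t ≫ (KFlatLib.KoszulOrth.pU fs).ι) (by rw [← ht]; simp) _ ≪≫
      (KFlatLib.rhoComp (inv t) (KFlatLib.KoszulOrth.pU fs).ι _ rfl _).symm ≪≫
      (KFlatLib.rho (inv t)).mapIso ((KFlatLib.rho _).mapIso
        ((tilde.functor (CommRingCat.of Γ(X, ⊤))).mapDerivedCategoryFactors.app G₀).symm ≪≫ e₀) ≪≫
      KFlatLib.rhoComp (inv t) t (inv t ≫ t) rfl _ ≪≫ eid.app E⟩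

end Groth.Agent.KExact.FreeExtend
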