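import Groth.Agent.KExact.ViaGor
import Groth.Agent.AlgSpDec.GorBC
import Groth.Agent.SrcDescent.FlatModelAlg
import Groth.Agent.CMOpen5.Open
import Groth.Agent.KFlatLib.Scheme.CohExtend

/-!
# The Gorenstein locus of a flat morphism is open
-/

set_option autoImplicit false
set_option linter.style.haveILetI false
set_option linter.unusedSectionVars false
set_option backward.isDefEq.respectTransparency false
set_option backward.isDefEq.respectTransparency.types false

universe u

open CategoryTheory CategoryTheory.Limits AlgebraicGeometry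
open scoped TensorProduct

attribute [local instance] HasDerivedCategory.standard

namespace Groth.Agent.KExact.GorOpen

open KFlatLib KFlatLib.BCLoc

variable [∀ (U V : Scheme.{u}) (j : U ⟶ V) [IsOpenImmersion j], PreservesFiniteLimits (Scheme.Modules.restrictFunctor j)]
  [∀ (R : CommRingCat.{u}), PreservesFiniteLimits (tilde.functor R)]

/-- The case of a flat algebra of finite type over a Noetherian ring. -/
theorem isOpen_noetherian (R A : Type u) [CommRing R] [CommRing A] [Algebra R A] [IsNoetherianRing R]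
    [Algebra.FiniteType R A] [Module.Flat R A] :
    IsOpen {x | Dual3.IsGorensteinAt (Spec.map (CommRingCat.ofHom (algebraMap R A))) x} := by
  haveI : IsNoetherianRing A := Algebra.FiniteType.isNoetherianRing R A
  haveI : IsNoetherianRing (CommRingCat.of A) := ‹IsNoetherianRing A›
  haveI : Flat (Spec.map (CommRingCat.ofHom (algebraMap R A))) :=
    Flat.SpecMap_iff.2 (RingHom.flat_algebraMap_iff.2 inferInstance)
  obtain ⟨n, ψ, hψ⟩ := Algebra.FiniteType.iff_quotient_mvPolynomial''.1 ‹Algebra.FiniteType R A›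
  haveI := H9Misc.DRingLBase.hasLBaseChange (algebraMap R (MvPolynomial (Fin n) R))
  obtain ⟨Rψ, ⟨adj⟩⟩ := exists_shriek ψ.toRingHom
  let M := (DCoh.tildeD (CommRingCat.of A)).obj (Dual2.shriekVia n Rψ (Dual.inD R R))
  obtain ⟨e⟩ := CohExtend.nonempty_rho_id M
  have key : ∀ x, Dual3.IsGorensteinAt (Spec.map (CommRingCat.ofHom (algebraMap R A))) x ↔
      ∃ U : (Spec (CommRingCat.of A)).Opens, x ∈ U ∧ Dual3.IsInvertibleD ((DCoh.restrictD U.ι).obj M) := fun x =>
    ViaGor.gorenstein_iff (M := M)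
      { R := R, A := A, n := n, ψ := ψ, hψ := hψ, Rψ := Rψ, adj := adj
        i := 𝟙 _, k := 𝟙 _, comm := by simp
        p := x, hp := rfl, flat := fun _ => inferInstance, e := e }
  refine isOpen_iff_forall_mem_open.2 fun x hx => ?_
  obtain ⟨U, hxU, hU⟩ := (key x).1 hx
  exact ⟨U, fun y hy => (key y).2 ⟨U, hy, hU⟩, U.2, hxU⟩

/-- The case of a flat algebra of finite presentation. -/
theorem isOpen_affine (A B : Type u) [CommRing A] [CommRing B] [Algebra A B] [Algebra.FinitePresentation A B]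
    [Module.Flat A B] : IsOpen {x | Dual3.IsGorensteinAt (Spec.map (CommRingCat.ofHom (algebraMap A B))) x} := by
  obtain ⟨A₁, B₁, _, _, hA₁, hflat, hfp, ⟨e⟩⟩ := SrcDescent.exists_flat_model A B
  haveI := hflat
  haveI := hfp
  haveI : Algebra.FiniteType ℤ A₁ := (Subalgebra.fg_iff_finiteType A₁).1 hA₁
  haveI : IsNoetherianRing A₁ := Algebra.FiniteType.isNoetherianRing ℤ A₁
  let f₁ := Spec.map (CommRingCat.ofHom (algebraMap A₁ B₁))
  haveI : LocallyOfFiniteType f₁ := HasRingHomProperty.Spec_iff.2 (RingHom.finiteType_algebraMap.2 inferInstance)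
  haveI : Flat f₁ := Flat.SpecMap_iff.2 (RingHom.flat_algebraMap_iff.2 inferInstance)
  haveI : Flat (Spec.map (CommRingCat.ofHom (algebraMap A B))) :=
    Flat.SpecMap_iff.2 (RingHom.flat_algebraMap_iff.2 inferInstance)
  let c : Spec (CommRingCat.of B) ≅ pullback (Spec.map (CommRingCat.ofHom (algebraMap A₁ A))) f₁ :=
    Scheme.Spec.mapIso e.symm.toRingEquiv.toCommRingCatIso.op ≪≫ (pullbackSpecIso A₁ A B₁).symm
  have h1 : c.hom ≫ pullback.fst _ _ = Spec.map (CommRingCat.ofHom (algebraMap A B)) := by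
    show (Spec.map _ ≫ (pullbackSpecIso A₁ A B₁).inv) ≫ _ = _
    rw [Category.assoc, pullbackSpecIso_inv_fst, ← Spec.map_comp]
    refine congrArg Spec.map (CommRingCat.hom_ext (RingHom.ext fun a => ?_))
    exact e.symm.commutes a
  have hc : IsPullback (c.hom ≫ pullback.snd _ f₁) (Spec.map (CommRingCat.ofHom (algebraMap A B))) f₁
      (Spec.map (CommRingCat.ofHom (algebraMap A₁ A))) :=
    ((IsPullback.of_hasPullback _ _).of_iso c.symm (Iso.refl _) (Iso.refl _) (Iso.refl _)
      (by simp [← h1]) (by simp) (by simp) (by simp)).flip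
  have key : {x | Dual3.IsGorensteinAt (Spec.map (CommRingCat.ofHom (algebraMap A B))) x} =
      (c.hom ≫ pullback.snd _ f₁).base ⁻¹' {x | Dual3.IsGorensteinAt f₁ x} := by
    ext x
    exact ⟨fun h => ⟨Flat.stalkMap f₁ _, (AlgSpDec.Gor.gor_fibre_iff_lft hc x).1 h.2⟩,
      fun h => ⟨Flat.stalkMap _ _, (AlgSpDec.Gor.gor_fibre_iff_lft hc x).2 h.2⟩⟩
  rw [key]
  exact (isOpen_noetherian A₁ B₁).preimage (c.hom ≫ pullback.snd _ f₁).continuous

/-- Gorenstein at a point, read in charts. -/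
theorem gorAt_chart_lft {X Y U V : Scheme.{u}} (f : X ⟶ Y) [LocallyOfFiniteType f] (φ : U ⟶ V)
    (j : U ⟶ X) [IsOpenImmersion j] (i : V ⟶ Y) [IsOpenImmersion i] (h : j ≫ f = φ ≫ i) (q : U) :
    Dual3.IsGorensteinAt f (j q) ↔ Dual3.IsGorensteinAt φ q := by
  haveI : IsLocallyNoetherian (f.fiber (f (j q))) := DimFormula.isLocallyNoetherian_fiber f _
  haveI : IsLocallyNoetherian ((j ≫ f).fiber ((j ≫ f) q)) := DimFormula.isLocallyNoetherian_fiber _ _
  rw [← AlgSpDec.Gor.gorAt_comp_left j f q (AlgSpDec.Gor.noethFibre_of_isLocallyNoetherian f _ inferInstance)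
    (AlgSpDec.Gor.noethFibre_of_isLocallyNoetherian (j ≫ f) q inferInstance), h, AlgSpDec.Gor.gorAt_comp_right]

/-- The Gorenstein locus is open. -/
theorem isOpen_gorensteinAt {X S : Scheme.{u}} (f : X ⟶ S) [Flat f] [LocallyOfFinitePresentation f] :
    IsOpen {x : X | Dual3.IsGorensteinAt f x} := by
  rw [isOpen_iff_forall_mem_open]
  intro x hx
  obtain ⟨V, hV, hxV, -⟩ := exists_isAffineOpen_mem_and_subset (U := (⊤ : S.Opens)) (x := f x) trivial
  obtain ⟨U, hU, hxU, hUV⟩ := exists_isAffineOpen_mem_and_subset (U := f ⁻¹ᵁ V) (x := x) hxV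
  letI : Algebra Γ(S, V) Γ(X, U) := (f.appLE V U hUV).hom.toAlgebra
  haveI : Algebra.FinitePresentation Γ(S, V) Γ(X, U) := f.finitePresentation_appLE hV hU hUV
  have hsq : hU.fromSpec ≫ f = Spec.map (CommRingCat.ofHom (algebraMap Γ(S, V) Γ(X, U))) ≫ hV.fromSpec :=
    (hV.SpecMap_appLE_fromSpec f hU hUV).symm
  haveI : Module.Flat Γ(S, V) Γ(X, U) :=
    CMOpen5.flat_of_flat_stalks f hV hU hsq fun z _ => Flat.stalkMap f z
  refine ⟨hU.fromSpec '' (hU.fromSpec ⁻¹' {x : X | Dual3.IsGorensteinAt f x}), Set.image_preimage_subset _ _,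
    hU.fromSpec.isOpenEmbedding.isOpenMap _ ?_, ?_⟩
  · have h := isOpen_affine Γ(S, V) Γ(X, U)
    rwa [show {q | Dual3.IsGorensteinAt (Spec.map (CommRingCat.ofHom (algebraMap Γ(S, V) Γ(X, U)))) q} =
      hU.fromSpec ⁻¹' {x : X | Dual3.IsGorensteinAt f x} from
      Set.ext fun q => (gorAt_chart_lft f _ hU.fromSpec hV.fromSpec hsq q).symm] at h
  · obtain ⟨q, rfl⟩ : x ∈ Set.range hU.fromSpec := by rw [hU.range_fromSpec]; exact hxU
    exact ⟨q, hx, rfl⟩

end Groth.Agent.KExact.GorOpen
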