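import Groth.Agent.KExact.GorensteinDual
import Groth.Agent.KFlatLib.Ring.DualizingRange
import Groth.Agent.KFlatLib.Ring.DualizingDimension
import Groth.Agent.KFlatLib.Scheme.TildeD

/-!
# The structure sheaf as a dualizing object
-/

set_option autoImplicit false
set_option linter.style.haveILetI false
set_option backward.isDefEq.respectTransparency false
set_option backward.isDefEq.respectTransparency.types false

universe u

open CategoryTheory CategoryTheory.Limits AlgebraicGeometry

attribute [local instance] HasDerivedCategory.standard

namespace Groth.Agent.KExact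

open KFlatLib

/-- A locally Gorenstein Noetherian ring of finite dimension is its own dualizing complex. -/
theorem isDualizing_self_of_local {A : Type u} [CommRing A] [IsNoetherianRing A] (hdim : ringKrullDim A < ⊤)
    (h : ∀ p : PrimeSpectrum A, LocCoh.IsGorensteinLocalRing (Localization.AtPrime p.asIdeal)) :
    Dual.IsDualizing A (Dual.inD A A) := by
  have hfin : ∀ j : ℤ, Module.Finite A (Dual.HD A (Dual.inD A A) j) := fun j => by
    by_cases hj : j = 0
    · subst hj
      exact Module.Finite.equiv (H9Misc.DRingTel.homologyInD A).symm
    · haveI : Subsingleton (Dual.HD A (Dual.inD A A) j) := H9Misc.DRingTel.subsingleton_homology_inD A hj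
      infer_instance
  have hloc : ∀ p : PrimeSpectrum A, ∀ [DTen.HasLBase (algebraMap A (Localization.AtPrime p.asIdeal))],
      Dual.IsDualizing (Localization.AtPrime p.asIdeal)
        ((DTen.LBase (algebraMap A (Localization.AtPrime p.asIdeal))).obj (Dual.inD A A)) := fun p _ => by
    haveI : IsNoetherianRing (Localization.AtPrime p.asIdeal) :=
      IsLocalization.isNoetherianRing p.asIdeal.primeCompl _ inferInstance
    obtain ⟨e⟩ := nonempty_LBase_inD_localized p.asIdeal A
    let l : LocalizedModule p.asIdeal.primeCompl A ≃ₗ[Localization.AtPrime p.asIdeal]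
        Localization.AtPrime p.asIdeal :=
      (IsLocalizedModule.iso p.asIdeal.primeCompl (Algebra.linearMap A (Localization.AtPrime p.asIdeal))).extendScalarsOfIsLocalization
        p.asIdeal.primeCompl _
    exact isDualizing_of_iso (e ≪≫ (DerivedCategory.singleFunctor _ 0).mapIso l.toModuleIso).symm
      ((LC.gorenstein_iff_isDualizing (Localization.AtPrime p.asIdeal)).1 (h p))
  obtain ⟨b, hb⟩ := exists_injAmplitude_of_local hdim 0 hfin hloc
  exact isDualizing_of_atPrime hb hfin hloc

/-- On a Gorenstein scheme with a dualizing object the structure sheaf is dualizing. -/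
theorem isDualizingSch_structureModule {X : Scheme.{u}}
    [∀ (U : Scheme.{u}) (j : U ⟶ X) [IsOpenImmersion j], PreservesFiniteLimits (Scheme.Modules.restrictFunctor j)]
    [∀ (R : CommRingCat.{u}), PreservesFiniteLimits (tilde.functor R)]
    (hX : Dual3.IsGorenstein X) {K : DCoh.D X} (hK : Dual2.IsDualizingSch X K) :
    Dual2.IsDualizingSch X (DCoh.inD X (Coh.structureModule X)) := by
  intro A _ j _
  obtain ⟨ω, hω, -⟩ := hK A j
  haveI := hω.isNoetherianRing
  refine ⟨Dual.inD A A, isDualizing_self_of_local (ringKrullDim_lt_top_of_isDualizing hω) fun p => ?_, ?_⟩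
  · haveI := hX.2 (j.base p)
    haveI : IsNoetherianRing (Localization.AtPrime p.asIdeal) :=
      IsLocalization.isNoetherianRing p.asIdeal.primeCompl _ inferInstance
    let σ : (Spec (CommRingCat.of A)).presheaf.stalk p ≃+* Localization.AtPrime p.asIdeal :=
      (IsLocalization.algEquiv p.asIdeal.primeCompl ((Spec.structureSheaf A).presheaf.stalk p) _).toRingEquiv
    exact LC.gorenstein_of_ringEquiv ((asIso (j.stalkMap p)).commRingCatIsoToRingEquiv.trans σ)
  · haveI : (tilde.functor (CommRingCat.of A)).Additive := tilde_additive _
    haveI : PreservesFiniteColimits (tilde.functor (CommRingCat.of A)) := QCoh.tilde_preservesFiniteColimits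
    exact ⟨((Scheme.Modules.restrictFunctor j).mapDerivedCategorySingleFunctor 0).app _ ≪≫
      (DerivedCategory.singleFunctor _ 0).mapIso (restrictStructureIso j ≪≫ (tildeSelf (R := CommRingCat.of A)).symm) ≪≫
        (((tilde.functor (CommRingCat.of A)).mapDerivedCategorySingleFunctor 0).app (ModuleCat.of A A)).symm⟩

end Groth.Agent.KExact
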