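import Groth.Agent.KExact.KerRank
import Groth.Prelude.Def_DRing2
import Mathlib.Algebra.Category.ModuleCat.Kernels
import Mathlib.Algebra.Homology.Embedding.CochainComplex

/-!
# Splitting off an invertible degree zero cohomology
-/

set_option linter.style.haveILetI false
set_option backward.isDefEq.respectTransparency false
set_option backward.isDefEq.respectTransparency.types false
set_option maxHeartbeats 1600000

universe u

open CategoryTheory CategoryTheory.Limits

attribute [local instance] HasDerivedCategory.standard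

namespace Groth.Agent.KExact.KerRank

variable {A : Type u} [CommRing A]

/-- A perfect complex in degrees `[0, b]` with `H⁰ = A` universally is `A ⊕ (something in degrees [1, b])`. -/
theorem exists_split (E : CochainComplex (ModuleCat.{u} A) ℤ) (b : ℤ) (hb : 1 ≤ b)
    (hv : ∀ i, i < 0 ∨ b < i → IsZero (E.X i)) (hf : ∀ i, Module.Finite A (E.X i) ∧ Module.Projective A (E.X i))
    (hH : E.homology 0 ≅ ModuleCat.of A A)
    (hfib : ∀ (k : Type u) [Field k] [Algebra A k],
      Module.finrank k (LinearMap.ker ((E.d 0 1).hom.baseChange k)) = 1) :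
    ∃ P : CochainComplex (ModuleCat.{u} A) ℤ, (∀ i, i < 1 ∨ b < i → IsZero (P.X i)) ∧
      (∀ i, Module.Finite A (P.X i) ∧ Module.Projective A (P.X i)) ∧
      ∀ [HasBinaryBiproduct (DerivedCategory.Q.obj ((HomologicalComplex.single (ModuleCat.{u} A) (ComplexShape.up ℤ) 0).obj
          (ModuleCat.of A A))) (DerivedCategory.Q.obj P)],
        Nonempty (DerivedCategory.Q.obj E ≅
          DerivedCategory.Q.obj ((HomologicalComplex.single (ModuleCat.{u} A) (ComplexShape.up ℤ) 0).obj
            (ModuleCat.of A A)) ⊞ DerivedCategory.Q.obj P) := by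
  let d := (E.d 0 1).hom
  let S := (HomologicalComplex.single (ModuleCat.{u} A) (ComplexShape.up ℤ) 0).obj (ModuleCat.of A A)
  have hd : E.d (-1) 0 = 0 := (hv (-1) (Or.inl (by omega))).eq_of_src _ _
  -- the kernel
  let eK : LinearMap.ker d ≃ₗ[A] A :=
    (((E.cyclesIsKernel 0 1 (by simp)).conePointUniqueUpToIso (ModuleCat.kernelIsLimit (E.d 0 1))).symm ≪≫
      E.isoHomologyπ (-1) 0 (by simp) hd ≪≫ hH).toLinearEquiv
  haveI := (hf 0).1
  haveI := (hf 0).2
  haveI := (hf 1).1
  haveI := (hf 1).2
  haveI hC : Module.Projective A (E.X 1 ⧸ LinearMap.range d) := projective_coker d eK hfib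
  -- the retraction
  obtain ⟨σ, hσ⟩ := Module.projective_lifting_property (LinearMap.range d).mkQ LinearMap.id (Submodule.mkQ_surjective _)
  let p : E.X 1 →ₗ[A] LinearMap.range d :=
    LinearMap.codRestrict _ (LinearMap.id - σ ∘ₗ (LinearMap.range d).mkQ) fun x => by
      rw [← Submodule.Quotient.mk_eq_zero]
      show (LinearMap.range d).mkQ (x - σ ((LinearMap.range d).mkQ x)) = 0
      rw [map_sub, show (LinearMap.range d).mkQ (σ ((LinearMap.range d).mkQ x)) = (LinearMap.range d).mkQ x from
        LinearMap.congr_fun hσ _, sub_self]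
  haveI : Module.Projective A (LinearMap.range d) :=
    Module.Projective.of_split (LinearMap.range d).subtype p (LinearMap.ext fun x => Subtype.ext (by
      show (x : E.X 1) - σ ((LinearMap.range d).mkQ x) = x
      rw [show (LinearMap.range d).mkQ (x : E.X 1) = 0 from (Submodule.Quotient.mk_eq_zero _).2 x.2, map_zero,
        sub_zero]))
  obtain ⟨s, hs⟩ := Module.projective_lifting_property d.rangeRestrict LinearMap.id d.surjective_rangeRestrict
  let r : E.X 0 →ₗ[A] LinearMap.ker d :=
    LinearMap.codRestrict _ (LinearMap.id - s ∘ₗ d.rangeRestrict) fun x => by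
      show d (x - s (d.rangeRestrict x)) = 0
      rw [map_sub]
      exact sub_eq_zero.2 (congrArg Subtype.val (LinearMap.congr_fun hs (d.rangeRestrict x))).symm
  have hr : ∀ x : LinearMap.ker d, r x = x := fun x => Subtype.ext (by
    show (x : E.X 0) - s (d.rangeRestrict x) = x
    rw [show d.rangeRestrict (x : E.X 0) = 0 from Subtype.ext x.2, map_zero, sub_zero])
  let ψ : E ⟶ S := HomologicalComplex.mkHomToSingle (ModuleCat.ofHom (eK.toLinearMap ∘ₗ r)) (by
    intro i hi
    obtain rfl : i = -1 := by simp at hi; omega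
    rw [hd, zero_comp])
  let ι : S ⟶ E := HomologicalComplex.mkHomFromSingle (ModuleCat.ofHom ((LinearMap.ker d).subtype ∘ₗ eK.symm.toLinearMap)) (by
    intro j hj
    obtain rfl : j = 1 := by simp at hj; omega
    exact ModuleCat.hom_ext (LinearMap.ext fun x => (eK.symm x).2))
  have hιψ : ι ≫ ψ = 𝟙 S := by
    refine HomologicalComplex.from_single_hom_ext ?_
    rw [HomologicalComplex.comp_f, HomologicalComplex.mkHomFromSingle_f, HomologicalComplex.mkHomToSingle_f,
      HomologicalComplex.id_f, Category.assoc]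
    have : ModuleCat.ofHom ((LinearMap.ker d).subtype ∘ₗ eK.symm.toLinearMap) ≫ ModuleCat.ofHom (eK.toLinearMap ∘ₗ r) =
        𝟙 (ModuleCat.of A A) := ModuleCat.hom_ext (LinearMap.ext fun x => by
      show eK (r (eK.symm x)) = x
      rw [hr, LinearEquiv.apply_symm_apply])
    rw [reassoc_of% this, Iso.hom_inv_id]
  haveI hψ0 : IsIso (HomologicalComplex.homologyMap ψ 0) := by
    haveI : Epi (HomologicalComplex.cyclesMap ι 0) := by
      let w : E.cycles 0 ⟶ S.cycles 0 := S.liftCycles (E.iCycles 0 ≫ ψ.f 0) 1 (by simp)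
        ((HomologicalComplex.isZero_single_obj_X (ComplexShape.up ℤ) 0 (ModuleCat.of A A) 1 (by omega)).eq_of_tgt _ _)
      refine (epi_of_epi_fac (show w ≫ HomologicalComplex.cyclesMap ι 0 = 𝟙 _ from ?_))
      rw [← cancel_mono (E.iCycles 0), Category.assoc, HomologicalComplex.cyclesMap_i,
        HomologicalComplex.liftCycles_i_assoc, Category.id_comp]
      refine ModuleCat.hom_ext (LinearMap.ext fun z => ?_)
      have hz : d ((E.iCycles 0).hom z) = 0 :=
        LinearMap.congr_fun (ModuleCat.hom_ext_iff.1 (E.iCycles_d 0 1)) z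
      rw [HomologicalComplex.mkHomFromSingle_f, HomologicalComplex.mkHomToSingle_f]
      simp only [Category.assoc, Iso.inv_hom_id_assoc]
      show ((eK.symm (eK (r ((E.iCycles 0).hom z)))) : E.X 0) = _
      rw [LinearEquiv.symm_apply_apply]
      exact congrArg Subtype.val (hr ⟨_, hz⟩)
    haveI : Epi (HomologicalComplex.homologyMap ι 0) := by
      refine epi_of_epi_fac (f := S.homologyπ 0) (h := HomologicalComplex.cyclesMap ι 0 ≫ E.homologyπ 0) ?_
      exact HomologicalComplex.homologyπ_naturality _ _
    have h : HomologicalComplex.homologyMap ι 0 ≫ HomologicalComplex.homologyMap ψ 0 = 𝟙 _ := by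
      rw [← HomologicalComplex.homologyMap_comp, hιψ, HomologicalComplex.homologyMap_id]
    haveI : IsSplitMono (HomologicalComplex.homologyMap ι 0) := ⟨⟨⟨_, h⟩⟩⟩
    haveI : IsIso (HomologicalComplex.homologyMap ι 0) := isIso_of_mono_of_epi _
    rw [IsIso.inv_eq_of_hom_inv_id h |>.symm]
    infer_instance
  -- the upper part
  let P := E.truncGE 1
  have hPlow : ∀ i, i < 1 → IsZero (P.X i) := fun i hi => CochainComplex.isZero_of_isStrictlyGE P 1 i hi
  let eC : ModuleCat.of A (E.X 1 ⧸ LinearMap.range d) ≅ P.X 1 :=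
    (ModuleCat.cokernelIsoRangeQuotient (E.d 0 1)).symm ≪≫
      (cokernelIsCokernel (E.d 0 1)).coconePointUniqueUpToIso (E.opcyclesIsCokernel 0 1 (by simp)) ≪≫
      (E.truncGEXIsoOpcycles 1).symm
  refine ⟨P, fun i hi => ?_, fun i => ?_, fun {_} => ?_⟩
  · by_cases h : i < 1
    · exact hPlow i h
    · exact (hv i (Or.inr (by omega))).of_iso (E.truncGEXIso 1 i (by omega))
  · rcases lt_trichotomy i 1 with h | h | h
    · haveI := ModuleCat.subsingleton_of_isZero (hPlow i h)
      exact ⟨inferInstance, inferInstance⟩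
    · subst h
      exact ⟨Module.Finite.equiv eC.toLinearEquiv, Module.Projective.of_equiv eC.toLinearEquiv⟩
    · let e := (E.truncGEXIso 1 i h).toLinearEquiv
      haveI := (hf i).2
      exact ⟨(Module.Finite.equiv_iff e).2 (hf i).1, Module.Projective.of_equiv e.symm⟩
  let H := DerivedCategory.homologyFunctor (ModuleCat.{u} A)
  let u : DerivedCategory.Q.obj E ⟶ DerivedCategory.Q.obj S ⊞ DerivedCategory.Q.obj P :=
    biprod.lift (DerivedCategory.Q.map ψ) (DerivedCategory.Q.map (E.πTruncGE 1))
  haveI : IsIso u := by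
    refine (DerivedCategory.isIso_iff (C := ModuleCat.{u} A) u).2 fun i => ?_
    have hfs : (H i).map (biprod.fst : DerivedCategory.Q.obj S ⊞ DerivedCategory.Q.obj P ⟶ _) ≫ (H i).map biprod.inl +
        (H i).map (biprod.snd : DerivedCategory.Q.obj S ⊞ DerivedCategory.Q.obj P ⟶ _) ≫ (H i).map biprod.inr = 𝟙 _ := by
      rw [← Functor.map_comp, ← Functor.map_comp, ← Functor.map_add, biprod.total, CategoryTheory.Functor.map_id]
    by_cases hi : i = 0
    · subst hi
      have hz : IsZero ((H 0).obj (DerivedCategory.Q.obj P)) :=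
        (ShortComplex.isZero_homology_of_isZero_X₂ _ (hPlow 0 (by omega))).of_iso
          ((DerivedCategory.homologyFunctorFactors (ModuleCat.{u} A) 0).app P)
      haveI : IsIso ((H 0).map (biprod.fst : DerivedCategory.Q.obj S ⊞ DerivedCategory.Q.obj P ⟶ _)) := by
        refine ⟨(H 0).map biprod.inl, ?_, by rw [← Functor.map_comp, biprod.inl_fst, CategoryTheory.Functor.map_id]⟩
        rw [hz.eq_of_tgt ((H 0).map biprod.snd) 0, zero_comp, add_zero] at hfs
        exact hfs
      haveI : IsIso ((H 0).map u ≫ (H 0).map biprod.fst) := by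
        rw [← Functor.map_comp, biprod.lift_fst]
        exact (NatIso.isIso_map_iff (DerivedCategory.homologyFunctorFactors (ModuleCat.{u} A) 0) ψ).2 hψ0
      exact IsIso.of_isIso_comp_right ((H 0).map u) ((H 0).map biprod.fst)
    · have hz : IsZero ((H i).obj (DerivedCategory.Q.obj S)) :=
        (ShortComplex.isZero_homology_of_isZero_X₂ _
          (HomologicalComplex.isZero_single_obj_X (ComplexShape.up ℤ) 0 _ i hi)).of_iso
          ((DerivedCategory.homologyFunctorFactors (ModuleCat.{u} A) i).app S)
      haveI : IsIso ((H i).map (biprod.snd : DerivedCategory.Q.obj S ⊞ DerivedCategory.Q.obj P ⟶ _)) := by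
        refine ⟨(H i).map biprod.inr, ?_, by rw [← Functor.map_comp, biprod.inr_snd, CategoryTheory.Functor.map_id]⟩
        rw [hz.eq_of_tgt ((H i).map biprod.fst) 0, zero_comp, zero_add] at hfs
        exact hfs
      haveI : IsIso ((H i).map u ≫ (H i).map biprod.snd) := by
        rw [← Functor.map_comp, biprod.lift_snd]
        refine (NatIso.isIso_map_iff (DerivedCategory.homologyFunctorFactors (ModuleCat.{u} A) i) _).2 ?_
        show IsIso (HomologicalComplex.homologyMap (E.πTruncGE 1) i)
        by_cases hi1 : 1 ≤ i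
        · haveI : QuasiIsoAt (E.πTruncGE 1) i :=
            HomologicalComplex.quasiIsoAt_πTruncGE _ _
              (show ((ComplexShape.embeddingUpIntGE 1).f (i - 1).toNat) = i by simp; omega)
          exact (quasiIsoAt_iff_isIso_homologyMap _ _).1 inferInstance
        · exact ⟨0, (ShortComplex.isZero_homology_of_isZero_X₂ _ (hv i (Or.inl (by omega)))).eq_of_src _ _,
            (ShortComplex.isZero_homology_of_isZero_X₂ _ (hPlow i (by omega))).eq_of_src _ _⟩
      exact IsIso.of_isIso_comp_right ((H i).map u) ((H i).map biprod.snd)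
  exact ⟨asIso u⟩

end Groth.Agent.KExact.KerRank
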