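import Groth.Agent.KExact.Exact
import Groth.Agent.KFlatLib.Perfect.Basic
import Groth.Agent.KFlatLib.Perfect.DLocal

/-!
# Transporting exactness of `G ↦ H^p(R ⊗ G)` along pseudo-coherent approximations
-/

set_option autoImplicit false
set_option linter.style.haveILetI false
set_option backward.isDefEq.respectTransparency false
set_option backward.isDefEq.respectTransparency.types false

universe u

open CategoryTheory CategoryTheory.Limits AlgebraicGeometry

attribute [local instance] HasDerivedCategory.standard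

namespace Groth.Agent.KExact

open KFlatLib

variable {X : Scheme.{u}}

/-- Functoriality of `H^p(R ⊗ G)` in `R`. -/
noncomputable def psiMap {A B : CochainComplex X.Modules ℤ} (φ : A ⟶ B) (p : ℤ) :
    psi A p ⟶ psi B p where
  app G := HomologicalComplex.homologyMap
    ((((DCoh.tensorBi (X := X)).flip.obj G).mapHomologicalComplex (ComplexShape.up ℤ)).map φ) p
  naturality G G' g := by
    change HomologicalComplex.homologyMap _ p ≫ HomologicalComplex.homologyMap _ p =
      HomologicalComplex.homologyMap _ p ≫ HomologicalComplex.homologyMap _ p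
    rw [← HomologicalComplex.homologyMap_comp, ← HomologicalComplex.homologyMap_comp]
    refine congrArg (fun t => HomologicalComplex.homologyMap t p) ?_
    exact ((NatTrans.mapHomologicalComplex ((DCoh.tensorBi (X := X)).flip.map g)
      (ComplexShape.up ℤ)).naturality φ).symm

lemma quasiIso_tenR {A B : CochainComplex X.Modules ℤ} (φ : A ⟶ B) [QuasiIso φ]
    (hA : DCoh.IsKFlat A) (hB : DCoh.IsKFlat B) (G : X.Modules) :
    QuasiIso ((((DCoh.tensorBi (X := X)).flip.obj G).mapHomologicalComplex (ComplexShape.up ℤ)).map φ) := by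
  haveI := quasiIso_tensorCx_flip_of_isKFlat φ hA hB
    ((HomologicalComplex.single X.Modules (ComplexShape.up ℤ) 0).obj G)
  exact (quasiIso_iff_of_arrow_mk_iso _ _
    (((Functor.mapArrowFunctor _ _).mapIso (singleIso DCoh.tensorBi G)).app (Arrow.mk φ))).1
      (by assumption)

lemma isIso_psiMap_of_quasiIso {A B : CochainComplex X.Modules ℤ} (φ : A ⟶ B) [QuasiIso φ]
    (hA : DCoh.IsKFlat A) (hB : DCoh.IsKFlat B) (p : ℤ) : IsIso (psiMap φ p) := by
  haveI : ∀ G, IsIso ((psiMap φ p).app G) := fun G => by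
    haveI := quasiIso_tenR φ hA hB G
    exact (quasiIsoAt_iff_isIso_homologyMap _ p).1 inferInstance
  exact NatIso.isIso_of_isIso_app _

/-- A map of K-flat complexes with cone acyclic in degrees `≥ m` gives isomorphisms above `m`. -/
lemma isIso_psiMap_of_cone {A B : CochainComplex X.Modules ℤ} (φ : A ⟶ B)
    (hA : DCoh.IsKFlat A) (hB : DCoh.IsKFlat B) (m : ℤ)
    (h : IsPcMap m (DerivedCategory.Q.map φ)) (p : ℤ) (hp : m < p) : IsIso (psiMap φ p) := by
  obtain ⟨W, ψ, hψ, hflat, hz⟩ :=
    (flatCover X).exists_bounded_resolution (CochainComplex.mappingCone φ) (m - 1)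
      fun i hi => (isPcMap_iff_cone m φ).1 h i (by omega)
  haveI : CochainComplex.IsStrictlyLE W (m - 1) :=
    (CochainComplex.isStrictlyLE_iff W (m - 1)).2 fun i hi => hz i hi
  haveI := hψ
  haveI : ∀ G, IsIso ((psiMap φ p).app G) := fun G => by
    let T := (DCoh.tensorBi (X := X)).flip.obj G
    let Tc := T.mapHomologicalComplex (ComplexShape.up ℤ)
    haveI : QuasiIso (Tc.map ψ) := quasiIso_tenR ψ (isKFlat_of_isStrictlyLE W (m - 1) hflat)
      (kFlat_cone (T := DCoh.tensorBi) φ hA hB) G
    have hmap : IsPcMap m (DerivedCategory.Q.map (Tc.map φ)) :=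
      (isPcMap_iff_cone m _).2 fun i hi =>
        IsZero.of_iso (IsZero.of_iso (ShortComplex.isZero_homology_of_isZero_X₂ _
          (T.map_isZero (hz i (by omega)))) (isoOfQuasiIsoAt (Tc.map ψ) i).symm)
          ((HomologicalComplex.homologyFunctor X.Modules _ i).mapIso
            (CochainComplex.mappingCone.mapHomologicalComplexIso φ T)).symm
    exact (NatIso.isIso_map_iff (DerivedCategory.homologyFunctorFactors X.Modules p) (Tc.map φ)).1
      (hmap.1 p hp)
  exact NatIso.isIso_of_isIso_app _

/-- Isomorphic functors of `G` for K-flat complexes related by an approximation in the derived category. -/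
theorem nonempty_psi_iso_of_isPcMap {A B : CochainComplex X.Modules ℤ} (hA : DCoh.IsKFlat A)
    (hB : DCoh.IsKFlat B) {m : ℤ} (α : DerivedCategory.Q.obj A ⟶ DerivedCategory.Q.obj B)
    (h : IsPcMap m α) (p : ℤ) (hp : m < p) : Nonempty (psi A p ≅ psi B p) := by
  obtain ⟨Z, s, hs, g, rfl⟩ := DerivedCategory.right_fac α
  haveI : IsIso (DerivedCategory.Q.map s) := hs
  haveI : QuasiIso s := (DerivedCategory.isIso_Q_map_iff_quasiIso _ _).1 hs
  let ψ := (flatCover X).ψ.app Z
  haveI : QuasiIso ψ := (flatCover X).quasiIso_ψ Z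
  haveI : QuasiIso (ψ ≫ s) := inferInstance
  haveI : IsIso (DerivedCategory.Q.map ψ) := isIso_Q_map ψ inferInstance
  have hg : IsPcMap m (DerivedCategory.Q.map (ψ ≫ g)) := by
    have : DerivedCategory.Q.map (ψ ≫ g) =
        (DerivedCategory.Q.map ψ ≫ DerivedCategory.Q.map s) ≫
          (inv (DerivedCategory.Q.map s) ≫ DerivedCategory.Q.map g) ≫ 𝟙 _ := by
      simp
    rw [this]
    exact h.comp_iso _ _
  haveI := isIso_psiMap_of_cone (ψ ≫ g) (isKFlat_kRes Z) hB m hg p hp
  haveI := isIso_psiMap_of_quasiIso (ψ ≫ s) (isKFlat_kRes Z) hA p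
  exact ⟨(asIso (psiMap (ψ ≫ s) p)).symm ≪≫ asIso (psiMap (ψ ≫ g) p)⟩

/-- An exact functor commutes with opcycles and open restrictions keep them flat. -/
lemma isFlat_opcycles_restrict {U : Scheme.{u}} (j : U ⟶ X) [IsOpenImmersion j]
    (R : CochainComplex X.Modules ℤ) (p : ℤ) (h : FlatMod.IsFlat (R.opcycles p)) :
    FlatMod.IsFlat (((rCx j).obj R).opcycles p) := by
  obtain ⟨φ, hφ, -⟩ := exists_map_opcycles (Scheme.Modules.restrictFunctor j) R p
  exact KFlatLib.IsFlat.of_iso
    (((Scheme.Modules.restrictFunctorIsoPullback j).app _).symm ≪≫ asIso φ) (isFlat_pullback j h)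

lemma isFlat_restrict_X {U : Scheme.{u}} (j : U ⟶ X) [IsOpenImmersion j]
    (R : CochainComplex X.Modules ℤ) (h : ∀ n, FlatMod.IsFlat (R.X n)) (n : ℤ) :
    FlatMod.IsFlat (((rCx j).obj R).X n) :=
  KFlatLib.IsFlat.of_iso ((Scheme.Modules.restrictFunctorIsoPullback j).app _).symm
    (isFlat_pullback j (h n))

end Groth.Agent.KExact
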