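import Groth.Agent.KExact.H0Complex
import Groth.Agent.KExact.PcMap
import Groth.Agent.H26.H0Glob
import Groth.Agent.KFlatLib.Scheme.ProperFlatPerfect
import Groth.Agent.KFlatLib.Scheme.TorAmpPush
import Groth.Agent.KFlatLib.Scheme.TildeAmp
import Groth.Agent.KFlatLib.Scheme.TildePull
import Groth.Agent.KFlatLib.Scheme.RpushFF
import Groth.Agent.KFlatLib.Scheme.EvalPerfect
import Groth.Agent.CAlgOdd.PCResolve
import Groth.Agent.S5611
import Groth.Agent.KFlatLib.Scheme.DualizingCharts

/-!
# Splitting of `Rf_* O` when the fibres have constant functions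
-/

set_option linter.style.haveILetI false
set_option backward.isDefEq.respectTransparency false
set_option backward.isDefEq.respectTransparency.types false
set_option maxHeartbeats 1600000

universe u

open CategoryTheory CategoryTheory.Limits AlgebraicGeometry Pretriangulated TopologicalSpace

attribute [local instance] HasDerivedCategory.standard

namespace Groth.Agent.KExact.H0Split

open Groth.Agent Groth.Agent.KFlatLib

variable {X S : Scheme.{u}}

/-- Constancy of functions on every base change. -/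
theorem isIso_unitToPush_of_fibres (f : X ⟶ S) [Flat f] [IsProper f] [LocallyOfFinitePresentation f]
    (h : ∀ s : S, IsIso (f.fiberToSpecResidueField s).appTop) {X' S' : Scheme.{u}} {f' : X' ⟶ S'} {gX : X' ⟶ X}
    {g : S' ⟶ S} (hsq : IsPullback gX f' f g) : IsIso (ClSub.unitToPush f') := by
  have h0 : ∀ s : S, Models.hRank ↥(S.residueField s) (f.fiber s) (f.fiberToSpecResidueField s)
      (Coh.structureModule (f.fiber s)) 0 = 1 := fun s => by
    letI : Algebra ↥(S.residueField s) Γ(f.fiber s, ⊤) :=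
      ((f.fiberToSpecResidueField s).appTop.hom.comp
        (Scheme.ΓSpecIso (CommRingCat.of ↥(S.residueField s))).inv.hom).toAlgebra
    haveI := h s
    have hb : Function.Bijective (algebraMap ↥(S.residueField s) Γ(f.fiber s, ⊤)) :=
      (ConcreteCategory.bijective_of_isIso (f.fiberToSpecResidueField s).appTop).comp
        (ConcreteCategory.bijective_of_isIso (Scheme.ΓSpecIso (CommRingCat.of ↥(S.residueField s))).inv)
    rw [← (H26.FibModel.finrank_sections f s).2,
      ← (LinearEquiv.ofBijective (Algebra.linearMap _ _) hb).finrank_eq, Module.finrank_self]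
  choose V hV hy hg using fun s => H26.FibModel.exists_functions f s (h0 s)
  let B : Set S'.Opens := {W | IsAffineOpen W ∧ ∃ s, W ≤ g ⁻¹ᵁ V s}
  have hB : Opens.IsBasis B := Opens.isBasis_iff_nbhd.2 fun {U x} hx => by
    obtain ⟨_, ⟨W, hW, rfl⟩, hxW, hWU⟩ := S'.isBasis_affineOpens.exists_subset_of_mem_open
      (show x ∈ ((U ⊓ g ⁻¹ᵁ V (g x) : S'.Opens) : Set S') from ⟨hx, hy _⟩) (U ⊓ g ⁻¹ᵁ V (g x)).2
    exact ⟨W, ⟨hW, g x, fun z hz => (hWU hz).2⟩, hxW, fun z hz => (hWU hz).1⟩
  refine QCoh.isIso_of_isBasis _ hB fun W hW => ?_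
  obtain ⟨hW, s, hs⟩ := hW
  exact H26.FibModel.bijective_app_of_functions (hg s) hsq hW hs

/-- `H^0 Rf_* O = O` when functions are constant. -/
lemma nonempty_hd_zero {X' S' : Scheme.{u}} (f' : X' ⟶ S') [DCoh.HasRpush f'] [IsIso (ClSub.unitToPush f')] :
    Nonempty (DCoh.HD ((DCoh.Rpush f').obj (DCoh.inD X' (Coh.structureModule X'))) 0 ≅ Coh.structureModule S') := by
  haveI := hasInjectiveResolutions_modules (X := X')
  obtain ⟨e⟩ := nonempty_hd_rpush_single f' (Coh.structureModule X') 0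
  exact ⟨e ≪≫ (Scheme.Modules.pushforward f').rightDerivedZeroIsoSelf.app _ ≪≫ (asIso (ClSub.unitToPush f')).symm⟩

/-- Base change of `Rf_* O` to an affine scheme. -/
lemma nonempty_lpull_rpush_structure {X' S' : Scheme.{u}} {f : X ⟶ S} {f' : X' ⟶ S'} {g' : X' ⟶ X} {g : S' ⟶ S}
    [IsAffine S] [IsAffine S'] (hsq : IsPullback g' f' f g) [IsProper f] [Flat f] [DCoh.HasRpush f]
    [DCoh.HasLpull g] [DCoh.HasRpush f'] :
    Nonempty ((DCoh.Lpull g).obj ((DCoh.Rpush f).obj (DCoh.inD X (Coh.structureModule X))) ≅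
      (DCoh.Rpush f').obj (DCoh.inD X' (Coh.structureModule X'))) := by
  haveI : CompactSpace X := QuasiCompact.compactSpace_of_compactSpace f
  haveI : QuasiSeparatedSpace X := quasiSeparatedSpace_of_quasiSeparated f
  haveI : IsProper f' := MorphismProperty.of_isPullback (P := @IsProper) hsq inferInstance
  haveI := hasLpull g'
  haveI := hasRpush_scheme g
  haveI := hasRpush_scheme g'
  obtain ⟨τ, hτ⟩ := TorBC.exists_theta_gen hsq
  haveI := TriNat.isTriangulated_good τ
    (TriNat.presTri_comp (TriNat.presTri_rpush f) (TriNat.presTri_lpull g))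
    (TriNat.presTri_comp (TriNat.presTri_lpull g') (TriNat.presTri_rpush f'))
  have hgood : TriNat.good τ (DCoh.inD X (Coh.structureModule X)) := by
    refine TorBC.prop_of_locSP (TriNat.good τ) (fun W j _ _ _ => ?_) _
      (locSP_structure.of_iso ((DerivedCategory.singleFunctorIsoCompQ X.Modules 0).app _).symm)
    haveI : IsAffineHom (j ≫ f) := isAffineHom_of_isAffine _
    haveI : IsAffineHom j :=
      MorphismProperty.of_postcomp (W := @IsAffineHom) (W' := @IsSeparated) j f inferInstance inferInstance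
    obtain ⟨e⟩ := AffineRpush.nonempty_rpush_inD j (Coh.structureModule W) QCoh.isQCoh_structureModule
    refine (TriNat.good τ).prop_of_iso e.symm fun k => ?_
    exact (NatTrans.isIso_app_iff_of_iso τ
      (((DerivedCategory.singleFunctors X.Modules).shiftIso k (-k) 0 (by omega)).app _).symm).1 (hτ W j (-k))
  haveI : IsIso (τ.app (DCoh.inD X (Coh.structureModule X))) :=
    (NatTrans.isIso_app_iff_of_iso τ ((shiftFunctorZero (DCoh.D X) ℤ).app _)).1 (hgood 0)
  let P := (HomologicalComplex.single X.Modules (ComplexShape.up ℤ) 0).obj (Coh.structureModule X)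
  have hP : DCoh.IsKFlat P := isKFlat_of_isStrictlyLE P 0 (isFlat_single 0 isFlat_structureModule)
  haveI := isIso_lpullComparison g' hP
  haveI : IsIso (SheafOfModules.pullbackObjUnitToUnit g'.toRingCatSheafHom) := inferInstance
  let e : (Scheme.Modules.pullback g').obj (Coh.structureModule X) ≅ Coh.structureModule X' :=
    asIso (SheafOfModules.pullbackObjUnitToUnit g'.toRingCatSheafHom)
  let eL : (DCoh.Lpull g').obj (DCoh.inD X (Coh.structureModule X)) ≅ DCoh.inD X' (Coh.structureModule X') :=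
    (DCoh.Lpull g').mapIso ((DerivedCategory.singleFunctorIsoCompQ X.Modules 0).app _) ≪≫
      asIso ((lpullComparison g').app P) ≪≫
      DerivedCategory.Q.mapIso ((HomologicalComplex.singleMapHomologicalComplex (Scheme.Modules.pullback g') _ 0).app _ ≪≫
        (HomologicalComplex.single _ _ 0).mapIso e) ≪≫
      ((DerivedCategory.singleFunctorIsoCompQ X'.Modules 0).app _).symm
  exact ⟨asIso (τ.app (DCoh.inD X (Coh.structureModule X))) ≪≫ (DCoh.Rpush f').mapIso eL⟩

/-- The splitting over an affine scheme. -/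
theorem exists_split_affine (f : X ⟶ S) [IsAffine S] [IsProper f] [Flat f] [LocallyOfFinitePresentation f]
    [DCoh.HasRpush f]
    (hh : ∀ {X' S' : Scheme.{u}} {f' : X' ⟶ S'} {gX : X' ⟶ X} {g : S' ⟶ S}, IsPullback gX f' f g →
      IsIso (ClSub.unitToPush f'))
    [∀ A B : DCoh.D S, HasBinaryBiproduct A B] :
    ∃ (P : DCoh.D S) (b : ℤ), DCoh.IsPerfect P ∧ DCoh.HasTorAmplitudeIn 1 b P ∧
      Nonempty ((DCoh.Rpush f).obj (DCoh.inD X (Coh.structureModule X)) ≅
        DCoh.inD S (Coh.structureModule S) ⊞ P) := by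
  let A : CommRingCat.{u} := Γ(S, ⊤)
  let j : Spec A ⟶ S := S.isoSpec.inv
  haveI : PreservesFiniteLimits (tilde.functor A) := QCoh.tilde_preservesFiniteLimits
  haveI : CompactSpace X := QuasiCompact.compactSpace_of_compactSpace f
  haveI : QuasiSeparatedSpace X := quasiSeparatedSpace_of_quasiSeparated f
  let O := DCoh.inD X (Coh.structureModule X)
  let K := (DCoh.Rpush f).obj O
  have hOsp : LocSP O := locSP_structure.of_iso ((DerivedCategory.singleFunctorIsoCompQ X.Modules 0).app _).symm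
  have hK : LocSP K := TorBC.locSP_rpush_properFlat f hOsp
  obtain ⟨M, ⟨eM⟩⟩ := exists_tildeD_iso (R := A) (AffineLift.isQCohD_of_locSP (hK.restrict' j))
  have hR : RPerf M := rperf_of_locSP ((hK.restrict' j).of_iso eM.symm)
  -- amplitude
  obtain ⟨N, hN⟩ := exists_Rpush_bound f
  let b : ℤ := (N : ℤ) + 1
  have hOamp : DCoh.HasTorAmplitudeIn 0 0 O := torAmplitude_of_flatAmplitude
    ⟨(HomologicalComplex.single X.Modules (ComplexShape.up ℤ) 0).obj (Coh.structureModule X),
      fun i hi => HomologicalComplex.isZero_single_obj_X _ _ _ _ (by omega), isFlat_single 0 isFlat_structureModule,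
      ⟨((DerivedCategory.singleFunctorIsoCompQ X.Modules 0).app _).symm⟩⟩
  have hKamp : DCoh.HasTorAmplitudeIn 0 (0 + ((N + 1 : ℕ) : ℤ)) K :=
    torAmplitude_rpush' f (N + 1) (fun M hM p hp => hN M hM p (by omega)) O
      (AffineLift.isQCohD_of_locSP hOsp) 0 0 hOamp
  obtain ⟨F, hFv, hFf, ⟨eF⟩⟩ := flatAmplitude_of_torAmplitude (fun G => hasLTensorMod G) (by omega) hKamp
  have hMamp : DRing.HasTorAmplitudeIn A 0 b M := (flatAmplitude_tildeD_iff (R := A) M 0 b).1
    ⟨(rCx j).obj F, fun i hi => (Scheme.Modules.restrictFunctor j).map_isZero (hFv i (by simpa [b] using hi)),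
      fun i => isFlat_restrict_X j F hFf i, ⟨((rhoQ j).app F).symm ≪≫ (rho j).mapIso eF ≪≫ eM.symm⟩⟩
  have hMpc : DRing.IsPseudoCoherent A ((0 : ℤ) - 1) M := by
    obtain ⟨E, a, c, hz, hf, ⟨e⟩⟩ := hR
    exact CAlgOdd.PCResolve.isPseudoCoherent_of_projective (fun i hi => hz i (Or.inr hi)) hf e _
  obtain ⟨E, hEv, hEf, ⟨eE⟩⟩ := (Groth.Agent.S5611.result (A := A) M 0 b (by omega)).1 ⟨hMpc, hMamp⟩
  let eK : (rho j).obj K ≅ (DCoh.tildeD A).obj (DerivedCategory.Q.obj E) :=
    eM.symm ≪≫ (DCoh.tildeD A).mapIso eE.symm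
  let tH : ∀ (R : CommRingCat.{u}) [PreservesFiniteLimits (tilde.functor R)] (C : CochainComplex (ModuleCat.{u} R) ℤ)
      (i : ℤ), DCoh.HD ((DCoh.tildeD R).obj (DerivedCategory.Q.obj C)) i ≅ (tilde.functor R).obj (C.homology i) :=
    fun R _ C i => (mapDCHomologyIso (tilde.functor R) i).app _ ≪≫
      (tilde.functor R).mapIso ((DerivedCategory.homologyFunctorFactors (ModuleCat.{u} R) i).app C)
  -- degree zero
  haveI : IsIso (ClSub.unitToPush f) := hh (IsPullback.of_horiz_isIso ⟨by simp⟩ : IsPullback (𝟙 X) f f (𝟙 S))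
  obtain ⟨e0⟩ := nonempty_hd_zero f
  let hH : E.homology 0 ≅ ModuleCat.of A A := (tilde.functor A).preimageIso
    ((tH A E 0).symm ≪≫ (DerivedCategory.homologyFunctor (Spec A).Modules 0).mapIso eK.symm ≪≫
      hdRhoIso j K 0 ≪≫ (Scheme.Modules.restrictFunctor j).mapIso e0 ≪≫
      Scheme.Modules.restrictUnitIso j ≪≫ tildeSelf.symm)
  have hfib : ∀ (k : Type u) [Field k] [Algebra A k],
      Module.finrank k (LinearMap.ker ((E.d 0 1).hom.baseChange k)) = 1 := fun k _ _ => by
    let φ := algebraMap A k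
    let π : Spec (CommRingCat.of k) ⟶ Spec A := Spec.map (CommRingCat.ofHom φ)
    let g := π ≫ j
    haveI := hasLpull g
    haveI := hasLpull π
    haveI := hasLpull j
    haveI := hasRpush_scheme (pullback.snd f g)
    haveI : PreservesFiniteLimits (tilde.functor (CommRingCat.of k)) := QCoh.tilde_preservesFiniteLimits
    obtain ⟨eBC⟩ := nonempty_lpull_rpush_structure (IsPullback.of_hasPullback f g)
    haveI : IsIso (ClSub.unitToPush (pullback.snd f g)) := hh (IsPullback.of_hasPullback f g)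
    obtain ⟨e0'⟩ := nonempty_hd_zero (pullback.snd f g)
    obtain ⟨ec⟩ := nonempty_lpull_comp π j
    obtain ⟨er⟩ := nonempty_rho_iso_lpull j
    haveI := H9Misc.DRingLBase.hasLBaseChange φ
    obtain ⟨et⟩ := nonempty_tildeD_lpull_iso φ
    haveI := isIso_baseChangeComparison φ (KFlatLib.kFlat_of_termwiseFlat (L := E)
      (fun i => haveI := (hEf i).2; inferInstance) (b := b) fun i hi => hEv i (Or.inr hi))
    let eT : (DCoh.tildeD (CommRingCat.of k)).obj (DerivedCategory.Q.obj ((extC φ).obj E)) ≅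
        (DCoh.Rpush (pullback.snd f g)).obj (DCoh.inD _ (Coh.structureModule _)) :=
      (DCoh.tildeD (CommRingCat.of k)).mapIso (asIso ((baseChangeComparison φ).app E)).symm ≪≫
        et.app _ ≪≫ (DCoh.Lpull π).mapIso (eK.symm ≪≫ er.app K) ≪≫ ec.app K ≪≫ eBC
    let hH' : ((extC φ).obj E).homology 0 ≅ ModuleCat.of k k := (tilde.fullyFaithfulFunctor (R := CommRingCat.of k)).preimageIso
      ((tH (CommRingCat.of k) ((extC φ).obj E) 0).symm ≪≫
        (DerivedCategory.homologyFunctor _ 0).mapIso eT ≪≫ e0' ≪≫ tildeSelf.symm)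
    let C := (extC φ).obj E
    have hd : C.d (-1) 0 = 0 :=
      ((ModuleCat.extendScalars.{u, u, u} φ).map_isZero (hEv (-1) (Or.inl (by omega)))).eq_of_src _ _
    let eker : LinearMap.ker (C.d 0 1).hom ≃ₗ[k] k :=
      (((C.cyclesIsKernel 0 1 (by simp)).conePointUniqueUpToIso (ModuleCat.kernelIsLimit (C.d 0 1))).symm ≪≫
        C.isoHomologyπ (-1) 0 (by simp) hd ≪≫ hH').toLinearEquiv
    have key : ∀ inst : Algebra A k, inst = φ.toAlgebra →
        letI := inst
        Module.finrank k (LinearMap.ker ((E.d 0 1).hom.baseChange k)) = 1 := by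
      rintro _ rfl
      exact eker.finrank_eq.trans (Module.finrank_self k)
    exact key _ (Algebra.algebra_ext _ _ fun r => rfl)
  obtain ⟨P, hPv, hPf, hsplit⟩ := KerRank.exists_split E b (by omega) hEv hEf hH hfib
  haveI : HasBinaryBiproducts (DCoh.D (Spec A)) := HasBinaryBiproducts.of_hasBinaryProducts
  obtain ⟨es⟩ := hsplit
  let T : CochainComplex (ModuleCat.{u} A) ℤ ⥤ CochainComplex (Spec A).Modules ℤ :=
    (tilde.functor A).mapHomologicalComplex (ComplexShape.up ℤ)
  haveI : IsOpenImmersion S.isoSpec.hom := inferInstance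
  let i := S.isoSpec.hom
  let Sa := (HomologicalComplex.single (ModuleCat.{u} A) (ComplexShape.up ℤ) 0).obj (ModuleCat.of A A)
  let P' : DCoh.D S := (rho i).obj ((DCoh.tildeD A).obj (DerivedCategory.Q.obj P))
  let ePQ : P' ≅ DerivedCategory.Q.obj ((rCx i).obj (T.obj P)) :=
    (rho i).mapIso (toDTildeIso P) ≪≫ (rhoQ i).app (T.obj P)
  have hTP : DCoh.IsStrictlyPerfect (T.obj P) :=
    ⟨⟨1, b, fun q hq => (tilde.functor A).map_isZero (hPv q hq)⟩,
      fun q => (Groth.Agent.S12451.result (R := A) (P.X q)).2 (hPf q)⟩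
  let eS : (rho i).obj ((DCoh.tildeD A).obj (DerivedCategory.Q.obj Sa)) ≅ DCoh.inD S (Coh.structureModule S) :=
    (rho i).mapIso (toDTildeIso Sa) ≪≫ (rhoQ i).app (T.obj Sa) ≪≫
      DerivedCategory.Q.mapIso ((rCx i).mapIso
          ((HomologicalComplex.singleMapHomologicalComplex (tilde.functor A) _ 0).app _) ≪≫
        (HomologicalComplex.singleMapHomologicalComplex (Scheme.Modules.restrictFunctor i) _ 0).app _ ≪≫
        (HomologicalComplex.single _ _ 0).mapIso
          ((Scheme.Modules.restrictFunctor i).mapIso tildeSelf ≪≫ Scheme.Modules.restrictUnitIso i)) ≪≫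
      ((DerivedCategory.singleFunctorIsoCompQ S.Modules 0).app _).symm
  obtain ⟨eid⟩ := AffineLift.nonempty_rho_id (𝟙 S) rfl
  refine ⟨P', b, (isPerfect_iff _).2 fun x => ?_, torAmplitude_of_flatAmplitude
    ⟨(rCx i).obj (T.obj P), fun q hq => (Scheme.Modules.restrictFunctor i).map_isZero ((tilde.functor A).map_isZero (hPv q hq)),
      fun q => isFlat_restrict_X i (T.obj P) (fun q => isFlat_of_isFinLocFree (hTP.2 q)) q, ⟨ePQ.symm⟩⟩, ⟨?_⟩⟩
  · exact ⟨_, 𝟙 S, inferInstance, ⟨x, rfl⟩, _, isStrictlyPerfect_restrict i hTP, ⟨ePQ.symm ≪≫ (eid.app P').symm⟩⟩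
  · haveI := preservesBinaryBiproducts_of_preservesBiproducts (DCoh.tildeD A)
    haveI := preservesBinaryBiproducts_of_preservesBiproducts (rho i)
    exact (eid.app K).symm ≪≫ (rhoComp i j (𝟙 S) S.isoSpec.hom_inv_id K).symm ≪≫
      (rho i).mapIso (eK ≪≫ (DCoh.tildeD A).mapIso es) ≪≫
      (rho i).mapIso ((DCoh.tildeD A).mapBiprod _ _) ≪≫ (rho i).mapBiprod _ _ ≪≫
      biprod.mapIso eS (Iso.refl P')

end Groth.Agent.KExact.H0Split
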