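import Groth.Prelude.Def_KLin
import Groth.Prelude.Def_DCoh3
import Groth.Agent.SiteBase.ExtMod
import Groth.Agent.QCoh.Tilde
import Groth.Agent.KFlatLib.Ring.LTenLinear
import Groth.Agent.KFlatLib.Ring.DualizingLocalExt
import Mathlib.Algebra.Homology.DerivedCategory.Ext.Map
import Mathlib.Algebra.Homology.DerivedCategory.Ext.Linear
import Mathlib.Algebra.Homology.DerivedCategory.Linear
import Mathlib.CategoryTheory.Abelian.GrothendieckCategory.HasExt

/-!
# Linearity of `Rf_*`, and cohomology as morphisms in the derived category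
-/

set_option autoImplicit false
set_option linter.style.haveILetI false
set_option linter.unusedSectionVars false
set_option linter.unusedVariables false
set_option backward.isDefEq.respectTransparency false
set_option backward.isDefEq.respectTransparency.types false

universe u

open CategoryTheory CategoryTheory.Limits AlgebraicGeometry TopologicalSpace Opposite
open CategoryTheory.Abelian

attribute [local instance] HasDerivedCategory.standard

namespace Groth.Agent.KExact.HHLinear

variable {A : Type u} [CommRing A]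

section Rpush

variable {X Y : Scheme.{u}} [X.Over (Spec (CommRingCat.of A))] [Y.Over (Spec (CommRingCat.of A))]
  (f : X ⟶ Y) [f.IsOver (Spec (CommRingCat.of A))] [DCoh.HasRpush f]

/-- `Rf_*` is linear. -/
theorem linear_rpush [(DCoh.Rpush f).Additive] : Functor.Linear A (DCoh.Rpush f) := by
  haveI : (Scheme.Modules.pushforward f).Linear A := KLin.linear_pushforward f
  have key : ∀ (E : DCoh.D X) (r : A), (DCoh.Rpush f).map (r • 𝟙 E) = r • 𝟙 _ := fun E r => by
    let η : DCoh.Rpush f ⟶ DCoh.Rpush f :=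
      { app := fun E => (DCoh.Rpush f).map (r • 𝟙 E)
        naturality := fun E E' g => by
          rw [← Functor.map_comp, ← Functor.map_comp, Linear.comp_smul, Linear.smul_comp, Category.comp_id,
            Category.id_comp] }
    let η' : DCoh.Rpush f ⟶ DCoh.Rpush f :=
      { app := fun E => r • 𝟙 _
        naturality := fun E E' g => by
          rw [Linear.comp_smul, Linear.smul_comp, Category.comp_id, Category.id_comp] }
    have h : η = η' := Functor.rightDerived_ext (DCoh.Rpush f)
      ((DCoh.pushKh f).totalRightDerivedUnit DerivedCategory.Qh (HomotopyCategory.quasiIso X.Modules (ComplexShape.up ℤ)))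
      (HomotopyCategory.quasiIso X.Modules (ComplexShape.up ℤ)) _ η η' (by
        ext E
        simp only [NatTrans.comp_app, Functor.whiskerLeft_app, η, η']
        rw [show r • 𝟙 (DerivedCategory.Qh.obj E) = DerivedCategory.Qh.map (r • 𝟙 E) by
          rw [Functor.map_smul, CategoryTheory.Functor.map_id]]
        refine ((((DCoh.pushKh f).totalRightDerivedUnit DerivedCategory.Qh
          (HomotopyCategory.quasiIso X.Modules (ComplexShape.up ℤ))).naturality (r • 𝟙 E)).symm).trans ?_
        haveI : Functor.Linear A ((Scheme.Modules.pushforward f).mapHomotopyCategory (ComplexShape.up ℤ)) := inferInstance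
        rw [show (DCoh.pushKh f).map (r • 𝟙 E) = DerivedCategory.Qh.map
            (((Scheme.Modules.pushforward f).mapHomotopyCategory (ComplexShape.up ℤ)).map (r • 𝟙 E)) from rfl,
          Functor.map_smul, Functor.map_smul, CategoryTheory.Functor.map_id, CategoryTheory.Functor.map_id,
          Linear.smul_comp, Linear.comp_smul]
        exact congrArg (r • ·) ((Category.id_comp _).trans (Category.comp_id _).symm))
    exact congrArg (fun t => NatTrans.app t E) h
  exact ⟨fun {E E'} g r => by
    rw [← Category.comp_id g, ← Linear.comp_smul, Functor.map_comp, key, Linear.comp_smul, Category.comp_id,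
      Category.comp_id]⟩

end Rpush

section Tilde

/-- `~` is linear. -/
theorem linear_tilde :
    letI : (Spec (CommRingCat.of A)).Over (Spec (CommRingCat.of A)) := ⟨𝟙 _⟩
    Functor.Linear A (tilde.functor (CommRingCat.of A)) := by
  letI : (Spec (CommRingCat.of A)).Over (Spec (CommRingCat.of A)) := ⟨𝟙 _⟩
  haveI : (tilde.functor (CommRingCat.of A)).Additive := KFlatLib.tilde_additive _
  have key : ∀ (M : ModuleCat.{u} (CommRingCat.of A)) (r : A),
      (tilde.functor (CommRingCat.of A)).map (r • 𝟙 M) = r • 𝟙 _ := fun M r => by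
    refine ((tilde.adjunction (R := CommRingCat.of A)).homEquiv _ _).injective ?_
    rw [Adjunction.homEquiv_unit, Adjunction.homEquiv_unit]
    refine ((tilde.adjunction (R := CommRingCat.of A)).unit.naturality (r • 𝟙 M)).symm.trans ?_
    refine ModuleCat.hom_ext (LinearMap.ext fun m => ?_)
    let y : Γ(tilde M, ⊤) := (tilde.adjunction (R := CommRingCat.of A)).unit.app M m
    show (tilde.adjunction (R := CommRingCat.of A)).unit.app M (r • m) =
      ((r • 𝟙 (tilde M)) : tilde M ⟶ tilde M).app ⊤ y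
    rw [map_smul, KLin.smul_app_apply]
    show _ = (Spec (CommRingCat.of A)).presheaf.map (homOfLE (le_top : (⊤ : (Spec (CommRingCat.of A)).Opens) ≤ ⊤)).op
      (Coh.toGlobal (𝟙 (Spec (CommRingCat.of A))) r) • y
    rw [show (homOfLE (le_top : (⊤ : (Spec (CommRingCat.of A)).Opens) ≤ ⊤)).op = 𝟙 _ from rfl,
      CategoryTheory.Functor.map_id]
    rfl
  exact ⟨fun {M N} g r => by
    rw [← Category.comp_id g, ← Linear.comp_smul, Functor.map_comp, key, Linear.comp_smul, Category.comp_id,
      Category.comp_id]⟩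

end Tilde

section Ext

variable {X : Scheme.{u}} [HasExt.{u} X.Modules]

instance preservesFiniteLimits_toAb : PreservesFiniteLimits (QCoh.toAbFunctor X) :=
  inferInstanceAs (PreservesFiniteLimits (SheafOfModules.toSheaf X.ringCatSheaf))

instance preservesFiniteColimits_toAb : PreservesFiniteColimits (QCoh.toAbFunctor X) :=
  inferInstanceAs (PreservesFiniteColimits (SheafOfModules.toSheaf X.ringCatSheaf))

/-- A class out of the structure sheaf, in cohomology. -/
noncomputable def toHH (F : X.Modules) (n : ℕ) : Ext.{u} (Coh.structureModule X) F n →+ Coh.HH X F n :=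
  AddMonoidHom.mk' (fun e => (Ext.mk₀ (SiteBase.oneHom X.ringCatSheaf)).comp
    (e.mapExactFunctor (QCoh.toAbFunctor X)) (zero_add n)) fun a b => by
      rw [Ext.mapExactFunctor_add, Ext.comp_add]

theorem toHH_natural {F G : X.Modules} (φ : F ⟶ G) (n : ℕ) (e : Ext.{u} (Coh.structureModule X) F n) :
    toHH G n (e.comp (Ext.mk₀ φ) (add_zero n)) =
      Sheaf.H.map ((SheafOfModules.toSheaf X.ringCatSheaf).map φ) n (toHH F n e) := by
  show (Ext.mk₀ _).comp ((e.comp (Ext.mk₀ φ) (add_zero n)).mapExactFunctor (QCoh.toAbFunctor X)) (zero_add n) = _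
  rw [Ext.mapExactFunctor_comp, Ext.mapExactFunctor_mk₀]
  exact (Ext.comp_assoc_of_third_deg_zero _ _ _ _).symm

theorem bijective_toHH : ∀ (n : ℕ) (F : X.Modules), Function.Bijective (toHH F n) := by
  intro n
  induction n with
  | zero =>
    intro F
    have h : ⇑(toHH F 0) = fun e => Ext.mk₀ (SiteBase.oneHom X.ringCatSheaf ≫
        (QCoh.toAbFunctor X).map (Ext.homEquiv₀ e)) := funext fun e => by
      obtain ⟨φ, rfl⟩ := (Ext.mk₀_bijective _ _).2 e
      show (Ext.mk₀ _).comp ((Ext.mk₀ φ).mapExactFunctor (QCoh.toAbFunctor X)) (zero_add 0) = _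
      rw [Ext.mapExactFunctor_mk₀, Ext.mk₀_comp_mk₀, show Ext.homEquiv₀ (Ext.mk₀ φ) = φ from
        Ext.homEquiv₀.apply_symm_apply φ]
    rw [h]
    exact (Ext.mk₀_bijective _ _).comp
      ((SiteBase.oneHom_comp_bijective (R := X.ringCatSheaf) F).comp Ext.homEquiv₀.bijective)
  | succ n ih =>
    intro F
    obtain ⟨P⟩ := EnoughInjectives.presentation F
    let S := P.shortComplex
    have hS : S.ShortExact := P.shortExact_shortComplex
    haveI : Injective S.X₂ := P.injective
    have hS' : (S.map (QCoh.toAbFunctor X)).ShortExact := QCoh.toAb_shortExact hS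
    have hI : Subsingleton (Coh.HH X S.X₂ (n + 1)) := by
      obtain ⟨e⟩ := SiteBase.nonempty_ext_unit_addEquiv (R := X.ringCatSheaf) S.X₂ (n + 1)
      haveI := Ext.subsingleton_of_injective (Coh.structureModule X) S.X₂ n
      exact e.symm.toEquiv.subsingleton
    have hconn : ∀ y : Ext.{u} (Coh.structureModule X) S.X₃ n, toHH S.X₁ (n + 1) (y.comp hS.extClass rfl) =
        (toHH S.X₃ n y).comp hS'.extClass rfl := fun y => by
      show (Ext.mk₀ (SiteBase.oneHom X.ringCatSheaf)).comp
        ((y.comp hS.extClass rfl).mapExactFunctor (QCoh.toAbFunctor X)) (zero_add (n + 1)) = _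
      rw [Ext.mapExactFunctor_comp, Ext.mapExactFunctor_extClass]
      exact (Ext.comp_assoc (Ext.mk₀ (SiteBase.oneHom X.ringCatSheaf)) (y.mapExactFunctor (QCoh.toAbFunctor X))
        hS'.extClass (zero_add n) rfl (by omega)).symm
    refine ⟨(injective_iff_map_eq_zero _).2 fun x hx => ?_, fun z => ?_⟩
    · obtain ⟨y, rfl⟩ := Ext.covariant_sequence_exact₁ _ hS x
        ((Ext.subsingleton_of_injective (Coh.structureModule X) S.X₂ n).elim _ _) (n₀ := n) rfl
      rw [hconn] at hx
      obtain ⟨w, hw⟩ := Ext.covariant_sequence_exact₃ _ hS' (toHH S.X₃ n y) (n₁ := n + 1) rfl hx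
      obtain ⟨v, rfl⟩ := (ih S.X₂).2 w
      have : y = v.comp (Ext.mk₀ S.g) (add_zero n) := (ih S.X₃).1 (by rw [toHH_natural]; exact hw.symm)
      rw [this, Ext.comp_assoc_of_second_deg_zero, hS.comp_extClass, Ext.comp_zero]
    · obtain ⟨y, hy⟩ := Ext.covariant_sequence_exact₁ _ hS' z (hI.elim _ _) (n₀ := n) rfl
      obtain ⟨v, rfl⟩ := (ih S.X₃).2 y
      exact ⟨v.comp hS.extClass rfl, (hconn v).trans hy⟩

variable [X.Over (Spec (CommRingCat.of A))]

theorem toHH_smul (F : X.Modules) (n : ℕ) (r : A) (e : Ext.{u} (Coh.structureModule X) F n) :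
    toHH F n (r • e) = r • toHH F n e := by
  rw [Ext.smul_eq_comp_mk₀, toHH_natural, KLin.smul_id]
  rfl

/-- Cohomology is morphisms out of the structure sheaf in the derived category. -/
noncomputable def homHH (F : X.Modules) (n : ℕ) :
    (DCoh.inD X (Coh.structureModule X) ⟶ (DCoh.inD X F)⟦(n : ℤ)⟧) ≃ₗ[A] Coh.HH X F n :=
  Ext.homLinearEquiv.symm.trans
    (LinearEquiv.ofBijective { toFun := toHH F n, map_add' := map_add _, map_smul' := fun r e => toHH_smul F n r e }
      (bijective_toHH n F))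

theorem homHH_natural {F G : X.Modules} (φ : F ⟶ G) (n : ℕ)
    (e : DCoh.inD X (Coh.structureModule X) ⟶ (DCoh.inD X F)⟦(n : ℤ)⟧) :
    homHH (A := A) G n (e ≫ ((DerivedCategory.singleFunctor X.Modules 0).map φ)⟦(n : ℤ)⟧') =
      Sheaf.H.map ((SheafOfModules.toSheaf X.ringCatSheaf).map φ) n (homHH (A := A) F n e) := by
  obtain ⟨v, rfl⟩ := (Ext.homLinearEquiv (R := A)).surjective e
  show toHH G n (Ext.homLinearEquiv.symm _) = Sheaf.H.map _ n (toHH F n (Ext.homLinearEquiv.symm _))
  rw [LinearEquiv.symm_apply_apply, ← toHH_natural]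
  congr 1
  apply (Ext.homLinearEquiv (R := A)).injective
  rw [LinearEquiv.apply_symm_apply]
  show _ = (v.comp (Ext.mk₀ φ) (add_zero n)).hom
  rw [Ext.comp_hom, Ext.mk₀_hom, ShiftedHom.comp_mk₀]
  rfl

end Ext

section Ring

/-- Evaluation at `1`. -/
noncomputable def evalOne (Y : Dual.D A) : (Dual.inD A A ⟶ Y) →ₗ[A] Dual.HD A Y 0 where
  toFun φ := (DerivedCategory.homologyFunctor (ModuleCat.{u} A) 0).map φ
    ((DerivedCategory.singleFunctorCompHomologyFunctorIso (ModuleCat.{u} A) 0).inv.app (ModuleCat.of A A) (1 : A))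
  map_add' φ ψ := by rw [Functor.map_add]; rfl
  map_smul' r φ := by rw [Functor.map_smul]; rfl

theorem evalOne_natural {Y Z : Dual.D A} (g : Y ⟶ Z) (φ : Dual.inD A A ⟶ Y) :
    evalOne Z (φ ≫ g) = (DerivedCategory.homologyFunctor (ModuleCat.{u} A) 0).map g (evalOne Y φ) := by
  show (DerivedCategory.homologyFunctor (ModuleCat.{u} A) 0).map (φ ≫ g) _ = _
  rw [Functor.map_comp]
  rfl

theorem subsingleton_hom_unit (Y : Dual.D A) (h : Subsingleton (Dual.HD A Y 0)) :
    Subsingleton (Dual.inD A A ⟶ Y) := by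
  obtain ⟨e⟩ := KFlatLib.exists_homRingLEquiv Y 0
  haveI := h
  haveI : Subsingleton (Dual.inD A A ⟶ Y⟦(0 : ℤ)⟧) := e.injective.subsingleton
  exact ((shiftFunctorZero (Dual.D A) ℤ).app Y).homToEquiv.symm.subsingleton

theorem bijective_evalOne (Y : Dual.D A) : Function.Bijective (evalOne Y) := by
  let H := DerivedCategory.homologyFunctor (ModuleCat.{u} A) 0
  let t := DerivedCategory.TStructure.t (C := ModuleCat.{u} A)
  let π : Y ⟶ (t.truncGE 0).obj Y := (t.truncGEπ 0).app Y
  haveI : ((t.truncGE 0).obj Y).IsGE 0 := t.isGE_truncGE_obj ..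
  haveI : (Dual.inD A A).IsLE 0 := inferInstanceAs (((DerivedCategory.singleFunctor (ModuleCat.{u} A) 0).obj _).IsLE 0)
  haveI : IsIso (H.map π) := H9Misc.isIso_map_truncGEπ 0 0 le_rfl Y
  have hT := t.triangleLTGE_distinguished 0 Y
  haveI : ((t.truncLT 0).obj Y).IsLE (-1) := t.isLE_truncLT_obj ..
  haveI : (((t.truncLT 0).obj Y)⟦(1 : ℤ)⟧).IsLE (-2) := t.isLE_shift _ (-1) 1 (-2) (by omega)
  let u := (DerivedCategory.singleFunctorCompHomologyFunctorIso (ModuleCat.{u} A) 0).app (ModuleCat.of A A)
  have key : ∀ (Z : Dual.D A) [Z.IsGE 0], Function.Bijective (evalOne Z) := fun Z _ => by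
    have h : ⇑(evalOne Z) = (fun g : H.obj (Dual.inD A A) ⟶ H.obj Z => g (u.inv (1 : A))) ∘
        fun φ => H.map φ := rfl
    rw [h]
    refine Function.Bijective.comp ?_ (KFlatLib.bijective_homologyMap 0)
    have h' : (fun g : H.obj (Dual.inD A A) ⟶ H.obj Z => g (u.inv (1 : A))) =
        (fun l : A →ₗ[A] (H.obj Z) => l 1) ∘ (fun g : H.obj (Dual.inD A A) ⟶ H.obj Z => (u.inv ≫ g).hom) := rfl
    rw [h']
    exact (LinearMap.ringLmapEquivSelf A A _).bijective.comp
      ((ModuleCat.homEquiv (M := ModuleCat.of A A) (N := H.obj Z)).bijective.comp u.homFromEquiv.bijective)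
  have hπ : Function.Bijective fun φ : Dual.inD A A ⟶ Y => φ ≫ π := by
    refine ⟨fun φ ψ h => sub_eq_zero.1 ?_, fun ψ => ?_⟩
    · obtain ⟨χ, hχ⟩ := Pretriangulated.Triangle.coyoneda_exact₂ _ hT (φ - ψ) (by
        show (φ - ψ) ≫ π = 0
        rw [Preadditive.sub_comp]; exact sub_eq_zero.2 h)
      have hs := subsingleton_hom_unit ((t.truncLT 0).obj Y)
        (ModuleCat.subsingleton_of_isZero (DerivedCategory.isZero_of_isLE _ (-1) 0 (by omega)))
      rw [hχ, show χ = 0 from hs.elim _ _, zero_comp]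
    · have hs := subsingleton_hom_unit (((t.truncLT 0).obj Y)⟦(1 : ℤ)⟧)
        (ModuleCat.subsingleton_of_isZero (DerivedCategory.isZero_of_isLE _ (-2) 0 (by omega)))
      obtain ⟨φ, hφ⟩ := Pretriangulated.Triangle.coyoneda_exact₃ _ hT ψ (hs.elim _ _)
      exact ⟨φ, hφ.symm⟩
  refine ((asIso (H.map π)).toLinearEquiv.bijective.of_comp_iff' _).1 ?_
  have h : ⇑(asIso (H.map π)).toLinearEquiv ∘ ⇑(evalOne Y) = ⇑(evalOne ((t.truncGE 0).obj Y)) ∘ fun φ => φ ≫ π :=
    funext fun φ => (evalOne_natural π φ).symm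
  rw [h]
  exact (key _).comp hπ

end Ring

end Groth.Agent.KExact.HHLinear
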