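import Groth.Agent.KFlatLib.Scheme.ApproxQcqs
import Groth.Agent.KFlatLib.Scheme.CohWindow
import Groth.Agent.KFlatLib.Scheme.ProperFlatPC
import Groth.Agent.KFlatLib.Scheme.RpushCoprodQCoh
import Groth.Agent.TriCat.Hocolim
import Groth.Agent.TriCat.HocolimHomological
import Mathlib.CategoryTheory.Limits.Constructions.EventuallyConstant

/-!
# Pseudo-coherent objects as homotopy colimits of perfect objects
-/

set_option linter.style.haveILetI false
set_option backward.isDefEq.respectTransparency false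
set_option backward.isDefEq.respectTransparency.types false
set_option maxHeartbeats 1600000

universe u

open CategoryTheory CategoryTheory.Limits AlgebraicGeometry Pretriangulated

attribute [local instance] HasDerivedCategory.standard

namespace Groth.Agent.KExact.HocolimPerf

open Groth.Agent Groth.Agent.KFlatLib

variable {X : Scheme.{u}}

/-- Truncations only see high degree cohomology. -/
lemma isIso_truncGE_map {A B : DCoh.D X} (g : A ⟶ B) (n : ℤ)
    (h : ∀ i, n ≤ i → IsIso ((DerivedCategory.homologyFunctor X.Modules i).map g)) :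
    IsIso (((DerivedCategory.TStructure.t : Triangulated.TStructure (DCoh.D X)).truncGE n).map g) := by
  let t : Triangulated.TStructure (DCoh.D X) := DerivedCategory.TStructure.t
  let H := DerivedCategory.homologyFunctor X.Modules
  refine (DerivedCategory.isIso_iff (C := X.Modules) ((t.truncGE n).map g)).2 fun i => ?_
  by_cases hi : n ≤ i
  · haveI := h i hi
    haveI : IsIso ((H i).map ((t.truncGEπ n).app A)) := Window.isIso_hd_map_truncGEπ A n i hi
    haveI : IsIso ((H i).map ((t.truncGEπ n).app B)) := Window.isIso_hd_map_truncGEπ B n i hi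
    haveI : IsIso ((H i).map ((t.truncGEπ n).app A) ≫ (H i).map ((t.truncGE n).map g)) := by
      rw [← Functor.map_comp, ← (t.truncGEπ n).naturality g, Functor.map_comp]
      exact inferInstanceAs (IsIso ((H i).map g ≫ (H i).map ((t.truncGEπ n).app B)))
    exact IsIso.of_isIso_comp_left ((H i).map ((t.truncGEπ n).app A)) _
  · haveI : DerivedCategory.IsGE ((t.truncGE n).obj A) n := ⟨(t.isGE_truncGE_obj A _ _ le_rfl).1⟩
    haveI : DerivedCategory.IsGE ((t.truncGE n).obj B) n := ⟨(t.isGE_truncGE_obj B _ _ le_rfl).1⟩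
    exact ⟨0, (DerivedCategory.isZero_of_isGE ((t.truncGE n).obj A) n i (by omega)).eq_of_src _ _,
      (DerivedCategory.isZero_of_isGE ((t.truncGE n).obj B) n i (by omega)).eq_of_src _ _⟩

/-- Conversely. -/
lemma isIso_hd_of_truncGE {A B : DCoh.D X} (g : A ⟶ B) (n : ℤ)
    (h : IsIso (((DerivedCategory.TStructure.t : Triangulated.TStructure (DCoh.D X)).truncGE n).map g))
    (i : ℤ) (hi : n ≤ i) : IsIso ((DerivedCategory.homologyFunctor X.Modules i).map g) := by
  let t : Triangulated.TStructure (DCoh.D X) := DerivedCategory.TStructure.t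
  let H := DerivedCategory.homologyFunctor X.Modules
  haveI : IsIso ((t.truncGE n).map g) := h
  haveI : IsIso ((H i).map ((t.truncGEπ n).app A)) := Window.isIso_hd_map_truncGEπ A n i hi
  haveI : IsIso ((H i).map ((t.truncGEπ n).app B)) := Window.isIso_hd_map_truncGEπ B n i hi
  haveI : IsIso ((H i).map g ≫ (H i).map ((t.truncGEπ n).app B)) := by
    rw [← Functor.map_comp, show g ≫ (t.truncGEπ n).app B = (t.truncGEπ n).app A ≫ (t.truncGE n).map g from
      (t.truncGEπ n).naturality g, Functor.map_comp]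
    infer_instance
  exact IsIso.of_isIso_comp_right ((H i).map g) ((H i).map ((t.truncGEπ n).app B))

/-- An object approximated by perfect objects is pseudo-coherent. -/
theorem locPC_of_approx {K : DCoh.D X} (m : ℤ) {E : DCoh.D X} (hE : LocSP E) (α : E ⟶ K) (hα : IsPcMap m α) :
    LocPC m K := by
  intro x
  obtain ⟨U, j, hj, hx, P, hP, ⟨e⟩⟩ := hE x
  haveI := hj
  exact ⟨U, j, hj, hx, P, e.hom ≫ (rho j).map α, hP,
    (isPcMap_of_isIso m e.hom).comp (hα.map_exact (Scheme.Modules.restrictFunctor j))⟩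

variable [CompactSpace X] [QuasiSeparatedSpace X]

/-- A stage. -/
structure Stage (T : Set X) (K : DCoh.D X) (n : ℕ) where
  E : DCoh.D X
  α : E ⟶ K
  sp : LocSP E
  supp : ∀ i : ℤ, CohB1.support (DCoh.HD E i) ⊆ T
  pc : IsPcMap (-(n : ℤ) - 1) α

theorem exists_hocolim [HasColimitsOfShape (Discrete ℕ) (DCoh.D X)] (T : Set X) (hT : IsClosed T)
    (hTc : IsCompact Tᶜ) {K : DCoh.D X} (hpc : ∀ m, LocPC m K)
    (hsupp : ∀ i : ℤ, CohB1.support (DCoh.HD K i) ⊆ T) :
    ∃ (E : ℕ → DCoh.D X) (f : ∀ n, E n ⟶ E (n + 1)) (i : ∀ n, E n ⟶ K),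
      (∀ n, DCoh.IsPerfect (E n)) ∧ (∀ (n : ℕ) (j : ℤ), CohB1.support (DCoh.HD (E n) j) ⊆ T) ∧
      DerLim.IsHocolim E f K i ∧
      ∀ n : ℕ, IsIso (((DerivedCategory.TStructure.t : CategoryTheory.Triangulated.TStructure (DCoh.D X)).truncGE
        (-(n : ℤ))).map (i n)) := by
  have hKq : DCoh.IsQCohD K := TorBC.isQCohD_of_locPC' hpc
  obtain ⟨r, hr⟩ := Approx.hasApprox X T hT hTc
  have happ : ∀ m : ℤ, ∃ (P : DCoh.D X) (α : P ⟶ K), LocSP P ∧ (∀ i : ℤ, CohB1.support (DCoh.HD P i) ⊆ T) ∧
      IsPcMap m α := fun m => hr m K hKq (hpc _) fun i _ => hsupp i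
  -- bases and steps
  obtain ⟨P₀, α₀, hP₀, hs₀, hα₀⟩ := happ (-((0 : ℕ) : ℤ) - 1)
  have hstep : ∀ (n : ℕ) (s : Stage T K n), ∃ (s' : Stage T K (n + 1)) (f : s.E ⟶ s'.E), f ≫ s'.α = s.α := by
    intro n s
    obtain ⟨a, b, -, hvan⟩ := Window.exists_range s.sp
    obtain ⟨P, α, hP, hs, hα⟩ := happ (min (-((n + 1 : ℕ) : ℤ) - 1) (a - 1))
    obtain ⟨C, g, h, hT'⟩ := distinguished_cocone_triangle α
    have hCq : DCoh.IsQCohD C := isQCohD_obj₃ hT' (AffineLift.isQCohD_of_locSP hP) hKq
    have hz : s.α ≫ g = 0 := hvan C hCq (fun i hai _ => Approx.isZero_cone_of_isPcMap _ hT' hα i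
      (show min (-((n + 1 : ℕ) : ℤ) - 1) (a - 1) ≤ i by omega)) _
    obtain ⟨f, hf⟩ := Triangle.coyoneda_exact₂ _ hT' s.α hz
    exact ⟨⟨P, α, hP, hs, hα.mono (min_le_left _ _)⟩, f, hf.symm⟩
  choose next f hf using hstep
  let st : ∀ n, Stage T K n := fun n => Nat.rec (motive := fun n => Stage T K n) ⟨P₀, α₀, hP₀, hs₀, hα₀⟩ next n
  let E : ℕ → DCoh.D X := fun n => (st n).E
  let F : ∀ n, E n ⟶ E (n + 1) := fun n => f n (st n)
  let α : ∀ n, E n ⟶ K := fun n => (st n).α
  have hFα : ∀ n, F n ≫ α (n + 1) = α n := fun n => hf n (st n)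
  refine ⟨E, F, α, fun n => (isPerfect_iff _).2 (st n).sp, fun n j => (st n).supp j, ?_,
    fun n => isIso_truncGE_map (α n) _ fun i hi => (st n).pc.1 i (by omega)⟩
  obtain ⟨L, i, hL⟩ := TriCat.exists_isHocolim E F
  obtain ⟨g, hg⟩ := TriCat.IsHocolim.exists_desc hL α hFα
  haveI : IsIso g := by
    refine (DerivedCategory.isIso_iff (C := X.Modules) g).2 fun j => ?_
    let H := DerivedCategory.homologyFunctor X.Modules j
    haveI : PreservesColimitsOfShape (Discrete ℕ) H := ⟨fun {D} => by
      haveI : PreservesColimit (Discrete.functor (D.obj ∘ Discrete.mk)) H :=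
        preservesColimit_homology (D.obj ∘ Discrete.mk) j
      exact preservesColimit_of_iso_diagram H (Discrete.natIsoFunctor (F := D)).symm⟩
    obtain ⟨e, he⟩ := TriCat.exists_colimit_iso H E F L i hL
    let S := Functor.ofSequence fun n => H.map (F n)
    let k := (-j).toNat
    have hk : ∀ n, k ≤ n → IsIso (H.map (α n)) := fun n hn => (st n).pc.1 j (by omega)
    have hev : S.IsEventuallyConstantFrom k := fun n φ => by
      have hle := leOfHom φ
      clear he
      induction n, hle using Nat.le_induction with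
      | base => rw [show φ = 𝟙 _ from Subsingleton.elim _ _, S.map_id]; exact inferInstanceAs (IsIso (𝟙 _))
      | succ n hn ih =>
        haveI := ih (homOfLE hn)
        haveI : IsIso (S.map (homOfLE (Nat.le_succ n))) := by
          rw [Functor.ofSequence_map_homOfLE_succ]
          haveI := hk n hn
          haveI := hk (n + 1) (by omega)
          haveI : IsIso (H.map (F n) ≫ H.map (α (n + 1))) := by rw [← H.map_comp, hFα]; infer_instance
          exact IsIso.of_isIso_comp_right (H.map (F n)) (H.map (α (n + 1)))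
        rw [show φ = homOfLE hn ≫ homOfLE (Nat.le_succ n) from Subsingleton.elim _ _, S.map_comp]
        infer_instance
    haveI : IsIso (colimit.ι S k) := hev.isIso_ι_of_isColimit (colimit.isColimit S)
    haveI : IsIso (H.map (i k)) := by rw [← he k]; infer_instance
    haveI := hk k le_rfl
    haveI : IsIso (H.map (i k) ≫ H.map g) := by rw [← H.map_comp, hg]; infer_instance
    exact IsIso.of_isIso_comp_left (H.map (i k)) (H.map g)
  obtain ⟨c, hc⟩ := hL
  refine ⟨inv g ≫ c, isomorphic_distinguished _ hc _ ?_⟩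
  refine Triangle.isoMk _ _ (Iso.refl _) (Iso.refl _) (asIso g).symm ?_ ?_ ?_
  · exact (Category.comp_id _).trans (Category.id_comp _).symm
  · refine Sigma.hom_ext _ _ fun n => ?_
    simp [← hg]
  · simp

end Groth.Agent.KExact.HocolimPerf
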