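import Groth.Agent.S0458
import Groth.Agent.S0459
import Groth.Agent.SiteBase.Vanishing.Reduce
import Mathlib.Topology.Sober

/-!
# Vanishing for sheaves supported in small dimension
-/

set_option autoImplicit false
set_option linter.unusedSectionVars false
set_option backward.isDefEq.respectTransparency false

universe u

open CategoryTheory CategoryTheory.Limits Opposite TopologicalSpace
open Groth.Agent.DescentSS.Germ (gm gm_res)
open Groth.Agent.CompactSub (stMap stMap_gm)

noncomputable section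

namespace Groth.Agent.KExact.SuppVanish

open Vanishing

variable {X : TopCat.{u}}

/-- The closure of a locally closed set consists of specializations of its points. -/
theorem closure_subset_of_stable [NoetherianSpace X] [QuasiSober X] {S A U : Set X}
    (hS : StableUnderSpecialization S) (hAS : A ⊆ S) (hU : IsOpen U) (hAU : A ⊆ U)
    (hA : ∀ x ∈ U, x ∈ closure A → x ∈ A) : closure A ⊆ S := by
  obtain ⟨T, hTf, hTc, hTi, hT⟩ :=
    NoetherianSpace.exists_finite_set_isClosed_irreducible (isClosed_closure (s := A))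
  let T' : Set (Set X) := {Z | ∃ h : Z ∈ T, (hTi Z h).genericPoint ∈ A}
  have hT' : T'.Finite := hTf.subset fun Z hZ => hZ.1
  have hcl : IsClosed (⋃₀ T') := by
    rw [Set.sUnion_eq_biUnion]
    exact hT'.isClosed_biUnion fun Z hZ => hTc Z hZ.1
  have hsub : A ⊆ ⋃₀ T' := fun a ha => by
    obtain ⟨Z, hZ, haZ⟩ : a ∈ ⋃₀ T := hT ▸ subset_closure ha
    have hg := (hTi Z hZ).isGenericPoint_genericPoint_closure
    rw [(hTc Z hZ).closure_eq] at hg
    refine ⟨Z, ⟨hZ, hA _ ((hg.mem_open_set_iff hU).2 ⟨a, haZ, hAU ha⟩) ?_⟩, haZ⟩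
    exact hT.symm ▸ ⟨Z, hZ, hg.mem⟩
  intro x hx
  obtain ⟨Z, ⟨hZ, hη⟩, hxZ⟩ := closure_minimal hsub hcl hx
  have hg := (hTi Z hZ).isGenericPoint_genericPoint_closure
  rw [(hTc Z hZ).closure_eq] at hg
  exact hS (hg.specializes hxZ) (hAS hη)

/-- Sheaves supported in a closed set of small dimension. -/
theorem vanishAbove_closed [NoetherianSpace X] (C : Closeds X) (e : ℕ) (hC : topologicalKrullDim C ≤ e)
    (G : CohTop.Ab X) (hG : ∀ x : X, x ∉ C → IsZero (CohTop.stalk G x)) : VanishAbove G e := by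
  let i : TopCat.of C ⟶ X := TopCat.ofHom ⟨Subtype.val, continuous_subtype_val⟩
  have hi : Topology.IsClosedEmbedding i := C.isClosed.isClosedEmbedding_subtypeVal
  haveI : NoetherianSpace (TopCat.of C) := inferInstanceAs (NoetherianSpace (C : Set X))
  obtain ⟨F, ⟨ε⟩⟩ := (ClosedEmb.essImage_iff hi G).2 fun x hx => hG x fun h => hx ⟨⟨x, h⟩, rfl⟩
  suffices h : VanishAbove ((CohTop.push i).obj F) e from h.of_iso ε
  intro p hp
  obtain ⟨E⟩ := S0459.result i hi F p
  haveI := S0458.result (X := TopCat.of C) e hC F p hp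
  exact E.symm.toEquiv.subsingleton

/-- Sheaves supported in a set, stable under specialization, of small dimension. -/
theorem vanishAbove_supported [NoetherianSpace X] [QuasiSober X] [PrespectralSpace X] [QuasiSeparatedSpace X]
    (S : Set X) (hS : StableUnderSpecialization S) (e : ℕ)
    (hdim : ∀ C : Closeds X, (C : Set X) ⊆ S → topologicalKrullDim C ≤ e)
    (F : CohTop.Ab X) (hF : ∀ x : X, x ∉ S → IsZero (CohTop.stalk F x)) : VanishAbove F e := by
  classical
  let E : Type u := Σ U : Opens X, (sh (ind U (⊤ : AddSubgroup ℤ)) ⟶ F)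
  let one : ∀ U : Opens X, (sh (ind U (⊤ : AddSubgroup ℤ))).obj.obj (op U) := fun U =>
    constSec (ind U ⊤) 1 fun y hy => by rw [ind_mem hy]; exact AddSubgroup.mem_top _
  let sec : ∀ a : E, F.obj.obj (op a.1) := fun a => (a.2.hom.app (op a.1)).hom (one a.1)
  let A : E → Set X := fun a => {x | ∃ hx : x ∈ a.1, gm F x hx (sec a) ≠ 0}
  let Cl : E → Set X := fun a => closure (A a)
  have hAS : ∀ a, A a ⊆ S := fun a x ⟨hx, hne⟩ => by
    by_contra hxS
    haveI := AddCommGrpCat.subsingleton_of_isZero (hF x hxS)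
    exact hne (Subsingleton.elim _ _)
  have hCl : ∀ a, Cl a ⊆ S := fun a =>
    closure_subset_of_stable hS (hAS a) a.1.isOpen (fun x hx => hx.1) fun x hx hxc => by
      by_contra hxA
      have h0 : gm F x hx (sec a) = gm F x hx 0 := by
        refine Eq.trans (not_not.1 fun h => hxA ⟨hx, h⟩) ?_
        exact (map_zero _).symm
      obtain ⟨O, hxO, i₁, i₂, he⟩ := TopCat.Presheaf.germ_eq (C := AddCommGrpCat.{u}) (X := X) F.obj x hx hx _ _ h0
      obtain ⟨y, hyO, hy, hne⟩ := mem_closure_iff.1 hxc O O.isOpen hxO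
      exact hne (((gm_res F i₁.le y hyO _).symm.trans ((congrArg (gm F y hyO) he).trans
        (gm_res F i₂.le y hyO _))).trans (map_zero _))
  have hgen : ∀ (a : E) (x : X), x ∉ Cl a → ∀ w, stMap a.2 x w = 0 := fun a x hx w => by
    by_cases hxU : x ∈ a.1
    · have h1 : gm F x hxU (sec a) = 0 := not_not.1 fun h => hx (subset_closure ⟨hxU, h⟩)
      have hw : w = val (ind a.1 ⊤) x w • gm (sh (ind a.1 ⊤)) x hxU (one a.1) := by
        refine val_injective _ x ?_
        rw [map_zsmul, val_gm]
        show val (ind a.1 ⊤) x w = val (ind a.1 ⊤) x w • (1 : ℤ)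
        rw [smul_eq_mul, mul_one]
      rw [hw, map_zsmul, stMap_gm]
      exact (congrArg _ h1).trans (zsmul_zero _)
    · have h0 := val_mem (ind a.1 ⊤) x w
      rw [ind_notMem hxU, AddSubgroup.mem_bot] at h0
      rw [val_injective _ x (h0.trans (map_zero _).symm), map_zero]
  let g : ∀ σ : Finset E, (∐ fun a : σ => sh (ind a.1.1 (⊤ : AddSubgroup ℤ))) ⟶ F := fun σ =>
    Sigma.desc fun a => a.1.2
  let G : Finset E → Subobject F := fun σ => imageSubobject (g σ)
  have hmono : ∀ {σ τ : Finset E}, σ ≤ τ → G σ ≤ G τ := fun {σ τ} h => by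
    have e' : g σ = (Sigma.desc fun a : σ => Sigma.ι (fun b : τ => sh (ind b.1.1 (⊤ : AddSubgroup ℤ)))
        ⟨a.1, h a.2⟩) ≫ g τ := Sigma.hom_ext _ _ fun a => by simp [g]
    show imageSubobject (g σ) ≤ _
    rw [e']
    exact imageSubobject_comp_le _ _
  have hG : ∀ σ, VanishAbove (G σ : CohTop.Ab X) e := fun σ => by
    let C : Closeds X := ⟨⋃ a ∈ σ, Cl a, isClosed_biUnion_finset fun a _ => isClosed_closure⟩
    refine vanishAbove_closed C e (hdim C (Set.iUnion₂_subset fun a _ => hCl a)) _ fun x hx => ?_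
    haveI := CompactSub.preservesFiniteLimits_stalkF x
    haveI := CompactSub.preservesFiniteColimits_stalkF x
    have hg : (ClosedEmb.stalkF x).map (g σ) = 0 := by
      refine (isColimitOfPreserves (ClosedEmb.stalkF x) (coproductIsCoproduct _)).hom_ext fun ⟨a⟩ => ?_
      rw [comp_zero]
      show (ClosedEmb.stalkF x).map (Sigma.ι _ a) ≫ (ClosedEmb.stalkF x).map (g σ) = 0
      rw [← Functor.map_comp, Sigma.ι_desc]
      exact ConcreteCategory.hom_ext _ _ fun w => hgen a.1 x
        (fun h => hx (Set.mem_biUnion a.2 h)) w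
    have harr : (ClosedEmb.stalkF x).map (G σ).arrow = 0 := by
      refine zero_of_epi_comp ((ClosedEmb.stalkF x).map (factorThruImageSubobject (g σ))) ?_
      rw [← Functor.map_comp, imageSubobject_arrow_comp, hg]
    exact (IsZero.iff_id_eq_zero _).2 ((cancel_mono ((ClosedEmb.stalkF x).map (G σ).arrow)).1 (by
      rw [harr, comp_zero, comp_zero]))
  let D : Finset E ⥤ CohTop.Ab X :=
    { obj := fun σ => (G σ : CohTop.Ab X)
      map := fun {σ τ} h => (G σ).ofLE (G τ) (hmono h.le)
      map_id := fun σ => Subobject.ofLE_refl _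
      map_comp := fun _ _ => (Subobject.ofLE_comp_ofLE _ _ _ _ _).symm }
  let c : Cocone D :=
    { pt := F
      ι := { app := fun σ => (G σ).arrow
             naturality := fun σ τ h => (Subobject.ofLE_arrow _).trans (Category.comp_id _).symm } }
  have hiso : IsIso (colimit.desc D c) := by
    have : ∀ σ, Mono (c.ι.app σ) := fun σ => inferInstanceAs (Mono (G σ).arrow)
    have hm : Mono (colimit.desc D c) := mono_colimit_desc D c
    refine isIso_of_stalkMap _ fun x => ?_
    rw [ConcreteCategory.isIso_iff_bijective]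
    refine ⟨?_, fun v => ?_⟩
    · have : Mono ((ClosedEmb.stalkF x).map (colimit.desc D c)) :=
        haveI := CompactSub.preservesFiniteLimits_stalkF x
        inferInstance
      exact (AddCommGrpCat.mono_iff_injective _).1 this
    · obtain ⟨O, hxO, t, rfl⟩ := TopCat.Presheaf.exists_germ_eq (C := AddCommGrpCat.{u}) (X := X) F.obj v
      obtain ⟨g₀, hg₀⟩ := exists_gen F t
      obtain ⟨w, hw⟩ := hg₀ x hxO
      let a : E := ⟨O, g₀⟩
      let ι₀ := Sigma.ι (fun b : ({a} : Finset E) => sh (ind b.1.1 (⊤ : AddSubgroup ℤ)))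
        ⟨a, Finset.mem_singleton_self a⟩
      refine ⟨stMap (colimit.ι D {a}) x (stMap (ι₀ ≫ factorThruImageSubobject (g {a})) x w), ?_⟩
      show stMap (colimit.desc D c) x _ = gm F x hxO t
      rw [← stMap_comp, colimit.ι_desc, ← stMap_comp, Category.assoc,
        show factorThruImageSubobject (g {a}) ≫ c.ι.app {a} = g {a} from imageSubobject_arrow_comp _,
        show ι₀ ≫ g {a} = g₀ from Sigma.ι_desc _ _, hw]
  exact (vanishAbove_colimit D e hG).of_iso (@asIso _ _ _ _ (colimit.desc D c) hiso)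

end Groth.Agent.KExact.SuppVanish
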