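import Groth.Agent.KExact.GammaAcyclic
import Groth.Agent.KExact.SuppVanish
import Groth.Agent.SchTop.Closed
import Groth.Agent.KExact.AmpleDetect
import Groth.Agent.H9Misc.LocFreeHomTensor
import Groth.Agent.HilbPoly.Step

/-!
# Vanishing of hypercohomology from supports of cohomology
-/

set_option autoImplicit false
set_option linter.style.haveILetI false
set_option backward.isDefEq.respectTransparency false
set_option backward.isDefEq.respectTransparency.types false

universe u

open CategoryTheory CategoryTheory.Limits AlgebraicGeometry Opposite TopologicalSpace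

attribute [local instance] HasDerivedCategory.standard

noncomputable section

namespace Groth.Agent.KExact.HyperBound

open KFlatLib GammaAcyclic

variable {X : Scheme.{u}}

section Complex

variable (I : CochainComplex X.Modules ℤ) (g : ℕ)
  (hg : ∀ (M : X.Modules) (p : ℕ), g < p → Subsingleton (Coh.HH X M p)) (hI : ∀ n, Acyc (I.X n)) (i : ℤ)
  (hH : ∀ (n : ℤ) (p : ℕ), n + p = i → 1 ≤ p → Subsingleton (Coh.HH X (I.homology n) p))

include hg hI hH in
theorem subsingleton_cycles : ∀ (m p : ℕ), 1 ≤ p → g < p + m →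
    ∀ n : ℤ, n + p = i → Subsingleton (Coh.HH X (I.cycles n) p) := by
  intro m
  induction m with
  | zero => intro p _ h n _; exact hg _ p (by omega)
  | succ m ih =>
    intro p hp h n hn
    refine QCoh.subsingleton_HH_X₂ (shortExact_homology I n) p ?_ (hH n p hn hp)
    exact GammaAcyclic.subsingleton_HH_X₃ (shortExact_bd I (n - 1) n (by omega)) p (hI _ p hp)
      (ih (p + 1) (by omega) (by omega) _ (by omega))

include hg hI hH in
theorem exactAt_gamma (h0 : ∀ σ : Coh.structureModule X ⟶ I.homology i, σ = 0) :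
    (((DCoh.gammaAb X).mapHomologicalComplex (ComplexShape.up ℤ)).obj I).ExactAt i := by
  rw [HomologicalComplex.exactAt_iff' _ (i - 1) i (i + 1) (by simp) (by simp), ShortComplex.ab_exact_iff]
  intro y hy
  obtain ⟨τ, rfl⟩ := (topEquiv (I.X i)).surjective y
  have hτ : τ ≫ I.d i (i + 1) = 0 :=
    (topEquiv _).injective ((topEquiv_naturality τ _).trans (hy.trans (topEquiv_zero _).symm))
  let z := I.liftCycles τ (i + 1) (by simp) hτ
  let b : Coh.structureModule X ⟶ bd I i := kernel.lift _ z (h0 _)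
  obtain ⟨η, hη⟩ := lift_of_HH_one (shortExact_bd I (i - 1) i (by omega))
    (subsingleton_cycles I g hg hI i hH g 1 le_rfl (by omega) _ (by omega)) b
  refine ⟨topEquiv (I.X (i - 1)) η, (topEquiv_naturality η _).symm.trans (congrArg _ ?_)⟩
  change η ≫ toBd I (i - 1) i = b at hη
  rw [← toBd_ι I (i - 1) i, ← Category.assoc, hη, kernel.lift_ι_assoc]
  exact I.liftCycles_i τ (i + 1) (by simp) hτ

end Complex

/-- Hypercohomology vanishes when the cohomology of the cohomology sheaves does. -/
theorem isZero_RΓ [DCoh.HasRΓ X] (g : ℕ) (hg : ∀ (M : X.Modules) (p : ℕ), g < p → Subsingleton (Coh.HH X M p))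
    (W : DCoh.D X) (i : ℤ)
    (hH : ∀ (n : ℤ) (p : ℕ), n + p = i → 1 ≤ p → Subsingleton (Coh.HH X (DCoh.HD W n) p))
    (h0 : ∀ σ : Coh.structureModule X ⟶ DCoh.HD W i, σ = 0) :
    IsZero ((DerivedCategory.homologyFunctor AddCommGrpCat.{u} i).obj ((DCoh.RΓ X).obj W)) := by
  let c := ComplexShape.up ℤ
  obtain ⟨I, hK, hinj, ⟨eI⟩⟩ := exists_kInjective_rep W
  haveI := hK
  haveI := isIso_rightDerivedUnit_of_kInjective (DCoh.gammaKh X) I
  let eH : ∀ n, DCoh.HD W n ≅ I.homology n := fun n =>
    (DerivedCategory.homologyFunctor X.Modules n).mapIso eI ≪≫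
      (DerivedCategory.homologyFunctorFactors X.Modules n).app I
  have hI : ∀ n, Acyc (I.X n) := fun n => haveI := hinj n; acyc_of_injective _
  let eR : (DerivedCategory.homologyFunctor AddCommGrpCat.{u} i).obj ((DCoh.RΓ X).obj W) ≅
      (((DCoh.gammaAb X).mapHomologicalComplex c).obj I).homology i :=
    (DerivedCategory.homologyFunctor AddCommGrpCat.{u} i).mapIso ((DCoh.RΓ X).mapIso eI ≪≫
      (asIso (((DCoh.gammaKh X).totalRightDerivedUnit DerivedCategory.Qh
        (HomotopyCategory.quasiIso X.Modules c)).app ((HomotopyCategory.quotient X.Modules c).obj I))).symm) ≪≫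
      (DerivedCategory.homologyFunctorFactors AddCommGrpCat.{u} i).app _
  rw [eR.isZero_iff, ← HomologicalComplex.exactAt_iff_isZero_homology]
  exact exactAt_gamma I g hg hI i (fun n p hn hp => QCoh.subsingleton_HH_of_iso (eH n) p (hH n p hn hp))
    fun σ => zero_of_comp_mono (eH i).inv (h0 _)

/-- Points of large codimension form a set of small dimension. -/
theorem topologicalKrullDim_le_of_codim {c g : ℕ} (hg : topologicalKrullDim X ≤ g)
    (C : Closeds X) (hC : (C : Set X) ⊆ {x | (c : WithBot ℕ∞) ≤ ringKrullDim (X.presheaf.stalk x)}) :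
    topologicalKrullDim C ≤ ((g - c : ℕ) : WithBot ℕ∞) := by
  refine iSup_le fun l => ?_
  have hce : Topology.IsClosedEmbedding (Subtype.val : C → X) := C.isClosed.isClosedEmbedding_subtypeVal
  let f : IrreducibleCloseds C → IrreducibleCloseds X := IrreducibleCloseds.map Subtype.val hce.continuous
  have hf : StrictMono f := IrreducibleCloseds.map_strictMono_of_isInducing hce.isInducing
  let l' := l.map f hf
  let Z := l'.last
  let η : X := irreducibleSetEquivPoints Z
  have hη : η ∈ C := by
    have hsub : (Z : Set X) ⊆ C :=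
      closure_minimal (Set.image_subset_iff.2 fun a _ => a.2) C.isClosed
    refine hsub ?_
    have hgen := Z.isIrreducible'.isGenericPoint_genericPoint_closure
    rw [Z.isClosed'.closure_eq] at hgen
    exact hgen.mem
  have hc : (c : WithBot ℕ∞) ≤ ringKrullDim (X.presheaf.stalk η) := hC hη
  rw [ringKrullDim_stalk_eq_coheight, Order.coheight_orderIso] at hc
  have hc' : (c : ℕ∞) ≤ Order.coheight Z := by exact_mod_cast hc
  have hl : (l.length : ℕ∞) ≤ Order.height Z := Order.length_le_height (p := l') le_rfl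
  haveI : Nonempty (IrreducibleCloseds X) := ⟨Z⟩
  have h0 : ((Order.height Z + Order.coheight Z : ℕ∞) : WithBot ℕ∞) ≤ topologicalKrullDim X := by
    rw [topologicalKrullDim, Order.krullDim_eq_iSup_height_add_coheight_of_nonempty]
    exact WithBot.coe_le_coe.2 (le_iSup (fun a : IrreducibleCloseds X => Order.height a + Order.coheight a) Z)
  have h1 := h0.trans hg
  have h2 : (l.length : ℕ∞) + c ≤ (g : ℕ∞) := (add_le_add hl hc').trans (by exact_mod_cast h1)
  have h3 : l.length + c ≤ g := by exact_mod_cast h2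
  exact_mod_cast (show l.length ≤ g - c by omega)

/-- Sheaves supported in large codimension. -/
theorem subsingleton_HH_of_codim [IsNoetherian X] {c g : ℕ} (hg : topologicalKrullDim X ≤ g) (M : X.Modules)
    (hM : ∀ x ∈ CohB1.support M, (c : WithBot ℕ∞) ≤ ringKrullDim (X.presheaf.stalk x)) (p : ℕ) (hp : g - c < p) :
    Subsingleton (Coh.HH X M p) := by
  refine SuppVanish.vanishAbove_supported (X := X.toPresheafedSpace.carrier)
    {x | (c : WithBot ℕ∞) ≤ ringKrullDim (X.presheaf.stalk x)} ?_ (g - c)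
    (fun C hC => topologicalKrullDim_le_of_codim hg C hC) (Coh.toAb M) (fun x hx => ?_) p hp
  · intro x y hxy hx
    show (c : WithBot ℕ∞) ≤ ringKrullDim (X.presheaf.stalk y)
    refine le_trans (show (c : WithBot ℕ∞) ≤ ringKrullDim (X.presheaf.stalk x) from hx) ?_
    rw [ringKrullDim_stalk_eq_coheight, ringKrullDim_stalk_eq_coheight]
    exact WithBot.coe_le_coe.2 (Order.coheight_anti (show y ≤ x from hxy))
  · haveI : Subsingleton (M.presheaf.stalk x) := not_not.1 fun h => hx (hM x h)
    exact @AddCommGrpCat.isZero_of_subsingleton _ ‹_›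

/-- Cohomology of a twist by a locally free module. -/
theorem nonempty_hd_ltensor_locFree {D : X.Modules} (hD : FlatMod.IsFinLocFree D)
    [DCoh.HasLTensorCx ((HomologicalComplex.single X.Modules (ComplexShape.up ℤ) 0).obj D)]
    (W : DCoh.D X) (i : ℤ) :
    Nonempty (DCoh.HD ((DCoh.LTensorCx ((HomologicalComplex.single X.Modules (ComplexShape.up ℤ) 0).obj D)).obj W) i ≅
      CohB1.tensorMod (DCoh.HD W i) D) := by
  let F := DCoh.tensorBi.flip.obj D
  haveI : PreservesFiniteLimits F := H9Misc.LocFreeHomTensor.preservesFiniteLimits_ten hD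
  haveI : F.IsLeftAdjoint := SheafHomX.isLeftAdjoint_ten D
  haveI : PreservesFiniteColimits F := inferInstance
  let Fd := F.mapDerivedCategory
  let S := (HomologicalComplex.single X.Modules (ComplexShape.up ℤ) 0).obj D
  let eQ : DerivedCategory.Q ⋙ Fd ⋙ shiftFunctor (DCoh.D X) (-(0 : ℤ)) ≅ DCoh.tensorCxQ S :=
    Functor.isoWhiskerRight F.mapDerivedCategoryFactors (shiftFunctor (DCoh.D X) (-(0 : ℤ))) ≪≫
      Functor.isoWhiskerLeft (F.mapHomologicalComplex (ComplexShape.up ℤ))
        (DerivedCategory.Q.commShiftIso (-(0 : ℤ))).symm ≪≫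
      Functor.isoWhiskerRight (InvShift.tenSingleIso D 0).symm DerivedCategory.Q
  haveI := Functor.isLeftDerivedFunctor_of_inverts (F := DCoh.tensorCxQ S)
    (HomologicalComplex.quasiIso X.Modules (ComplexShape.up ℤ)) (Fd ⋙ shiftFunctor (DCoh.D X) (-(0 : ℤ))) eQ
  let eT : DCoh.LTensorCx S ≅ Fd ⋙ shiftFunctor (DCoh.D X) (-(0 : ℤ)) :=
    Functor.leftDerivedUnique _ _
      ((DCoh.tensorCxQ S).totalLeftDerivedCounit DerivedCategory.Q
        (HomologicalComplex.quasiIso X.Modules (ComplexShape.up ℤ))) eQ.hom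
      (HomologicalComplex.quasiIso X.Modules (ComplexShape.up ℤ))
  exact ⟨(DerivedCategory.homologyFunctor X.Modules i).mapIso
      (eT.app W ≪≫ (shiftFunctorZero' (DCoh.D X) (-(0 : ℤ)) neg_zero).app _) ≪≫
    (mapDCHomologyIso F i).app W⟩

/-- The bound on hypercohomology from the codimension of supports. -/
theorem isZero_RΓ_of_codim [IsNoetherian X] [DCoh.HasRΓ X] {g : ℕ} (hg : topologicalKrullDim X ≤ g) (k : ℕ)
    (W : DCoh.D X) (hneg : ∀ n : ℤ, n < 0 → IsZero (DCoh.HD W n))
    (hcodim : ∀ (n : ℕ) (x : X), x ∈ CohB1.support (DCoh.HD W (n : ℤ)) →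
      ((n - k : ℕ) : WithBot ℕ∞) ≤ ringKrullDim (X.presheaf.stalk x))
    (i : ℤ) (hi : i < 0 ∨ (g : ℤ) + k < i) :
    IsZero ((DerivedCategory.homologyFunctor AddCommGrpCat.{u} i).obj ((DCoh.RΓ X).obj W)) := by
  have hcd := subsingleton_HH_of_dim hg
  refine isZero_RΓ g hcd W i (fun n p hn hp => ?_) fun σ => ?_
  · by_cases h : n < 0
    · exact Euler.subsingleton_HH_of_isZero (hneg n h) p
    · obtain ⟨m, rfl⟩ := Int.eq_ofNat_of_zero_le (show 0 ≤ n by omega)
      exact subsingleton_HH_of_codim hg _ (fun x hx => hcodim m x hx) p (by omega)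
  · by_cases h : i < 0
    · exact (hneg i h).eq_of_tgt _ _
    · obtain ⟨m, rfl⟩ := Int.eq_ofNat_of_zero_le (show 0 ≤ i by omega)
      refine (isZero_of_stalk _ fun x => ?_).eq_of_tgt _ _
      haveI : Subsingleton ((DCoh.HD W (m : ℤ)).presheaf.stalk x) := not_not.1 fun hne => by
        have h1 : ((m - k : ℕ) : WithBot ℕ∞) ≤ (g : WithBot ℕ∞) :=
          (hcodim m x hne).trans ((SchTop.ringKrullDim_stalk_le x).trans hg)
        have h2 : m - k ≤ g := by exact_mod_cast h1
        omega
      exact @ModuleCat.isZero_of_subsingleton _ _ (ModuleCat.of (X.presheaf.stalk x) _) ‹_›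

end Groth.Agent.KExact.HyperBound
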