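import Groth.Agent.KFlatLib.Ring.FiniteTorDimDuality
import Groth.Agent.H9Misc.DRingProjAmp
import Groth.Agent.H9Misc.DRingHomTensorKI
import Groth.Agent.TriCat.ResolveOp
import Mathlib.Algebra.Homology.DerivedCategory.ShortExact
import Mathlib.RingTheory.Filtration
import Mathlib.RingTheory.Ideal.AssociatedPrime.Finiteness

/-!
# `I^n M → M` factors through `I ⊗^L M`
-/

set_option linter.style.haveILetI false
set_option backward.isDefEq.respectTransparency false
set_option backward.isDefEq.respectTransparency.types false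

universe u

open CategoryTheory CategoryTheory.Limits MonoidalCategory
open CochainComplex CochainComplex.HomComplex

attribute [local instance] HasDerivedCategory.standard

namespace Groth.Agent.KExact.IdealFactor

variable {A : Type u} [CommRing A] (I : Ideal A)

/-- `M ↦ M / I M`. -/
noncomputable def quotF : ModuleCat.{u} A ⥤ ModuleCat.{u} A where
  obj V := ModuleCat.of A (V ⧸ I • (⊤ : Submodule A V))
  map {V W} f := ModuleCat.ofHom (Submodule.mapQ _ _ f.hom (by
    rw [← Submodule.map_le_iff_le_comap, Submodule.map_smul'']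
    exact Submodule.smul_mono le_rfl le_top))
  map_id V := by
    ext x
    rfl
  map_comp f g := by
    ext x
    rfl

instance : (quotF I).Additive where
  map_add := by
    intro V W f g
    ext x
    obtain ⟨y, rfl⟩ := Submodule.mkQ_surjective _ x
    rfl

/-- The projection. -/
noncomputable def toQuot : 𝟭 (ModuleCat.{u} A) ⟶ quotF I where
  app V := ModuleCat.ofHom (Submodule.mkQ (I • (⊤ : Submodule A V)))
  naturality V W f := by
    ext x
    rfl

/-- The quotient of a complex. -/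
noncomputable abbrev quotCx : CochainComplex (ModuleCat.{u} A) ℤ ⥤ CochainComplex (ModuleCat.{u} A) ℤ :=
  (quotF I).mapHomologicalComplex (ComplexShape.up ℤ)

/-- The projection of complexes. -/
noncomputable def toQuotCx (P : CochainComplex (ModuleCat.{u} A) ℤ) : P ⟶ (quotCx I).obj P where
  f n := (toQuot I).app (P.X n)
  comm' i j _ := ((toQuot I).naturality (P.d i j)).symm

lemma toQuotCx_naturality {P Q : CochainComplex (ModuleCat.{u} A) ℤ} (g : P ⟶ Q) :
    g ≫ toQuotCx I Q = toQuotCx I P ≫ (quotCx I).map g := by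
  ext n : 1
  exact (toQuot I).naturality (g.f n)

lemma quot_map_smul_eq_zero {f : A} (hf : f ∈ I) (V : ModuleCat.{u} A) :
    (quotF I).map (f • 𝟙 V) = 0 := by
  ext x
  obtain ⟨x, rfl⟩ := Submodule.mkQ_surjective _ x
  show (Submodule.Quotient.mk (f • x) : V ⧸ I • (⊤ : Submodule A V)) = 0
  exact (Submodule.Quotient.mk_eq_zero _).2 (Submodule.smul_mem_smul hf trivial)

/-- `M` in degree zero. -/
noncomputable abbrev S0 : ModuleCat.{u} A ⥤ CochainComplex (ModuleCat.{u} A) ℤ :=
  HomologicalComplex.single (ModuleCat.{u} A) (ComplexShape.up ℤ) 0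

/-- A resolution by projectives. -/
structure Res (M : ModuleCat.{u} A) where
  P : CochainComplex (ModuleCat.{u} A) ℤ
  π : P ⟶ S0.obj M
  proj : ∀ n, Module.Projective A (P.X n)
  above : ∀ n : ℤ, 0 < n → IsZero (P.X n)
  qis : QuasiIso π

attribute [instance] Res.qis

instance {M : ModuleCat.{u} A} (R : Res M) : IsIso (DerivedCategory.Q.map R.π) :=
  (DerivedCategory.isIso_Q_map_iff_quasiIso _ R.π).2 R.qis

lemma exists_res (M : ModuleCat.{u} A) : Nonempty (Res M) := by
  haveI : (S0.obj M).IsStrictlyLE 0 := (CochainComplex.isStrictlyLE_iff _ 0).2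
    fun i hi => HomologicalComplex.isZero_single_obj_X _ _ _ _ (by omega)
  obtain ⟨P, α, hb, hP, -, hα⟩ := TriCat.exists_quasiIso_left_resolution
    (fun X : ModuleCat.{u} A => Module.Projective A X)
    ⟨ModuleCat.of A PUnit.{u + 1}, ModuleCat.isZero_of_subsingleton _, inferInstance⟩
    (fun X => ⟨ModuleCat.of A (X →₀ A), ModuleCat.ofHom (Finsupp.linearCombination A id),
      inferInstance, (ModuleCat.epi_iff_surjective _).2
        (Finsupp.linearCombination_id_surjective A X)⟩) (S0.obj M) 0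
  exact ⟨⟨P, α, hP, fun n hn => P.isZero_of_isStrictlyLE 0 n hn, hα⟩⟩

/-- `u : N ⟶ M` dies in `(A/I) ⊗^L M`. -/
def Van {N M : ModuleCat.{u} A} (u : N ⟶ M) : Prop :=
  ∀ R : Res M, DerivedCategory.Q.map (S0.map u) ≫ inv (DerivedCategory.Q.map R.π) ≫
    DerivedCategory.Q.map (toQuotCx I R.P) = 0

variable {I}

lemma Van.precomp {N' N M : ModuleCat.{u} A} (v : N' ⟶ N) {u : N ⟶ M} (h : Van I u) : Van I (v ≫ u) :=
  fun R => by rw [Functor.map_comp, Functor.map_comp, Category.assoc, h R, comp_zero]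

lemma Van.postcomp {N M M' : ModuleCat.{u} A} {u : N ⟶ M} (h : Van I u) (μ : M ⟶ M') : Van I (u ≫ μ) := by
  intro R'
  obtain ⟨R⟩ := exists_res M
  obtain ⟨α, hα⟩ := KFlatLib.exists_Q_map_proj (H9Misc.DRingProjAmp.isKProjective R.proj R.above)
    (DerivedCategory.Q.map R.π ≫ DerivedCategory.Q.map (S0.map μ) ≫ inv (DerivedCategory.Q.map R'.π))
  have h1 : DerivedCategory.Q.map (S0.map μ) ≫ inv (DerivedCategory.Q.map R'.π) =
      inv (DerivedCategory.Q.map R.π) ≫ DerivedCategory.Q.map α := by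
    rw [hα, IsIso.inv_hom_id_assoc]
  rw [Functor.map_comp, Functor.map_comp, Category.assoc, reassoc_of% h1, ← Functor.map_comp,
    toQuotCx_naturality, Functor.map_comp, reassoc_of% (h R), zero_comp]

/-- The step along a regular element of `I`. -/
theorem van_of_quotient {N M : ModuleCat.{u} A} (u : N ⟶ M) {f : A} (hf : f ∈ I)
    (hreg : Function.Injective fun x : M => f • x)
    (h : Van I (u ≫ cokernel.π (f • 𝟙 M))) : Van I u := by
  intro R
  haveI : Mono (f • 𝟙 M) := (ModuleCat.mono_iff_injective _).2 hreg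
  let S : ShortComplex (ModuleCat.{u} A) := ShortComplex.mk (f • 𝟙 M) (cokernel.π _) (cokernel.condition _)
  have hS : (S.map S0).ShortExact :=
    ({ exact := ShortComplex.exact_cokernel _, mono_f := inferInstanceAs (Mono (f • 𝟙 M)),
       epi_g := inferInstanceAs (Epi (cokernel.π _)) } : S.ShortExact).map_of_exact S0
  let ψ : R.P ⟶ R.P := f • 𝟙 R.P
  have hψ : ψ ≫ R.π = R.π ≫ (S.map S0).f := by
    show (f • 𝟙 R.P) ≫ R.π = R.π ≫ S0.map (f • 𝟙 M)
    rw [show S0.map (f • 𝟙 M) = f • 𝟙 (S0.obj M) from HomologicalComplex.from_single_hom_ext (by simp [HomologicalComplex.single_map_f_self]),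
      Linear.smul_comp, Linear.comp_smul, Category.id_comp, Category.comp_id]
  let C := mappingCone ψ
  let c : C ⟶ mappingCone (S.map S0).f := mappingCone.map ψ (S.map S0).f R.π R.π hψ
  haveI hc : IsIso (DerivedCategory.Q.map c) :=
    Pretriangulated.isIso₃_of_isIso₁₂
      (DerivedCategory.Q.mapTriangle.map (mappingCone.triangleMap ψ (S.map S0).f R.π R.π hψ))
      (DerivedCategory.mappingCone_triangle_distinguished _)
      (DerivedCategory.mappingCone_triangle_distinguished _)
      (inferInstanceAs (IsIso (DerivedCategory.Q.map R.π))) (inferInstanceAs (IsIso (DerivedCategory.Q.map R.π)))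
  haveI := (DerivedCategory.isIso_Q_map_iff_quasiIso _ c).1 hc
  haveI := mappingCone.quasiIso_descShortComplex hS
  let πC : C ⟶ S0.obj S.X₃ := c ≫ mappingCone.descShortComplex (S.map S0)
  have hproj : ∀ n, Module.Projective A (C.X n) := fun n => by
    haveI := R.proj n
    haveI := R.proj (n + 1)
    refine Module.Projective.of_split
      (((mappingCone.fst ψ).1.v n (n + 1) rfl).hom.prod ((mappingCone.snd ψ).v n n (add_zero n)).hom)
      ((LinearMap.coprod ((mappingCone.inl ψ).v (n + 1) n (by omega)).hom ((mappingCone.inr ψ).f n).hom)) ?_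
    refine LinearMap.ext fun x => ?_
    exact congr($((mappingCone.id_X ψ n (n + 1) rfl)) x)
  have hab : ∀ n : ℤ, 0 < n → IsZero (C.X n) := fun n hn => by
    rw [IsZero.iff_id_eq_zero, ← mappingCone.id_X ψ n (n + 1) rfl,
      (R.above (n + 1) (by omega)).eq_of_tgt ((mappingCone.fst ψ).1.v n (n + 1) rfl) 0,
      (R.above n hn).eq_of_tgt ((mappingCone.snd ψ).v n n (add_zero n)) 0, zero_comp, zero_comp, add_zero]
  let R' : Res S.X₃ := ⟨C, πC, hproj, hab, inferInstanceAs (QuasiIso (c ≫ _))⟩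
  have hinr : mappingCone.inr ψ ≫ πC = R.π ≫ S0.map (cokernel.π (f • 𝟙 M)) := by
    show mappingCone.inr ψ ≫ c ≫ mappingCone.descShortComplex (S.map S0) = _
    have hc2 : mappingCone.inr ψ ≫ c = R.π ≫ mappingCone.inr (S.map S0).f :=
      (mappingCone.triangleMap ψ (S.map S0).f R.π R.π hψ).comm₂
    rw [reassoc_of% hc2, mappingCone.inr_descShortComplex]
    rfl
  -- the retraction
  have hψ0 : (quotCx I).map ψ = 0 := by
    ext n : 1
    exact quot_map_smul_eq_zero I hf (R.P.X n)
  let r : (quotCx I).obj C ⟶ (quotCx I).obj R.P :=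
    (mappingCone.mapHomologicalComplexIso ψ (quotF I)).hom ≫
      mappingCone.desc _ 0 (𝟙 _) (by simp [hψ0])
  have hr : (quotCx I).map (mappingCone.inr ψ) ≫ r = 𝟙 _ := by
    simp only [r]
    rw [← Category.assoc, mappingCone.map_inr, mappingCone.inr_desc]
  have h0 := h R'
  have h1 : DerivedCategory.Q.map (S0.map (cokernel.π (f • 𝟙 M))) ≫ inv (DerivedCategory.Q.map R'.π) =
      inv (DerivedCategory.Q.map R.π) ≫ DerivedCategory.Q.map (mappingCone.inr ψ) := by
    rw [IsIso.eq_inv_comp, ← Category.assoc, IsIso.comp_inv_eq, ← Functor.map_comp, ← Functor.map_comp]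
    exact congrArg _ hinr.symm
  rw [Functor.map_comp, Functor.map_comp, Category.assoc, reassoc_of% h1, ← Functor.map_comp,
    toQuotCx_naturality, Functor.map_comp] at h0
  have h2 := congrArg (fun t => t ≫ DerivedCategory.Q.map r) h0
  simp only [Category.assoc, zero_comp] at h2
  rw [← Functor.map_comp _ ((quotCx I).map (mappingCone.inr ψ)) r, hr, CategoryTheory.Functor.map_id,
    Category.comp_id] at h2
  exact h2

/-- The inclusion of a submodule. -/
noncomputable abbrev incl {M : ModuleCat.{u} A} (N : Submodule A M) : ModuleCat.of A N ⟶ M :=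
  ModuleCat.ofHom N.subtype

variable (I) in
/-- A power of `I` times a finite module dies. -/
theorem exists_van [IsNoetherianRing A] : ∀ (J : Ideal A) (M : ModuleCat.{u} A), Module.Finite A M →
    J ≤ Module.annihilator A M → ∃ k : ℕ, 0 < k ∧ Van I (incl (I ^ k • (⊤ : Submodule A M))) := by
  intro J
  induction J using WellFoundedGT.induction with
  | ind J ih =>
  intro M hM hJ
  by_cases hne : J = Module.annihilator A M
  swap
  · exact ih _ (lt_of_le_of_ne hJ hne) M hM le_rfl
  let T : Submodule A M := Submodule.torsionBySet A M (I : Set A)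
  obtain ⟨c, hc⟩ := Ideal.exists_pow_inf_eq_pow_smul I T
  let n₀ := c + 1
  let M₁ := ModuleCat.of A ↥(I ^ n₀ • (⊤ : Submodule A M))
  by_cases hz : Subsingleton M₁
  · refine ⟨n₀, Nat.succ_pos _, fun R => ?_⟩
    rw [(ModuleCat.isZero_of_subsingleton M₁).eq_of_src (incl _) 0, Functor.map_zero, Functor.map_zero, zero_comp]
  haveI : Nontrivial M₁ := not_subsingleton_iff_nontrivial.1 hz
  have hT : ∀ x : M₁, (∀ a ∈ I, a • x = 0) → x = 0 := fun x hx => by
    have h1 : (x : M) ∈ I ^ n₀ • (⊤ : Submodule A M) ⊓ T :=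
      ⟨x.2, (Submodule.mem_torsionBySet_iff _ _).2 fun a => congrArg Subtype.val (hx a.1 a.2)⟩
    rw [hc n₀ (Nat.le_succ c), show n₀ - c = 1 by omega, pow_one] at h1
    have h2 : I • (I ^ c • (⊤ : Submodule A M) ⊓ T) ≤ ⊥ := Submodule.smul_le.2 fun a ha y hy =>
      (Submodule.mem_bot A).2 ((Submodule.mem_torsionBySet_iff _ _).1 hy.2 ⟨a, ha⟩)
    exact Subtype.ext ((Submodule.mem_bot A).1 (h2 h1))
  obtain ⟨f, hf, hreg⟩ : ∃ f ∈ I, Function.Injective fun x : M₁ => f • x := by
    by_contra hcon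
    push Not at hcon
    have hsub : (I : Set A) ⊆ ⋃ p ∈ associatedPrimes A M₁, p := by
      rw [biUnion_associatedPrimes_eq_zero_divisors]
      intro a ha
      obtain ⟨x, y, hxy, hne'⟩ := Function.not_injective_iff.1 (hcon a ha)
      exact ⟨x - y, sub_ne_zero.2 hne', by rw [smul_sub]; exact sub_eq_zero.2 hxy⟩
    haveI := associatedPrimes.finite A M₁
    obtain ⟨p, hp, hle⟩ : ∃ p ∈ this.toFinset, I ≤ id p :=
      (Ideal.subset_union_prime (⊥ : Ideal A) ⊥ fun p hp _ _ =>
        IsAssociatedPrime.isPrime (this.mem_toFinset.1 hp)).1 (by simpa using hsub)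
    obtain ⟨-, x, hx⟩ := this.mem_toFinset.1 hp
    have hrad : I ≤ ((⊥ : Submodule A M₁).colon {x}).radical := hx ▸ hle
    obtain ⟨j, hj⟩ := Ideal.exists_pow_le_of_le_radical_of_fg hrad (IsNoetherian.noetherian I)
    have hpow : ∀ i, (∀ a ∈ I ^ i, a • x = 0) → x = 0 := fun i => by
      induction i with
      | zero => exact fun h => (one_smul A x).symm.trans (h 1 (by simp))
      | succ i ih2 =>
        refine fun h => ih2 fun a ha => hT _ fun b hb => ?_
        rw [← mul_smul]
        exact h _ (pow_succ' I i ▸ Ideal.mul_mem_mul hb ha)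
    have hx0 : x = 0 := hpow j fun a ha =>
      (Submodule.mem_bot A).1 (Submodule.mem_colon_singleton.1 (hj ha))
    exact (IsAssociatedPrime.isPrime (this.mem_toFinset.1 hp)).ne_top (by
      rw [hx, hx0]
      simp)
  let Q := cokernel (f • 𝟙 M₁)
  let q : M₁ ⟶ Q := cokernel.π _
  haveI : Module.Finite A Q := Module.Finite.of_surjective q.hom ((ModuleCat.epi_iff_surjective _).1 inferInstance)
  have hlt : J < Module.annihilator A Q := by
    have hfQ : f ∈ Module.annihilator A Q := Module.mem_annihilator.2 fun y => by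
      obtain ⟨x, rfl⟩ := (ModuleCat.epi_iff_surjective q).1 inferInstance y
      exact (q.hom.map_smul f x).symm.trans congr($(cokernel.condition (f • 𝟙 M₁)) x)
    refine lt_of_le_of_ne (fun a ha => Module.mem_annihilator.2 fun y => ?_) fun he => ?_
    · obtain ⟨x, rfl⟩ := (ModuleCat.epi_iff_surjective q).1 inferInstance y
      rw [← map_smul, show a • x = 0 from Subtype.ext (Module.mem_annihilator.1 (hJ ha) _), map_zero]
    · obtain ⟨x, hx⟩ := exists_ne (0 : M₁)
      refine hx (hreg ?_)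
      show f • x = f • 0
      rw [smul_zero]
      exact Subtype.ext (Module.mem_annihilator.1 (hJ (he ▸ hfQ)) _)
  obtain ⟨k, hk0, hk⟩ := ih _ hlt Q inferInstance le_rfl
  refine ⟨k + n₀, by omega, ?_⟩
  have hle : I ^ (k + n₀) • (⊤ : Submodule A M) ≤ I ^ n₀ • ⊤ :=
    Submodule.smul_mono (Ideal.pow_le_pow_right (Nat.le_add_left _ _)) le_rfl
  let u : ModuleCat.of A ↥(I ^ (k + n₀) • (⊤ : Submodule A M)) ⟶ M₁ :=
    ModuleCat.ofHom (Submodule.inclusion hle)
  have hmem : ∀ x, (u ≫ q).hom x ∈ I ^ k • (⊤ : Submodule A Q) := fun x => by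
    have h1 : u.hom x ∈ I ^ k • (⊤ : Submodule A M₁) := by
      have h3 : ((u.hom x : M₁) : M) ∈ I ^ k • (I ^ n₀ • (⊤ : Submodule A M)) := by
        rw [← Submodule.mul_smul, ← pow_add]
        exact x.2
      have h4 : Submodule.map (I ^ n₀ • (⊤ : Submodule A M)).subtype (I ^ k • ⊤) =
          I ^ k • (I ^ n₀ • (⊤ : Submodule A M)) := by
        rw [Submodule.map_smul'', Submodule.map_top, Submodule.range_subtype]
      rw [← h4] at h3
      obtain ⟨y, hy, hxy⟩ := h3
      rwa [← Subtype.ext hxy]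
    have h2 := Submodule.mem_map_of_mem (f := q.hom) h1
    rw [Submodule.map_smul''] at h2
    exact Submodule.smul_mono le_rfl le_top h2
  have hv : Van I (u ≫ q) := by
    have e : u ≫ q = ModuleCat.ofHom ((u ≫ q).hom.codRestrict _ hmem) ≫ incl _ := by
      ext x
      rfl
    rw [e]
    exact hk.precomp _
  have e : incl (I ^ (k + n₀) • (⊤ : Submodule A M)) = u ≫ incl (I ^ n₀ • (⊤ : Submodule A M)) := by
    ext x
    rfl
  rw [e]
  exact (van_of_quotient u hf hreg hv).postcomp _

end Groth.Agent.KExact.IdealFactor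

namespace Groth.Agent.KExact.IdealFactor

variable {A : Type u} [CommRing A] (I : Ideal A)

/-- `I[0] ⊗ P ⟶ P`. -/
noncomputable def nu (P : DRing.Cx A) : ((S0.obj (ModuleCat.of A I)) ⊗ P : DRing.Cx A) ⟶ P :=
  (S0.map (ModuleCat.ofHom I.subtype) : _ ⟶ 𝟙_ (DRing.Cx A)) ▷ P ≫ (λ_ P).hom

/-- The summand `I ⊗ P^n`. -/
noncomputable def nuι (P : DRing.Cx A) (n : ℤ) :
    ModuleCat.of A I ⊗ P.X n ⟶ ((S0.obj (ModuleCat.of A I)) ⊗ P : DRing.Cx A).X n :=
  (HomologicalComplex.singleObjXSelf (ComplexShape.up ℤ) 0 (ModuleCat.of A I)).inv ▷ P.X n ≫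
    HomologicalComplex.ιTensorObj (S0.obj (ModuleCat.of A I)) P 0 n n (zero_add n)

lemma nuι_nu (P : DRing.Cx A) (n : ℤ) :
    nuι I P n ≫ (nu I P).f n = ModuleCat.ofHom I.subtype ▷ P.X n ≫ (λ_ (P.X n)).hom := by
  let s := S0.map (ModuleCat.ofHom I.subtype)
  have h1 : HomologicalComplex.ιTensorObj (S0.obj (ModuleCat.of A I)) P 0 n n (zero_add n) ≫
      ((s : _ ⟶ 𝟙_ (DRing.Cx A)) ▷ P).f n =
      s.f 0 ▷ P.X n ≫ HomologicalComplex.ιTensorObj (𝟙_ (DRing.Cx A)) P 0 n n (zero_add n) := by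
    change HomologicalComplex.ιMapBifunctor _ _ _ _ _ _ _ _ ≫ (HomologicalComplex.mapBifunctorMap _ (𝟙 P) _ _).f n = _
    rw [HomologicalComplex.ι_mapBifunctorMap]
    simp only [HomologicalComplex.id_f, CategoryTheory.Functor.map_id, Category.id_comp]
    rfl
  have h2 : (HomologicalComplex.singleObjXSelf (ComplexShape.up ℤ) 0 (𝟙_ (ModuleCat.{u} A))).inv ▷ P.X n ≫
      HomologicalComplex.ιTensorObj (𝟙_ (DRing.Cx A)) P 0 n n (zero_add n) ≫ (λ_ P).hom.f n =
      (λ_ (P.X n)).hom := by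
    rw [← cancel_epi (λ_ (P.X n)).inv, Iso.inv_hom_id, ← Category.id_comp (𝟙 (P.X n))]
    have h3 : (λ_ P).inv.f n = (λ_ (P.X n)).inv ≫
        (HomologicalComplex.singleObjXSelf (ComplexShape.up ℤ) 0 (𝟙_ (ModuleCat.{u} A))).inv ▷ P.X n ≫
        HomologicalComplex.ιTensorObj (𝟙_ (DRing.Cx A)) P 0 n n (zero_add n) :=
      HomologicalComplex.leftUnitor'_inv P n
    rw [← Category.assoc, ← Category.assoc, Category.assoc (λ_ (P.X n)).inv, ← h3, ← HomologicalComplex.comp_f,
      Iso.inv_hom_id, Category.id_comp]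
    rfl
  show _ ≫ ((s : _ ⟶ 𝟙_ (DRing.Cx A)) ▷ P ≫ (λ_ P).hom).f n = _
  rw [HomologicalComplex.comp_f, nuι, Category.assoc, reassoc_of% h1, ← comp_whiskerRight_assoc, ← h2,
    ← comp_whiskerRight_assoc]
  have hs : (HomologicalComplex.singleObjXSelf (ComplexShape.up ℤ) 0 (ModuleCat.of A I)).inv ≫ s.f 0 =
      (ModuleCat.ofHom I.subtype : _ ⟶ 𝟙_ (ModuleCat.{u} A)) ≫
        (HomologicalComplex.singleObjXSelf (ComplexShape.up ℤ) 0 (𝟙_ (ModuleCat.{u} A))).inv := by
    simp only [s, HomologicalComplex.single_map_f_self, Iso.inv_hom_id_assoc]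
    rfl
  rw [hs]

lemma nuι_surjective (P : DRing.Cx A) (n : ℤ) : Epi (nuι I P n) := by
  haveI : Epi (HomologicalComplex.ιTensorObj (S0.obj (ModuleCat.of A I)) P 0 n n (zero_add n)) := by
    refine ⟨fun g h w => HomologicalComplex.mapBifunctor.hom_ext fun i j hij => ?_⟩
    by_cases hi : i = 0
    · subst hi
      change 0 + j = n at hij
      obtain rfl : j = n := by omega
      exact w
    · exact (((tensorRight (P.X j)).map_isZero
        (HomologicalComplex.isZero_single_obj_X (ComplexShape.up ℤ) 0 (ModuleCat.of A I) i hi))).eq_of_src _ _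
  unfold nuι
  infer_instance

/-- `0 → I ⊗ P → P → P / IP → 0`. -/
theorem shortExact_nu (P : DRing.Cx A) (hP : ∀ n, Module.Projective A (P.X n)) :
    ∃ h : nu I P ≫ toQuotCx I P = 0, (ShortComplex.mk (nu I P) (toQuotCx I P) h).ShortExact := by
  have hv : ∀ n (t : (ModuleCat.of A I ⊗ P.X n : ModuleCat.{u} A)),
      ((nu I P).f n).hom ((nuι I P n).hom t) =
        TensorProduct.lid A (P.X n) ((I.subtype.rTensor (P.X n)) t) := fun n t =>
    congr($(nuι_nu I P n) t)
  have hsurj : ∀ n, Function.Surjective (nuι I P n).hom := fun n =>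
    (ModuleCat.epi_iff_surjective _).1 (nuι_surjective I P n)
  have hrange : ∀ n x, (toQuot I).app (P.X n) x = 0 ↔ x ∈ LinearMap.range ((nu I P).f n).hom := by
    intro n x
    refine (Submodule.Quotient.mk_eq_zero _).trans ⟨fun hx => ?_, ?_⟩
    · refine Submodule.smul_le.2 (fun r hr y _ => ?_) hx
      exact ⟨(nuι I P n).hom ((⟨r, hr⟩ : I) ⊗ₜ[A] y), (hv n _).trans (by simp)⟩
    · rintro ⟨z, rfl⟩
      obtain ⟨t, rfl⟩ := hsurj n z
      rw [hv]
      induction t using TensorProduct.induction_on with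
      | zero => rw [map_zero, map_zero]; exact Submodule.zero_mem _
      | tmul r y => simpa using Submodule.smul_mem_smul r.2 (Submodule.mem_top : y ∈ ⊤)
      | add a b ha hb => rw [map_add, map_add]; exact Submodule.add_mem _ ha hb
  have hz : nu I P ≫ toQuotCx I P = 0 := by
    ext n z
    exact (hrange n _).2 ⟨z, rfl⟩
  refine ⟨hz, (HomologicalComplex.shortExact_iff_degreewise_shortExact _).2 fun n => ?_⟩
  haveI := hP n
  refine { exact := (ShortComplex.moduleCat_exact_iff _).2 fun x hx => (hrange n x).1 hx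
           mono_f := (ModuleCat.mono_iff_injective _).2 ?_
           epi_g := (ModuleCat.epi_iff_surjective _).2 (Submodule.mkQ_surjective _) }
  intro z z' hzz
  obtain ⟨t, rfl⟩ := hsurj n z
  obtain ⟨t', rfl⟩ := hsurj n z'
  have h : TensorProduct.lid A (P.X n) (I.subtype.rTensor (P.X n) t) =
      TensorProduct.lid A (P.X n) (I.subtype.rTensor (P.X n) t') := (hv n t).symm.trans (hzz.trans (hv n t'))
  rw [Module.Flat.rTensor_preserves_injective_linearMap I.subtype Subtype.val_injective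
    ((TensorProduct.lid A (P.X n)).injective h)]

/-- A map dying in `A/I ⊗^L M` factors through `I ⊗^L M`. -/
theorem exists_factor [DTen.HasLTen A] [DTen.KFlatComputes A] {N M : ModuleCat.{u} A} (u : N ⟶ M)
    (h : Van I u) :
    ∃ g : DerivedCategory.Q.obj (S0.obj N) ⟶
        (DTen.LTen₂ A).obj (DerivedCategory.Q.obj (S0.obj (ModuleCat.of A I)), DerivedCategory.Q.obj (S0.obj M)),
      g ≫ (DTen.LTen₂ A).map (Prod.mkHom
            (DerivedCategory.Q.map (S0.map (ModuleCat.ofHom I.subtype) : _ ⟶ 𝟙_ (DRing.Cx A))) (𝟙 _)) ≫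
          (DTen.unitL A).app (DerivedCategory.Q.obj (S0.obj M)) = DerivedCategory.Q.map (S0.map u) := by
  obtain ⟨R⟩ := exists_res M
  obtain ⟨hz, hS⟩ := shortExact_nu I R.P R.proj
  obtain ⟨φ, hφ⟩ := Pretriangulated.Triangle.coyoneda_exact₂ _ (DerivedCategory.triangleOfSES_distinguished hS)
    (DerivedCategory.Q.map (S0.map u) ≫ inv (DerivedCategory.Q.map R.π)) ((Category.assoc _ _ _).trans (h R))
  change DerivedCategory.Q.map (S0.map u) ≫ inv (DerivedCategory.Q.map R.π) =
    φ ≫ DerivedCategory.Q.map (nu I R.P) at hφ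
  have hK : DRing.IsKFlat A R.P := H9Misc.DRingTor.isKF_of_flat
    (fun i => haveI := R.proj i; inferInstance) (b := 0) fun i hi => R.above i hi
  let I0 := S0.obj (ModuleCat.of A I)
  let s : I0 ⟶ 𝟙_ (DRing.Cx A) := S0.map (ModuleCat.ofHom I.subtype)
  haveI := DTen.KFlatComputes.isIso_counit I0 R.P (Or.inr hK)
  refine ⟨φ ≫ inv ((DTen.ε A).app (I0, R.P)) ≫
    (DTen.LTen₂ A).map (Prod.mkHom (𝟙 _) (DerivedCategory.Q.map R.π)), ?_⟩
  let W := (DTen.LTen₂ A)
  have h1 : W.map (Prod.mkHom (𝟙 (DerivedCategory.Q.obj I0)) (DerivedCategory.Q.map R.π)) ≫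
      W.map (Prod.mkHom (DerivedCategory.Q.map s) (𝟙 (DerivedCategory.Q.obj (S0.obj M)))) =
      W.map (Prod.mkHom (DerivedCategory.Q.map s) (𝟙 (DerivedCategory.Q.obj R.P))) ≫
        W.map (Prod.mkHom (𝟙 (DTen.unit A)) (DerivedCategory.Q.map R.π)) := by
    rw [← W.map_comp, ← W.map_comp]
    congr 1
  have h2 : W.map (Prod.mkHom (𝟙 (DTen.unit A)) (DerivedCategory.Q.map R.π)) ≫
      (DTen.unitL A).app (DerivedCategory.Q.obj (S0.obj M)) =
      (DTen.unitL A).app (DerivedCategory.Q.obj R.P) ≫ DerivedCategory.Q.map R.π :=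
    (DTen.unitL A).naturality (DerivedCategory.Q.map R.π)
  have h3 : W.map (Prod.mkHom (DerivedCategory.Q.map s) (𝟙 (DerivedCategory.Q.obj R.P))) ≫
      (DTen.ε A).app (𝟙_ (DRing.Cx A), R.P) =
      (DTen.ε A).app (I0, R.P) ≫ DerivedCategory.Q.map (s ▷ R.P) := by
    have e := (DTen.ε A).naturality (Prod.mkHom s (𝟙 R.P))
    dsimp at e
    simp only [MonoidalCategory.whiskerLeft_id, Category.comp_id, CategoryTheory.Functor.map_id] at e
    exact e
  show (φ ≫ inv ((DTen.ε A).app (I0, R.P)) ≫ _) ≫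
    W.map (Prod.mkHom (DerivedCategory.Q.map s) (𝟙 (DerivedCategory.Q.obj (S0.obj M)))) ≫ _ = _
  simp only [Category.assoc]
  rw [reassoc_of% h1, h2, DTen.unitL_app, Category.assoc, reassoc_of% h3, IsIso.inv_hom_id_assoc]
  rw [← Functor.map_comp_assoc, show s ▷ R.P ≫ (λ_ R.P).hom = nu I R.P from rfl, ← reassoc_of% hφ,
    IsIso.inv_hom_id, Category.comp_id]

end Groth.Agent.KExact.IdealFactor
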