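import Groth.Agent.KExact.GorensteinDual
import Groth.Agent.KFlatLib.Ring.DualizingPair

/-!
# Invertible objects from affine charts
-/

set_option autoImplicit false
set_option linter.style.haveILetI false
set_option linter.unusedSectionVars false
set_option backward.isDefEq.respectTransparency false
set_option backward.isDefEq.respectTransparency.types false

universe u

open CategoryTheory CategoryTheory.Limits AlgebraicGeometry

attribute [local instance] HasDerivedCategory.standard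

namespace Groth.Agent.KExact

open KFlatLib

/-- Localizations of an object with a tensor inverse are free of rank one in one degree. -/
theorem exists_degree_of_ten_iso_unit {A : Type u} [CommRing A] [IsNoetherianRing A] [DTen.HasLTen A]
    [DTen.HasRHom A] {P Q : Dual.D A} (hP : ∀ i : ℤ, Module.Finite A (Dual.HD A P i))
    (hQ : ∀ i : ℤ, Module.Finite A (Dual.HD A Q i)) (a b : ℤ) [P.IsLE a] [Q.IsLE b]
    (h : (DTen.LTen₂ A).obj (P, Q) ≅ DTen.unit A) (p : PrimeSpectrum A) :
    ∃ c : ℤ, (∀ i : ℤ, i ≠ c → Subsingleton (LocalizedModule p.asIdeal.primeCompl (Dual.HD A P i))) ∧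
      Nonempty (LocalizedModule p.asIdeal.primeCompl (Dual.HD A P c) ≃ₗ[Localization.AtPrime p.asIdeal]
        Localization.AtPrime p.asIdeal) := by
  let B := Localization.AtPrime p.asIdeal
  haveI := hasLBase (algebraMap A B)
  haveI : Module.Flat A B := IsLocalization.flat B p.asIdeal.primeCompl
  haveI := hasLTen B
  haveI := hasRHom (A := B)
  haveI := hasResTen (algebraMap A B)
  haveI := resLegIso (algebraMap A B)
  haveI := isIso_lbaseTenCmp (algebraMap A B) P Q
  haveI := isLE_LBase (φ := algebraMap A B) P a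
  haveI := isLE_LBase (φ := algebraMap A B) Q b
  obtain ⟨u⟩ := nonempty_LBase_unit (algebraMap A B)
  obtain ⟨n, ⟨e⟩, -⟩ := exists_shift_of_ten_iso_unit (P := (DTen.LBase (algebraMap A B)).obj P)
    (Q := (DTen.LBase (algebraMap A B)).obj Q) (fun i => finite_hd_LBase P i (hP i))
    (fun i => finite_hd_LBase Q i (hQ i)) a b
    ((asIso (lbaseTenCmp (algebraMap A B) P Q)).symm ≪≫ (DTen.LBase _).mapIso h ≪≫ u)
  obtain ⟨eU⟩ := nonempty_unit_shift_iso (A := B) n
  let S := (DerivedCategory.singleFunctor (ModuleCat.{u} B) (-n)).obj (ModuleCat.of B B)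
  let eS : (DTen.LBase (algebraMap A B)).obj P ≅ S :=
    e ≪≫ eU ≪≫ ((DerivedCategory.singleFunctorIsoCompQ _ (-n)).app _).symm
  have hf : ∀ i, Nonempty (LocalizedModule p.asIdeal.primeCompl (Dual.HD A P i) ≃ₗ[B] Dual.HD B S i) := fun i => by
    obtain ⟨eL⟩ := exists_hdLBaseLEquiv (B := B) P i
    exact ⟨((LocalizedModule.equivTensorProduct _ _).trans eL.symm).trans
      ((DerivedCategory.homologyFunctor _ i).mapIso eS).toLinearEquiv⟩
  refine ⟨-n, fun i hi => ?_, ?_⟩
  · obtain ⟨f⟩ := hf i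
    haveI : Subsingleton (Dual.HD B S i) := by
      refine ModuleCat.subsingleton_of_isZero ?_
      rcases lt_or_gt_of_ne hi with hi | hi
      · exact DerivedCategory.isZero_of_isGE S (-n) i hi
      · exact DerivedCategory.isZero_of_isLE S (-n) i hi
    exact f.injective.subsingleton
  · obtain ⟨f⟩ := hf (-n)
    obtain ⟨e1⟩ := exists_hdSingleLEquiv (ModuleCat.of B B) (-n)
    exact ⟨f.trans e1⟩

variable {X : Scheme.{u}}
  [∀ (U : Scheme.{u}) (j : U ⟶ X) [IsOpenImmersion j], PreservesFiniteLimits (Scheme.Modules.restrictFunctor j)]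
  [∀ (R : CommRingCat.{u}), PreservesFiniteLimits (tilde.functor R)]

/-- The stalks of the cohomology on an affine chart. -/
theorem exists_stalk_equiv_of_qcoh {K : DCoh.D X} {U : X.Opens} (hU : IsAffineOpen U)
    {x : X} (hx : x ∈ U) {ω : Dual.D Γ(X, U)}
    (e : (DCoh.restrictD hU.fromSpec).obj K ≅ (DCoh.tildeD (CommRingCat.of Γ(X, U))).obj ω) (i : ℤ)
    (hK : Coh.IsQCoh (DCoh.HD K i)) :
    ∃ (σ : Localization.AtPrime (hU.primeIdealOf ⟨x, hx⟩).asIdeal ≃+* X.presheaf.stalk x)
      (g : LocalizedModule (hU.primeIdealOf ⟨x, hx⟩).asIdeal.primeCompl (Dual.HD Γ(X, U) ω i) ≃+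
        (DCoh.HD K i).presheaf.stalk x), ∀ r m, g (r • m) = σ r • g m := by
  obtain ⟨eH⟩ := exists_restrict_hd_iso hU.fromSpec e i
  let H : ModuleCat.{u} Γ(X, U) := (DerivedCategory.homologyFunctor (ModuleCat.{u} Γ(X, U)) i).obj ω
  let eG : Γ(DCoh.HD K i, U) ≃ₗ[Γ(X, U)] H :=
    (QCoh.chartEquiv hU (DCoh.HD K i)).trans
      ((moduleSpecΓFunctor.mapIso eH ≪≫ (asIso (tilde.toTildeΓNatIso.hom.app H)).symm).toLinearEquiv)
  letI := QCoh.stalkAlg hx
  letI := QCoh.stalkModule (DCoh.HD K i) hx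
  haveI := QCoh.isScalarTower_stalk (DCoh.HD K i) hx
  haveI := QCoh.isLocalizedModule_germLin hK hU hx
  haveI := QCoh.isLocalization_stalk' hU hx
  haveI : IsLocalizedModule (hU.primeIdealOf ⟨x, hx⟩).asIdeal.primeCompl
      ((QCoh.germLin (DCoh.HD K i) hx).comp eG.symm.toLinearMap) :=
    IsLocalizedModule.of_linearEquiv_right _ _ eG.symm
  exact QCoh.exists_semilinear (hU.primeIdealOf ⟨x, hx⟩).asIdeal.primeCompl
    (Localization.AtPrime (hU.primeIdealOf ⟨x, hx⟩).asIdeal) (X.presheaf.stalk x)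
    (LocalizedModule.mkLinearMap _ (H : Type u)) ((QCoh.germLin (DCoh.HD K i) hx).comp eG.symm.toLinearMap)

/-- An object which in affine charts is tilde of an object free of rank one in one degree at every
prime is invertible. -/
theorem isInvertibleD_of_charts [IsLocallyNoetherian X] {K : DCoh.D X}
    (hch : ∀ (U : X.Opens) (hU : IsAffineOpen U), ∃ (ω : Dual.D Γ(X, U)) (a b : ℤ), ω.IsGE a ∧ ω.IsLE b ∧
      (∀ i, Module.Finite Γ(X, U) (Dual.HD Γ(X, U) ω i)) ∧
      Nonempty ((DCoh.restrictD hU.fromSpec).obj K ≅ (DCoh.tildeD (CommRingCat.of Γ(X, U))).obj ω) ∧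
      ∀ p : PrimeSpectrum Γ(X, U), ∃ c : ℤ,
        (∀ i : ℤ, i ≠ c → Subsingleton (LocalizedModule p.asIdeal.primeCompl (Dual.HD Γ(X, U) ω i))) ∧
        Nonempty (LocalizedModule p.asIdeal.primeCompl (Dual.HD Γ(X, U) ω c) ≃ₗ[Localization.AtPrime p.asIdeal]
          Localization.AtPrime p.asIdeal)) :
    Dual3.IsInvertibleD K := by
  have hcoh : ∀ i, Coh.IsCoh (DCoh.HD K i) := fun i => by
    refine KZ.isCoh_of_local fun x => ?_
    obtain ⟨U, hU, hx, -⟩ := exists_isAffineOpen_mem_and_subset (x := x) (U := ⊤) trivial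
    haveI : IsNoetherianRing Γ(X, U) := QCoh.noetherian_sections ⟨U, hU⟩
    obtain ⟨ω, a, b, -, -, hfin, ⟨e⟩, -⟩ := hch U hU
    obtain ⟨eH⟩ := exists_restrict_hd_iso hU.fromSpec e i
    refine ⟨_, hU.fromSpec, inferInstance, by rw [hU.range_fromSpec]; exact hx, ?_⟩
    exact KFlatLib.isCoh_of_iso eH.symm ((isCoh_tilde_iff _).2 (hfin i))
  intro x
  obtain ⟨U0, hU0, hx0, -⟩ := exists_isAffineOpen_mem_and_subset (x := x) (U := ⊤) trivial
  obtain ⟨ω, a, b', hge, hle, -, ⟨e⟩, hp⟩ := hch U0 hU0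
  obtain ⟨c, hc', ⟨bb⟩⟩ := hp (hU0.primeIdealOf ⟨x, hx0⟩)
  have hc : ∀ i, i ≠ c → Subsingleton ((DCoh.HD K i).presheaf.stalk x) := fun i hi => by
    obtain ⟨σ, g, -⟩ := exists_stalk_equiv_of_qcoh hU0 hx0 e i (hcoh i).1
    haveI := hc' i hi
    exact g.symm.injective.subsingleton
  obtain ⟨σ, g, hg⟩ := exists_stalk_equiv_of_qcoh hU0 hx0 e c (hcoh c).1
  let b : (DCoh.HD K c).presheaf.stalk x ≃ₗ[X.presheaf.stalk x] X.presheaf.stalk x :=
    { (g.symm.trans (bb.toAddEquiv.trans σ.toAddEquiv)) with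
      map_smul' := fun r m => by
        show σ (bb (g.symm (r • m))) = r * σ (bb (g.symm m))
        have h2 : g.symm (r • m) = σ.symm r • g.symm m := g.injective (by
          rw [g.apply_symm_apply, hg, σ.apply_symm_apply, g.apply_symm_apply])
        rw [h2, map_smul, smul_eq_mul, map_mul, σ.apply_symm_apply] }
  haveI : Module.Free (X.presheaf.stalk x) ((DCoh.HD K c).presheaf.stalk x) := Module.Free.of_equiv b.symm
  obtain ⟨U1, n, hx1, ⟨e1⟩⟩ := QCoh.exists_free_nhd_of_free_stalk (QCoh.isCoh_iff_isFP.1 (hcoh c)) x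
  obtain rfl : n = 1 := by
    obtain ⟨_, ⟨V, hV, rfl⟩, hxV, hle'⟩ := X.isBasis_affineOpens.exists_subset_of_mem_open hx1 U1.2
    obtain ⟨l⟩ := QCoh.free_sections (V := V) hV hle' e1
    rw [← QCoh.finrank_stalk_of_freeChart hV (hcoh c).1 l hxV, b.finrank_eq, Module.finrank_self]
  let O : ℤ → X.Opens := fun i =>
    ⟨(CohB1.support (DCoh.HD K i))ᶜ, (QCoh.isClosed_support_of_isFT (hcoh i).1 (hcoh i).2).isOpen_compl⟩
  let W : X.Opens := U0 ⊓ U1 ⊓ ((Finset.Icc a b').erase c).inf O
  have hxW : x ∈ W := by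
    refine ⟨⟨hx0, hx1⟩, ?_⟩
    generalize hs : (Finset.Icc a b').erase c = s
    have hsc : c ∉ s := hs ▸ Finset.notMem_erase _ _
    clear hs W
    induction s using Finset.cons_induction with
    | empty => simp
    | cons i s hi ih =>
      rw [Finset.mem_cons, not_or] at hsc
      rw [Finset.inf_cons]
      refine ⟨?_, ih hsc.2⟩
      have := hc i fun h => hsc.1 h.symm
      exact fun h => h this
  have hstalk : ∀ i, i ≠ c → ∀ y : X, y ∈ W → Subsingleton ((DCoh.HD K i).presheaf.stalk y) := by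
    intro i hi y hy
    by_cases hab : i ∈ Finset.Icc a b'
    · have hy' : y ∈ O i :=
        (Finset.inf_le (f := O) (Finset.mem_erase.2 ⟨hi, hab⟩) : _ ≤ O i) hy.2
      exact not_not.1 hy'
    · obtain ⟨σ, g, -⟩ := exists_stalk_equiv_of_qcoh hU0 hy.1.1 e i (hcoh i).1
      rw [Finset.mem_Icc, not_and_or] at hab
      haveI : Subsingleton (Dual.HD Γ(X, U0) ω i) := by
        rcases hab with h | h
        · exact ModuleCat.subsingleton_of_isZero (ω.isZero_of_isGE a i (by omega))
        · exact ModuleCat.subsingleton_of_isZero (ω.isZero_of_isLE b' i (by omega))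
      exact g.symm.injective.subsingleton
  let KW := (DCoh.restrictD W.ι).obj K
  have hz : ∀ i, i ≠ c → IsZero (DCoh.HD KW i) := fun i hi => by
    refine IsZero.of_iso ?_ (restrictHDIso W.ι K i)
    refine isZero_of_stalk _ fun y => @ModuleCat.isZero_of_subsingleton _ _ _ ?_
    exact ((Scheme.Modules.restrictStalkNatIso W.ι y).app (DCoh.HD K i)).addCommGroupIsoToAddEquiv.toEquiv.subsingleton_congr.2
      (hstalk i hi y.1 y.2)
  haveI : KW.IsGE c := (DerivedCategory.isGE_iff _ _).2 fun i hi => hz i (by omega)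
  haveI : KW.IsLE c := (DerivedCategory.isLE_iff _ _).2 fun i hi => hz i (by omega)
  obtain ⟨M, ⟨eM⟩⟩ := DerivedCategory.exists_iso_singleFunctor_obj_of_isGE_of_isLE KW c
  let eM' : M ≅ Coh.structureModule (W : Scheme.{u}) :=
    ((DerivedCategory.singleFunctorCompHomologyFunctorIso (W : Scheme.{u}).Modules c).app M).symm ≪≫
      ((DerivedCategory.homologyFunctor (W : Scheme.{u}).Modules c).mapIso eM).symm ≪≫
        restrictHDIso W.ι K c ≪≫ restrictFreeIso (inf_le_left.trans inf_le_right) e1 ≪≫ H23.DblAlg.freeOneIso _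
  refine ⟨W, -c, hxW, ⟨eM ≪≫ (DerivedCategory.singleFunctor _ c).mapIso eM' ≪≫
    (((DerivedCategory.singleFunctors (W : Scheme.{u}).Modules).shiftIso (-c) c 0 (by omega)).app _).symm⟩⟩

end Groth.Agent.KExact
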