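import Mathlib

/-!
# A map of finite projective modules with invertible kernel and kernels of rank one in all fibres
-/

set_option linter.style.haveILetI false
set_option backward.isDefEq.respectTransparency false
set_option backward.isDefEq.respectTransparency.types false
set_option maxHeartbeats 1600000

universe u

open TensorProduct

namespace Groth.Agent.KExact.KerRank

/-- Generators adapted to the fibre. -/
theorem exists_adapted {R k : Type u} [CommRing R] [Field k] [Algebra R k]
    (hs : Function.Surjective (algebraMap R k)) {F G : Type u} [AddCommGroup F] [Module R F]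
    [AddCommGroup G] [Module R G] [Module.Finite R F] (d : F →ₗ[R] G)
    (h : Module.finrank k (LinearMap.ker (d.baseChange k)) = 1) :
    ∃ (n : ℕ) (g : (Fin n → R) →ₗ[R] F) (v : F), Function.Injective ((d ∘ₗ g).lTensor k) ∧
      (LinearMap.range g ⊔ Submodule.span R {v}).map (TensorProduct.mk R k F 1) = ⊤ := by
  classical
  haveI : Nontrivial R := (algebraMap R k).domain_nontrivial
  let K := LinearMap.ker (d.baseChange k)
  -- reduction
  let π : F →ₗ[R] k ⊗[R] F := TensorProduct.mk R k F 1
  have hπ : Function.Surjective π := fun z => by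
    induction z using TensorProduct.induction_on with
    | zero => exact ⟨0, map_zero _⟩
    | tmul c x =>
      obtain ⟨r, rfl⟩ := hs c
      refine ⟨r • x, ?_⟩
      show (1 : k) ⊗ₜ[R] (r • x) = _
      rw [← smul_tmul, Algebra.smul_def, mul_one]
    | add a b ha hb =>
      obtain ⟨x, rfl⟩ := ha
      obtain ⟨y, rfl⟩ := hb
      exact ⟨x + y, map_add _ _ _⟩
  obtain ⟨W, hW⟩ := K.exists_isCompl
  haveI : Module.Free k W := Module.Free.of_divisionRing k W
  let b := Module.finBasis k W
  choose w hw using fun i => hπ (b i : k ⊗[R] F)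
  obtain ⟨v₀, hv₀, hspan⟩ := (haveI : Module.Free k K := Module.Free.of_divisionRing k K; (finrank_eq_one_iff' (K := k) (V := K)).1 h)
  obtain ⟨v, hv⟩ := hπ (v₀ : k ⊗[R] F)
  let g : (Fin (Module.finrank k W) → R) →ₗ[R] F := Fintype.linearCombination R w
  have hgk : ∀ x : k ⊗[R] (Fin (Module.finrank k W) → R),
      ∃ y : W, g.baseChange k x = (y : k ⊗[R] F) := fun x => by
    induction x using TensorProduct.induction_on with
    | zero => exact ⟨0, by simp⟩
    | tmul c z =>
      refine ⟨c • ∑ i, algebraMap R k (z i) • b i, ?_⟩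
      rw [LinearMap.baseChange_tmul]
      simp only [g, Fintype.linearCombination_apply, Submodule.coe_smul, Submodule.coe_sum]
      rw [Finset.smul_sum, tmul_sum]
      refine Finset.sum_congr rfl fun i _ => ?_
      rw [← hw i]
      show c ⊗ₜ[R] (z i • w i) = c • algebraMap R k (z i) • ((1 : k) ⊗ₜ[R] w i)
      rw [algebraMap_smul, ← tmul_smul, smul_tmul', smul_eq_mul, mul_one]
    | add a c ha hc =>
      obtain ⟨y, hy⟩ := ha
      obtain ⟨y', hy'⟩ := hc
      exact ⟨y + y', by rw [map_add, hy, hy']; rfl⟩
  have hrangeW : LinearMap.range (g.baseChange k) = W := by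
    refine le_antisymm ?_ fun q hq => ?_
    · rintro _ ⟨x, rfl⟩
      obtain ⟨y, hy⟩ := hgk x
      exact hy ▸ y.2
    · rw [show q = ((⟨q, hq⟩ : W) : k ⊗[R] F) from rfl, ← b.sum_repr ⟨q, hq⟩, Submodule.coe_sum]
      refine Submodule.sum_mem _ fun i _ => ?_
      rw [Submodule.coe_smul, ← hw i]
      refine Submodule.smul_mem _ _ ⟨(1 : k) ⊗ₜ[R] (Pi.single i (1 : R)), ?_⟩
      rw [LinearMap.baseChange_tmul, Fintype.linearCombination_apply_single, one_smul]
      rfl
  have hginj : ∀ x, g.baseChange k x = 0 → x = 0 := fun x hx => by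
    have h1 := (g.baseChange k).finrank_range_add_finrank_ker
    rw [hrangeW, Module.finrank_baseChange, Module.finrank_fin_fun] at h1
    have h2 : LinearMap.ker (g.baseChange k) = ⊥ := Submodule.finrank_eq_zero.1 (by omega)
    exact (LinearMap.ker_eq_bot'.1 h2) x hx
  have hinj : Function.Injective ((d ∘ₗ g).lTensor k) := by
    intro x y hxy
    rw [← sub_eq_zero] at hxy ⊢
    rw [← map_sub] at hxy
    refine hginj _ ?_
    obtain ⟨z, hz⟩ := hgk (x - y)
    have hzK : g.baseChange k (x - y) ∈ K := by
      show d.baseChange k (g.baseChange k (x - y)) = 0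
      rw [← LinearMap.comp_apply, ← LinearMap.baseChange_comp]
      exact hxy
    exact (Submodule.disjoint_def.1 hW.disjoint) _ hzK (hz ▸ z.2)
  refine ⟨_, g, v, hinj, ?_⟩
  refine Submodule.eq_top_iff'.2 fun z => ?_
  obtain ⟨p, hp, q, hq, rfl⟩ := Submodule.mem_sup.1 (hW.codisjoint.eq_top ▸ Submodule.mem_top : z ∈ K ⊔ W)
  refine add_mem ?_ ?_
  · obtain ⟨c, hc⟩ := hspan ⟨p, hp⟩
    obtain ⟨r, rfl⟩ := hs c
    refine ⟨r • v, Submodule.mem_sup_right (Submodule.smul_mem _ _ (Submodule.mem_span_singleton_self v)), ?_⟩
    rw [map_smul]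
    show r • π v = p
    rw [hv, ← algebraMap_smul k r]
    exact congrArg Subtype.val hc
  · let t : Fin (Module.finrank k W) → k := fun i => b.repr ⟨q, hq⟩ i
    choose r hr using fun i => hs (t i)
    refine ⟨g r, Submodule.mem_sup_left ⟨r, rfl⟩, ?_⟩
    show π (g r) = q
    simp only [g, Fintype.linearCombination_apply, map_sum, map_smul]
    conv_rhs => rw [show q = ((⟨q, hq⟩ : W) : k ⊗[R] F) from rfl, ← b.sum_repr ⟨q, hq⟩, Submodule.coe_sum]
    refine Finset.sum_congr rfl fun i _ => ?_
    rw [hw i, Submodule.coe_smul, ← algebraMap_smul k (r i)]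
    exact congrArg (· • (b i : k ⊗[R] F)) (hr i)

/-- Over a local ring the cokernel is free. -/
theorem free_coker_local {R : Type u} [CommRing R] [IsLocalRing R] {F G : Type u} [AddCommGroup F] [Module R F]
    [AddCommGroup G] [Module R G] [Module.Finite R F] [Module.Free R F] [Module.Finite R G] [Module.Free R G]
    (d : F →ₗ[R] G) (e : LinearMap.ker d ≃ₗ[R] R)
    (h : Module.finrank (IsLocalRing.ResidueField R)
      (LinearMap.ker (d.baseChange (IsLocalRing.ResidueField R))) = 1) :
    Module.Free R (G ⧸ LinearMap.range d) := by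
  classical
  obtain ⟨n, g, v, hinj, hmap⟩ := exists_adapted (k := IsLocalRing.ResidueField R) IsLocalRing.residue_surjective d h
  obtain ⟨l, hl⟩ := (IsLocalRing.split_injective_iff_lTensor_residueField_injective (d ∘ₗ g)).2 hinj
  have htop : LinearMap.range g ⊔ Submodule.span R {v} = ⊤ := IsLocalRing.map_tensorProduct_mk_eq_top.1 hmap
  let c := e.symm 1
  have hann : ∀ r : R, r • (c : F) = 0 → r = 0 := fun r hr => by
    have : r • c = 0 := Subtype.ext hr
    simpa [c] using congrArg e this
  obtain ⟨p, ⟨z, rfl⟩, q, hq, hpq⟩ := Submodule.mem_sup.1 (htop ▸ Submodule.mem_top :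
    (c : F) ∈ LinearMap.range g ⊔ Submodule.span R {v})
  obtain ⟨a, rfl⟩ := Submodule.mem_span_singleton.1 hq
  let v' := v - g (l (d v))
  have hz : z = -(a • l (d v)) := by
    have h1 : l (d (g z + a • v)) = 0 := by rw [hpq, (c.2 : d (c : F) = 0), map_zero]
    rw [map_add, map_add, map_smul, map_smul, show l (d (g z)) = z from LinearMap.congr_fun hl z] at h1
    exact eq_neg_of_add_eq_zero_left h1
  have hc : (c : F) = a • v' := by
    rw [← hpq, hz, map_neg, map_smul, smul_sub]
    abel
  have ha : ∀ r : R, r * a = 0 → r = 0 := fun r hr => hann r (by rw [hc, smul_smul, hr, zero_smul])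
  have hv' : d v' = 0 := by
    have h1 : a • d v' = 0 := by rw [← map_smul, ← hc]; exact c.2
    let bG := Module.Free.chooseBasis R G
    refine bG.repr.injective (Finsupp.ext fun i => ?_)
    have h2 := congrArg (fun y => bG.repr y i) h1
    simp only [map_smul, map_zero, Finsupp.smul_apply, Finsupp.zero_apply, smul_eq_mul] at h2
    rw [map_zero]
    exact ha _ (by rw [mul_comm]; exact h2)
  have hrange : LinearMap.range d = LinearMap.range (d ∘ₗ g) := by
    refine le_antisymm ?_ (LinearMap.range_comp_le_range g d)
    rintro _ ⟨x, rfl⟩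
    obtain ⟨_, ⟨y, rfl⟩, q, hq, rfl⟩ := Submodule.mem_sup.1 (htop ▸ Submodule.mem_top :
      x ∈ LinearMap.range g ⊔ Submodule.span R {v})
    obtain ⟨r, rfl⟩ := Submodule.mem_span_singleton.1 hq
    have hdv : d v = d (g (l (d v))) := sub_eq_zero.1 ((map_sub d _ _).symm.trans hv')
    exact ⟨y + r • l (d v), by simp [← hdv]⟩
  rw [hrange]
  exact Module.free_of_lTensor_residueField_injective (d ∘ₗ g) (LinearMap.range (d ∘ₗ g)).mkQ
    (Submodule.mkQ_surjective _) (d ∘ₗ g).exact_map_mkQ_range hinj

/-- The cokernel is projective. -/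
theorem projective_coker {A : Type u} [CommRing A] {F G : Type u} [AddCommGroup F] [Module A F] [AddCommGroup G]
    [Module A G] [Module.Finite A F] [Module.Projective A F] [Module.Finite A G] [Module.Projective A G]
    (d : F →ₗ[A] G) (e : LinearMap.ker d ≃ₗ[A] A)
    (h : ∀ (k : Type u) [Field k] [Algebra A k], Module.finrank k (LinearMap.ker (d.baseChange k)) = 1) :
    Module.Projective A (G ⧸ LinearMap.range d) := by
  haveI : Module.FinitePresentation A G := Module.finitePresentation_of_projective A G
  haveI : Module.FinitePresentation A (G ⧸ LinearMap.range d) :=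
    Module.finitePresentation_of_surjective _ (Submodule.mkQ_surjective _)
      (by rw [Submodule.ker_mkQ]; exact LinearMap.range_eq_map d ▸ (Module.Finite.fg_top).map d)
  haveI : Module.Flat A (G ⧸ LinearMap.range d) := Module.flat_of_localized_maximal _ fun P _ => by
    let R := Localization.AtPrime P
    let k := IsLocalRing.ResidueField R
    let d' := d.baseChange R
    let e' : LinearMap.ker d' ≃ₗ[R] R :=
      (LinearMap.tensorKerEquiv R R d).symm.trans
        ((LinearEquiv.baseChange A R _ _ e).trans (TensorProduct.AlgebraTensorModule.rid A R R))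
    haveI : Module.Free R (R ⊗[A] F) := Module.free_of_flat_of_isLocalRing
    haveI : Module.Free R (R ⊗[A] G) := Module.free_of_flat_of_isLocalRing
    have hk : Module.finrank k (LinearMap.ker (d'.baseChange k)) = 1 := by
      let cF := TensorProduct.AlgebraTensorModule.cancelBaseChange A R k k F
      let cG := TensorProduct.AlgebraTensorModule.cancelBaseChange A R k k G
      have hcomm : ∀ x, cG (d'.baseChange k x) = d.baseChange k (cF x) := fun x => by
        induction x using TensorProduct.induction_on with
        | zero => simp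
        | add a b ha hb => simp only [map_add, ha, hb]
        | tmul c y =>
          induction y using TensorProduct.induction_on with
          | zero => simp
          | add a b ha hb => simp only [tmul_add, map_add, ha, hb]
          | tmul r z => simp [d', cF, cG]
      have hmap : (LinearMap.ker (d'.baseChange k)).map cF.toLinearMap = LinearMap.ker (d.baseChange k) := by
        ext y
        constructor
        · rintro ⟨x, hx, rfl⟩
          show d.baseChange k (cF x) = 0
          rw [← hcomm, show d'.baseChange k x = 0 from hx, map_zero]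
        · intro hy
          refine ⟨cF.symm y, cG.injective ?_, cF.apply_symm_apply y⟩
          rw [hcomm, cF.apply_symm_apply, map_zero]
          exact hy
      rw [← h k, ← hmap, LinearEquiv.finrank_map_eq]
    haveI := free_coker_local d' e' hk
    have hex : Function.Exact d' ((LinearMap.range d).mkQ.baseChange R) :=
      lTensor_exact R d.exact_map_mkQ_range (Submodule.mkQ_surjective _)
    let q : ((R ⊗[A] G) ⧸ LinearMap.range d') ≃ₗ[R] R ⊗[A] (G ⧸ LinearMap.range d) :=
      hex.linearEquivOfSurjective (LinearMap.lTensor_surjective R (Submodule.mkQ_surjective _))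
    haveI : Module.Free R (R ⊗[A] (G ⧸ LinearMap.range d)) := Module.Free.of_equiv q
    haveI : Module.Flat R (LocalizedModule P.primeCompl (G ⧸ LinearMap.range d)) :=
      Module.Flat.of_linearEquiv (LocalizedModule.equivTensorProduct P.primeCompl (G ⧸ LinearMap.range d))
    exact Module.Flat.trans A R _
  exact Module.Flat.projective_of_finitePresentation

end Groth.Agent.KExact.KerRank
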