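import Groth.Agent.KExact.PushDual
import Groth.Agent.KExact.CartierShriek
import Groth.Agent.H9Misc.BCDualizing
import Groth.Agent.H9Misc.DiagKernelBC
import Groth.Agent.S3637
import Groth.Prelude.Def_DualFM

/-!
# Duality for the transform of a kernel
-/

set_option autoImplicit false
set_option linter.style.haveILetI false
set_option backward.isDefEq.respectTransparency false
set_option backward.isDefEq.respectTransparency.types false
set_option maxHeartbeats 1000000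

universe u

open CategoryTheory CategoryTheory.Limits AlgebraicGeometry

attribute [local instance] HasDerivedCategory.standard

namespace Groth.Agent.KExact.KernelDual

open KFlatLib H9Misc

section General

variable {U : Scheme.{u}}

/-- Derived tensor products with two complexes commute. -/
theorem nonempty_ltensor_comm (K L : CochainComplex U.Modules ℤ) [DCoh.HasLTensorCx K] [DCoh.HasLTensorCx L] :
    Nonempty (DCoh.LTensorCx K ⋙ DCoh.LTensorCx L ≅ DCoh.LTensorCx L ⋙ DCoh.LTensorCx K) := by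
  obtain ⟨N, ⟨eN⟩⟩ : ∃ N : CochainComplex U.Modules ℤ, Nonempty (DCoh.toD U N ≅
      (DCoh.LTensorCx L).obj (DCoh.toD U K)) := ⟨_, ⟨DerivedCategory.Q.objObjPreimageIso _⟩⟩
  haveI := hasLTensorCx N
  obtain ⟨s⟩ := nonempty_ltensor_swap K L
  obtain ⟨c₁⟩ := nonempty_ltensorCx_ltensorCx K L N eN
  obtain ⟨c₂⟩ := nonempty_ltensorCx_ltensorCx L K N (eN ≪≫ s)
  exact ⟨c₁ ≪≫ c₂.symm⟩

/-- `RHom` out of a tensor product is the composite of the two. -/
theorem nonempty_RSheafHom_tensor (K L : CochainComplex U.Modules ℤ) [DCoh.HasLTensorCx K] [DCoh.HasLTensorCx L]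
    [DCoh.HasRSheafHom K] [DCoh.HasRSheafHom L]
    (M : CochainComplex U.Modules ℤ) [DCoh.HasLTensorCx M] [DCoh.HasRSheafHom M]
    (e : DCoh.toD U M ≅ (DCoh.LTensorCx L).obj (DCoh.toD U K)) :
    Nonempty (DCoh.RSheafHom L ⋙ DCoh.RSheafHom K ≅ DCoh.RSheafHom M) := by
  obtain ⟨c⟩ := nonempty_ltensorCx_ltensorCx K L M e
  exact ⟨(((DCoh.RSheafHomAdj K).comp (DCoh.RSheafHomAdj L)).ofNatIsoLeft c).rightAdjointUniq
    (DCoh.RSheafHomAdj M)⟩

end General

/-- The dual of the transform of a perfect complex, before inserting the dualizing complex of the base. -/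
theorem nonempty_dual_phi {S X Y : Scheme.{u}} (a : X ⟶ S) (b : Y ⟶ S)
    [IsNoetherian S] [IsNoetherian X] [IsNoetherian Y] [IsProper a] [Flat a] [IsProper b] [Flat b]
    [DCoh.HasRpush a] (ha : DCoh.RpushPreservesQCoh a) [DCoh.HasShriek a ha]
    (OS : DCoh.DQCoh S) (eOS : OS.obj ≅ DCoh.inD S (Coh.structureModule S))
    (P : CochainComplex (pullback a b).Modules ℤ) (hP : DCoh.IsPerfect (DCoh.toD (pullback a b) P))
    [DCoh.HasLpull (pullback.fst a b)] [DCoh.HasLTensorCx P] [DCoh.HasRSheafHom P] [DCoh.HasRpush (pullback.snd a b)]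
    (P' : CochainComplex (pullback a b).Modules ℤ) [DCoh.HasLTensorCx P']
    (eP' : DCoh.toD (pullback a b) P' ≅
      (DCoh.RSheafHom P).obj (DCoh.inD (pullback a b) (Coh.structureModule (pullback a b))))
    (E : CochainComplex X.Modules ℤ) (hE : DCoh.IsPerfect (DCoh.toD X E)) [DCoh.HasLTensorCx E] [DCoh.HasRSheafHom E]
    (Ed : CochainComplex X.Modules ℤ) [DCoh.HasLTensorCx Ed]
    (eEd : DCoh.toD X Ed ≅ (DCoh.RSheafHom E).obj (DCoh.inD X (Coh.structureModule X)))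
    (K : CochainComplex Y.Modules ℤ) [DCoh.HasLTensorCx K] [DCoh.HasRSheafHom K]
    (eK : DCoh.toD Y K ≅ (FMK.phi a b P).obj (DCoh.toD X E)) :
    Nonempty ((DCoh.RSheafHom K).obj (DCoh.inD Y (Coh.structureModule Y)) ≅
      (FMK.phi a b P').obj ((DCoh.LTensorCx Ed).obj (DCoh.dualizingCx a ha OS))) := by
  let Z := pullback a b
  let p : Z ⟶ X := pullback.fst a b
  let q : Z ⟶ Y := pullback.snd a b
  haveI : CompactSpace ↥Z := QuasiCompact.compactSpace_of_compactSpace q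
  haveI : QuasiSeparatedSpace ↥Z := quasiSeparatedSpace_of_quasiSeparated q
  have hR : DCoh.RpushPreservesQCoh q := fun W hW => isQCohD_rpush q hW
  haveI : DCoh.HasShriek q hR := S1766.result _ _ q hR
  haveI := hasLpull b
  haveI := hasLpull q
  obtain ⟨eb⟩ := nonempty_dualizingCx_baseChange a b p q (IsPullback.of_hasPullback a b) ha hR OS
  obtain ⟨uO⟩ := exists_structureQ b OS eOS
  let G : DCoh.DQCoh Y := ⟨(DCoh.Lpull b).obj OS.obj, isQCohD_lpull b OS.property⟩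
  -- the pullbacks of `E` and of its dual
  obtain ⟨F, ⟨eF⟩⟩ : ∃ F : CochainComplex Z.Modules ℤ, Nonempty (DCoh.toD Z F ≅
      (DCoh.Lpull p).obj (DCoh.toD X E)) := ⟨_, ⟨DerivedCategory.Q.objObjPreimageIso _⟩⟩
  obtain ⟨N, ⟨eN⟩⟩ : ∃ N : CochainComplex Z.Modules ℤ, Nonempty (DCoh.toD Z N ≅
      (DCoh.Lpull p).obj (DCoh.toD X Ed)) := ⟨_, ⟨DerivedCategory.Q.objObjPreimageIso _⟩⟩
  obtain ⟨M, ⟨eM⟩⟩ : ∃ M : CochainComplex Z.Modules ℤ, Nonempty (DCoh.toD Z M ≅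
      (DCoh.LTensorCx P).obj (DCoh.toD Z F)) := ⟨_, ⟨DerivedCategory.Q.objObjPreimageIso _⟩⟩
  haveI := hasLTensorCx F
  haveI := hasLTensorCx N
  haveI := hasLTensorCx M
  haveI := PerfShriek.hasRSheafHom F
  haveI := PerfShriek.hasRSheafHom N
  haveI := PerfShriek.hasRSheafHom M
  have hF : DCoh.IsPerfect (DCoh.toD Z F) := isPerfect_congr eF.symm (isPerfect_lpull p hE)
  have hEd : DCoh.IsPerfect (DCoh.toD X Ed) :=
    isPerfect_congr eEd.symm (isPerfect_RSheafHom_structure E hE)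
  have hN : DCoh.IsPerfect (DCoh.toD Z N) := isPerfect_congr eN.symm (isPerfect_lpull p hEd)
  have hM : DCoh.IsPerfect (DCoh.toD Z M) :=
    isPerfect_congr eM.symm (isPerfect_ltensor' P hP hF)
  have hK : DCoh.IsPerfect (DCoh.toD Y K) := by
    refine isPerfect_congr (eK.symm) ((isPerfect_iff _).2 (TorBC.locSP_rpush_properFlat q ((isPerfect_iff _).1 ?_)))
    exact isPerfect_congr ((DCoh.LTensorCx P).mapIso eF) (isPerfect_congr eM hM)
  -- duals
  obtain ⟨dF⟩ := PerfShriek.nonempty_lpull_dual p E hE Ed eEd N eN hN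
  obtain ⟨bN⟩ := PerfShriek.nonempty_bidual N hN F (eF ≪≫ dF)
  obtain ⟨θF⟩ := nonempty_ltensor_dual_natIso F hF N bN
  obtain ⟨r⟩ := nonempty_RSheafHom_tensor F P M eM
  obtain ⟨D, ⟨eD⟩⟩ : ∃ D : CochainComplex Z.Modules ℤ, Nonempty (DCoh.toD Z D ≅
      (DCoh.RSheafHom M).obj (DCoh.inD Z (Coh.structureModule Z))) := ⟨_, ⟨DerivedCategory.Q.objObjPreimageIso _⟩⟩
  haveI := hasLTensorCx D
  obtain ⟨θM⟩ := nonempty_ltensor_dual_natIso M hM D eD
  obtain ⟨c⟩ := nonempty_ltensorCx_ltensorCx P' N D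
    (eD ≪≫ (r.app _).symm ≪≫ (θF.app _).symm ≪≫ (DCoh.LTensorCx N).mapIso eP'.symm)
  obtain ⟨cm⟩ := nonempty_ltensor_comm P' N
  obtain ⟨pN⟩ := nonempty_lpull_ltensorCx p Ed N eN
  -- duality for the pushforward
  obtain ⟨d⟩ := PushDual.nonempty_rpush_dual q hR (DCoh.shriek q hR) (DCoh.shriekAdj q hR) M
    (isQCohD_of_isPerfect hM) K (eK ≪≫ (DCoh.Rpush q).mapIso ((DCoh.LTensorCx P).mapIso eF.symm ≪≫ eM.symm)) G
    (isQCohD_RSheafHom_of_isPerfect K hK _ G.property)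
    (isQCohD_RSheafHom_of_isPerfect M hM _ ((DCoh.shriek q hR).obj G).property)
  exact ⟨(DCoh.RSheafHom K).mapIso uO.symm ≪≫ d ≪≫ (DCoh.Rpush q).mapIso
    ((DCoh.RSheafHom M).mapIso eb.symm ≪≫ (θM.app _).symm ≪≫ (c.app _).symm ≪≫ cm.app _ ≪≫
      (DCoh.LTensorCx P').mapIso (pN.app _).symm)⟩

/-- The dual of the transform of a perfect complex, over a field. -/
theorem nonempty_dual_phi_field (k : Type u) [Field k] (X Y : Scheme.{u}) (a : X ⟶ Spec (CommRingCat.of k))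
    (b : Y ⟶ Spec (CommRingCat.of k)) [IsProper a] [IsProper b]
    (hXcm : ∀ x : ↥X, LocCoh.IsCohenMacaulayLocalRing ↑(X.presheaf.stalk x))
    (d : ℕ) (hXeq : ∀ Z ∈ irreducibleComponents ↥X, topologicalKrullDim ↥Z = (d : WithBot ℕ∞))
    [DCoh.HasRpush a] (ha : DCoh.RpushPreservesQCoh a)
    (adx : DCoh.DQCoh (Spec (CommRingCat.of k)) ⥤ DCoh.DQCoh X) (adj : DCoh.RpushQ a ha ⊣ adx)
    (O : DCoh.DQCoh (Spec (CommRingCat.of k)))
    (eO : O.obj ≅ DCoh.inD (Spec (CommRingCat.of k)) (Coh.structureModule (Spec (CommRingCat.of k))))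
    (P : CochainComplex (pullback a b).Modules ℤ) (hP : DCoh.IsPerfect (DCoh.toD (pullback a b) P))
    [DCoh.HasLpull (pullback.fst a b)] [DCoh.HasLTensorCx P] [DCoh.HasRSheafHom P] [DCoh.HasRpush (pullback.snd a b)]
    (P' : CochainComplex (pullback a b).Modules ℤ) [DCoh.HasLTensorCx P']
    (eP' : DCoh.toD (pullback a b) P' ≅
      (DCoh.RSheafHom P).obj (DCoh.inD (pullback a b) (Coh.structureModule (pullback a b))))
    (E : CochainComplex X.Modules ℤ) (hE : DCoh.IsPerfect (DCoh.toD X E)) [DCoh.HasLTensorCx E] [DCoh.HasRSheafHom E]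
    (K : CochainComplex Y.Modules ℤ) [DCoh.HasLTensorCx K] [DCoh.HasRSheafHom K]
    (eK : DCoh.toD Y K ≅ (FMK.phi a b P).obj (DCoh.toD X E)) :
    Nonempty ((DCoh.RSheafHom K).obj (DCoh.inD Y (Coh.structureModule Y)) ≅
      (FMK.phi a b P').obj ((shiftFunctor (DCoh.D X) (d : ℤ)).obj
        ((DCoh.RSheafHom E).obj (DCoh.inD X (DCoh.HD (adx.obj O).obj (-(d : ℤ))))))) := by
  haveI : IsNoetherian X := BCNat.isNoetherian_of_ft a
  haveI : IsNoetherian Y := BCNat.isNoetherian_of_ft b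
  haveI : DCoh.HasShriek a ha := adj.isLeftAdjoint
  obtain ⟨Ed, ⟨eEd⟩⟩ : ∃ Ed : CochainComplex X.Modules ℤ, Nonempty (DCoh.toD X Ed ≅
      (DCoh.RSheafHom E).obj (DCoh.inD X (Coh.structureModule X))) := ⟨_, ⟨DerivedCategory.Q.objObjPreimageIso _⟩⟩
  haveI := hasLTensorCx Ed
  haveI := hasLTensorCx (AdjTensor.Om X (-(d : ℤ)))
  obtain ⟨e⟩ := nonempty_dual_phi a b ha O eO P hP P' eP' E hE Ed eEd K eK
  obtain ⟨θ⟩ := nonempty_ltensor_dual_natIso E hE Ed eEd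
  obtain ⟨h1, -⟩ := S3637.result k X a hXcm d hXeq ha adx adj O ⟨eO⟩
  let W := (adx.obj O).obj
  haveI : DerivedCategory.IsGE W (-(d : ℤ)) := (DerivedCategory.isGE_iff _ _).2 fun i hi => h1 i (by omega)
  haveI : DerivedCategory.IsLE W (-(d : ℤ)) := (DerivedCategory.isLE_iff _ _).2 fun i hi => h1 i (by omega)
  obtain ⟨N, ⟨eW⟩⟩ := DerivedCategory.exists_iso_singleFunctor_obj_of_isGE_of_isLE W (-(d : ℤ))
  let eN : DCoh.HD W (-(d : ℤ)) ≅ N := (DerivedCategory.homologyFunctor _ (-(d : ℤ))).mapIso eW ≪≫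
    (DerivedCategory.singleFunctorCompHomologyFunctorIso X.Modules (-(d : ℤ))).app N
  let eW' : W ≅ (DCoh.inD X (DCoh.HD W (-(d : ℤ))))⟦(d : ℤ)⟧ :=
    eW ≪≫ (DerivedCategory.singleFunctor _ (-(d : ℤ))).mapIso eN.symm ≪≫
      (((DerivedCategory.singleFunctors X.Modules).shiftIso (d : ℤ) (-(d : ℤ)) 0 (by omega)).app _).symm
  let ead : DCoh.dualizingCx a ha O ≅ W :=
    (ObjectProperty.ι _).mapIso (((DCoh.shriekAdj a ha).rightAdjointUniq adj).app O)
  obtain ⟨sh⟩ := CartierShriek.nonempty_ltensor_Om X (-(d : ℤ))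
  obtain ⟨cm⟩ := nonempty_ltensor_comm Ed (AdjTensor.Om X (-(d : ℤ)))
  let sh' : DCoh.LTensorCx (AdjTensor.Om X (-(d : ℤ))) ≅ shiftFunctor (DCoh.D X) (d : ℤ) :=
    sh ≪≫ eqToIso (by rw [neg_neg])
  exact ⟨e ≪≫ (FMK.phi a b P').mapIso ((DCoh.LTensorCx Ed).mapIso (ead ≪≫ eW' ≪≫ (sh'.app _).symm) ≪≫
    (cm.app _).symm ≪≫ sh'.app _ ≪≫ (shiftFunctor (DCoh.D X) (d : ℤ)).mapIso (θ.app _))⟩

end Groth.Agent.KExact.KernelDual
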