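import Groth.Agent.KFlatLib.Ring.DualizingBottom
import Groth.Agent.KFlatLib.Ring.DualizingExt

/-!
# Maps killed at a prime: dévissage along cohomology
-/

set_option autoImplicit false
set_option linter.unusedSectionVars false
set_option linter.style.haveILetI false
set_option backward.isDefEq.respectTransparency false

universe u

open CategoryTheory CategoryTheory.Limits Pretriangulated DerivedCategory.TStructure

attribute [local instance] HasDerivedCategory.standard

namespace Groth.Agent.KExact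

open KFlatLib

variable {A : Type u} [CommRing A] (q : Ideal A) [q.IsPrime] (R : Dual.D A)

/-- Every map to `R` is killed by an element outside `q`. -/
def Killed (X : Dual.D A) : Prop := ∀ φ : X ⟶ R, ∃ r : A, r ∉ q ∧ r • φ = 0

/-- Every degree `t` Ext from `M` to `R` is killed outside `q`. -/
def KilledExt (M : Type u) [AddCommGroup M] [Module A M] (t : ℤ) : Prop :=
  Killed q R ((Dual.inD A M)⟦-t⟧)

variable {q R}

theorem killed_iff_subsingleton (X : Dual.D A) :
    Killed q R X ↔ Subsingleton (LocalizedModule q.primeCompl (X ⟶ R)) :=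
  (LocalizedModule.subsingleton_iff (M := X ⟶ R) (S := q.primeCompl)).symm

theorem killed_of_iso {X X' : Dual.D A} (e : X ≅ X') (h : Killed q R X) : Killed q R X' := fun φ => by
  obtain ⟨r, hr, h0⟩ := h (e.hom ≫ φ)
  exact ⟨r, hr, (cancel_epi e.hom).1 (by rw [Linear.comp_smul, h0, comp_zero])⟩

theorem killed_of_isZero {X : Dual.D A} (hX : IsZero X) : Killed q R X :=
  fun _ => ⟨1, fun h => Ideal.IsPrime.ne_top' ((Ideal.eq_top_iff_one q).2 h), hX.eq_of_src _ _⟩

theorem killed_mid {T : Triangle (Dual.D A)} (hT : T ∈ distTriang _) (h₁ : Killed q R T.obj₁)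
    (h₃ : Killed q R T.obj₃) : Killed q R T.obj₂ := fun φ => by
  obtain ⟨r, hr, h0⟩ := h₁ (T.mor₁ ≫ φ)
  obtain ⟨ψ, hψ⟩ := Triangle.yoneda_exact₂ _ hT (r • φ) (by rw [Linear.comp_smul, h0])
  obtain ⟨r', hr', h1⟩ := h₃ ψ
  exact ⟨r' * r, fun h => ((Ideal.IsPrime.mem_or_mem ‹q.IsPrime› h).elim hr' hr),
    by rw [mul_smul, hψ, ← Linear.comp_smul, h1, comp_zero]⟩

theorem killed_fst {T : Triangle (Dual.D A)} (hT : T ∈ distTriang _) (h₂ : Killed q R T.obj₂)
    (h₃ : Killed q R (T.obj₃⟦(-1 : ℤ)⟧)) : Killed q R T.obj₁ :=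
  killed_mid (inv_rot_of_distTriang _ hT) h₃ h₂

theorem killed_thd {T : Triangle (Dual.D A)} (hT : T ∈ distTriang _) (h₂ : Killed q R T.obj₂)
    (h₁ : Killed q R (T.obj₁⟦(1 : ℤ)⟧)) : Killed q R T.obj₃ :=
  killed_mid (rot_of_distTriang _ hT) h₂ h₁

theorem killed_shift_shift {X : Dual.D A} (a b c : ℤ) (h : a + b = c) :
    Killed q R ((X⟦a⟧)⟦b⟧) ↔ Killed q R (X⟦c⟧) :=
  ⟨killed_of_iso ((shiftFunctorAdd' (Dual.D A) a b c h).app X).symm,
    killed_of_iso ((shiftFunctorAdd' (Dual.D A) a b c h).app X)⟩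

theorem killedExt_congr {M N : Type u} [AddCommGroup M] [Module A M] [AddCommGroup N] [Module A N]
    (e : M ≃ₗ[A] N) (t : ℤ) (h : KilledExt q R M t) : KilledExt q R N t :=
  killed_of_iso ((shiftFunctor _ (-t)).mapIso
    ((DerivedCategory.singleFunctor (ModuleCat.{u} A) 0).mapIso e.toModuleIso)) h

theorem killedExt_of_subsingleton (M : Type u) [AddCommGroup M] [Module A M] [Subsingleton M] (t : ℤ) :
    KilledExt q R M t :=
  killed_of_isZero ((shiftFunctor (Dual.D A) (-t)).map_isZero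
    ((DerivedCategory.singleFunctor (ModuleCat.{u} A) 0).map_isZero (ModuleCat.isZero_of_subsingleton _)))

/-- The bottom piece and the rest. -/
theorem exists_bottom_split (X : Dual.D A) (a b : ℤ) [X.IsGE a] [X.IsLE b] (n : ℤ) :
    ∃ (M : ModuleCat.{u} A) (T : Triangle (Dual.D A)), T ∈ distTriang (Dual.D A) ∧
      Nonempty (T.obj₁ ≅ (Dual.inD A M)⟦-(a - n)⟧) ∧ Nonempty (Dual.HD A X a ≃ₗ[A] M) ∧ T.obj₂ = X⟦n⟧ ∧
      ∃ Y : Dual.D A, T.obj₃ = Y⟦n⟧ ∧ Y.IsGE (a + 1) ∧ Y.IsLE (max a b) ∧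
        ∀ i, a < i → Nonempty (Dual.HD A X i ≃ₗ[A] Dual.HD A Y i) := by
  obtain ⟨M, T, hT, h₁, rfl, h₃, eM⟩ := exists_bottom_triangle X a
  have hz : ∀ i, a < i → IsZero ((DerivedCategory.homologyFunctor (ModuleCat.{u} A) i).obj T.obj₁) := fun i hi => by
    rw [h₁]
    haveI : DerivedCategory.IsLE ((Dual.inD A M)⟦-a⟧) a :=
      t.isLE_shift (Dual.inD A M) 0 (-a) a (by omega)
    exact DerivedCategory.isZero_of_isLE _ a i hi
  have hiso : ∀ i, a < i → IsIso ((DerivedCategory.homologyFunctor (ModuleCat.{u} A) i).map T.mor₂) := fun i hi => by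
    haveI : Mono ((DerivedCategory.homologyFunctor (ModuleCat.{u} A) i).map T.mor₂) :=
      (DerivedCategory.HomologySequence.exact₂ _ hT i).mono_g ((hz i hi).eq_of_src _ _)
    haveI : Epi ((DerivedCategory.homologyFunctor (ModuleCat.{u} A) i).map T.mor₂) :=
      (DerivedCategory.HomologySequence.exact₃ _ hT i (i + 1) rfl).epi_f ((hz (i + 1) (by omega)).eq_of_tgt _ _)
    exact isIso_of_mono_of_epi _
  refine ⟨M, _, Triangle.shift_distinguished _ hT n, ⟨?_⟩, eM, rfl, T.obj₃, rfl, h₃, ?_, fun i hi => ?_⟩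
  · exact eqToIso (congrArg (fun Z => (shiftFunctor (Dual.D A) n).obj Z) h₁) ≪≫
      ((shiftFunctorAdd' (Dual.D A) (-a) n (-(a - n)) (by omega)).app _).symm
  · refine (DerivedCategory.isLE_iff _ _).2 fun i hi => ?_
    haveI := hiso i (by omega)
    exact (DerivedCategory.isZero_of_isLE T.obj₂ b i (by omega)).of_iso
      (asIso ((DerivedCategory.homologyFunctor (ModuleCat.{u} A) i).map T.mor₂)).symm
  · haveI := hiso i hi
    exact ⟨(asIso ((DerivedCategory.homologyFunctor (ModuleCat.{u} A) i).map T.mor₂)).toLinearEquiv⟩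

/-- If the Exts out of all cohomology modules are killed, so are the maps. -/
theorem killed_of_hd : ∀ (k : ℕ) (X : Dual.D A) (a b : ℤ) [X.IsGE a] [X.IsLE b], b < a + k → ∀ n : ℤ,
    (∀ i : ℤ, KilledExt q R (Dual.HD A X i) (i - n)) → Killed q R (X⟦n⟧) := by
  intro k
  induction k with
  | zero =>
    intro X a b _ _ hk n _
    exact killed_of_isZero ((shiftFunctor _ n).map_isZero (t.isZero X b a (by omega)))
  | succ k ih =>
    intro X a b _ _ hk n h
    obtain ⟨M, T, hT, ⟨e₁⟩, ⟨eM⟩, h₂, Y, h₃, _, _, hY⟩ := exists_bottom_split X a b n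
    rw [← h₂]
    refine killed_mid hT (killed_of_iso e₁.symm (killedExt_congr eM _ (h a))) ?_
    rw [h₃]
    refine ih Y (a + 1) (max a b) (by omega) n fun i => ?_
    rcases lt_or_ge a i with hi | hi
    · obtain ⟨e⟩ := hY i hi
      exact killedExt_congr e _ (h i)
    · haveI : Subsingleton (Dual.HD A Y i) :=
        ModuleCat.subsingleton_of_isZero (Y.isZero_of_isGE (a + 1) i (by omega))
      exact killedExt_of_subsingleton _ _

/-- Isolating one cohomology module. -/
theorem killedExt_of_killed : ∀ (k : ℕ) (X : Dual.D A) (a b : ℤ) [X.IsGE a] [X.IsLE b] (c s : ℤ), a + k = c →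
    (∀ i, i < c → ∀ u, KilledExt q R (Dual.HD A X i) u) →
    (∀ i, c < i → ∀ u, s < u → KilledExt q R (Dual.HD A X i) u) →
    Killed q R (X⟦c - s⟧) → KilledExt q R (Dual.HD A X c) s := by
  intro k
  induction k with
  | zero =>
    intro X a b _ _ c s hk _ hhigh hX
    obtain rfl : a = c := by omega
    obtain ⟨M, T, hT, ⟨e₁⟩, ⟨eM⟩, h₂, Y, h₃, _, _, hY⟩ := exists_bottom_split X a b (a - s)
    refine killedExt_congr eM.symm _ ?_
    have h1 : Killed q R T.obj₁ := by
      refine killed_fst hT (h₂ ▸ hX) ?_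
      rw [h₃, killed_shift_shift (a - s) (-1) (a - s - 1) (by omega)]
      refine killed_of_hd (max a b + 1 - (a + 1)).toNat Y (a + 1) (max a b) (by omega) _ fun i => ?_
      rcases lt_or_ge a i with hi | hi
      · obtain ⟨e⟩ := hY i hi
        exact killedExt_congr e _ (hhigh i hi _ (by omega))
      · haveI : Subsingleton (Dual.HD A Y i) :=
          ModuleCat.subsingleton_of_isZero (Y.isZero_of_isGE (a + 1) i (by omega))
        exact killedExt_of_subsingleton _ _
    have h1' := killed_of_iso e₁ h1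
    rwa [show a - (a - s) = s by omega] at h1'
  | succ k ih =>
    intro X a b _ _ c s hk hlow hhigh hX
    obtain ⟨M, T, hT, ⟨e₁⟩, ⟨eM⟩, h₂, Y, h₃, _, _, hY⟩ := exists_bottom_split X a b (c - s)
    obtain ⟨ec⟩ := hY c (by omega)
    refine killedExt_congr ec.symm _ (ih Y (a + 1) (max a b) c s (by omega) (fun i hi u => ?_) (fun i hi u hu => ?_) ?_)
    · rcases lt_or_ge a i with hi' | hi'
      · obtain ⟨e⟩ := hY i hi'
        exact killedExt_congr e _ (hlow i hi u)
      · haveI : Subsingleton (Dual.HD A Y i) :=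
          ModuleCat.subsingleton_of_isZero (Y.isZero_of_isGE (a + 1) i (by omega))
        exact killedExt_of_subsingleton _ _
    · obtain ⟨e⟩ := hY i (by omega)
      exact killedExt_congr e _ (hhigh i hi u hu)
    · rw [← h₃]
      refine killed_thd hT (h₂ ▸ hX) (killed_of_iso ((shiftFunctor _ (1 : ℤ)).mapIso e₁.symm) ?_)
      rw [killed_shift_shift _ 1 (-(a - (c - s) - 1)) (by omega)]
      exact killedExt_congr eM _ (hlow a (by omega) _)

end Groth.Agent.KExact
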