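import Groth.Agent.KFlatLib.Ring.KoszulOrth
import Groth.Agent.KFlatLib.Ring.DualizingFlat

/-!
# Sections with torsion cohomology factor through Koszul complexes of powers
-/

set_option autoImplicit false
set_option linter.style.haveILetI false
set_option backward.isDefEq.respectTransparency false

universe u

open CategoryTheory CategoryTheory.Limits Pretriangulated

attribute [local instance] HasDerivedCategory.standard

namespace Groth.Agent.KExact

open KFlatLib KFlatLib.KoszulOrth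

variable {A : Type u} [CommRing A] {N : Dual.D A}

/-- Maps out of a Koszul complex only see a range of cohomology. -/
theorem torsion_hom_kQ (g : A) : ∀ (l : List A) (m : ℤ),
    (∀ i : ℤ, m - l.length ≤ i → i ≤ m → ∀ x : Dual.HD A N i, ∃ k : ℕ, g ^ k • x = 0) →
    ∀ φ : kQ l ⟶ N⟦m⟧, ∃ k : ℕ, g ^ k • φ = 0 := by
  intro l
  induction l with
  | nil =>
    intro m ht φ
    haveI := hasLTen A
    let e : kQ ([] : List A) ≅ (DTen.unit A)⟦(0 : ℤ)⟧ := ((shiftFunctorZero (Dual.D A) ℤ).app _).symm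
    obtain ⟨θ⟩ := exists_homUnitLEquiv (A := A) (N⟦m⟧) 0 0 (zero_add 0)
    let L : (kQ ([] : List A) ⟶ N⟦m⟧) ≃ₗ[A] Dual.HD A N m :=
      (Linear.homCongr A e (Iso.refl (N⟦m⟧))).trans (θ.trans
        (((DerivedCategory.homologyFunctor (ModuleCat.{u} A) 0).shiftIso m 0 m (add_zero m)).app N).toLinearEquiv)
    obtain ⟨k, hk⟩ := ht m (by simp) le_rfl (L φ)
    exact ⟨k, L.injective (by rw [map_smul, map_zero]; exact hk)⟩
  | cons f l ih =>
    intro m ht φ
    simp only [List.length_cons, Nat.cast_add, Nat.cast_one] at ht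
    obtain ⟨u, v, hT⟩ := exists_triangle f l
    obtain ⟨k, hk⟩ := ih m (fun i h1 h2 => ht i (by omega) h2) (u ≫ φ)
    obtain ⟨χ, hχ⟩ := Triangle.yoneda_exact₃ _ hT (g ^ k • φ) ((Linear.comp_smul _ _ _ _ _ _).trans hk)
    let u₁ := (shiftFunctorCompIsoId (Dual.D A) (1 : ℤ) (-1) (by omega)).app (kQ l)
    let w := (shiftFunctorAdd' (Dual.D A) m (-1) (m - 1) (by omega)).app N
    obtain ⟨j, hj⟩ := ih (m - 1) (fun i h1 h2 => ht i (by omega) (by omega))
      (u₁.inv ≫ (shiftFunctor (Dual.D A) (-1)).map χ ≫ w.inv)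
    have h0 : g ^ j • χ = 0 := by
      refine (shiftFunctor (Dual.D A) (-1)).map_injective ?_
      rw [Functor.map_zero, Functor.map_smul, ← cancel_epi u₁.inv, ← cancel_mono w.inv]
      simp only [Category.assoc, Linear.comp_smul, Linear.smul_comp, comp_zero, zero_comp]
      exact hj
    refine ⟨j + k, ?_⟩
    rw [pow_add, mul_smul, hχ, ← Linear.comp_smul]
    exact (congrArg (_ ≫ ·) h0).trans comp_zero

/-- The unit of a Koszul complex, compatibly with lowering the exponent. -/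
theorem exists_units (l : List A) : ∃ t : ∀ e : ℕ, kQ ([] : List A) ⟶ kQ (l.map (fun a => a ^ e)),
    (∀ e e' : ℕ, e ≤ e' → ∃ φ : kQ (l.map (fun a => a ^ e')) ⟶ kQ (l.map (fun a => a ^ e)), t e' ≫ φ = t e) ∧
    ∀ (x : kQ ([] : List A) ⟶ N),
      (∀ i : ℤ, -(l.length : ℤ) < i → i ≤ 0 → ∀ f ∈ l, ∀ y : Dual.HD A N i, ∃ k : ℕ, f ^ k • y = 0) →
      ∃ (e : ℕ) (ψ : kQ (l.map (fun a => a ^ e)) ⟶ N), t e ≫ ψ = x := by
  induction l with
  | nil => exact ⟨fun _ => 𝟙 _, fun _ _ _ => ⟨𝟙 _, Category.comp_id _⟩, fun x _ => ⟨0, x, Category.id_comp x⟩⟩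
  | cons f l ih =>
    obtain ⟨t, htr, hfac⟩ := ih
    choose u v hT using fun e : ℕ => exists_triangle (f ^ e) (l.map (fun a => a ^ e))
    refine ⟨fun e => t e ≫ u e, fun e e' hle => ?_, fun x hx => ?_⟩
    · obtain ⟨φ, hφ⟩ := htr e e' hle
      obtain ⟨c, hc, -⟩ := complete_distinguished_triangle_morphism _ _ (hT e') (hT e) (f ^ (e' - e) • φ) φ (by
        show (f ^ e' • 𝟙 _) ≫ φ = (f ^ (e' - e) • φ) ≫ (f ^ e • 𝟙 _)
        simp only [Linear.smul_comp, Linear.comp_smul, Category.id_comp, Category.comp_id, smul_smul, ← pow_add]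
        rw [Nat.add_sub_cancel' hle])
      refine ⟨c, (Category.assoc _ _ _).trans ((congrArg (t e' ≫ ·) hc).trans ?_)⟩
      show t e' ≫ φ ≫ u e = t e ≫ u e
      rw [← Category.assoc, hφ]
    · simp only [List.length_cons, Nat.cast_add, Nat.cast_one] at hx
      obtain ⟨e, ψ, hψ⟩ := hfac x fun i h1 h2 g hg => hx i (by omega) h2 g (List.mem_cons_of_mem _ hg)
      let z := (shiftFunctorZero (Dual.D A) ℤ).app N
      obtain ⟨k, hk⟩ := torsion_hom_kQ f (l.map (fun a => a ^ e)) 0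
        (fun i h1 h2 => hx i (by rw [List.length_map] at h1; omega) h2 f List.mem_cons_self) (ψ ≫ z.inv)
      have hk' : f ^ k • ψ = 0 := by
        rw [← cancel_mono z.inv, Linear.smul_comp, hk, zero_comp]
      obtain ⟨φ, hφ⟩ := htr e (max e k) (le_max_left _ _)
      have h0 : (f ^ max e k • 𝟙 _) ≫ φ ≫ ψ = 0 := by
        rw [Linear.smul_comp, Category.id_comp, ← Linear.comp_smul,
          show f ^ max e k = f ^ (max e k - k) * f ^ k by rw [← pow_add, Nat.sub_add_cancel (le_max_right _ _)],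
          mul_smul, hk', smul_zero, comp_zero]
      obtain ⟨ψ', hψ'⟩ := Triangle.yoneda_exact₂ _ (hT (max e k)) (φ ≫ ψ) h0
      refine ⟨max e k, ψ', (Category.assoc _ _ _).trans ((congrArg (t (max e k) ≫ ·) hψ'.symm).trans ?_)⟩
      rw [← Category.assoc, hφ, hψ]

end Groth.Agent.KExact
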