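import Groth.Agent.KFlatLib.Scheme.TildeAmp
import Groth.Agent.KFlatLib.Scheme.Tilde
import Groth.Agent.KExact.TorIndepSch
import Groth.Agent.H9Misc.DRingTorLocal
import Groth.Agent.WEtLib.Stalks
import Mathlib.RingTheory.Etale.Weakly
import Mathlib.AlgebraicGeometry.Morphisms.Flat

/-!
# Tor amplitude over the base of `M^~`
-/

set_option autoImplicit false
set_option linter.style.haveILetI false
set_option backward.isDefEq.respectTransparency false
set_option backward.isDefEq.respectTransparency.types false

universe u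

open CategoryTheory CategoryTheory.Limits AlgebraicGeometry MonoidalCategory

attribute [local instance] HasDerivedCategory.standard

namespace Groth.Agent.KExact

open KFlatLib H9Misc H9Misc.DRingTor H9Misc.DRingTorLocal H9Misc.DRingTorLTensor H9Misc.DRingLTensor
open H9Misc.DRingTorDescent

/-- Flat extension of scalars preserves tor amplitude over the base. -/
theorem amp_flat_extend {R A C : Type u} [CommRing R] [CommRing A] [CommRing C] (φ : R →+* A) (ψ : A →+* C)
    (hψ : ψ.Flat) (K : DRing.Cx A) (a b : ℤ)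
    (h : DRing.HasTorAmplitudeIn R a b (DRing.toD ((DRing.restrictCx φ).obj K))) :
    DRing.HasTorAmplitudeIn R a b (DRing.toD ((DRing.restrictCx (ψ.comp φ)).obj
      (((ModuleCat.extendScalars ψ).mapHomologicalComplex (ComplexShape.up ℤ)).obj K))) := by
  let Kc : DRing.Cx C := ((ModuleCat.extendScalars ψ).mapHomologicalComplex (ComplexShape.up ℤ)).obj K
  let X : DRing.Cx R := (DRing.restrictCx φ).obj K
  let X' : DRing.Cx R := (DRing.restrictCx (ψ.comp φ)).obj Kc
  haveI := (ringCover R).quasiIso_ψ X
  haveI := (ringCover R).quasiIso_ψ X'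
  haveI : IsIso (DerivedCategory.Q.map ((ringCover R).ψ.app X)) :=
    (DerivedCategory.isIso_Q_map_iff_quasiIso _ _).2 inferInstance
  haveI : IsIso (DerivedCategory.Q.map ((ringCover R).ψ.app X')) :=
    (DerivedCategory.isIso_Q_map_iff_quasiIso _ _).2 inferInstance
  have hvan := (iff_van (kFlat_ringRes X) (asIso (DerivedCategory.Q.map ((ringCover R).ψ.app X)))).1 h
  refine hasTorAmplitudeIn_of_van (kFlat_ringRes X') (fun M i hi => ?_)
    (asIso (DerivedCategory.Q.map ((ringCover R).ψ.app X')))
  obtain ⟨F, f, hf, hF⟩ := exists_resolution M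
  haveI := hf
  refine (exactAt_balance ((ringCover R).ψ.app X') (kFlat_ringRes X') hF f i).1 ?_
  let eK : ((tensorRight (resB ψ)).mapHomologicalComplex (ComplexShape.up ℤ)).obj K ≅
      ((ModuleCat.restrictScalars ψ).mapHomologicalComplex (ComplexShape.up ℤ)).obj Kc :=
    HomologicalComplex.Hom.isoOfComponents (fun n => (extResIso ψ).app (K.X n))
      (fun p q _ => ((extResIso ψ).hom.naturality (K.d p q)).symm)
  let eN : X' ≅ ((ModuleCat.restrictScalars φ).mapHomologicalComplex (ComplexShape.up ℤ)).obj
      (((ModuleCat.restrictScalars ψ).mapHomologicalComplex (ComplexShape.up ℤ)).obj Kc) :=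
    HomologicalComplex.Hom.isoOfComponents
      (fun n => (ModuleCat.restrictScalarsComp' φ ψ (ψ.comp φ) rfl).app (Kc.X n)) (fun p q _ => rfl)
  refine (exactAt_iff_of_iso (whiskerRightIso eN F) i).2 ?_
  refine (exactAt_projection φ _ F i).1 ?_
  refine (exactAt_iff_of_iso (whiskerRightIso eK ((extC' φ).obj F)) i).1 ?_
  refine (exactAt_iff_of_iso (tensCTensorIso (resB ψ) K ((extC' φ).obj F)) i).2 ?_
  have hY : (K ⊗ (extC' φ).obj F).ExactAt i := (exactAt_projection φ K F i).2
    ((exactAt_balance ((ringCover R).ψ.app X) (kFlat_ringRes X) hF f i).2 (hvan M i hi))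
  haveI := ModuleCat.preservesFiniteLimits_extendScalars_of_flat hψ
  haveI : (ModuleCat.extendScalars.{u, u, u} ψ).IsLeftAdjoint :=
    (ModuleCat.extendRestrictScalarsAdj ψ).isLeftAdjoint
  haveI : PreservesFiniteColimits (ModuleCat.extendScalars.{u, u, u} ψ) := inferInstance
  haveI : (ModuleCat.extendScalars.{u, u, u} ψ).Additive :=
    (ModuleCat.extendRestrictScalarsAdj ψ).left_adjoint_additive
  haveI := (ModuleCat.extendScalars.{u, u, u} ψ).preservesHomologyOfExact
  let Y : DRing.Cx A := K ⊗ (extC' φ).obj F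
  let eY : ((tensorRight (resB ψ)).mapHomologicalComplex (ComplexShape.up ℤ)).obj Y ≅
      ((ModuleCat.restrictScalars ψ).mapHomologicalComplex (ComplexShape.up ℤ)).obj
        (((ModuleCat.extendScalars ψ).mapHomologicalComplex (ComplexShape.up ℤ)).obj Y) :=
    HomologicalComplex.Hom.isoOfComponents (fun n => (extResIso ψ).app (Y.X n))
      (fun p q _ => ((extResIso ψ).hom.naturality (Y.d p q)).symm)
  exact (exactAt_iff_of_iso eY i).2 ((hY.map (ModuleCat.extendScalars.{u, u, u} ψ)).map (ModuleCat.restrictScalars ψ))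

variable {R A : Type u} [CommRing R] [CommRing A] (φ : R →+* A)
  [PreservesFiniteLimits (tilde.functor (CommRingCat.of A))]

/-- Tor amplitude over `R` of `M^~`, for the class of a complex. -/
theorem hasTorAmplitude_tildeCx_iff (K : DRing.Cx A) (a b : ℤ) :
    DerSch.HasTorAmplitude (Spec.map (CommRingCat.ofHom φ)) a b
        (((tilde.functor (CommRingCat.of A)).mapHomologicalComplex (ComplexShape.up ℤ)).obj K) ↔
      DRing.HasTorAmplitudeIn R a b (DRing.toD ((DRing.restrictCx φ).obj K)) := by
  haveI : (tilde.functor (CommRingCat.of A)).Additive := tilde_additive _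
  let f := Spec.map (CommRingCat.ofHom φ)
  let T := ((tilde.functor (CommRingCat.of A)).mapHomologicalComplex (ComplexShape.up ℤ)).obj K
  have key : ∀ x : Spec (CommRingCat.of A),
      (toStalkHom (R := CommRingCat.of A) x).comp φ = (f.stalkMap x).hom.comp (toStalkHom (R := CommRingCat.of R) (f.base x)) := by
    intro x
    have h : CommRingCat.ofHom φ ≫ CommRingCat.ofHom (toStalkHom (R := CommRingCat.of A) x) =
        CommRingCat.ofHom (toStalkHom (R := CommRingCat.of R) (f.base x)) ≫ f.stalkMap x := by
      change CommRingCat.ofHom φ ≫ (Scheme.ΓSpecIso _).inv ≫ _ = ((Scheme.ΓSpecIso _).inv ≫ _) ≫ _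
      rw [← Category.assoc, Scheme.ΓSpecIso_inv_naturality, Category.assoc, Category.assoc]
      exact congrArg _ (Scheme.Hom.germ_stalkMap f ⊤ x trivial).symm
    exact congrArg CommRingCat.Hom.hom h
  have eStalk : ∀ x : Spec (CommRingCat.of A), Nonempty ((DerSch.stalkCxOver f x).obj T ≅
      (DRing.restrictCx (f.stalkMap x).hom).obj
        (((ModuleCat.extendScalars (toStalkHom (R := CommRingCat.of A) x)).mapHomologicalComplex (ComplexShape.up ℤ)).obj K)) := fun x =>
    ⟨((Functor.mapHomologicalComplexCompIso (F := DerSch.stalkFunctor _ x)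
        (G := ModuleCat.restrictScalars (f.stalkMap x).hom) (Iso.refl (DerSch.stalkOver f x))
        (ComplexShape.up ℤ)).app T).symm ≪≫
      ((ModuleCat.restrictScalars (f.stalkMap x).hom).mapHomologicalComplex (ComplexShape.up ℤ)).mapIso
        ((Functor.mapHomologicalComplexCompIso (F := tilde.functor (CommRingCat.of A)) (G := DerSch.stalkFunctor _ x)
          (stalkTildeIso (R := CommRingCat.of A) x) (ComplexShape.up ℤ)).app K)⟩
  have hflatS : ∀ {B : CommRingCat.{u}} (x : Spec B), (toStalkHom (R := B) x).Flat := fun {B} x => by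
    letI : Algebra B ((Spec B).presheaf.stalk x) := (toStalkHom (R := B) x).toAlgebra
    haveI : IsLocalization.AtPrime ((Spec B).presheaf.stalk x) x.asIdeal :=
      StructureSheaf.IsLocalization.to_stalk B x
    exact RingHom.flat_algebraMap_iff.2 (IsLocalization.flat ((Spec B).presheaf.stalk x) x.asIdeal.primeCompl)
  constructor
  · intro h
    refine hasTorAmplitudeIn_of_local φ K a b fun m _ => ?_
    let x : Spec (CommRingCat.of A) := ⟨m, inferInstance⟩
    letI : Algebra A ((Spec (CommRingCat.of A)).presheaf.stalk x) := (toStalkHom (R := CommRingCat.of A) x).toAlgebra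
    haveI : IsLocalization.AtPrime ((Spec (CommRingCat.of A)).presheaf.stalk x) m :=
      StructureSheaf.IsLocalization.to_stalk A x
    let e := (IsLocalization.algEquiv m.primeCompl ((Spec (CommRingCat.of A)).presheaf.stalk x)
      (Localization.AtPrime m)).toRingEquiv
    have he : e.toRingHom.comp (toStalkHom (R := CommRingCat.of A) x) = algebraMap A (Localization.AtPrime m) :=
      RingHom.ext fun r => (IsLocalization.algEquiv m.primeCompl ((Spec (CommRingCat.of A)).presheaf.stalk x)
        (Localization.AtPrime m)).commutes r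
    obtain ⟨ex⟩ := eStalk x
    obtain ⟨E, hv, hf, ⟨eE⟩⟩ := h x
    have h₁ : DRing.HasTorAmplitudeIn R a b (DRing.toD ((DRing.restrictCx ((toStalkHom (R := CommRingCat.of A) x).comp φ)).obj
        (((ModuleCat.extendScalars (toStalkHom (R := CommRingCat.of A) x)).mapHomologicalComplex (ComplexShape.up ℤ)).obj K))) := by
      letI := (toStalkHom (R := CommRingCat.of R) (f.base x)).toAlgebra
      haveI : Module.Flat R ((Spec (CommRingCat.of R)).presheaf.stalk (f.base x)) := hflatS (f.base x)
      obtain ⟨E', hv', hf', ⟨e'⟩⟩ := RelPC17.amp_restrict_of_flat (A := R) _ (show DRing.HasTorAmplitudeIn _ a b _ from ⟨E, hv, hf, ⟨eE ≪≫ DerivedCategory.Q.mapIso ex⟩⟩)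
      exact ⟨E', hv', hf', ⟨e' ≪≫ (ModuleCat.restrictScalars _).mapDerivedCategoryFactors.app _ ≪≫
        DerivedCategory.Q.mapIso ((Functor.mapHomologicalComplexCompIso (F := ModuleCat.restrictScalars (f.stalkMap x).hom)
          (G := ModuleCat.restrictScalars (toStalkHom (R := CommRingCat.of R) (f.base x)))
          (ModuleCat.restrictScalarsComp' (toStalkHom (R := CommRingCat.of R) (f.base x)) (f.stalkMap x).hom _ (key x)).symm
          (ComplexShape.up ℤ)).app _)⟩⟩
    obtain ⟨E₂, hv₂, hf₂, ⟨e₂⟩⟩ := amp_flat_extend _ e.toRingHom (RingHom.Flat.of_bijective e.bijective) _ a b h₁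
    refine ⟨R, inferInstance, RingHom.id R, (algebraMap A (Localization.AtPrime m)).comp φ,
      RingHom.Flat.id R, RingHom.comp_id _, E₂, hv₂, hf₂, ⟨e₂ ≪≫ DerivedCategory.Q.mapIso ?_⟩⟩
    let u := ModuleCat.extendScalarsComp (toStalkHom (R := CommRingCat.of A) x) e.toRingHom
    refine (DRing.restrictCx _).mapIso ((Functor.mapHomologicalComplexCompIso
      (F := ModuleCat.extendScalars (toStalkHom (R := CommRingCat.of A) x)) (G := ModuleCat.extendScalars e.toRingHom)
      (u.symm ≪≫ eqToIso (congrArg ModuleCat.extendScalars he)) (ComplexShape.up ℤ)).app K) ≪≫ ?_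
    exact eqToIso (congrArg (fun t => (DRing.restrictCx t).obj
      (((ModuleCat.extendScalars (algebraMap A (Localization.AtPrime m))).mapHomologicalComplex (ComplexShape.up ℤ)).obj K))
      (by rw [← RingHom.comp_assoc, he]))
  · intro h x
    obtain ⟨ex⟩ := eStalk x
    obtain ⟨E, hv, hf, ⟨eE⟩⟩ := amp_flat_extend φ (toStalkHom (R := CommRingCat.of A) x) (hflatS x) K a b h
    letI := (toStalkHom (R := CommRingCat.of R) (f.base x)).toAlgebra
    haveI : IsLocalization.AtPrime ((Spec (CommRingCat.of R)).presheaf.stalk (f.base x)) (f.base x).asIdeal :=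
      StructureSheaf.IsLocalization.to_stalk R (f.base x)
    haveI : Algebra.WeaklyEtale R ((Spec (CommRingCat.of R)).presheaf.stalk (f.base x)) :=
      WEtLib.weaklyEtale_localization (f.base x).asIdeal.primeCompl
    let N := (DRing.restrictCx (f.stalkMap x).hom).obj
      (((ModuleCat.extendScalars (toStalkHom (R := CommRingCat.of A) x)).mapHomologicalComplex (ComplexShape.up ℤ)).obj K)
    obtain ⟨E', hv', hf', ⟨e'⟩⟩ := RelPC17.amp_of_weaklyEtale (A := R) (B := (Spec (CommRingCat.of R)).presheaf.stalk (f.base x))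
      (DRing.toD N) (a := a) (b := b) ⟨E, hv, hf, ⟨eE ≪≫ DerivedCategory.Q.mapIso
        ((Functor.mapHomologicalComplexCompIso (F := ModuleCat.restrictScalars (f.stalkMap x).hom)
          (G := ModuleCat.restrictScalars (toStalkHom (R := CommRingCat.of R) (f.base x)))
          (ModuleCat.restrictScalarsComp' (toStalkHom (R := CommRingCat.of R) (f.base x)) (f.stalkMap x).hom _ (key x)).symm
          (ComplexShape.up ℤ)).app _).symm ≪≫
        ((ModuleCat.restrictScalars _).mapDerivedCategoryFactors.app N).symm⟩⟩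
    exact ⟨E', hv', hf', ⟨e' ≪≫ DerivedCategory.Q.mapIso ex.symm⟩⟩

end Groth.Agent.KExact
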