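import Groth.Agent.RelPC17.Affine
import Groth.Agent.RelPC17.SpecChart
import Groth.Agent.KFlatLib.Scheme.TildePerf
import Groth.Agent.KRegLib.Perfect
import Groth.Agent.KExact.TildeTor
import Groth.Agent.KExact.TorPushLocal
import Groth.Agent.KSixRel.AmpTerms
import Groth.Prelude.Def_RegImm
import Groth.Prelude.Def_DerSch2

/-!
# Koszul regular immersions are perfect
-/

set_option autoImplicit false
set_option linter.style.haveILetI false
set_option backward.isDefEq.respectTransparency false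
set_option backward.isDefEq.respectTransparency.types false

universe u

open CategoryTheory CategoryTheory.Limits AlgebraicGeometry

attribute [local instance] HasDerivedCategory.standard

namespace Groth.Agent.KExact

open KFlatLib RelPC17 H9Misc H9Misc.DRingRelPC H9Misc.DRingRestrict

/-- The quotient by a Koszul regular sequence of length `d`, read along a surjection with that kernel. -/
theorem koszul_quotient {R B : CommRingCat.{u}} (g : R ⟶ B) (hg : Function.Surjective g.hom)
    (rs : List R) (hrs : LCI.IsKoszulRegularSeq R rs) (hker : RingHom.ker g.hom = Ideal.ofList rs) :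
    let N := (ModuleCat.restrictScalars.{u} g.hom).obj (ModuleCat.of B B)
    DRing.IsPerfect R (Dual.inD R N) ∧ DRing.HasTorAmplitudeIn R (-(rs.length : ℤ)) 0 (Dual.inD R N) := by
  intro N
  let q : R →ₗ[R] N :=
    { toFun := fun r => (show B from g.hom r)
      map_add' := fun a b => g.hom.map_add a b
      map_smul' := fun a b => g.hom.map_mul a b }
  have hk : LinearMap.ker q = Ideal.span {x | x ∈ rs} := by
    refine Ideal.ext fun r => ?_
    change g.hom r = 0 ↔ r ∈ Ideal.ofList rs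
    rw [← hker, RingHom.mem_ker]
  let e : (R ⧸ Ideal.span {x | x ∈ rs}) ≃ₗ[R] N :=
    (Submodule.quotEquivOfEq _ _ hk.symm).trans (q.quotKerEquivOfSurjective hg)
  have hp : DRing.IsPerfect R (Dual.inD R N) :=
    KRegLib.isPerfectModule_congr e (KRegLib.isPerfectModule_of_seq rs hrs)
  refine ⟨hp, ?_⟩
  obtain ⟨-, a, b, hamp⟩ := (DRingPerfect.isPerfect_iff _).1 hp
  let K := CohIII.koszulCx (ModuleCat.of R R) rs
  have h' : ∀ i : ℤ, i ≠ 0 → IsZero (K.homology i) := fun i hi => by
    have := hrs i hi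
    rwa [← HomologicalComplex.exactAt_iff_isZero_homology, Synt29.koszul_eq,
      HomologicalComplex.exactAt_iff_isZero_homology] at this
  let D : Dual.D R := DRing.toD K
  have hH : ∀ i : ℤ, (DerivedCategory.homologyFunctor (ModuleCat.{u} R) i).obj D ≅ K.homology i := fun i =>
    (DerivedCategory.homologyFunctorFactors (ModuleCat.{u} R) i).app K
  haveI : D.IsGE 0 := (DerivedCategory.isGE_iff _ _).2 fun i hi => (h' i (by omega)).of_iso (hH i)
  haveI : D.IsLE 0 := (DerivedCategory.isLE_iff _ _).2 fun i hi => (h' i (by omega)).of_iso (hH i)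
  obtain ⟨Y, ⟨eD⟩⟩ := DerivedCategory.exists_iso_singleFunctor_obj_of_isGE_of_isLE D 0
  obtain ⟨t⟩ := Koszul15.nonempty_top_equiv rs (ModuleCat.of R R)
  have he : (Ideal.ofList rs • (⊤ : Submodule R (ModuleCat.of R R)) : Submodule R R) = Ideal.span {x | x ∈ rs} := by
    show Ideal.ofList rs • (⊤ : Submodule R R) = _
    rw [smul_eq_mul, Ideal.mul_top]
  let eY : Y ≅ N :=
    ((DerivedCategory.singleFunctorCompHomologyFunctorIso (ModuleCat.{u} R) 0).app Y).symm ≪≫
      (DerivedCategory.homologyFunctor (ModuleCat.{u} R) 0).mapIso eD.symm ≪≫ hH 0 ≪≫ t.toModuleIso ≪≫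
      (Submodule.quotEquivOfEq _ _ he).toModuleIso ≪≫ e.toModuleIso
  exact ⟨K, fun i hi => Koszul15.isZero_X _ rs i (hi.symm.imp id id),
    fun i => by
      haveI := (KRegLib.koszulCx_finiteFree rs i).2
      exact Module.Flat.of_free,
    ⟨eD ≪≫ (DerivedCategory.singleFunctor (ModuleCat.{u} R) 0).mapIso eY⟩⟩

/-- Composition with an open immersion keeps tor amplitude. -/
theorem torAmpAt_comp_open_inv {X S T : Scheme.{u}} (f : X ⟶ S) (k : S ⟶ T) [IsOpenImmersion k]
    (F : CochainComplex X.Modules ℤ) (a b : ℤ) (x : X) (h : DerSch.HasTorAmplitudeAt f a b F x) :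
    DerSch.HasTorAmplitudeAt (f ≫ k) a b F x := by
  have := torAmpAt_comp f k 0 x (by
    simpa using KSixRel.hasTorAmplitude_single k (Coh.structureModule S)
      ((KSixRel.isFlatOver_structure_iff k).2 inferInstance) (f.base x)) F a b h
  simpa using this

variable {Z X : Scheme.{u}} (i : Z ⟶ X)

/-- The chart of a regular immersion over an affine open. -/
theorem chart_of_closed_restrict {U : X.Opens} (hU : IsAffineOpen U) (hc : IsClosedImmersion (i ∣_ U)) :
    IsAffineOpen (i ⁻¹ᵁ U) ∧ Function.Surjective (i.app U).hom := by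
  haveI := hc
  haveI : IsAffine (U : Scheme.{u}) := hU
  haveI : IsAffineHom (i ∣_ U) := inferInstance
  have hW : IsAffineOpen (i ⁻¹ᵁ U) := isAffine_of_isAffineHom (i ∣_ U)
  refine ⟨hW, ?_⟩
  have hf : Spec.map (i.app U) = hW.isoSpec.inv ≫ (i ∣_ U) ≫ hU.isoSpec.hom := by
    rw [← cancel_mono hU.fromSpec, Scheme.Hom.app_eq_appLE i, IsAffineOpen.SpecMap_appLE_fromSpec i hU hW le_rfl,
      Category.assoc, Category.assoc, IsAffineOpen.isoSpec_hom_fromSpec, morphismRestrict_ι,
      ← Category.assoc, IsAffineOpen.isoSpec_inv_ι]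
  haveI : IsClosedImmersion (Spec.map (i.app U)) := by rw [hf]; infer_instance
  have h := Scheme.Hom.app_surjective (Spec.map (i.app U)) ⊤ (isAffineOpen_top _)
  have hn := Scheme.ΓSpecIso_naturality (i.app U)
  have h2 : Function.Surjective ((Spec.map (i.app U)).appTop ≫ (Scheme.ΓSpecIso _).hom).hom :=
    (ConcreteCategory.bijective_of_isIso (Scheme.ΓSpecIso Γ(Z, i ⁻¹ᵁ U)).hom).2.comp h
  rw [hn, CommRingCat.hom_comp] at h2
  intro b
  obtain ⟨a, ha⟩ := h2 b
  exact ⟨_, ha⟩

/-- The direct image of the structure sheaf of a Koszul regularly immersed closed subscheme is perfect. -/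
theorem isPerfect_push_structure [IsClosedImmersion i]
    (hi : RegImm.IsRegularImmersion RegImm.Kind.koszul i) :
    DCoh.IsPerfect (DCoh.inD X ((Scheme.Modules.pushforward i).obj (Coh.structureModule Z))) := by
  refine (KFlatLib.isPerfect_iff _).2 fun p => ?_
  by_cases hp : p ∈ Set.range i
  swap
  · let O : X.Opens := ⟨(Set.range i)ᶜ, i.isClosedEmbedding.isClosed_range.isOpen_compl⟩
    haveI : IsEmpty ↥(i ⁻¹ᵁ O : Z.Opens).toScheme := ⟨fun z => z.2 ⟨z.1, rfl⟩⟩
    let E : CochainComplex (O : Scheme.{u}).Modules ℤ := HomologicalComplex.zero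
    refine ⟨_, O.ι, inferInstance, ⟨⟨p, hp⟩, rfl⟩, E, ⟨⟨0, 0, fun n _ => ?_⟩, fun n => ?_⟩, ⟨?_⟩⟩
    · exact isZero_zero _
    · exact KFlatLib.isFinLocFree_of_isZero (isZero_zero _)
    · have h0 : IsZero (((Scheme.Modules.pushforward i).obj (Coh.structureModule Z)).restrict O.ι) := by
        refine IsZero.of_iso ?_ ((pushResIso i O.ι (i ⁻¹ᵁ O).ι (i ∣_ O) (morphismRestrict_ι i O).symm
          (by rw [Scheme.Opens.opensRange_ι, Scheme.Opens.opensRange_ι])).app _)
        exact Functor.map_isZero (Scheme.Modules.pushforward (i ∣_ O)) (@RelPC17.isZero_of_isEmpty (i ⁻¹ᵁ O : Z.Opens).toScheme ‹_› _)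
      exact (Functor.map_isZero _ (HomologicalComplex.isZero_zero)).iso
        ((Functor.map_isZero (DerivedCategory.singleFunctor _ 0) h0).of_iso (rhoInD O.ι _))
  obtain ⟨z, rfl⟩ := hp
  obtain ⟨⟨U, hU⟩, hzU, hc, rs, hrs, hker⟩ := hi.2 z
  obtain ⟨hW, hs⟩ := chart_of_closed_restrict i hU hc
  let g := i.app U
  haveI : IsClosedImmersion (Spec.map g) := IsClosedImmersion.spec_of_surjective _ hs
  haveI : PreservesFiniteLimits (tilde.functor Γ(X, U)) := QCoh.tilde_preservesFiniteLimits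
  haveI : PreservesFiniteColimits (tilde.functor Γ(X, U)) := QCoh.tilde_preservesFiniteColimits
  haveI : (tilde.functor Γ(X, U)).Additive := tilde_additive _
  let N := (ModuleCat.restrictScalars.{u} g.hom).obj (ModuleCat.of Γ(Z, i ⁻¹ᵁ U) Γ(Z, i ⁻¹ᵁ U))
  have hsq : hW.fromSpec ≫ i = Spec.map g ≫ hU.fromSpec := by
    rw [show g = i.appLE U (i ⁻¹ᵁ U) le_rfl from Scheme.Hom.app_eq_appLE i,
      IsAffineOpen.SpecMap_appLE_fromSpec i hU hW le_rfl]
  have hr : hW.fromSpec.opensRange = i ⁻¹ᵁ hU.fromSpec.opensRange := by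
    rw [hW.opensRange_fromSpec, hU.opensRange_fromSpec]
  let e : (rho hU.fromSpec).obj (DCoh.inD X ((Scheme.Modules.pushforward i).obj (Coh.structureModule Z))) ≅
      (DCoh.tildeD Γ(X, U)).obj (Dual.inD Γ(X, U) N) :=
    rhoInD hU.fromSpec _ ≪≫
      (DerivedCategory.singleFunctor (Spec Γ(X, U)).Modules 0).mapIso
        ((pushResIso i hU.fromSpec hW.fromSpec (Spec.map g) hsq hr).app _ ≪≫
          (Scheme.Modules.pushforward (Spec.map g)).mapIso (RelPC17.restrictStructureIso hW.fromSpec ≪≫ tildeSelf.symm) ≪≫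
          (pushTildeIso g).app _) ≪≫
      (((tilde.functor Γ(X, U)).mapDerivedCategorySingleFunctor 0).app N).symm
  obtain ⟨E, a, b, hz, hE, eE⟩ := (koszul_quotient g hs rs hrs hker).1
  obtain ⟨V, j, hj, hv, P, hP, ⟨eP⟩⟩ := locSP_of_rperf (R := Γ(X, U)) (M := Dual.inD Γ(X, U) N)
    ⟨E, a, b, hz, hE, eE⟩ (hU.isoSpec.hom ⟨i z, hzU⟩)
  obtain ⟨v, hv'⟩ := hv
  refine ⟨V, j ≫ hU.fromSpec, inferInstance, ⟨v, ?_⟩, P, hP,
    ⟨eP ≪≫ (rho j).mapIso e.symm ≪≫ rhoComp j hU.fromSpec _ rfl _⟩⟩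
  rw [Scheme.Hom.comp_apply]
  erw [hv']
  show (hU.isoSpec.hom ≫ hU.fromSpec) ⟨i z, hzU⟩ = i z
  rw [IsAffineOpen.isoSpec_hom_fromSpec]
  rfl

/-- A Koszul regular immersion of codimension `d` has perfect dimension at most `d`. -/
theorem hasPerfDimLE_of_koszul (d : ℕ) (hi : RegImm.IsRegularImmersionOfCodim RegImm.Kind.koszul d i) :
    DerSch.HasPerfDimLE i d := by
  haveI : IsImmersion i := hi.1
  have key : ∀ z : Z, ∃ (U : X.Opens) (hU : IsAffineOpen U) (hW : IsAffineOpen (i ⁻¹ᵁ U)), i z ∈ U ∧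
      Function.Surjective (i.app U).hom ∧
      ∃ rs : List Γ(X, U), rs.length = d ∧ LCI.IsKoszulRegularSeq Γ(X, U) rs ∧
        RingHom.ker (i.app U).hom = Ideal.ofList rs := fun z => by
    obtain ⟨⟨U, hU⟩, hzU, hc, rs, hl, hrs, hker⟩ := hi.2 z
    obtain ⟨hW, hs⟩ := chart_of_closed_restrict i hU hc
    exact ⟨U, hU, hW, hzU, hs, rs, hl, hrs, hker⟩
  refine ⟨fun m => rel_of_local fun z => ?_, fun z => ?_⟩
  · obtain ⟨U, hU, hW, hzU, hs, rs, -, hrs, hker⟩ := key z
    let B := Γ(Z, i ⁻¹ᵁ U)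
    letI : Algebra Γ(X, U) B := (i.app U).hom.toAlgebra
    haveI : Algebra.FiniteType Γ(X, U) B :=
      Algebra.FiniteType.of_surjective (R := Γ(X, U)) (Algebra.ofId Γ(X, U) B) hs
    haveI : PreservesFiniteLimits (tilde.functor (CommRingCat.of B)) := QCoh.tilde_preservesFiniteLimits
    haveI : PreservesFiniteColimits (tilde.functor (CommRingCat.of B)) := QCoh.tilde_preservesFiniteColimits
    haveI : (tilde.functor (CommRingCat.of B)).Additive := tilde_additive _
    have hk : Spec.map (CommRingCat.ofHom (algebraMap Γ(X, U) B)) ≫ hU.fromSpec = hW.fromSpec ≫ i := by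
      change Spec.map (i.app U) ≫ _ = _
      rw [Scheme.Hom.app_eq_appLE i, IsAffineOpen.SpecMap_appLE_fromSpec i hU hW le_rfl]
    let M := Dual.inD B (ModuleCat.of B B)
    let e : (rho hW.fromSpec).obj (DCoh.toD Z (DerSch.unitCx Z)) ≅ (DCoh.tildeD (CommRingCat.of B)).obj M :=
      (rho hW.fromSpec).mapIso ((DerivedCategory.singleFunctorIsoCompQ Z.Modules 0).app _).symm ≪≫
        rhoInD hW.fromSpec _ ≪≫ (DerivedCategory.singleFunctor _ 0).mapIso
          (RelPC17.restrictStructureIso hW.fromSpec ≪≫ tildeSelf.symm) ≪≫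
        (((tilde.functor (CommRingCat.of B)).mapDerivedCategorySingleFunctor 0).app _).symm
    refine ⟨_, _, le_preimage_chart hW.fromSpec hU.fromSpec hk, isAffineOpen_opensRange hW.fromSpec,
      isAffineOpen_opensRange hU.fromSpec, ?_,
      (chartOK_spec_iff (f := i) (R := Γ(X, U)) (A := B) hW.fromSpec hU.fromSpec hk M e m).2 ?_⟩
    · show z ∈ Set.range hW.fromSpec
      rw [hW.range_fromSpec]; exact hzU
    let α : MvPolynomial (Fin 0) Γ(X, U) →ₐ[Γ(X, U)] B := MvPolynomial.aeval (fun k => k.elim0)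
    have hα : Function.Surjective α := fun b => by
      obtain ⟨r, hr⟩ := hs b
      exact ⟨MvPolynomial.C r, by rw [MvPolynomial.aeval_C]; exact hr⟩
    refine (iff_via α hα M m).2 ?_
    let ε : MvPolynomial (Fin 0) Γ(X, U) →+* Γ(X, U) :=
      (MvPolynomial.isEmptyAlgEquiv Γ(X, U) (Fin 0)).toRingEquiv.toRingHom
    have hε : (i.app U).hom.comp ε = α.toRingHom := MvPolynomial.ringHom_ext
      (fun r => by
        show (i.app U).hom ((MvPolynomial.isEmptyAlgEquiv Γ(X, U) (Fin 0)) (MvPolynomial.C r)) = α (MvPolynomial.C r)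
        rw [show (MvPolynomial.isEmptyAlgEquiv Γ(X, U) (Fin 0)) (MvPolynomial.C r) = r from
          (MvPolynomial.isEmptyAlgEquiv Γ(X, U) (Fin 0)).commutes r, MvPolynomial.aeval_C]
        rfl)
      fun k => k.elim0
    have hpc : PCHom (i.app U).hom :=
      ((DRingPerfect.isPerfect_iff _).1 (koszul_quotient (i.app U) hs rs hrs hker).1).1
    have h := (DRingPC.pc'_iff _).1
      ((PCHom.of_bijective (φ := ε) (MvPolynomial.isEmptyAlgEquiv Γ(X, U) (Fin 0)).bijective).comp hpc) m
    rw [hε] at h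
    exact DRingPC.of_iso (restrictInDIso α.toRingHom (ModuleCat.of B B)).symm h
  · obtain ⟨U, hU, hW, hzU, hs, rs, hl, hrs, hker⟩ := key z
    let B := Γ(Z, i ⁻¹ᵁ U)
    haveI : PreservesFiniteLimits (tilde.functor (CommRingCat.of B)) := QCoh.tilde_preservesFiniteLimits
    haveI : (tilde.functor (CommRingCat.of B)).Additive := tilde_additive _
    let j := hW.fromSpec
    obtain ⟨v, hv⟩ := hW.range_fromSpec.ge (show z ∈ (i ⁻¹ᵁ U : Z.Opens) from hzU)
    subst hv
    have hsq : j ≫ i = Spec.map (i.app U) ≫ hU.fromSpec := by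
      rw [Scheme.Hom.app_eq_appLE i, IsAffineOpen.SpecMap_appLE_fromSpec i hU hW le_rfl]
    refine (torAmpAt_rCx_iff j i _ v _ _).2 ?_
    refine RelPC17.hasTorAmplitudeAt_of_iso (j ≫ i)
      (DerivedCategory.Q.mapIso
        ((HomologicalComplex.singleMapHomologicalComplex (Scheme.Modules.restrictFunctor j) (ComplexShape.up ℤ) 0).app _ ≪≫
          (HomologicalComplex.single _ (ComplexShape.up ℤ) 0).mapIso
            (RelPC17.restrictStructureIso j ≪≫ tildeSelf.symm) ≪≫
          ((HomologicalComplex.singleMapHomologicalComplex (tilde.functor (CommRingCat.of B)) (ComplexShape.up ℤ) 0).app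
            (ModuleCat.of B B)).symm)).symm ?_
    rw [hsq]
    have hamp := (koszul_quotient (i.app U) hs rs hrs hker).2
    rw [hl] at hamp
    obtain ⟨E, hv, hf, ⟨eE⟩⟩ := hamp
    refine torAmpAt_comp_open_inv _ hU.fromSpec _ _ _ v
      (((hasTorAmplitude_tildeCx_iff (i.app U).hom
        ((HomologicalComplex.single (ModuleCat.{u} B) (ComplexShape.up ℤ) 0).obj (ModuleCat.of B B)) _ _).2 ?_) v)
    let e₁ := (HomologicalComplex.singleMapHomologicalComplex (ModuleCat.restrictScalars (i.app U).hom)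
      (ComplexShape.up ℤ) 0).app (ModuleCat.of B B)
    exact ⟨E, hv, hf, ⟨eE ≪≫ (DerivedCategory.singleFunctorIsoCompQ _ 0).app _ ≪≫
      (DerivedCategory.Q.mapIso e₁).symm⟩⟩

end Groth.Agent.KExact
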