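import Groth.Agent.KExact.RingTower
import Groth.Agent.KExact.External
import Groth.Agent.KFlatLib.Perfect.Basic

/-!
# The twisted inverse image of a local complete intersection morphism
-/

set_option autoImplicit false
set_option linter.style.haveILetI false
set_option linter.unusedSectionVars false
set_option backward.isDefEq.respectTransparency false
set_option backward.isDefEq.respectTransparency.types false

universe u

open CategoryTheory CategoryTheory.Limits AlgebraicGeometry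

attribute [local instance] HasDerivedCategory.standard

namespace Groth.Agent.KExact.LCIShriek

open KFlatLib KFlatLib.BCLoc KFlatLib.SecPoint BCNat BCComp ShriekFormula RingTower

variable {X Y Xb : Scheme.{u}}

/-- An lci morphism is near each point a tower. -/
theorem exists_fml_nhd [IsNoetherian Y] (f : X ⟶ Y) (hf : Dual3.IsLCIMor f) (x : X) :
    ∃ (V : Y.Opens) (U : X.Opens) (hUV : U ≤ f ⁻¹ᵁ V) (d : ℤ), x ∈ U ∧ IsAffineOpen V ∧ IsAffineOpen U ∧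
      Fml (Scheme.Hom.resLE f V U hUV) d := by
  obtain ⟨U, V, e, hxU, h⟩ := hf x
  letI : Algebra Γ(Y, V.1) Γ(X, U.1) := (f.appLE V.1 U.1 e).hom.toAlgebra
  haveI : IsNoetherianRing Γ(Y, V.1) := IsLocallyNoetherian.component_noetherian V
  obtain ⟨b, hb, d, hd⟩ := exists_rExt_of_isLCI h (U.2.primeIdealOf ⟨x, hxU⟩)
  let U' := X.basicOpen b
  have hU' : IsAffineOpen U' := U.2.basicOpen b
  have hxU' : x ∈ U' := by
    have h1 : U.2.primeIdealOf ⟨x, hxU⟩ ∈ U.2.fromSpec ⁻¹ᵁ U' := by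
      rw [U.2.fromSpec_preimage_basicOpen]
      exact hb
    have h2 : U.2.fromSpec.base (U.2.primeIdealOf ⟨x, hxU⟩) ∈ U' := h1
    rwa [U.2.fromSpec_primeIdealOf ⟨x, hxU⟩] at h2
  have hUV : U' ≤ f ⁻¹ᵁ V.1 := (X.basicOpen_le b).trans e
  refine ⟨V.1, U', hUV, d, hxU', V.2, hU', ?_⟩
  haveI := U.2.isLocalization_basicOpen b
  let eL : Localization.Away b ≃ₐ[Γ(X, U.1)] Γ(X, U') := IsLocalization.algEquiv (Submonoid.powers b) _ _
  have hφ : RExt (f.appLE V.1 U' hUV).hom d := by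
    haveI : IsNoetherianRing Γ(X, U.1) := by
      obtain ⟨hft, -⟩ := h
      exact Algebra.FiniteType.isNoetherianRing Γ(Y, V.1) Γ(X, U.1)
    haveI : IsNoetherianRing (Localization.Away b) :=
      IsLocalization.isNoetherianRing (Submonoid.powers b) _ inferInstance
    refine rExt_congr hd eL.toRingEquiv (RingHom.ext fun r => ?_)
    change eL (algebraMap Γ(Y, V.1) (Localization.Away b) r) = _
    rw [IsScalarTower.algebraMap_apply Γ(Y, V.1) Γ(X, U.1) (Localization.Away b), eL.commutes]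
    have h3 : f.appLE V.1 U.1 e ≫ X.presheaf.map (homOfLE (X.basicOpen_le b)).op = f.appLE V.1 U' hUV :=
      Scheme.Hom.appLE_map _ _ _
    rw [← h3]
    rfl
  haveI : IsAffine (V.1 : Scheme.{u}) := V.2
  haveI : IsAffine (U' : Scheme.{u}) := hU'
  haveI : IsNoetherian (V.1 : Scheme.{u}) := isNoetherian_of_ft V.1.ι
  have hν : Scheme.Hom.resLE f V.1 U' hUV =
      hU'.isoSpec.hom ≫ Spec.map (f.appLE V.1 U' hUV) ≫ V.2.isoSpec.inv := by
    rw [← cancel_epi hU'.isoSpec.inv, Iso.inv_hom_id_assoc, ← cancel_mono V.1.ι, Category.assoc,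
      Scheme.Hom.resLE_comp_ι, Category.assoc]
    exact (IsAffineOpen.SpecMap_appLE_fromSpec f V.2 hU' hUV).symm
  rw [hν]
  haveI : IsNoetherianRing Γ(X, U') := by
    obtain ⟨hft, -⟩ := h
    haveI : IsNoetherianRing Γ(X, U.1) := Algebra.FiniteType.isNoetherianRing Γ(Y, V.1) Γ(X, U.1)
    exact IsLocalization.isNoetherianRing (Submonoid.powers b) _ inferInstance
  haveI : LocallyOfFiniteType (Spec.map (f.appLE V.1 U' hUV)) := by
    refine (HasRingHomProperty.Spec_iff (P := @LocallyOfFiniteType)).2 ?_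
    have h3 : f.appLE V.1 U' hUV = f.appLE V.1 U.1 e ≫ X.presheaf.map (homOfLE (X.basicOpen_le b)).op :=
      (Scheme.Hom.appLE_map _ _ _).symm
    rw [h3]
    exact ((RingHom.finiteType_algebraMap).2
      (haveI := IsLocalization.Away.finitePresentation (S := Γ(X, U')) b; Algebra.FiniteType.of_finitePresentation)).comp h.1
  haveI : IsNoetherian (U' : Scheme.{u}) := isNoetherian_of_ft (hU'.isoSpec.hom ≫ Spec.map (f.appLE V.1 U' hUV))
  exact fml_of_ext (ext_comp _ _ (ext_iso hU'.isoSpec.hom)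
    (ext_comp _ _ (show Ext (Spec.map (f.appLE V.1 U' hUV)) d from hφ) (ext_iso V.2.isoSpec.inv) (add_zero d))
    (zero_add d))

/-- The local formula. -/
theorem exists_local [IsNoetherian Y] [IsNoetherian X] (f : X ⟶ Y) (hf : Dual3.IsLCIMor f) (j : X ⟶ Xb)
    [IsOpenImmersion j] (φ : Xb ⟶ Y) [IsProper φ] (hfac : j ≫ φ = f) [DCoh.HasRpush φ]
    {hφ : DCoh.RpushPreservesQCoh φ} {a : DCoh.DQCoh Y ⥤ DCoh.DQCoh Xb} (adj : DCoh.RpushQ φ hφ ⊣ a) (x : X) :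
    ∃ (U : X.Opens) (V : Y.Opens) (ν : (U : Scheme.{u}) ⟶ V) (_ : DCoh.HasLpull ν) (d : ℤ), x ∈ U ∧
      ν ≫ V.ι = U.ι ≫ f ∧ ∀ K : (Dual3.IsBddBelowQ Y).FullSubcategory,
        Nonempty ((rho U.ι).obj ((rho j).obj (a.obj K.obj).obj) ≅
          ((DCoh.Lpull ν).obj ((rho V.ι).obj K.obj.obj))⟦d⟧) := by
  obtain ⟨V, U, hUV, d, hxU, hV, hU, hF⟩ := exists_fml_nhd f hf x
  let ν : (U : Scheme.{u}) ⟶ V := Scheme.Hom.resLE f V U hUV
  have hν : ν ≫ V.ι = U.ι ≫ f := Scheme.Hom.resLE_comp_ι _ _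
  refine ⟨U, V, ν, hasLpull ν, d, hxU, hν, fun K₀ => ?_⟩
  haveI := hasLpull ν
  haveI : IsNoetherian (V : Scheme.{u}) := isNoetherian_of_ft V.ι
  haveI : IsNoetherian (U : Scheme.{u}) := isNoetherian_of_ft U.ι
  haveI : IsNoetherian Xb := isNoetherian_of_ft φ
  let r := pullback.fst φ V.ι
  let p := pullback.snd φ V.ι
  let u : (U : Scheme.{u}) ⟶ pullback φ V.ι :=
    pullback.lift (U.ι ≫ j) ν (by rw [Category.assoc, hfac, hν])
  have hur : u ≫ r = U.ι ≫ j := pullback.lift_fst _ _ _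
  have hup : u ≫ p = ν := pullback.lift_snd _ _ _
  haveI : IsOpenImmersion (u ≫ r) := by rw [hur]; infer_instance
  haveI : IsOpenImmersion u := IsOpenImmersion.of_comp u r
  haveI : IsNoetherian (pullback φ V.ι) := isNoetherian_of_ft p
  haveI := hasRpush_scheme p
  have hp : DCoh.RpushPreservesQCoh p := fun K hK => isQCohD_rpush p hK
  obtain ⟨ap, ⟨adjp⟩⟩ := exists_adj p hp
  obtain ⟨B⟩ := nonempty_bc_iso (IsPullback.of_hasPullback φ V.ι) adj adjp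
  obtain ⟨lr⟩ := nonempty_LQ_iso_rQ r
  obtain ⟨lv⟩ := nonempty_LQ_iso_rQ V.ι
  obtain ⟨c₁⟩ := nonempty_rQ_comp U.ι j (U.ι ≫ j) rfl
  obtain ⟨c₂⟩ := nonempty_rQ_comp u r (U.ι ≫ j) hur
  let KV : (Dual3.IsBddBelowQ (V : Scheme.{u})).FullSubcategory :=
    ⟨(rQ V.ι).obj K₀.obj, isBddBelowQ_rQ V.ι K₀.obj K₀.property⟩
  let e : (rQ U.ι).obj ((rQ j).obj (a.obj K₀.obj)) ≅ (rQ u).obj (ap.obj KV.obj) :=
    c₁.app _ ≪≫ c₂.symm.app _ ≪≫ (rQ u).mapIso ((lr.symm.app _) ≪≫ B.app K₀ ≪≫ ap.mapIso (lv.app K₀.obj))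
  obtain ⟨E⟩ := hF _ u p inferInstance inferInstance hup hp ap adjp
  exact ⟨(ObjectProperty.ι _).mapIso e ≪≫ E.app KV⟩

/-- `f^!` preserves perfectness. -/
theorem isPerfect_shriek [IsNoetherian Y] [IsNoetherian X] (f : X ⟶ Y) (hf : Dual3.IsLCIMor f) (j : X ⟶ Xb)
    [IsOpenImmersion j] (φ : Xb ⟶ Y) [IsProper φ] (hfac : j ≫ φ = f) [DCoh.HasRpush φ]
    {hφ : DCoh.RpushPreservesQCoh φ} {a : DCoh.DQCoh Y ⥤ DCoh.DQCoh Xb} (adj : DCoh.RpushQ φ hφ ⊣ a)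
    (K : (Dual3.IsBddBelowQ Y).FullSubcategory) (hK : DCoh.IsPerfect K.obj.obj) :
    DCoh.IsPerfect ((rho j).obj (a.obj K.obj).obj) := by
  refine (isPerfect_iff _).2 fun x => ?_
  obtain ⟨U, V, ν, _, d, hxU, hν, hE⟩ := exists_local f hf j φ hfac adj x
  obtain ⟨E⟩ := hE K
  haveI := hasLpull V.ι
  have h0 : DCoh.IsPerfect ((rho V.ι).obj K.obj.obj) :=
    (isPerfect_iff _).2 (LocSP.of_iso (rhoLpullIso V.ι _).symm ((isPerfect_iff _).1 (isPerfect_lpull V.ι hK)))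
  have h1 : LocSP ((rho U.ι).obj ((rho j).obj (a.obj K.obj).obj)) :=
    LocSP.of_iso E.symm (LocSP.shift ((isPerfect_iff _).1 (isPerfect_lpull ν h0)) d)
  obtain ⟨W, i, hi, ⟨y, hy⟩, P, hP, ⟨eP⟩⟩ := h1 ⟨x, hxU⟩
  haveI := hi
  refine ⟨W, i ≫ U.ι, inferInstance, ⟨y, ?_⟩, P, hP, ⟨eP ≪≫ rhoComp i U.ι _ rfl _⟩⟩
  change U.ι.base (i.base y) = x
  rw [hy]
  rfl

/-- `f^! O` is invertible. -/
theorem exists_iso_shift [IsNoetherian Y] [IsNoetherian X] (f : X ⟶ Y) (hf : Dual3.IsLCIMor f) (j : X ⟶ Xb)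
    [IsOpenImmersion j] (φ : Xb ⟶ Y) [IsProper φ] (hfac : j ≫ φ = f) [DCoh.HasRpush φ]
    {hφ : DCoh.RpushPreservesQCoh φ} {a : DCoh.DQCoh Y ⥤ DCoh.DQCoh Xb} (adj : DCoh.RpushQ φ hφ ⊣ a)
    (O : DCoh.DQCoh Y) (eO : O.obj ≅ DCoh.inD Y (Coh.structureModule Y)) (x : X) :
    ∃ (U : X.Opens) (n : ℤ), x ∈ U ∧ Nonempty ((rho U.ι).obj ((rho j).obj (a.obj O).obj) ≅
      (DCoh.inD (U : Scheme.{u}) (Coh.structureModule (U : Scheme.{u})))⟦n⟧) := by
  have hb : Dual3.IsBddBelowQ Y O := by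
    refine ⟨0, (DerivedCategory.isGE_iff _ _).2 fun i hi => ?_⟩
    haveI : (DCoh.inD Y (Coh.structureModule Y)).IsGE 0 :=
      inferInstanceAs (((DerivedCategory.singleFunctor Y.Modules 0).obj _).IsGE 0)
    exact (DerivedCategory.isZero_of_isGE _ 0 i hi).of_iso ((DerivedCategory.homologyFunctor _ i).mapIso eO)
  obtain ⟨U, V, ν, _, d, hxU, hν, hE⟩ := exists_local f hf j φ hfac adj x
  obtain ⟨E⟩ := hE ⟨O, hb⟩
  haveI := hasLpull V.ι
  obtain ⟨u₁⟩ := Groth.Agent.KExact.nonempty_lpull_unitCx V.ι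
  obtain ⟨u₂⟩ := Groth.Agent.KExact.nonempty_lpull_unitCx ν
  let eu : ∀ T : Scheme.{u}, DCoh.inD T (Coh.structureModule T) ≅ DCoh.toD T (DerSch.unitCx T) := fun T =>
    (DerivedCategory.singleFunctorIsoCompQ T.Modules 0).app (Coh.structureModule T)
  exact ⟨U, d, hxU, ⟨E ≪≫ (shiftFunctor _ d).mapIso ((DCoh.Lpull ν).mapIso
    ((rho V.ι).mapIso (eO ≪≫ eu Y) ≪≫ rhoLpullIso V.ι _ ≪≫ u₁.symm) ≪≫ u₂.symm ≪≫ (eu _).symm)⟩⟩

end Groth.Agent.KExact.LCIShriek
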