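import Groth.Agent.H9Misc.SerreMinus
import Groth.Agent.KFlatLib.PsiC
import Mathlib.CategoryTheory.EssentialImage

/-!
# `D⁻` of a full Serre subcategory given by a functor
-/

set_option autoImplicit false
set_option linter.style.haveILetI false
set_option backward.isDefEq.respectTransparency false
set_option backward.isDefEq.respectTransparency.types false

universe w w' v v' u u'

open CategoryTheory CategoryTheory.Limits

namespace Groth.Agent.KExact.MinusTransfer

variable {A' : Type u'} [Category.{v'} A'] [Abelian A'] [HasDerivedCategory.{w'} A']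
  {A : Type u} [Category.{v} A] [Abelian A] [HasDerivedCategory.{w} A]

/-- Composites of exact functors on derived categories. -/
theorem nonempty_comp_iso {B : Type*} [Category B] [Abelian B] [HasDerivedCategory B]
    (F : A' ⥤ B) [F.Additive] [PreservesFiniteLimits F] [PreservesFiniteColimits F]
    (G : B ⥤ A) [G.Additive] [PreservesFiniteLimits G] [PreservesFiniteColimits G]
    (H : A' ⥤ A) [H.Additive] [PreservesFiniteLimits H] [PreservesFiniteColimits H] (e : F ⋙ G ≅ H) :
    Nonempty (F.mapDerivedCategory ⋙ G.mapDerivedCategory ≅ H.mapDerivedCategory) := by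
  let c := ComplexShape.up ℤ
  letI : Localization.Lifting DerivedCategory.Q (HomologicalComplex.quasiIso A' c)
      (F.mapHomologicalComplex c ⋙ G.mapHomologicalComplex c ⋙ DerivedCategory.Q)
      (F.mapDerivedCategory ⋙ G.mapDerivedCategory) :=
    ⟨(Functor.associator _ _ _).symm ≪≫ Functor.isoWhiskerRight F.mapDerivedCategoryFactors _ ≪≫
      Functor.associator _ _ _ ≪≫ Functor.isoWhiskerLeft _ G.mapDerivedCategoryFactors⟩
  letI : Localization.Lifting DerivedCategory.Q (HomologicalComplex.quasiIso A' c)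
      (H.mapHomologicalComplex c ⋙ DerivedCategory.Q) H.mapDerivedCategory :=
    ⟨H.mapDerivedCategoryFactors⟩
  let eC : F.mapHomologicalComplex c ⋙ G.mapHomologicalComplex c ≅ H.mapHomologicalComplex c :=
    NatIso.ofComponents
      (fun K => HomologicalComplex.Hom.isoOfComponents (fun n => e.app (K.X n))
        (fun i j _ => (e.hom.naturality (K.d i j)).symm))
      (fun f => by
        ext n : 1
        exact e.hom.naturality (f.f n))
  exact ⟨Localization.liftNatIso DerivedCategory.Q (HomologicalComplex.quasiIso A' c) _ _ _ _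
    ((Functor.associator _ _ _).symm ≪≫ Functor.isoWhiskerRight eC DerivedCategory.Q)⟩

theorem nonempty_id_iso : Nonempty ((𝟭 A').mapDerivedCategory ≅ 𝟭 (DerivedCategory A')) := by
  let c := ComplexShape.up ℤ
  letI : Localization.Lifting DerivedCategory.Q (HomologicalComplex.quasiIso A' c)
      ((𝟭 A').mapHomologicalComplex c ⋙ DerivedCategory.Q) (𝟭 A').mapDerivedCategory :=
    ⟨(𝟭 A').mapDerivedCategoryFactors⟩
  letI : Localization.Lifting DerivedCategory.Q (HomologicalComplex.quasiIso A' c)
      DerivedCategory.Q (𝟭 (DerivedCategory A')) := ⟨Functor.rightUnitor _⟩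
  exact ⟨Localization.liftNatIso DerivedCategory.Q (HomologicalComplex.quasiIso A' c)
    ((𝟭 A').mapHomologicalComplex c ⋙ DerivedCategory.Q) DerivedCategory.Q
    (𝟭 A').mapDerivedCategory (𝟭 (DerivedCategory A'))
    (Functor.isoWhiskerRight (Functor.mapHomologicalComplexIdIso A' c) _ ≪≫ Functor.leftUnitor _)⟩

theorem isLE_of_map {F : A' ⥤ A} [F.Additive] [PreservesFiniteLimits F] [PreservesFiniteColimits F]
    [F.Full] [F.Faithful] (M : DerivedCategory A') (b : ℤ) (h : (F.mapDerivedCategory.obj M).IsLE b) : M.IsLE b := by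
  rw [DerivedCategory.isLE_iff]
  intro i hi
  have hz := (DerivedCategory.isLE_iff _ _).1 h i hi
  exact IsZero.of_full_of_faithful_of_isZero F _
    (hz.of_iso ((KFlatLib.mapDCHomologyIso F i).app M).symm)

theorem isLE_map {F : A' ⥤ A} [F.Additive] [PreservesFiniteLimits F] [PreservesFiniteColimits F]
    (M : DerivedCategory A') (b : ℤ) (h : M.IsLE b) : (F.mapDerivedCategory.obj M).IsLE b := by
  rw [DerivedCategory.isLE_iff]
  intro i hi
  exact (F.map_isZero ((DerivedCategory.isLE_iff _ _).1 h i hi)).of_iso ((KFlatLib.mapDCHomologyIso F i).app M)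

theorem main (ι : A' ⥤ A) [ι.Additive] [PreservesFiniteLimits ι] [PreservesFiniteColimits ι] [ι.Full] [ι.Faithful]
    [ι.essImage.IsSerreClass]
    (hlift : ∀ (X Y : A) (π : X ⟶ Y), Epi π → ι.essImage Y → ∃ (X' : A) (i : X' ⟶ X), Mono i ∧ ι.essImage X' ∧
      Epi (i ≫ π)) :
    (∀ (M N : DerivedCategory A') (b : ℤ), M.IsLE b → N.IsLE b →
      Function.Bijective (fun φ : M ⟶ N => ι.mapDerivedCategory.map φ)) ∧
    ∀ (K : DerivedCategory A) (b : ℤ), K.IsLE b →
      (∀ n : ℤ, ι.essImage ((DerivedCategory.homologyFunctor A n).obj K)) →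
      ∃ M : DerivedCategory A', M.IsLE b ∧ Nonempty (ι.mapDerivedCategory.obj M ≅ K) := by
  let P := ι.essImage
  haveI : P.IsClosedUnderBinaryProducts := ⟨by
    rintro X ⟨p⟩
    haveI := HasBinaryBiproducts.of_hasBinaryProducts (C := A)
    let L := p.diag.obj ⟨WalkingPair.left⟩
    let R := p.diag.obj ⟨WalkingPair.right⟩
    let h := (IsLimit.postcomposeHomEquiv (diagramIsoPair p.diag) _).symm p.isLimit
    exact P.prop_of_iso (h.conePointUniqueUpToIso (BinaryBiproduct.isLimit L R)).symm
      (P.prop_biprod (p.prop_diag_obj _) (p.prop_diag_obj _))⟩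
  haveI : P.IsClosedUnderFiniteProducts := ObjectProperty.IsClosedUnderFiniteProducts.mk'
  letI := HasDerivedCategory.standard P.FullSubcategory
  haveI : PreservesFiniteLimits P.ι := by
    haveI := fun (A B : P.FullSubcategory) (f : A ⟶ B) => P.preservesKernels_ι f
    exact Functor.preservesFiniteLimits_of_preservesKernels _
  haveI : PreservesFiniteColimits P.ι := by
    haveI := fun (A B : P.FullSubcategory) (f : A ⟶ B) => P.preservesCokernels_ι f
    exact Functor.preservesFiniteColimits_of_preservesCokernels _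
  let E : A' ⥤ P.FullSubcategory := ι.toEssImage
  haveI : E.IsEquivalence := { }
  haveI : E.Additive := ⟨fun {a b f g} => ObjectProperty.hom_ext _ ι.map_add⟩
  let e := E.asEquivalence
  haveI : e.functor.Additive := ‹E.Additive›
  haveI : e.inverse.Additive := inferInstance
  obtain ⟨i₁⟩ := nonempty_id_iso (A' := A')
  obtain ⟨i₂⟩ := nonempty_id_iso (A' := P.FullSubcategory)
  obtain ⟨c₁⟩ := nonempty_comp_iso E e.inverse (𝟭 A') e.unitIso.symm
  obtain ⟨c₂⟩ := nonempty_comp_iso e.inverse E (𝟭 P.FullSubcategory) e.counitIso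
  obtain ⟨c₃⟩ := nonempty_comp_iso E P.ι ι ι.toEssImageCompι
  haveI : E.mapDerivedCategory.IsEquivalence :=
    (CategoryTheory.Equivalence.mk E.mapDerivedCategory e.inverse.mapDerivedCategory (c₁ ≪≫ i₁).symm
      (c₂ ≪≫ i₂)).isEquivalence_functor
  refine ⟨fun M N b hM hN => ?_, fun K b hK hH => ?_⟩
  · have h1 := H9Misc.SerreMinus.bijective P hlift _ (E.mapDerivedCategory.obj N) b (isLE_map (F := E) M b hM)
    have h2 : Function.Bijective (fun φ : M ⟶ N => E.mapDerivedCategory.map φ) :=
      ⟨E.mapDerivedCategory.map_injective, E.mapDerivedCategory.map_surjective⟩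
    have h3 : (fun φ : M ⟶ N => ι.mapDerivedCategory.map φ) =
        (fun a => c₃.inv.app M ≫ a ≫ c₃.hom.app N) ∘ (fun a => P.ι.mapDerivedCategory.map a) ∘
          (fun φ => E.mapDerivedCategory.map φ) := by
      funext φ
      exact ((Iso.inv_comp_eq (c₃.app M)).2 (c₃.hom.naturality φ)).symm
    rw [h3]
    exact (Iso.homCongr (c₃.app M) (c₃.app N)).bijective.comp (h1.comp h2)
  · obtain ⟨M, hM, ⟨eM⟩⟩ := H9Misc.SerreMinus.exists_preimage P hlift K b hK hH
    let M' := E.mapDerivedCategory.objPreimage M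
    let e' : ι.mapDerivedCategory.obj M' ≅ K :=
      (c₃.app M').symm ≪≫ P.ι.mapDerivedCategory.mapIso (E.mapDerivedCategory.objObjPreimageIso M) ≪≫ eM
    refine ⟨M', isLE_of_map (F := ι) M' b ?_, ⟨e'⟩⟩
    rw [DerivedCategory.isLE_iff]
    exact fun i hi => ((DerivedCategory.isLE_iff _ _).1 hK i hi).of_iso
      ((DerivedCategory.homologyFunctor A i).mapIso e')

end Groth.Agent.KExact.MinusTransfer
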