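import Groth.Agent.S1056
import Groth.Agent.H9Misc.DRingPCDescent

/-!
# Pseudo-coherence descends along flat, locally finitely presented surjections
-/

set_option autoImplicit false
set_option linter.style.haveILetI false
set_option linter.unusedSectionVars false
set_option backward.isDefEq.respectTransparency false
set_option backward.isDefEq.respectTransparency.types false
set_option maxHeartbeats 1000000

universe u

open CategoryTheory CategoryTheory.Limits AlgebraicGeometry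

attribute [local instance] HasDerivedCategory.standard

namespace Groth.Agent.KExact.PCDescent

open KFlatLib

/-- A morphism of stalks passes to open subschemes. -/
lemma stalk_pcMap_open {X U : Scheme.{u}} (k : U ⟶ X) [IsOpenImmersion k]
    (E F : CochainComplex X.Modules ℤ) (v : U) (m : ℤ)
    (h : ∃ β : DRing.toD ((stalkCx (k.base v)).obj E) ⟶ DRing.toD ((stalkCx (k.base v)).obj F), IsPcMap m β) :
    ∃ β : DerivedCategory.Q.obj ((stalkCx v).obj ((rCx k).obj E)) ⟶
      DerivedCategory.Q.obj ((stalkCx v).obj ((rCx k).obj F)), IsPcMap m β := by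
  obtain ⟨e, he⟩ := h
  let φ := (k.stalkMap v).hom
  have hb : Function.Bijective φ := ConcreteCategory.bijective_of_isIso (k.stalkMap v)
  haveI := ModuleCat.preservesFiniteLimits_extendScalars_of_flat (RingHom.Flat.of_bijective hb)
  haveI : (ModuleCat.extendScalars.{u, u, u} φ).IsLeftAdjoint :=
    (ModuleCat.extendRestrictScalarsAdj φ).isLeftAdjoint
  haveI : (ModuleCat.extendScalars.{u, u, u} φ).Additive :=
    (ModuleCat.extendRestrictScalarsAdj φ).left_adjoint_additive
  haveI : PreservesFiniteColimits (ModuleCat.extendScalars.{u, u, u} φ) := inferInstance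
  let T := ModuleCat.extendScalars.{u, u, u} φ
  let s : ∀ G : CochainComplex X.Modules ℤ,
      DerivedCategory.Q.obj ((stalkCx v).obj ((rCx k).obj G)) ≅
        T.mapDerivedCategory.obj (DerivedCategory.Q.obj ((stalkCx (k.base v)).obj G)) := fun G =>
    DerivedCategory.Q.mapIso ((stalkCx v).mapIso ((restrictPullCxIso k).app G) ≪≫
      stalkPullCxIso k v G) ≪≫ (T.mapDerivedCategoryFactors.app _).symm
  exact ⟨(s E).hom ≫ T.mapDerivedCategory.map e ≫ (s F).inv, (he.map_exact T).comp_iso _ _⟩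

/-- Vanishing of cohomology at a point is detected after a flat pullback. -/
lemma isZero_stalk_pullCx {Z W : Scheme.{u}} (g : Z ⟶ W) [Flat g] (C : CochainComplex W.Modules ℤ) (z : Z) (i : ℤ)
    (h : IsZero ((DerSch.stalkFunctor Z z).obj (((pullCx g).obj C).homology i))) :
    IsZero ((DerSch.stalkFunctor W (g.base z)).obj (C.homology i)) := by
  let φ := (g.stalkMap z).hom
  have hflat : φ.Flat := Flat.stalkMap g z
  haveI := ModuleCat.preservesFiniteLimits_extendScalars_of_flat hflat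
  haveI : (ModuleCat.extendScalars.{u, u, u} φ).IsLeftAdjoint :=
    (ModuleCat.extendRestrictScalarsAdj φ).isLeftAdjoint
  haveI : (ModuleCat.extendScalars.{u, u, u} φ).Additive :=
    (ModuleCat.extendRestrictScalarsAdj φ).left_adjoint_additive
  haveI : PreservesFiniteColimits (ModuleCat.extendScalars.{u, u, u} φ) := inferInstance
  let T := ModuleCat.extendScalars.{u, u, u} φ
  let S := DerSch.stalkFunctor W (g.base z)
  let e : (DerSch.stalkFunctor Z z).obj (((pullCx g).obj C).homology i) ≅ T.obj (S.obj (C.homology i)) :=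
    ((((pullCx g).obj C).sc i).mapHomologyIso (DerSch.stalkFunctor Z z)).symm ≪≫
      (HomologicalComplex.homologyFunctor _ _ i).mapIso (stalkPullCxIso g z C) ≪≫
      (((stalkCx (g.base z)).obj C).sc i).mapHomologyIso T ≪≫
      T.mapIso ((C.sc i).mapHomologyIso S)
  letI := φ.toAlgebra
  haveI : Module.Flat (W.presheaf.stalk (g.base z)) (Z.presheaf.stalk z) := hflat
  haveI : IsLocalHom (algebraMap (W.presheaf.stalk (g.base z)) (Z.presheaf.stalk z)) :=
    inferInstanceAs (IsLocalHom φ)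
  haveI := Module.FaithfullyFlat.of_flat_of_isLocalHom
    (A := W.presheaf.stalk (g.base z)) (B := Z.presheaf.stalk z)
  haveI := ModuleCat.subsingleton_of_isZero (h.of_iso e.symm)
  haveI : Subsingleton (TensorProduct (W.presheaf.stalk (g.base z)) (Z.presheaf.stalk z)
      (S.obj (C.homology i) : Type u)) := by assumption
  haveI : Subsingleton (S.obj (C.homology i) : Type u) :=
    (Module.FaithfullyFlat.subsingleton_tensorProduct_iff_right (W.presheaf.stalk (g.base z))
      (Z.presheaf.stalk z)).1 inferInstance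
  exact ModuleCat.isZero_of_subsingleton _

/-- Vanishing of cohomology at a point passes to a flat pullback. -/
lemma isZero_stalk_pullCx' {Z W : Scheme.{u}} (g : Z ⟶ W) [Flat g] (C : CochainComplex W.Modules ℤ) (z : Z) (i : ℤ)
    (h : IsZero ((DerSch.stalkFunctor W (g.base z)).obj (C.homology i))) :
    IsZero ((DerSch.stalkFunctor Z z).obj (((pullCx g).obj C).homology i)) := by
  let φ := (g.stalkMap z).hom
  have hflat : φ.Flat := Flat.stalkMap g z
  haveI := ModuleCat.preservesFiniteLimits_extendScalars_of_flat hflat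
  haveI : (ModuleCat.extendScalars.{u, u, u} φ).IsLeftAdjoint :=
    (ModuleCat.extendRestrictScalarsAdj φ).isLeftAdjoint
  haveI : (ModuleCat.extendScalars.{u, u, u} φ).Additive :=
    (ModuleCat.extendRestrictScalarsAdj φ).left_adjoint_additive
  haveI : PreservesFiniteColimits (ModuleCat.extendScalars.{u, u, u} φ) := inferInstance
  let T := ModuleCat.extendScalars.{u, u, u} φ
  let S := DerSch.stalkFunctor W (g.base z)
  let e : (DerSch.stalkFunctor Z z).obj (((pullCx g).obj C).homology i) ≅ T.obj (S.obj (C.homology i)) :=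
    ((((pullCx g).obj C).sc i).mapHomologyIso (DerSch.stalkFunctor Z z)).symm ≪≫
      (HomologicalComplex.homologyFunctor _ _ i).mapIso (stalkPullCxIso g z C) ≪≫
      (((stalkCx (g.base z)).obj C).sc i).mapHomologyIso T ≪≫
      T.mapIso ((C.sc i).mapHomologyIso S)
  exact (T.map_isZero h).of_iso e

/-- The stalk of a complex whose flat pullback is pseudo-coherent is pseudo-coherent. -/
lemma pc_stalk {X' X : Scheme.{u}} (f : X' ⟶ X) [Flat f] (x' : X') (R : CochainComplex X.Modules ℤ) (m : ℤ)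
    (h : LocPC m (DCoh.toD X' ((pullCx f).obj R))) :
    DRing.IsPseudoCoherent (X.presheaf.stalk (f.base x')) m (DRing.toD ((stalkCx (f.base x')).obj R)) := by
  obtain ⟨U, j, _, ⟨v₀, rfl⟩, P, α, hP, hα⟩ := h x'
  obtain ⟨a, b, hab⟩ := hP.1
  obtain ⟨W, hW, hfree⟩ := exists_free_nhd hab hP.2 v₀
  let w : W := ⟨v₀, hW⟩
  let k := W.ι ≫ j
  let g := k ≫ f
  let αW : DerivedCategory.Q.obj ((rCx W.ι).obj P) ⟶ DerivedCategory.Q.obj ((pullCx g).obj R) :=
    ((rhoQ W.ι).app P).inv ≫ (rho W.ι).map α ≫ (rhoComp W.ι j k rfl _ ≪≫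
      (rhoQ k).app _ ≪≫ DerivedCategory.Q.mapIso ((restrictPullCxIso k).app _ ≪≫
        (pullCxCompIso k f).app R)).hom
  have hαW : IsPcMap m αW := (hα.map_exact _).comp_iso _ _
  let φ := (g.stalkMap w).hom
  have hflat : φ.Flat := Flat.stalkMap g w
  letI := φ.toAlgebra
  haveI : Module.Flat (X.presheaf.stalk (g.base w)) ((W : Scheme.{u}).presheaf.stalk w) := hflat
  haveI : IsLocalHom (algebraMap (X.presheaf.stalk (g.base w)) ((W : Scheme.{u}).presheaf.stalk w)) :=
    inferInstanceAs (IsLocalHom φ)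
  haveI := Module.FaithfullyFlat.of_flat_of_isLocalHom
    (A := X.presheaf.stalk (g.base w)) (B := (W : Scheme.{u}).presheaf.stalk w)
  refine H9Misc.DRingPCDescent.pc_descent (R' := (W : Scheme.{u}).presheaf.stalk w) ((stalkCx (g.base w)).obj R) m ?_
  let st := DerSch.stalkFunctor (W : Scheme.{u}) w
  haveI := Functor.preservesFiniteLimits_of_preservesHomology st
  haveI := Functor.preservesFiniteColimits_of_preservesHomology st
  let E₀ : DRing.Cx ((W : Scheme.{u}).presheaf.stalk w) := (stalkCx w).obj ((rCx W.ι).obj P)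
  let α₀ : DRing.toD E₀ ⟶ DRing.toD
      (((ModuleCat.extendScalars (g.stalkMap w).hom).mapHomologicalComplex (ComplexShape.up ℤ)).obj
        ((stalkCx (g.base w)).obj R)) :=
    (st.mapDerivedCategoryFactors.app ((rCx W.ι).obj P)).inv ≫ st.mapDerivedCategory.map αW ≫
      (st.mapDerivedCategoryFactors.app _ ≪≫ DerivedCategory.Q.mapIso (stalkPullCxIso g w R)).hom
  have h₀ : IsPcMap m α₀ := (hαW.map_exact st).comp_iso _ _
  refine ⟨E₀, a, b, α₀, fun i hi =>
    st.map_isZero ((Scheme.Modules.restrictFunctor W.ι).map_isZero (hab i hi)), fun i => ?_, h₀.1, h₀.2⟩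
  obtain ⟨n, ⟨ei⟩⟩ := hfree i
  have hf := finite_free_stalk_freeMod (U := (W : Scheme.{u})) w n
  haveI := hf.1
  haveI := hf.2.1
  let q := (st.mapIso ei).toLinearEquiv
  exact ⟨Module.Finite.equiv q.symm, Module.Free.of_equiv' hf.1 q.symm⟩

/-- Pseudo-coherence descends along a flat, locally finitely presented surjection. -/
theorem locPC_of_lpull {X' X : Scheme.{u}} (f : X' ⟶ X) [Flat f] [Surjective f] [LocallyOfFinitePresentation f]
    [DCoh.HasLpull f] (E : DCoh.D X) (m : ℤ) (hpull : LocPC m ((DCoh.Lpull f).obj E)) : LocPC m E := fun x => by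
  let R := repK E
  have hR' : LocPC m (DCoh.toD X' ((pullCx f).obj R)) := hpull.of_iso (lpullRepIso f E).symm
  obtain ⟨x', rfl⟩ := f.surjective x
  obtain ⟨F₀, c, d, α, hz₀, hff, hiso, hepi⟩ := pc_stalk f x' R m hR'
  have hF₀ : DRing.IsPerfect (X.presheaf.stalk (f.base x')) (DRing.toD F₀) :=
    ⟨F₀, c, d, hz₀, fun i => ⟨(hff i).1, by haveI := (hff i).2; infer_instance⟩, ⟨Iso.refl _⟩⟩
  obtain ⟨U, F', hxU, hF', ⟨eF⟩⟩ := Groth.Agent.S6196.result (f.base x') _ hF₀
  obtain ⟨U₁, j, _, ⟨u₁, hu₁⟩, P, hP, ⟨eP⟩⟩ := (isPerfect_iff _).1 hF' ⟨f.base x', hxU⟩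
  obtain ⟨a, b, hab⟩ := hP.1
  obtain ⟨W, hW, hfree⟩ := exists_free_nhd hab hP.2 u₁
  let k := W.ι ≫ j ≫ U.ι
  let P₁ := (rCx W.ι).obj P
  let w : W := ⟨u₁, hW⟩
  have hkw : k.base w = f.base x' := by
    change U.ι.base (j.base u₁) = _
    rw [hu₁]
    rfl
  have hP₁ : DCoh.VanishesOutside P₁ a b := fun i hi =>
    (Scheme.Modules.restrictFunctor W.ι).map_isZero (hab i hi)
  have hfree₁ : ∀ i, ∃ n : ℕ, Nonempty (P₁.X i ≅ FlatMod.freeMod (W : Scheme.{u}) n) := fun i => by
    obtain ⟨n, ⟨e⟩⟩ := hfree i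
    exact ⟨n, ⟨e⟩⟩
  let eW : DerivedCategory.Q.obj P₁ ≅ DerivedCategory.Q.obj ((rCx k).obj F') :=
    ((rhoQ W.ι).app P).symm ≪≫ (rho W.ι).mapIso (eP ≪≫ (rho j).mapIso ((rhoQ U.ι).app F').symm ≪≫
      rhoComp j U.ι (j ≫ U.ι) rfl _) ≪≫ rhoComp W.ι (j ≫ U.ι) k rfl _ ≪≫ (rhoQ k).app F'
  have hst' : ∃ β : DRing.toD ((stalkCx (k.base w)).obj F') ⟶
      DRing.toD ((stalkCx (k.base w)).obj R), IsPcMap m β := by
    rw [hkw]
    exact ⟨eF.hom ≫ α, (isPcMap_of_isIso m eF.hom).comp ⟨hiso, hepi⟩⟩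
  obtain ⟨β, hβ⟩ := stalk_pcMap_open k F' R w m hst'
  let st := DerSch.stalkFunctor (W : Scheme.{u}) w
  haveI := Functor.preservesFiniteLimits_of_preservesHomology st
  haveI := Functor.preservesFiniteColimits_of_preservesHomology st
  let γ := (st.mapDerivedCategoryFactors.app P₁).inv ≫ st.mapDerivedCategory.map eW.hom ≫
    (st.mapDerivedCategoryFactors.app _).hom ≫ β
  have hγ : IsPcMap m γ := (isPcMap_of_isIso m _).comp ((isPcMap_of_isIso m _).comp ((isPcMap_of_isIso m _).comp hβ))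
  haveI : ∀ i, Projective (((stalkCx w).obj P₁).X i) := fun i => by
    obtain ⟨n, ⟨ei⟩⟩ := hfree₁ i
    haveI := (finite_free_stalk_freeMod (U := (W : Scheme.{u})) w n).1
    haveI : Projective (st.obj (FlatMod.freeMod (W : Scheme.{u}) n)) :=
      ModuleCat.projective_of_free (Module.Free.chooseBasis _ _)
    exact Projective.of_iso (st.mapIso ei).symm inferInstance
  haveI : CochainComplex.IsStrictlyLE ((stalkCx w).obj P₁) b :=
    (CochainComplex.isStrictlyLE_iff _ b).2 fun i hi => st.map_isZero (hP₁ i (Or.inr hi))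
  haveI := CochainComplex.isKProjective_of_projective ((stalkCx w).obj P₁) b
  obtain ⟨φ, hφ⟩ := (homEq_of_isKProjective _ _).surj γ
  let RW := (rCx k).obj R
  obtain ⟨W₂, hw₂, Φ, hΦ⟩ := KExact.exists_nhd_chainMap hP₁ hfree₁ w φ
  let T := Scheme.Modules.pushforward W₂.ι
  let adj := Scheme.Modules.restrictAdjunction W₂.ι
  let G := (T.mapHomologicalComplex (ComplexShape.up ℤ)).obj ((rCx W₂.ι).obj RW)
  let η : RW ⟶ G :=
    { f := fun i => unitW W₂ (RW.X i), comm' := fun i j _ => (adj.unit.naturality (RW.d i j)).symm }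
  let Φ' : P₁ ⟶ G :=
    { f := fun i => unitW W₂ (P₁.X i) ≫ T.map (Φ.f i)
      comm' := fun i j _ => by
        let Rr := Scheme.Modules.restrictFunctor W₂.ι
        change (_ ≫ T.map _) ≫ T.map (Rr.map (RW.d i j)) = P₁.d i j ≫ _ ≫ T.map _
        rw [Category.assoc, ← T.map_comp,
          show Φ.f i ≫ Rr.map (RW.d i j) = Rr.map (P₁.d i j) ≫ Φ.f j from Φ.comm i j, T.map_comp,
          ← Category.assoc, ← Category.assoc]
        exact congrArg (· ≫ T.map (Φ.f j)) (adj.unit.naturality (P₁.d i j)).symm }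
  have hstΦ : (stalkCx w).map Φ' = φ ≫ (stalkCx w).map η := by
    ext i : 1
    change st.map _ = φ.f i ≫ st.map _
    rw [← hΦ i, stalkAt_spec]
  haveI : ∀ i, IsIso (((stalkCx w).map η).f i) := fun i => isIso_stalk_unitW hw₂ (RW.X i)
  haveI : IsIso ((stalkCx w).map η) := HomologicalComplex.Hom.isIso_of_components _
  have hpc : IsPcMap m (DerivedCategory.Q.map ((stalkCx w).map Φ')) := by
    rw [hstΦ, Functor.map_comp, hφ]
    exact hγ.comp (isPcMap_of_isIso _ _)
  let C := (rCx W₂.ι).obj (CochainComplex.mappingCone Φ')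
  let w₂ : W₂ := ⟨w, hw₂⟩
  -- the pullback of the cone is perfect
  let c : (rCx W₂.ι).obj G ⟶ (rCx W₂.ι).obj RW :=
    { f := fun i => adj.counit.app _, comm' := fun i j _ => (adj.counit.naturality _).symm }
  haveI : ∀ i, IsIso (c.f i) := fun i => by
    change IsIso (adj.counit.app _)
    infer_instance
  haveI : IsIso c := HomologicalComplex.Hom.isIso_of_components _
  let l := W₂.ι ≫ k
  let V : X.Opens := l.opensRange
  let r := (IsOpenImmersion.isoOfRangeEq V.ι l (by simp [V]))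
  let ρ : (W₂ : Scheme.{u}) ⟶ (V : Scheme.{u}) := r.inv
  have hρ : ρ ≫ V.ι = l := IsOpenImmersion.isoOfRangeEq_inv_fac _ _ _
  let g₂ : ((f ⁻¹ᵁ V : X'.Opens) : Scheme.{u}) ⟶ (W₂ : Scheme.{u}) := (f ∣_ V) ≫ r.hom
  have hg₂ : g₂ ≫ l = (f ⁻¹ᵁ V).ι ≫ f := by
    simp [g₂, r, IsOpenImmersion.isoOfRangeEq_hom_fac]
  haveI : Flat g₂ := by
    haveI : Flat (f ∣_ V) := IsZariskiLocalAtTarget.restrict (inferInstanceAs (Flat f)) V
    infer_instance
  haveI : Surjective g₂ := by
    haveI : Surjective (f ∣_ V) := IsZariskiLocalAtTarget.restrict (inferInstanceAs (Surjective f)) V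
    infer_instance
  let Φ₂ := (rCx W₂.ι).map Φ'
  have hsp : DCoh.IsStrictlyPerfect ((rCx W₂.ι).obj P₁) :=
    isStrictlyPerfect_restrict _ (KExact.isStrictlyPerfect_of_free hP₁ hfree₁)
  let rc : (rCx W₂.ι).obj RW ≅ (pullCx l).obj R :=
    (NatIso.mapHomologicalComplex (Scheme.Modules.restrictFunctorComp W₂.ι k).symm
      (ComplexShape.up ℤ)).app R ≪≫ (restrictPullCxIso l).app R
  have hpG : LocPC m (DCoh.toD _ ((pullCx g₂).obj ((rCx W₂.ι).obj G))) :=
    (hR'.restrict (f ⁻¹ᵁ V).ι).of_iso ((rhoQ _).app _ ≪≫ DerivedCategory.Q.mapIso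
      ((restrictPullCxIso _).app _ ≪≫ (pullCxCompIso _ f).app R ≪≫
        (NatIso.mapHomologicalComplex (Scheme.Modules.pullbackCongr hg₂.symm) _).app R ≪≫
        ((pullCxCompIso g₂ l).app R).symm ≪≫ (pullCx g₂).mapIso (rc.symm ≪≫ (asIso c).symm)))
  have hC' : LocPC m (DCoh.toD _ ((pullCx g₂).obj C)) :=
    (locPC_obj₃ (DerivedCategory.Q.mapTriangle.obj
        (CochainComplex.mappingCone.triangle ((pullCx g₂).map Φ₂)))
      ((DerivedCategory.mem_distTriang_iff _).2 ⟨_, _, (pullCx g₂).map Φ₂, ⟨Iso.refl _⟩⟩)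
      ((KExact.locSP_of_isStrictlyPerfect (isStrictlyPerfect_pullback g₂ hsp)).locPC _) hpG).of_iso
      (DerivedCategory.Q.mapIso ((CochainComplex.mappingCone.mapHomologicalComplexIso Φ₂
          (Scheme.Modules.pullback g₂)).symm ≪≫ (pullCx g₂).mapIso
        (CochainComplex.mappingCone.mapHomologicalComplexIso Φ'
          (Scheme.Modules.restrictFunctor W₂.ι)).symm))
  haveI : LocallyOfFinitePresentation g₂ := by
    haveI : LocallyOfFinitePresentation (f ∣_ V) :=
      IsZariskiLocalAtTarget.restrict (inferInstanceAs (LocallyOfFinitePresentation f)) V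
    infer_instance
  -- bound above, then vanishing in degrees `≥ m` near a point over `w₂`
  obtain ⟨z₂, hz₂⟩ := g₂.surjective w₂
  let C₂ := (pullCx g₂).obj C
  obtain ⟨T₁, t, _, ⟨q₁, hq₁⟩, P₂, α₂, hP₂, hα₂⟩ := hC' z₂
  obtain ⟨a₂, b₂, hab₂⟩ := hP₂.1
  let C₃ := (rCx t).obj C₂
  let α₃ : DerivedCategory.Q.obj P₂ ⟶ DerivedCategory.Q.obj C₃ := α₂ ≫ ((rhoQ t).app C₂).hom
  have hα₃ : IsPcMap m α₃ := hα₂.comp (isPcMap_of_isIso _ _)
  let B := max b₂ m
  have hb₃ : ∀ i, m + ((B + 1 - m).toNat : ℤ) ≤ i → IsZero (C₃.homology i) := fun i hi => by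
    haveI := hα₃.1 i (by omega)
    exact ((ShortComplex.isZero_homology_of_isZero_X₂ _ (hab₂ i (Or.inr (by omega)))).of_iso
      ((asIso ((DerivedCategory.homologyFunctor _ i).map α₃)).symm ≪≫
        (DerivedCategory.homologyFunctorFactors _ i).app P₂)).of_iso
      ((DerivedCategory.homologyFunctorFactors _ i).app C₃).symm
  have hx₃ : ∀ i, m ≤ i → IsZero ((DerSch.stalkFunctor T₁ q₁).obj (C₃.homology i)) := fun i hi => by
    refine (KExact.isZero_stalk_restrict t q₁ ?_).of_iso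
      ((DerSch.stalkFunctor T₁ q₁).mapIso ((C₂.sc i).mapHomologyIso (Scheme.Modules.restrictFunctor t)))
    rw [hq₁]
    have hw : IsZero ((DerSch.stalkFunctor _ w₂).obj (C.homology i)) :=
      (KExact.isZero_stalk_restrict W₂.ι w₂
        ((((isPcMap_iff_cone m _).1 hpc i hi).of_iso
          ((HomologicalComplex.homologyFunctor _ _ i).mapIso
            (CochainComplex.mappingCone.mapHomologicalComplexIso Φ' st))).of_iso
          (((CochainComplex.mappingCone Φ').sc i).mapHomologyIso st).symm)).of_iso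
        ((DerSch.stalkFunctor _ w₂).mapIso
          (((CochainComplex.mappingCone Φ').sc i).mapHomologyIso (Scheme.Modules.restrictFunctor W₂.ι)))
    exact isZero_stalk_pullCx' g₂ C z₂ i (hz₂ ▸ hw)
  obtain ⟨T₂, s, _, ⟨q₂, hq₂⟩, hzero⟩ := KExact.exists_nhd_isZero_homology _ T₁ C₃ m q₁
    ((hC'.restrict t).of_iso ((rhoQ t).app C₂)) hb₃ hx₃
  let O' : (W₂ : Scheme.{u}).Opens :=
    ⟨g₂.base '' Set.range (s ≫ t).base, g₂.isOpenMap _ (s ≫ t).isOpenEmbedding.isOpen_range⟩
  have hw₂O : w₂ ∈ O' := ⟨z₂, ⟨q₂, by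
    change t.base (s.base q₂) = z₂
    rw [hq₂, hq₁]⟩, hz₂⟩
  have hCO : ∀ y ∈ O', ∀ i, m ≤ i → IsZero ((DerSch.stalkFunctor _ y).obj (C.homology i)) := by
    rintro y ⟨_, ⟨v, rfl⟩, rfl⟩ i hi
    refine isZero_stalk_pullCx g₂ C _ i ?_
    refine isZero_stalk_of_restrict t (s.base v) ?_
    refine IsZero.of_iso ?_ ((DerSch.stalkFunctor T₁ _).mapIso
      ((C₂.sc i).mapHomologyIso (Scheme.Modules.restrictFunctor t))).symm
    exact isZero_stalk_of_restrict s v (((DerSch.stalkFunctor T₂ v).map_isZero (hzero i hi)).of_iso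
      ((DerSch.stalkFunctor T₂ v).mapIso ((C₃.sc i).mapHomologyIso (Scheme.Modules.restrictFunctor s)).symm))
  let Ψ := (rCx O'.ι).map Φ₂
  have hΨ : IsPcMap m (DerivedCategory.Q.map Ψ) := (isPcMap_iff_cone _ _).2 fun n hn => by
    refine IsZero.of_iso ?_ ((HomologicalComplex.homologyFunctor _ _ n).mapIso
      ((CochainComplex.mappingCone.mapHomologicalComplexIso Φ₂
          (Scheme.Modules.restrictFunctor O'.ι)).symm ≪≫ (rCx O'.ι).mapIso
        (CochainComplex.mappingCone.mapHomologicalComplexIso Φ'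
          (Scheme.Modules.restrictFunctor W₂.ι)).symm))
    refine IsZero.of_iso ?_ ((C.sc n).mapHomologyIso (Scheme.Modules.restrictFunctor O'.ι))
    exact isZero_of_stalk _ fun y => KExact.isZero_stalk_restrict O'.ι y (hCO _ y.2 n hn)
  let l' := O'.ι ≫ l
  refine ⟨_, l', inferInstance, ⟨⟨w₂, hw₂O⟩, hkw⟩, (rCx O'.ι).obj ((rCx W₂.ι).obj P₁),
    DerivedCategory.Q.map Ψ ≫ (DerivedCategory.Q.mapIso ((rCx O'.ι).mapIso (asIso c)) ≪≫
    ((rhoQ O'.ι).app _).symm ≪≫ (rho O'.ι).mapIso (((rhoQ W₂.ι).app RW).symm ≪≫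
      (rho W₂.ι).mapIso ((rhoQ k).app R).symm ≪≫ rhoComp W₂.ι k l rfl _) ≪≫
    rhoComp O'.ι l l' rfl _ ≪≫ (rho l').mapIso (repKIso E)).hom,
    isStrictlyPerfect_restrict _ hsp, hΨ.comp (isPcMap_of_isIso _ _)⟩

end Groth.Agent.KExact.PCDescent
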