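import Groth.Agent.KFlatLib.Scheme.RpushPerfectSupport
import Groth.Agent.KFlatLib.Scheme.StalkTorAmp
import Groth.Agent.KFlatLib.Scheme.PCQCoh
import Groth.Agent.KFlatLib.Scheme.CohD
import Groth.Agent.KSixRel.SpreadRel
import Groth.Agent.RelPC17.Rel
import Groth.Agent.QCoh.RpushStalk
import Groth.Agent.H9Misc.DRingTorDim
import Groth.Prelude.Def_DerSch2

/-!
# Direct images of relatively perfect complexes along proper morphisms
-/

set_option autoImplicit false
set_option linter.style.haveILetI false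
set_option backward.isDefEq.respectTransparency false
set_option backward.isDefEq.respectTransparency.types false

universe u

open CategoryTheory CategoryTheory.Limits AlgebraicGeometry TopologicalSpace

attribute [local instance] HasDerivedCategory.standard

namespace Groth.Agent.KExact

open KFlatLib RelPC17

variable {X Y : Scheme.{u}} (f : X ⟶ Y)

/-- Relatively pseudo-coherent objects over a locally noetherian base have coherent cohomology. -/
theorem isCohD_of_relAll [IsLocallyNoetherian Y] {E : DCoh.D X}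
    (hE : DerSch.IsPseudoCoherentRelAll f E) : DCoh.IsCohD E := by
  haveI := (hE 0).1
  haveI : IsLocallyNoetherian X := LocallyOfFiniteType.isLocallyNoetherian f
  intro i
  refine KFlatLib.isCoh_of_local fun x => ?_
  obtain ⟨_, ⟨V, hV, rfl⟩, hxV, -⟩ :=
    Y.isBasis_affineOpens.exists_subset_of_mem_open (show f x ∈ (⊤ : Y.Opens) from trivial) (⊤ : Y.Opens).2
  obtain ⟨_, ⟨(U : X.Opens), hU, rfl⟩, hxU, hle⟩ :=
    X.isBasis_affineOpens.exists_subset_of_mem_open (show x ∈ f ⁻¹ᵁ V from hxV) (f ⁻¹ᵁ V).2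
  obtain ⟨n, φ, hφ⟩ := exists_isChart hle (finiteType_appLE hU hV hle)
  haveI := isClosedImmersion_imm hU hφ.1
  haveI : IsNoetherianRing Γ(Y, V) := QCoh.noetherian_sections ⟨V, hV⟩
  let E' := (pD (imm U φ)).obj ((rho U.ι).obj E)
  have h : ∀ m, LocPC m E' := fun m => rel_iff.1 (hE m) U V hU hV hle n φ hφ
  have hq : DCoh.IsQCohD E' := fun k =>
    isQCoh_HD_of_pseudoCoherent ((isPseudoCoherentD_iff _ _).2 (h (k - 1))) k (by omega)
  have hc := isCoh_of_locPC hq (h i) i le_rfl
  let M := DCoh.HD ((rho U.ι).obj E) i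
  have hq' : Coh.IsQCoh ((Scheme.Modules.pushforward (imm U φ)).obj M) :=
    isQCoh_of_iso (hdPD (imm U φ) _ i) hc.1
  have hft : CohB1.IsFT ((Scheme.Modules.pushforward (imm U φ)).obj M) :=
    isFT_of_epi' (hdPD (imm U φ) _ i).hom hc.2
  haveI := Groth.Agent.KZ.ClosedDev.isIso_counit (imm U φ) hq'
  let c := asIso ((Scheme.Modules.pullbackPushforwardAdjunction (imm U φ)).counit.app M)
  have hM : Coh.IsCoh M :=
    ⟨isQCoh_of_iso c (QCoh.isQCoh_pullback _ hq'), isFT_of_epi' c.hom (QCoh.isFT_pullback _ hq' hft)⟩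
  haveI : IsLocallyNoetherian (U : Scheme.{u}) := isLocallyNoetherian_of_isOpenImmersion U.ι
  exact ⟨_, U.ι, inferInstance, ⟨⟨x, hxU⟩, rfl⟩, KFlatLib.isCoh_of_iso (hdRhoIso U.ι E i) hM⟩

/-- Locally finite tor amplitude has a common range on quasi-compact schemes. -/
theorem exists_uniform_torAmp [CompactSpace X] {F : CochainComplex X.Modules ℤ}
    (h : DerSch.LocFiniteTorAmplitude f F) : ∃ a b : ℤ, a ≤ b ∧ DerSch.HasTorAmplitude f a b F := by
  choose V a b hx hV using h
  obtain ⟨t, ht⟩ := isCompact_univ.elim_finite_subcover (fun x : X => (V x : Set X))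
    (fun x => (V x).2) (fun x _ => Set.mem_iUnion.2 ⟨x, hx x⟩)
  let N : ℤ := ((∑ x ∈ t, ((a x).natAbs + (b x).natAbs) : ℕ) : ℤ)
  refine ⟨-N, N, by omega, fun y => ?_⟩
  obtain ⟨x, hxt, hyx⟩ := Set.mem_iUnion₂.1 (ht (Set.mem_univ y))
  have hbx : (a x).natAbs + (b x).natAbs ≤ ∑ x ∈ t, ((a x).natAbs + (b x).natAbs) :=
    Finset.single_le_sum (f := fun x => (a x).natAbs + (b x).natAbs) (fun _ _ => Nat.zero_le _) hxt
  exact H9Misc.DRingTor.mono (by omega) (by omega) (hV x y hyx)

/-- The direct image of a relatively perfect complex along a proper morphism is perfect. -/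
theorem locSP_rpush_of_perfectRel [IsNoetherian Y] [IsProper f] [DCoh.HasRpush f]
    (F : CochainComplex X.Modules ℤ) (hF : DerSch.IsPerfectRel f F) :
    LocSP ((DCoh.Rpush f).obj (DCoh.toD X F)) := by
  haveI : IsLocallyNoetherian X := LocallyOfFiniteType.isLocallyNoetherian f
  haveI : CompactSpace X := QuasiCompact.compactSpace_of_compactSpace f
  haveI := hasLpull f
  have hcoh := isCohD_of_relAll f hF.1
  obtain ⟨a, b, hab, hamp⟩ := exists_uniform_torAmp f hF.2
  have hz : ∀ i : ℤ, i < a ∨ b < i → IsZero (DCoh.HD (DCoh.toD X F) i) := fun i hi =>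
    (KSixRel.isZero_homology_of_torAmp f hamp i hi).of_iso
      ((DerivedCategory.homologyFunctorFactors X.Modules i).app F)
  haveI : (DCoh.toD X F).IsGE a := (DerivedCategory.isGE_iff _ _).2 fun i hi => hz i (Or.inl hi)
  obtain ⟨hc, hbd⟩ := rpush_coherent_bounded f (b - a).toNat a (DCoh.toD X F) inferInstance
    ((DerivedCategory.isLE_iff _ _).2 fun i hi => hz i (Or.inr (by omega)))
    fun i => ⟨hcoh i, isProperOver_of_isProper f (QCoh.isClosed_support_of_isFT (hcoh i).1 (hcoh i).2)⟩
  obtain ⟨b', hb'⟩ := hbd inferInstance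
  obtain ⟨n, hn⟩ := exists_Rpush_bound f
  have ht := torAmplitude_rpush_gen f n (fun M hM p hp => hn M hM p hp.le) (DCoh.toD X F)
    (isCohD_isQCohD hcoh) a b (fun G _ M eM _ i hi => isZero_hd_ltensor_lpull_stalk f hamp G M eM i hi)
  exact locSP_of_flat_pc (le_max_left a (b + n))
    (flatAmplitude_of_torAmplitude hasLTensorMod (le_max_left a (b + n))
      (fun G _ i hi => ht G i (by omega)))
    (locPC_of_coh (isCohD_isQCohD hc) (fun i _ => hc i) b' hb')

end Groth.Agent.KExact
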