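import Groth.Agent.KExact.ProjNat
import Groth.Agent.KFlatLib.Scheme.QCohDerived
import Mathlib.CategoryTheory.Yoneda

/-!
# The right adjoint of `Rf_*` commutes with derived sheaf Hom
-/

set_option linter.style.haveILetI false
set_option backward.isDefEq.respectTransparency false
set_option backward.isDefEq.respectTransparency.types false

universe u

open CategoryTheory CategoryTheory.Limits AlgebraicGeometry Opposite

attribute [local instance] HasDerivedCategory.standard

namespace Groth.Agent.KExact.ShriekHom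

open Groth.Agent.KFlatLib

/-- The right adjoint of `Rf_*` on `D_QCoh` carries `RHom(P, G)` to `RHom(Lf^*P, f^!G)`. -/
theorem nonempty_rightAdjoint_RSheafHom {X Y : Scheme.{u}} (f : X ⟶ Y) [QuasiCompact f]
    [QuasiSeparated f] [DCoh.HasRpush f] [DCoh.HasLpull f] (hf : DCoh.RpushPreservesQCoh f)
    (a : DCoh.DQCoh Y ⥤ DCoh.DQCoh X) (adj : DCoh.RpushQ f hf ⊣ a)
    (P : CochainComplex Y.Modules ℤ) [DCoh.HasLTensorCx P] [DCoh.HasRSheafHom P]
    (hP : DCoh.IsQCohD (DCoh.toD Y P)) (G : DCoh.DQCoh Y)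
    (hq : DCoh.IsQCohD ((DCoh.RSheafHom P).obj G.obj))
    (P' : CochainComplex X.Modules ℤ) [DCoh.HasLTensorCx P'] [DCoh.HasRSheafHom P']
    (hP' : Nonempty (DCoh.toD X P' ≅ (DCoh.Lpull f).obj (DCoh.toD Y P)))
    (hq' : DCoh.IsQCohD ((DCoh.RSheafHom P').obj (a.obj G).obj)) :
    Nonempty ((a.obj ⟨(DCoh.RSheafHom P).obj G.obj, hq⟩).obj ≅
      (DCoh.RSheafHom P').obj (a.obj G).obj) := by
  have hP'q : DCoh.IsQCohD (DCoh.toD X P') := by
    obtain ⟨e⟩ := hP'
    exact isQCohD_of_iso e.symm (isQCohD_lpull f hP)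
  obtain ⟨τ, hτ⟩ := ProjNat.exists_projNat f P P' hP'
  haveI : ∀ E : DCoh.DQCoh X, IsIso (τ.app E.obj) := fun E => hτ hP E.obj E.property
  let T : DCoh.DQCoh X ⥤ DCoh.DQCoh X := ObjectProperty.lift _
    (ObjectProperty.ι _ ⋙ DCoh.LTensorCx P') fun E => isQCohD_ltensor P' hP'q E.property
  let L : DCoh.DQCoh X ⥤ DCoh.D Y := ObjectProperty.ι _ ⋙ DCoh.Rpush f ⋙ DCoh.LTensorCx P
  let H : (DCoh.DQCoh X)ᵒᵖ ⥤ Type _ := L.op ⋙ yoneda.obj G.obj
  have ff : ∀ {W : Scheme.{u}}, (ObjectProperty.ι (DCoh.IsQCohD (X := W))).FullyFaithful :=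
    fun {W} => ObjectProperty.fullyFaithfulι _
  let r₁ : H.RepresentableBy (a.obj ⟨(DCoh.RSheafHom P).obj G.obj, hq⟩) :=
    { homEquiv := fun {E} => ((adj.homEquiv E _).symm.trans ff.homEquiv).trans
        ((DCoh.RSheafHomAdj P).homEquiv _ G.obj).symm
      homEquiv_comp := fun {E E'} g h => by
        simp only [Equiv.trans_apply]
        rw [adj.homEquiv_naturality_left_symm]
        exact (DCoh.RSheafHomAdj P).homEquiv_naturality_left_symm _ _ }
  let r₂ : H.RepresentableBy (⟨(DCoh.RSheafHom P').obj (a.obj G).obj, hq'⟩ : DCoh.DQCoh X) :=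
    { homEquiv := fun {E} =>
        (((ff.homEquiv (X := E) (Y := (⟨(DCoh.RSheafHom P').obj (a.obj G).obj, hq'⟩ : DCoh.DQCoh X))).trans
          ((DCoh.RSheafHomAdj P').homEquiv E.obj (a.obj G).obj).symm).trans
          ((ff.homEquiv (X := T.obj E) (Y := a.obj G)).symm.trans
            ((adj.homEquiv (T.obj E) G).symm.trans ff.homEquiv))).trans
          (Iso.homCongr (asIso (τ.app E.obj)).symm (Iso.refl G.obj))
      homEquiv_comp := fun {E E'} g h => by
        simp only [Equiv.trans_apply]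
        have e1 : ff.homEquiv (g ≫ h) = g.hom ≫ ff.homEquiv h := rfl
        rw [e1]
        erw [(DCoh.RSheafHomAdj P').homEquiv_naturality_left_symm]
        have e2 : ∀ x : (T.obj E').obj ⟶ (a.obj G).obj,
            (ff.homEquiv (X := T.obj E) (Y := a.obj G)).symm ((DCoh.LTensorCx P').map g.hom ≫ x) =
              T.map g ≫ (ff.homEquiv (X := T.obj E') (Y := a.obj G)).symm x := fun x => by
          apply ff.map_injective
          rw [Functor.map_comp]
          erw [ff.map_preimage, ff.map_preimage]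
          rfl
        erw [e2, adj.homEquiv_naturality_left_symm]
        generalize (adj.homEquiv (T.obj E') G).symm _ = z
        change τ.app E.obj ≫ ((DCoh.Rpush f).map ((DCoh.LTensorCx P').map g.hom) ≫ z.hom) ≫ 𝟙 G.obj =
          L.map g ≫ τ.app E'.obj ≫ z.hom ≫ 𝟙 G.obj
        rw [Category.comp_id, Category.comp_id]
        exact (τ.naturality_assoc g.hom _).symm }
  exact ⟨(ObjectProperty.ι _).mapIso (r₁.uniqueUpToIso r₂)⟩

end Groth.Agent.KExact.ShriekHom
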