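import Groth.Agent.H9Misc.CorrAdjoint
import Groth.Agent.H9Misc.DualNat
import Groth.Agent.KExact.ShriekHom
import Groth.Agent.KExact.AdjTensorMain
import Groth.Agent.KExact.External

/-!
# Duals of perfect complexes under pullback, and `a(K ⊗ L) = a(L) ⊗ Lf^* K`
-/

set_option autoImplicit false
set_option linter.style.haveILetI false
set_option linter.unusedSectionVars false
set_option backward.isDefEq.respectTransparency false
set_option backward.isDefEq.respectTransparency.types false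
set_option maxHeartbeats 1000000

universe u

open CategoryTheory CategoryTheory.Limits AlgebraicGeometry

attribute [local instance] HasDerivedCategory.standard

namespace Groth.Agent.KExact.PerfShriek

open KFlatLib H9Misc

variable {U : Scheme.{u}}

set_option quotPrecheck false in
local notation "O₀[" X "]" => (HomologicalComplex.single (Scheme.Modules X) (ComplexShape.up ℤ) 0).obj
  (Coh.structureModule X)

/-- Derived internal Hom exists. -/
theorem hasRSheafHom (K : CochainComplex U.Modules ℤ) [DCoh.HasLTensorCx K] : DCoh.HasRSheafHom K := by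
  let P := (kRes U).obj K
  haveI := hasLTensorCx P
  haveI := hasRSheafHom_of_isKFlat P (isKFlat_kRes K)
  obtain ⟨c⟩ := nonempty_LTensorCx_congr_D (P := P) (E := K) ((resQIso U).app K)
  exact ((DCoh.RSheafHomAdj P).ofNatIsoLeft c).isLeftAdjoint

/-- `O ⊗^L K = K`. -/
theorem nonempty_ltensor_unit_obj (K : CochainComplex U.Modules ℤ) [DCoh.HasLTensorCx K] :
    Nonempty ((DCoh.LTensorCx K).obj (DCoh.inD U (Coh.structureModule U)) ≅ DCoh.toD U K) := by
  haveI := hasLTensorCx O₀[U]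
  let sO := (DerivedCategory.singleFunctorIsoCompQ U.Modules 0).app (Coh.structureModule U)
  obtain ⟨s⟩ := nonempty_ltensor_swap O₀[U] K
  obtain ⟨t⟩ := nonempty_LTensorCx_unit O₀[U] sO.symm
  exact ⟨(DCoh.LTensorCx K).mapIso sO ≪≫ s ≪≫ t.app _⟩

/-- A perfect complex is the dual of its dual. -/
theorem nonempty_bidual (K : CochainComplex U.Modules ℤ) (hK : DCoh.IsPerfect (DCoh.toD U K))
    [DCoh.HasLTensorCx K] [DCoh.HasRSheafHom K]
    (D : CochainComplex U.Modules ℤ) [DCoh.HasLTensorCx D] [DCoh.HasRSheafHom D]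
    (eD : DCoh.toD U D ≅ (DCoh.RSheafHom K).obj (DCoh.inD U (Coh.structureModule U))) :
    Nonempty (DCoh.toD U K ≅ (DCoh.RSheafHom D).obj (DCoh.inD U (Coh.structureModule U))) := by
  haveI := hasLTensorCx O₀[U]
  haveI := hasRSheafHom O₀[U]
  let sO := (DerivedCategory.singleFunctorIsoCompQ U.Modules 0).app (Coh.structureModule U)
  obtain ⟨v⟩ := nonempty_RSheafHom_unit (O₀ := O₀[U]) sO (DCoh.toD U O₀[U])
  obtain ⟨t⟩ := nonempty_LTensorCx_unit O₀[U] sO.symm
  obtain ⟨r⟩ := nonempty_RHom_twist K hK O₀[U] (v ≪≫ sO.symm) D (eD ≪≫ (t.app _).symm)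
  exact ⟨r.symm ≪≫ (DCoh.RSheafHom D).mapIso sO.symm⟩

/-- Tensoring with a perfect complex is the internal Hom out of its dual. -/
theorem nonempty_ltensor_iso_RSheafHom_dual (K : CochainComplex U.Modules ℤ) (hK : DCoh.IsPerfect (DCoh.toD U K))
    [DCoh.HasLTensorCx K] [DCoh.HasRSheafHom K]
    (D : CochainComplex U.Modules ℤ) [DCoh.HasLTensorCx D] [DCoh.HasRSheafHom D]
    (eD : DCoh.toD U D ≅ (DCoh.RSheafHom K).obj (DCoh.inD U (Coh.structureModule U))) :
    Nonempty (DCoh.LTensorCx K ≅ DCoh.RSheafHom D) := by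
  obtain ⟨b⟩ := nonempty_bidual K hK D eD
  exact nonempty_ltensor_dual_natIso D (isPerfect_congr eD.symm (isPerfect_RSheafHom_structure K hK)) K b

/-- Yoneda on a full subcategory. -/
theorem nonempty_iso_of_natEquiv {C : Type*} [Category C] (P : ObjectProperty C) {A B : C} (hA : P A) (hB : P B)
    (e : ∀ Z : C, P Z → ((A ⟶ Z) ≃ (B ⟶ Z)))
    (he : ∀ (Z Z' : C) (hZ : P Z) (hZ' : P Z') (x : A ⟶ Z) (g : Z ⟶ Z'), e Z' hZ' (x ≫ g) = e Z hZ x ≫ g) :
    Nonempty (B ≅ A) := by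
  let φ := e A hA (𝟙 A)
  let ψ := (e B hB).symm (𝟙 B)
  have h1 : ∀ (Z : C) (hZ : P Z) (x : A ⟶ Z), e Z hZ x = φ ≫ x := fun Z hZ x => by
    have := he A Z hA hZ (𝟙 A) x
    rwa [Category.id_comp] at this
  have h2 : φ ≫ ψ = 𝟙 B := (h1 B hB ψ).symm.trans ((e B hB).apply_symm_apply _)
  refine ⟨⟨φ, ψ, h2, ?_⟩⟩
  apply (e A hA).injective
  rw [h1, h1, reassoc_of% h2]
  exact (Category.comp_id _).symm

variable {X Y : Scheme.{u}} (f : X ⟶ Y)

/-- Derived pullback commutes with duals of perfect complexes. -/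
theorem nonempty_lpull_dual [QuasiCompact f] [QuasiSeparated f] [DCoh.HasLpull f]
    (K : CochainComplex Y.Modules ℤ) (hK : DCoh.IsPerfect (DCoh.toD Y K))
    [DCoh.HasLTensorCx K] [DCoh.HasRSheafHom K]
    (D : CochainComplex Y.Modules ℤ) [DCoh.HasLTensorCx D]
    (eD : DCoh.toD Y D ≅ (DCoh.RSheafHom K).obj (DCoh.inD Y (Coh.structureModule Y)))
    (N : CochainComplex X.Modules ℤ) [DCoh.HasLTensorCx N] [DCoh.HasRSheafHom N]
    (eN : DCoh.toD X N ≅ (DCoh.Lpull f).obj (DCoh.toD Y D))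
    (hN : DCoh.IsPerfect (DCoh.toD X N)) :
    Nonempty ((DCoh.Lpull f).obj (DCoh.toD Y K) ≅ (DCoh.RSheafHom N).obj (DCoh.inD X (Coh.structureModule X))) := by
  haveI := hasRpush_scheme f
  obtain ⟨A⟩ := nonempty_lpull_rpush_adj f
  obtain ⟨M, ⟨eM⟩⟩ : ∃ M : CochainComplex X.Modules ℤ, Nonempty (DCoh.toD X M ≅
      (DCoh.RSheafHom N).obj (DCoh.inD X (Coh.structureModule X))) :=
    ⟨_, ⟨DerivedCategory.Q.objObjPreimageIso _⟩⟩
  haveI := hasLTensorCx M
  haveI := hasRSheafHom M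
  obtain ⟨θY⟩ := nonempty_ltensor_dual_natIso K hK D eD
  obtain ⟨θX⟩ := nonempty_ltensor_iso_RSheafHom_dual N hN M eM
  obtain ⟨τ, hτ⟩ := ProjNat.exists_projNat f D N ⟨eN⟩
  obtain ⟨uY⟩ := nonempty_ltensor_unit_obj K
  obtain ⟨uX⟩ := nonempty_ltensor_unit_obj M
  obtain ⟨eO⟩ : Nonempty ((DCoh.Lpull f).obj (DCoh.inD Y (Coh.structureModule Y)) ≅
      DCoh.inD X (Coh.structureModule X)) := by
    obtain ⟨e⟩ := nonempty_lpull_unitCx f
    exact ⟨(DCoh.Lpull f).mapIso ((DerivedCategory.singleFunctorIsoCompQ Y.Modules 0).app (Coh.structureModule Y)) ≪≫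
      e.symm ≪≫ ((DerivedCategory.singleFunctorIsoCompQ X.Modules 0).app (Coh.structureModule X)).symm⟩
  have hKd : DCoh.IsQCohD (DCoh.toD Y D) :=
    isQCohD_of_isPerfect (isPerfect_congr eD.symm (isPerfect_RSheafHom_structure K hK))
  have hM : DCoh.IsQCohD ((DCoh.RSheafHom N).obj (DCoh.inD X (Coh.structureModule X))) :=
    isQCohD_of_isPerfect (isPerfect_RSheafHom_structure N hN)
  obtain ⟨w⟩ := nonempty_iso_of_natEquiv (DCoh.IsQCohD (X := X)) (A := (DCoh.Lpull f).obj (DCoh.toD Y K))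
    (B := (DCoh.RSheafHom N).obj (DCoh.inD X (Coh.structureModule X)))
    (isQCohD_lpull f (isQCohD_of_isPerfect hK)) hM
    (fun Z hZ =>
      haveI := hτ hKd Z hZ
      (A.homEquiv _ Z).trans ((Iso.homCongr uY.symm (Iso.refl _)).trans
        (((DCoh.RSheafHomAdj K).homEquiv _ _).trans ((Iso.homCongr (Iso.refl _) ((θY.app _).symm ≪≫
          asIso (τ.app Z))).trans ((A.homEquiv _ _).symm.trans ((Iso.homCongr eO (θX.app Z)).trans
            (((DCoh.RSheafHomAdj M).homEquiv _ _).symm.trans (Iso.homCongr (uX ≪≫ eM) (Iso.refl _)))))))))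
    (fun Z Z' hZ hZ' x g => by
      haveI := hτ hKd Z hZ
      haveI := hτ hKd Z' hZ'
      simp only [Equiv.trans_apply, Iso.homCongr_apply, Iso.refl_hom, Iso.refl_inv, Category.comp_id,
        Category.id_comp, Iso.trans_hom, asIso_hom, Iso.symm_hom, Iso.app_hom, Iso.app_inv]
      rw [A.homEquiv_naturality_right]
      rw [← Category.assoc uY.symm.inv, (DCoh.RSheafHomAdj K).homEquiv_naturality_right]
      have e1 : (DCoh.RSheafHom K).map ((DCoh.Rpush f).map g) ≫ θY.inv.app ((DCoh.Rpush f).obj Z') ≫ τ.app Z' =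
          (θY.inv.app ((DCoh.Rpush f).obj Z) ≫ τ.app Z) ≫ (DCoh.Rpush f).map ((DCoh.LTensorCx N).map g) := by
        rw [NatTrans.naturality_assoc, Category.assoc]
        exact congrArg _ (τ.naturality g)
      rw [Category.assoc, e1, ← Category.assoc (((DCoh.RSheafHomAdj K).homEquiv _ _) _),
        ]
      erw [A.homEquiv_naturality_right_symm]
      have e2 : (DCoh.LTensorCx N).map g ≫ θX.hom.app Z' = θX.hom.app Z ≫ (DCoh.RSheafHom M).map g :=
        θX.hom.naturality g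
      simp only [Category.assoc]
      rw [e2]
      simp only [← Category.assoc]
      rw [(DCoh.RSheafHomAdj M).homEquiv_naturality_right_symm]
      simp only [Category.assoc]
      rfl)
  exact ⟨w.symm⟩

/-- The right adjoint of `Rf_*` commutes with tensoring by a perfect complex. -/
theorem nonempty_rightAdjoint_tensor [QuasiCompact f] [QuasiSeparated f] [DCoh.HasRpush f]
    (hf : DCoh.RpushPreservesQCoh f) [DCoh.HasLpull f]
    (a : DCoh.DQCoh Y ⥤ DCoh.DQCoh X) (adj : DCoh.RpushQ f hf ⊣ a)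
    (K L : DCoh.DQCoh Y) (hK : DCoh.IsPerfect K.obj)
    (K' : CochainComplex Y.Modules ℤ) (eK' : DCoh.toD Y K' ≅ K.obj) [DCoh.HasLTensorCx K']
    (hKL : DCoh.IsQCohD ((DCoh.LTensorCx K').obj L.obj))
    (E : CochainComplex X.Modules ℤ) (eE : DCoh.toD X E ≅ (a.obj L).obj) [DCoh.HasLTensorCx E] :
    Nonempty ((a.obj ⟨(DCoh.LTensorCx K').obj L.obj, hKL⟩).obj ≅
      (DCoh.LTensorCx E).obj ((DCoh.Lpull f).obj K.obj)) := by
  have hK' : DCoh.IsPerfect (DCoh.toD Y K') := isPerfect_congr eK'.symm hK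
  haveI := hasRSheafHom K'
  obtain ⟨D, ⟨eD⟩⟩ : ∃ D : CochainComplex Y.Modules ℤ, Nonempty (DCoh.toD Y D ≅
      (DCoh.RSheafHom K').obj (DCoh.inD Y (Coh.structureModule Y))) :=
    ⟨_, ⟨DerivedCategory.Q.objObjPreimageIso _⟩⟩
  haveI := hasLTensorCx D
  haveI := hasRSheafHom D
  have hD : DCoh.IsPerfect (DCoh.toD Y D) := isPerfect_congr eD.symm (isPerfect_RSheafHom_structure K' hK')
  obtain ⟨θ⟩ := nonempty_ltensor_iso_RSheafHom_dual K' hK' D eD
  obtain ⟨N, ⟨eN⟩⟩ : ∃ N : CochainComplex X.Modules ℤ, Nonempty (DCoh.toD X N ≅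
      (DCoh.Lpull f).obj (DCoh.toD Y D)) := ⟨_, ⟨DerivedCategory.Q.objObjPreimageIso _⟩⟩
  haveI := hasLTensorCx N
  haveI := hasRSheafHom N
  have hN : DCoh.IsPerfect (DCoh.toD X N) := isPerfect_congr eN.symm (isPerfect_lpull f hD)
  obtain ⟨w⟩ := nonempty_lpull_dual f K' hK' D eD N eN hN
  obtain ⟨M, ⟨eM⟩⟩ : ∃ M : CochainComplex X.Modules ℤ, Nonempty (DCoh.toD X M ≅
      (DCoh.Lpull f).obj K.obj) := ⟨_, ⟨DerivedCategory.Q.objObjPreimageIso _⟩⟩
  haveI := hasLTensorCx M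
  obtain ⟨θX⟩ := nonempty_ltensor_dual_natIso N hN M (eM ≪≫ (DCoh.Lpull f).mapIso eK'.symm ≪≫ w)
  have hq : DCoh.IsQCohD ((DCoh.RSheafHom D).obj L.obj) := isQCohD_of_iso (θ.app _) hKL
  obtain ⟨r⟩ := ShriekHom.nonempty_rightAdjoint_RSheafHom f hf a adj D (isQCohD_of_isPerfect hD) L hq N
    ⟨eN⟩ (isQCohD_RSheafHom_of_isPerfect N hN _ (a.obj L).property)
  obtain ⟨s⟩ := nonempty_ltensor_swap E M
  let m : (⟨(DCoh.LTensorCx K').obj L.obj, hKL⟩ : DCoh.DQCoh Y) ≅ ⟨(DCoh.RSheafHom D).obj L.obj, hq⟩ :=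
    ObjectProperty.isoMk _ (θ.app _)
  exact ⟨(ObjectProperty.ι _).mapIso (a.mapIso m) ≪≫ r ≪≫ (θX.app _).symm ≪≫
    (DCoh.LTensorCx M).mapIso eE.symm ≪≫ s ≪≫ (DCoh.LTensorCx E).mapIso eM⟩

end Groth.Agent.KExact.PerfShriek
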