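import Groth.Agent.KExact.Exact
import Groth.Agent.KFlatLib.Scheme.ProjFormula
import Groth.Agent.KFlatLib.Scheme.ProjAffineFlat

/-!
# `G ↦ H^p(Rf_*(Lf^* G ⊗^L F))` through the projection formula
-/

set_option autoImplicit false
set_option linter.style.haveILetI false
set_option backward.isDefEq.respectTransparency false
set_option backward.isDefEq.respectTransparency.types false

universe u

open CategoryTheory CategoryTheory.Limits AlgebraicGeometry

attribute [local instance] HasDerivedCategory.standard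

namespace Groth.Agent.KExact

open KFlatLib

variable {X Y : Scheme.{u}} (f : X ⟶ Y)

/-- `Lf^*(-) ⊗^L F` as a lift of `P ↦ I ⊗ f^*P`. -/
lemma nonempty_lpullTensorIso [DCoh.HasLpull f] {F I : CochainComplex X.Modules ℤ}
    (e : DerivedCategory.Q.obj F ≅ DerivedCategory.Q.obj I) [DCoh.HasLTensorCx F] :
    Nonempty (DerivedCategory.Q ⋙ DCoh.Lpull f ⋙ DCoh.LTensorCx F ≅
      DerivedCategory.Q ⋙ projH f I) := by
  haveI := hasLTensorCx I
  obtain ⟨c⟩ := nonempty_LTensorCx_congr_D (P := F) (E := I) e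
  let W := kRes Y ⋙ pullCx f
  let ε := (DCoh.tensorCxQ I).totalLeftDerivedCounit DerivedCategory.Q (qisX X)
  haveI : ∀ K, IsIso ((Functor.whiskerLeft W ε).app K) := fun K =>
    isIso_LTensorCx_counit I (isKFlat_pullback f (isKFlat_kRes K))
  haveI := NatIso.isIso_of_isIso_app (Functor.whiskerLeft W ε)
  exact ⟨(Functor.associator _ _ _).symm ≪≫
    Functor.isoWhiskerRight (lpullResIso f ≪≫ (Functor.associator _ _ _).symm) (DCoh.LTensorCx F) ≪≫
    Functor.associator _ _ _ ≪≫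
    Functor.isoWhiskerLeft W (Functor.isoWhiskerLeft DerivedCategory.Q c) ≪≫
    asIso (Functor.whiskerLeft W ε) ≪≫
    Functor.isoWhiskerLeft W (Functor.isoWhiskerRight (symmIso (tensorBiFlipIso X) I) DerivedCategory.Q) ≪≫
    (kLiftFac (kRespects_pullTensor f I)).symm⟩

/-- `- ⊗ R` for K-flat `R` as a lift. -/
lemma nonempty_tensorIso {R : CochainComplex Y.Modules ℤ} (hR : DCoh.IsKFlat R) :
    Nonempty (DerivedCategory.Q ⋙ projF R ≅ DCoh.tensorCx.obj R ⋙ DerivedCategory.Q) := by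
  let β := Functor.whiskerRight (flatCover Y).ψ (DCoh.tensorCx.obj R ⋙ DerivedCategory.Q)
  haveI : ∀ K, IsIso (β.app K) := fun K => by
    haveI := (flatCover Y).quasiIso_ψ K
    exact isIso_Q_map _ (KFlat.quasiIso_map' (tensorBiFlipIso Y) hR ((flatCover Y).ψ.app K))
  haveI := NatIso.isIso_of_isIso_app β
  exact ⟨kLiftFac (kRespects_tensor R) ≪≫ asIso β ≪≫ Functor.leftUnitor _⟩

variable [QuasiCompact f] [QuasiSeparated f]

/-- The functor is computed by a K-flat complex with flat terms representing `Rf_* F`. -/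
theorem exists_psiRelIso (F : CochainComplex X.Modules ℤ) (hF : DCoh.IsQCohD (DCoh.toD X F))
    [DCoh.HasLpull f] [DCoh.HasLTensorCx F] [DCoh.HasRpush f] :
    ∃ R : CochainComplex Y.Modules ℤ, DCoh.IsKFlat R ∧ (∀ n, FlatMod.IsFlat (R.X n)) ∧
      Nonempty (DerivedCategory.Q.obj R ≅ (DCoh.Rpush f).obj (DCoh.toD X F)) ∧
      ∀ p : ℤ, Nonempty ((QCohCat.isQCoh Y).ι ⋙ DerivedCategory.singleFunctor Y.Modules 0 ⋙ DCoh.Lpull f ⋙
        DCoh.LTensorCx F ⋙ DCoh.Rpush f ⋙ DerivedCategory.homologyFunctor Y.Modules p ≅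
          (QCohCat.isQCoh Y).ι ⋙ psi R p) := by
  obtain ⟨I, _, _, ⟨eE⟩⟩ := exists_kInjective_rep (DCoh.toD X F)
  let R := (kRes Y).obj ((pushCxF f).obj I)
  let a : R ⟶ (pushCxF f).obj I := (flatCover Y).ψ.app _
  haveI : QuasiIso a := (flatCover Y).quasiIso_ψ _
  haveI := isIso_Q_map a inferInstance
  have hR : DCoh.IsKFlat R := isKFlat_kRes _
  have hI : DCoh.IsQCohD (DerivedCategory.Q.obj I) := isQCohD_of_iso eE hF
  obtain ⟨eI⟩ := nonempty_rpush_iso_of_kInjective (f := f) (I := I) (Iso.refl _)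
  refine ⟨R, hR, isFlat_kRes _, ⟨asIso (DerivedCategory.Q.map a) ≪≫ eI.symm ≪≫
    ((DCoh.Rpush f).mapIso eE).symm⟩, fun p => ?_⟩
  obtain ⟨α⟩ := nonempty_lpullTensorIso f (F := F) (I := I) eE
  obtain ⟨β⟩ := nonempty_tensorIso hR
  let s := HomologicalComplex.single Y.Modules (ComplexShape.up ℤ) 0
  let S := (QCohCat.isQCoh Y).ι ⋙ s ⋙ DerivedCategory.Q
  haveI : ∀ G, IsIso ((Functor.whiskerLeft S (projθ f I a)).app G) := fun G =>
    isIso_projθ f I a hR hI (s.obj G.obj) (isQCohD_of_iso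
      ((DerivedCategory.singleFunctorIsoCompQ Y.Modules 0).app G.obj) (isQCohD_inD_of_isQCoh G.property))
  haveI := NatIso.isIso_of_isIso_app (Functor.whiskerLeft S (projθ f I a))
  let H := DerivedCategory.homologyFunctor Y.Modules p
  exact ⟨Functor.isoWhiskerLeft _ (Functor.isoWhiskerRight
      (DerivedCategory.singleFunctorIsoCompQ Y.Modules 0)
      (DCoh.Lpull f ⋙ DCoh.LTensorCx F ⋙ DCoh.Rpush f ⋙ H)) ≪≫
    Functor.isoWhiskerLeft ((QCohCat.isQCoh Y).ι ⋙ s) (Functor.isoWhiskerRight α (DCoh.Rpush f ⋙ H)) ≪≫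
    Functor.isoWhiskerRight (asIso (Functor.whiskerLeft S (projθ f I a))).symm H ≪≫
    Functor.isoWhiskerLeft ((QCohCat.isQCoh Y).ι ⋙ s) (Functor.isoWhiskerRight β H ≪≫
      Functor.associator _ _ _ ≪≫
      Functor.isoWhiskerLeft _ (DerivedCategory.homologyFunctorFactors Y.Modules p)) ≪≫
    Functor.isoWhiskerLeft (QCohCat.isQCoh Y).ι (Functor.isoWhiskerRight
      (NatIso.ofComponents (fun G => (singleIso (DCoh.tensorBi (X := Y)) G).app R)
        (fun g => singleIso_naturality (DCoh.tensorBi (X := Y)) R g) :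
          s ⋙ DCoh.tensorCx.obj R ≅ tenR R)
      (HomologicalComplex.homologyFunctor Y.Modules (ComplexShape.up ℤ) p))⟩

end Groth.Agent.KExact
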