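import Groth.Agent.KExact.ProjPush
import Groth.Agent.FlatG.Pn
import Groth.Agent.H9Misc.RelExtTwistVanish
import Groth.Agent.QCoh.Bound
import Groth.Agent.KSixRel.AmpSmoothSch

/-!
# Cohomological dimension of projective space over an affine base
-/

set_option autoImplicit false
set_option linter.style.haveILetI false
set_option backward.isDefEq.respectTransparency false
set_option backward.isDefEq.respectTransparency.types false

universe u

open CategoryTheory CategoryTheory.Limits AlgebraicGeometry TopologicalSpace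

attribute [local instance] HasDerivedCategory.standard

namespace Groth.Agent.KExact.ProjBound

open KFlatLib RelPC17 ProjPush Groth.Agent.H28.KRRTw

variable {Y : Scheme.{u}} [IsAffine Y]

/-- Higher direct images from `P^r` to an affine base vanish above `r`. -/
theorem isZero_Rpush (r : ℕ) [HasInjectiveResolutions (CohB1.ProjSpaceOver r Y).Modules]
    (M : (CohB1.ProjSpaceOver r Y).Modules) (hM : Coh.IsQCoh M) (p : ℕ) (hp : r < p) :
    IsZero ((Coh.Rpush (CohB1.ProjSpaceOver.toBase r Y) p).obj M) := by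
  obtain ⟨q, rfl⟩ : ∃ q, p = q + 1 := ⟨p - 1, by omega⟩
  refine H9Misc.RelExtTwistVanish.isZero_Rpush_of_RpushAb _ M q ?_
  let π := CohB1.ProjSpaceOver.toBase r Y
  let D : Fin (r + 1) → (CohB1.ProjSpaceOver r Y).Opens := fun i => toPn r Y ⁻¹ᵁ
    PnCoh.Finite.D (CohB1.polyGrading r (ULift.{u} ℤ)) (H28.KRRReg.crd.{u} r ⟨i⟩)
  haveI : IsAffineHom (toPn r Y) := by
    haveI : ∀ g : Y ⟶ Spec (CommRingCat.of (ULift.{u} ℤ)), IsAffineHom g := fun g => inferInstance
    exact MorphismProperty.pullback_fst (P := @IsAffineHom) _ _ inferInstance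
  have hD : ∀ i, IsAffineOpen (D i) := fun i =>
    (Proj.isAffineOpen_basicOpen _ _ (H28.KRRReg.crd_mem ⟨i⟩) Nat.one_pos).preimage _
  haveI : (CohB1.ProjSpaceOver r Y).IsSeparated := ⟨by
    rw [show terminal.from (CohB1.ProjSpaceOver r Y) = π ≫ terminal.from Y from Subsingleton.elim _ _]
    infer_instance⟩
  refine QCoh.Ab.Rpush_isZero_of_bound π.base (fun W => ∃ b : Γ(Y, ⊤), W = Y.basicOpen b) ?_ r
    (QCoh.abSheaf M) ?_ (q + 1) (by omega)
  · intro U y hy
    obtain ⟨b, hb, hyb⟩ := (isAffineOpen_top Y).exists_basicOpen_le (V := U) ⟨y, hy⟩ trivial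
    exact ⟨Y.basicOpen b, hb, hyb, b, rfl⟩
  · rintro W ⟨b, rfl⟩ n hn
    let V : (CohB1.ProjSpaceOver r Y).Opens := π ⁻¹ᵁ Y.basicOpen b
    have hU : ∀ i, IsAffineOpen (D i ⊓ V) := fun i => by
      have : D i ⊓ V = (CohB1.ProjSpaceOver r Y).basicOpen
          ((CohB1.ProjSpaceOver r Y).presheaf.map (homOfLE (le_top : D i ≤ π ⁻¹ᵁ ⊤)).op (π.app ⊤ b)) := by
        rw [Scheme.basicOpen_res, ← Scheme.preimage_basicOpen]
      rw [this]
      exact (hD i).basicOpen _
    have h := QCoh.subsingleton_HU_iSup hM IsAffineOpen (fun _ h => h) (fun _ _ hV hW => hV.inf hW)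
      (r + 1) (fun i => D i ⊓ V) hU n hn
    have hsup : (⨆ i, D i ⊓ V) = V := by
      refine le_antisymm (iSup_le fun i => inf_le_right) fun x hx => ?_
      obtain ⟨i, hi⟩ := Opens.mem_iSup.1 ((H28.KRRReg.crd_cover.{u} (n := r)).ge
        (trivial : toPn r Y x ∈ (⊤ : Opens (CohB1.ProjSpace r (ULift.{u} ℤ)))))
      exact Opens.mem_iSup.2 ⟨i.down, hi, hx⟩
    rw [hsup] at h
    exact h

/-- Direct images from `P^r` raise the amplitude by at most `r`. -/
theorem isLE_rpush (r : ℕ) [DCoh.HasRpush (CohB1.ProjSpaceOver.toBase r Y)]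
    (E : DCoh.D (CohB1.ProjSpaceOver r Y)) (hq : DCoh.IsQCohD E) (a b : ℤ) [E.IsGE b] [E.IsLE a] :
    ((DCoh.Rpush (CohB1.ProjSpaceOver.toBase r Y)).obj E).IsLE (a + r) :=
  (DerivedCategory.isLE_iff _ _).2 fun i hi =>
    isZero_hd_rpush_range (CohB1.ProjSpaceOver.toBase r Y) r (fun M hM p hp => isZero_Rpush r M hM p hp)
      b a E hq (fun j hj => hj.elim ((DerivedCategory.isGE_iff E b).1 inferInstance j)
        ((DerivedCategory.isLE_iff E a).1 inferInstance j)) i (Or.inr hi)

end Groth.Agent.KExact.ProjBound
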