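import Groth.Agent.KFlatLib.Scheme.ProjFormula
import Groth.Agent.KFlatLib.Scheme.QCohDerived
import Groth.Agent.KFlatLib.Scheme.LpullComp
import Groth.Agent.KFlatLib.Scheme.DualPerfect
import Groth.Agent.KExact.DualConn
import Groth.Agent.PnCoh.Unit
import Groth.Agent.KFlatLib.Scheme.ProjAffineFlat

/-!
# `Rf_* Lf^* = - ⊗^L Rf_* O`, naturally on `D_QCoh`
-/

set_option autoImplicit false
set_option linter.style.haveILetI false
set_option linter.unusedSectionVars false
set_option backward.isDefEq.respectTransparency false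
set_option backward.isDefEq.respectTransparency.types false

universe u

open CategoryTheory CategoryTheory.Limits AlgebraicGeometry

attribute [local instance] HasDerivedCategory.standard

namespace Groth.Agent.KExact.ProjDown

open KFlatLib

variable {X Y : Scheme.{u}} (f : X ⟶ Y)

/-- `R ⊗^L -` is `- ⊗^L R`. -/
theorem nonempty_projF_iso (R : CochainComplex Y.Modules ℤ) [DCoh.HasLTensorCx R] :
    Nonempty (projF R ≅ DCoh.LTensorCx R) := by
  let c := (DCoh.tensorCxQ R).totalLeftDerivedCounit DerivedCategory.Q (qisX Y)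
  haveI : ∀ K, IsIso ((Functor.whiskerLeft (kRes Y) c).app K) := fun K =>
    isIso_LTensorCx_counit R (isKFlat_kRes K)
  haveI : ∀ K, IsIso ((Functor.whiskerRight (Functor.whiskerRight (flatCover Y).ψ DerivedCategory.Q)
      (DCoh.LTensorCx R)).app K) := fun K =>
    haveI := isIso_Q_map _ ((flatCover Y).quasiIso_ψ K)
    inferInstanceAs (IsIso ((DCoh.LTensorCx R).map (DerivedCategory.Q.map ((flatCover Y).ψ.app K))))
  haveI := NatIso.isIso_of_isIso_app (Functor.whiskerLeft (kRes Y) c)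
  haveI := NatIso.isIso_of_isIso_app (Functor.whiskerRight
    (Functor.whiskerRight (flatCover Y).ψ DerivedCategory.Q) (DCoh.LTensorCx R))
  letI : Localization.Lifting DerivedCategory.Q (qisX Y) (DerivedCategory.Q ⋙ projF R) (projF R) :=
    ⟨Iso.refl _⟩
  letI : Localization.Lifting DerivedCategory.Q (qisX Y) (DerivedCategory.Q ⋙ DCoh.LTensorCx R)
      (DCoh.LTensorCx R) := ⟨Iso.refl _⟩
  exact ⟨Localization.liftNatIso DerivedCategory.Q (qisX Y) (DerivedCategory.Q ⋙ projF R)
    (DerivedCategory.Q ⋙ DCoh.LTensorCx R) _ _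
    (kLiftFac (kRespects_tensor R) ≪≫
      Functor.isoWhiskerLeft (kRes Y) (Functor.isoWhiskerRight
        (symmIso (tensorBiFlipIso Y) R).symm DerivedCategory.Q) ≪≫
      (asIso (Functor.whiskerLeft (kRes Y) c)).symm ≪≫
      asIso (Functor.whiskerRight (Functor.whiskerRight (flatCover Y).ψ DerivedCategory.Q)
        (DCoh.LTensorCx R)))⟩

/-- `I ⊗^L Lf^* -` is `Lf^*` for a resolution `I` of `O_X`. -/
theorem nonempty_projH_iso [DCoh.HasLpull f] (I : CochainComplex X.Modules ℤ)
    (v : (HomologicalComplex.single X.Modules (ComplexShape.up ℤ) 0).obj (Coh.structureModule X) ⟶ I)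
    [QuasiIso v] : Nonempty (projH f I ≅ DCoh.Lpull f) := by
  obtain ⟨u⟩ := DualConn.nonempty_unitTensorIso X
  let O := (HomologicalComplex.single X.Modules (ComplexShape.up ℤ) 0).obj (Coh.structureModule X)
  let α : kRes Y ⋙ pullCx f ⋙ DCoh.tensorCx.obj O ⋙ DerivedCategory.Q ⟶
      kRes Y ⋙ pullCx f ⋙ DCoh.tensorCx.obj I ⋙ DerivedCategory.Q :=
    Functor.whiskerLeft (kRes Y) (Functor.whiskerLeft (pullCx f)
      (Functor.whiskerRight (DCoh.tensorCx.map v) DerivedCategory.Q))
  haveI : ∀ K, IsIso (α.app K) := fun K => by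
    let N := (pullCx f).obj ((kRes Y).obj K)
    have hN : DCoh.IsKFlat N := isKFlat_pullback f (isKFlat_kRes K)
    haveI : QuasiIso ((DCoh.tensorCx.map v).app N) := by
      have h := KFlat.quasiIso_map' (tensorBiFlipIso X) hN v
      exact (quasiIso_iff_of_arrow_mk_iso ((DCoh.tensorCx.map v).app N) ((DCoh.tensorCx.obj N).map v)
        (((Functor.mapArrowFunctor _ _).mapIso (symmIso (tensorBiFlipIso X) N)).app (Arrow.mk v))).2 h
    exact isIso_Q_map ((DCoh.tensorCx.map v).app N) inferInstance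
  haveI := NatIso.isIso_of_isIso_app α
  haveI : ∀ K, IsIso ((Functor.whiskerLeft (kRes Y) (lpullComparison f)).app K) := fun K =>
    isIso_lpullComparison f (isKFlat_kRes K)
  haveI : ∀ K, IsIso ((Functor.whiskerRight (Functor.whiskerRight (flatCover Y).ψ DerivedCategory.Q)
      (DCoh.Lpull f)).app K) := fun K =>
    haveI := isIso_Q_map _ ((flatCover Y).quasiIso_ψ K)
    inferInstanceAs (IsIso ((DCoh.Lpull f).map (DerivedCategory.Q.map ((flatCover Y).ψ.app K))))
  haveI := NatIso.isIso_of_isIso_app (Functor.whiskerLeft (kRes Y) (lpullComparison f))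
  haveI := NatIso.isIso_of_isIso_app (Functor.whiskerRight
    (Functor.whiskerRight (flatCover Y).ψ DerivedCategory.Q) (DCoh.Lpull f))
  letI : Localization.Lifting DerivedCategory.Q (qisX Y) (DerivedCategory.Q ⋙ projH f I) (projH f I) :=
    ⟨Iso.refl _⟩
  letI : Localization.Lifting DerivedCategory.Q (qisX Y) (DerivedCategory.Q ⋙ DCoh.Lpull f)
      (DCoh.Lpull f) := ⟨Iso.refl _⟩
  exact ⟨Localization.liftNatIso DerivedCategory.Q (qisX Y) (DerivedCategory.Q ⋙ projH f I)
    (DerivedCategory.Q ⋙ DCoh.Lpull f) _ _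
    (kLiftFac (kRespects_pullTensor f I) ≪≫ (asIso α).symm ≪≫
      Functor.isoWhiskerLeft (kRes Y) (Functor.isoWhiskerLeft (pullCx f)
        (Functor.isoWhiskerRight u DerivedCategory.Q ≪≫ Functor.leftUnitor _)) ≪≫
      (asIso (Functor.whiskerLeft (kRes Y) (lpullComparison f))).symm ≪≫
      asIso (Functor.whiskerRight (Functor.whiskerRight (flatCover Y).ψ DerivedCategory.Q)
        (DCoh.Lpull f)))⟩

/-- The natural projection formula for `O_X`. -/
theorem nonempty_lpull_rpush_iso [QuasiCompact f] [QuasiSeparated f] [DCoh.HasRpush f] [DCoh.HasLpull f]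
    (E : CochainComplex Y.Modules ℤ)
    (eE : DCoh.toD Y E ≅ (DCoh.Rpush f).obj (DCoh.inD X (Coh.structureModule X)))
    [DCoh.HasLTensorCx E] :
    Nonempty (ObjectProperty.ι (DCoh.IsQCohD (X := Y)) ⋙ DCoh.Lpull f ⋙ DCoh.Rpush f ≅
      ObjectProperty.ι (DCoh.IsQCohD (X := Y)) ⋙ DCoh.LTensorCx E) := by
  obtain ⟨I, _, _, ⟨eI⟩⟩ := exists_kInjective_rep (DCoh.inD X (Coh.structureModule X))
  let eO : DerivedCategory.Q.obj ((HomologicalComplex.single X.Modules (ComplexShape.up ℤ) 0).obj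
      (Coh.structureModule X)) ≅ DerivedCategory.Q.obj I :=
    ((DerivedCategory.singleFunctorIsoCompQ X.Modules 0).app _).symm ≪≫ eI
  obtain ⟨v, hv⟩ := exists_Q_map eO.hom
  haveI : QuasiIso v := (DerivedCategory.isIso_Q_map_iff_quasiIso _ _).1 (hv ▸ inferInstance)
  let R := (kRes Y).obj ((pushCxF f).obj I)
  let a : R ⟶ (pushCxF f).obj I := (flatCover Y).ψ.app _
  haveI : QuasiIso a := (flatCover Y).quasiIso_ψ _
  haveI := isIso_Q_map a inferInstance
  have hR : DCoh.IsKFlat R := isKFlat_kRes _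
  have hI : DCoh.IsQCohD (DerivedCategory.Q.obj I) :=
    isQCohD_of_iso eI (isQCohD_inD_of_isQCoh (PnCoh.isQCoh_structureModule X))
  haveI := hasLTensorCx R
  obtain ⟨eP⟩ := nonempty_rpush_iso_of_kInjective (f := f) (I := I) (Iso.refl _)
  obtain ⟨cE⟩ := nonempty_LTensorCx_congr_D (P := R) (E := E)
    (asIso (DerivedCategory.Q.map a) ≪≫ eP.symm ≪≫ (DCoh.Rpush f).mapIso eI.symm ≪≫ eE.symm)
  obtain ⟨eF⟩ := nonempty_projF_iso R
  obtain ⟨eH⟩ := nonempty_projH_iso f I v
  let θ := Functor.whiskerLeft (ObjectProperty.ι (DCoh.IsQCohD (X := Y))) (projθ f I a)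
  haveI : ∀ T, IsIso (θ.app T) := fun T => by
    let e := DerivedCategory.Q.objObjPreimageIso T.obj
    haveI := isIso_projθ f I a hR hI (DerivedCategory.Q.objPreimage T.obj) (isQCohD_of_iso e.symm T.property)
    exact (NatTrans.isIso_app_iff_of_iso (projθ f I a) e).1 inferInstance
  haveI := NatIso.isIso_of_isIso_app θ
  exact ⟨(asIso θ ≪≫ Functor.isoWhiskerLeft _ (Functor.isoWhiskerRight eH (DCoh.Rpush f))).symm ≪≫
    Functor.isoWhiskerLeft _ (eF ≪≫ cE)⟩

end Groth.Agent.KExact.ProjDown
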