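import Groth.Agent.KFlatLib.Scheme.ProjFormula

/-!
# The projection formula, naturally in the object upstairs
-/

set_option linter.style.haveILetI false
set_option backward.isDefEq.respectTransparency false
set_option backward.isDefEq.respectTransparency.types false

universe u

open CategoryTheory CategoryTheory.Limits AlgebraicGeometry

attribute [local instance] HasDerivedCategory.standard

namespace Groth.Agent.KExact.ProjNat

open Groth.Agent.KFlatLib

variable {X Y : Scheme.{u}}

/-- A natural transformation on complexes, invertible source comparison at K-injective complexes,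
descends to the derived category. -/
theorem exists_descend {B : Type*} [Category B] (F G : DCoh.D X ⥤ B)
    {H : CochainComplex X.Modules ℤ ⥤ B} (u : H ⟶ DerivedCategory.Q ⋙ F)
    (hu : ∀ I : CochainComplex X.Modules ℤ, I.IsKInjective → IsIso (u.app I))
    (S : H ⟶ DerivedCategory.Q ⋙ G) :
    ∃ τ : F ⟶ G, ∀ (I : CochainComplex X.Modules ℤ), I.IsKInjective →
      u.app I ≫ τ.app (DerivedCategory.Q.obj I) = S.app I := by
  choose I hI _ he using fun E : DCoh.D X => exists_kInjective_rep E
  let e : ∀ E, E ≅ DerivedCategory.Q.obj (I E) := fun E => (he E).some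
  have key : ∀ (J J' : CochainComplex X.Modules ℤ) (hJ : J.IsKInjective) (hJ' : J'.IsKInjective)
      (φ : DerivedCategory.Q.obj J ⟶ DerivedCategory.Q.obj J'),
      haveI := hu J hJ
      haveI := hu J' hJ'
      F.map φ ≫ inv (u.app J') ≫ S.app J' = inv (u.app J) ≫ S.app J ≫ G.map φ := by
    intro J J' hJ hJ' φ
    haveI := hu J hJ
    haveI := hu J' hJ'
    haveI := hJ'
    obtain ⟨g, rfl⟩ := exists_Q_map φ
    rw [IsIso.eq_inv_comp]
    have h1 := u.naturality g
    have h2 := S.naturality g
    simp only [Functor.comp_map] at h1 h2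
    rw [← reassoc_of% h1, IsIso.hom_inv_id_assoc]
    exact h2
  haveI : ∀ E, IsIso (u.app (I E)) := fun E => hu _ (hI E)
  refine ⟨{ app := fun E => F.map (e E).hom ≫ inv (u.app (I E)) ≫ S.app (I E) ≫ G.map (e E).inv
            naturality := fun E E' φ => ?_ }, fun J hJ => ?_⟩
  · let ψ := (e E).inv ≫ φ ≫ (e E').hom
    have hφ : F.map φ ≫ F.map (e E').hom = F.map (e E).hom ≫ F.map ψ := by
      rw [← F.map_comp, ← F.map_comp, Iso.hom_inv_id_assoc]
    have hψ : G.map ψ ≫ G.map (e E').inv = G.map (e E).inv ≫ G.map φ := by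
      rw [← G.map_comp, ← G.map_comp]
      simp [ψ]
    simp only [Category.assoc]
    rw [reassoc_of% hφ, reassoc_of% (key _ _ (hI E) (hI E') ψ), hψ]
  · haveI := hu J hJ
    have h := key J _ hJ (hI _) (e (DerivedCategory.Q.obj J)).hom
    simp only [← Category.assoc] at h
    have h' := congrArg (fun t => u.app J ≫ t ≫ G.map (e (DerivedCategory.Q.obj J)).inv) h
    simp only [Category.assoc, ← G.map_comp, Iso.hom_inv_id, CategoryTheory.Functor.map_id,
      Category.comp_id, IsIso.hom_inv_id_assoc] at h'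
    exact h'.trans (Category.comp_id _)

variable (f : X ⟶ Y) (P : CochainComplex Y.Modules ℤ)

/-- The comparison of `flip P` and pullback. -/
noncomputable def pullFlipIso : pullCx f ⋙ DCoh.tensorCx.flip.obj ((pullCx f).obj P) ≅
    DCoh.tensorCx.flip.obj P ⋙ pullCx f :=
  totalMapNatIso (pullTensorBiIso f) P

/-- The projection map, natural in the complex upstairs. -/
noncomputable def projNat : pushCxF f ⋙ DCoh.tensorCx.flip.obj P ⟶
    DCoh.tensorCx.flip.obj ((pullCx f).obj P) ⋙ pushCxF f :=
  mateEquiv (pullPushCxAdj f) (pullPushCxAdj f) (pullFlipIso f P).inv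

variable {R : CochainComplex Y.Modules ℤ} (I : CochainComplex X.Modules ℤ)
  (a : R ⟶ (pushCxF f).obj I)

lemma projCx_eq : projCx f R I a P = (DCoh.tensorCx.map a).app P ≫ (projNat f P).app I := by
  have h : (projNat f P).app I = projCx f ((pushCxF f).obj I) I (𝟙 _) P := by
    simp only [projNat, mateEquiv_apply, projCx, Adjunction.homEquiv_unit, Adjunction.homEquiv_counit,
      Functor.map_comp, CategoryTheory.Functor.map_id, Category.id_comp]
    simp [pullFlipIso, totalMapNatIso]
    rfl
  rw [h]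
  refine Eq.trans ?_ ((pullPushCxAdj f).homEquiv_naturality_left _ _)
  refine congrArg _ ?_
  have hn := (pullFlipIso f P).inv.naturality a
  simp only [Functor.comp_map] at hn
  erw [reassoc_of% hn]
  refine congrArg (_ ≫ ·) ?_
  have e : ((pullPushCxAdj f).homEquiv R I).symm a = (pullCx f).map a ≫
      ((pullPushCxAdj f).homEquiv _ I).symm (𝟙 _) := by
    rw [← (pullPushCxAdj f).homEquiv_naturality_left_symm, Category.comp_id]
  rw [e, Functor.map_comp]
  rfl

/-- The natural projection map, followed by the comparison with `Rf_*`. -/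
noncomputable def projQ [DCoh.HasRpush f] : pushCxF f ⋙ DCoh.tensorCxQ P ⟶
    DCoh.tensorCxQ ((pullCx f).obj P) ⋙ DCoh.Rpush f where
  app I := DerivedCategory.Q.map ((projNat f P).app I) ≫
    (rpushUnit f).app ((DCoh.tensorCx.flip.obj ((pullCx f).obj P)).obj I)
  naturality A B g := by
    have h := congrArg (fun t => DerivedCategory.Q.map t) ((projNat f P).naturality g)
    simp only [Functor.map_comp, Functor.comp_map] at h
    simp only [Functor.comp_map, Category.assoc]
    erw [reassoc_of% h]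
    exact congrArg (_ ≫ ·) ((rpushUnit f).naturality _)

lemma isIso_projQ [DCoh.HasRpush f] [QuasiCompact f] [QuasiSeparated f] [I.IsKInjective] (hI : DCoh.IsQCohD (DerivedCategory.Q.obj I))
    (hP : DCoh.IsKFlat P) (hPq : DCoh.IsQCohD (DerivedCategory.Q.obj P)) :
    IsIso ((projQ f P).app I) := by
  let R := (kRes Y).obj ((pushCxF f).obj I)
  let a : R ⟶ (pushCxF f).obj I := (flatCover Y).ψ.app _
  haveI : QuasiIso a := (flatCover Y).quasiIso_ψ _
  have hR : DCoh.IsKFlat R := isKFlat_kRes _
  haveI := isIso_projθ f I a hR hI P hPq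
  haveI := isIso_kLiftε (kRespects_tensor R) hP
  haveI := isIso_kLiftε (kRespects_pullTensor f I) hP
  haveI h1 : IsIso ((projΘ f I a).app P) := by
    haveI : IsIso ((kLiftε (kRespects_tensor R)).app P ≫ (projΘ f I a).app P) := by
      rw [← projθ_comp_ε]
      infer_instance
    exact IsIso.of_isIso_comp_left ((kLiftε (kRespects_tensor R)).app P) _
  haveI : QuasiIso ((DCoh.tensorCx.map a).app P) := S0949.result P hP a
  haveI := isIso_Q_map ((DCoh.tensorCx.map a).app P) inferInstance
  have h2 : (projΘ f I a).app P =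
      DerivedCategory.Q.map ((DCoh.tensorCx.map a).app P) ≫ (projQ f P).app I := by
    simp only [projΘ, projQ]
    rw [projCx_eq, Functor.map_comp, Category.assoc]
    rfl
  haveI : IsIso (DerivedCategory.Q.map ((DCoh.tensorCx.map a).app P) ≫ (projQ f P).app I) := by
    rw [← h2]
    exact h1
  exact IsIso.of_isIso_comp_left (DerivedCategory.Q.map ((DCoh.tensorCx.map a).app P)) _

/-- The projection map on derived categories, for a K-flat complex. -/
theorem exists_projNat_kFlat [DCoh.HasRpush f] [QuasiCompact f] [QuasiSeparated f] (hP : DCoh.IsKFlat P) [DCoh.HasLTensorCx P]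
    [DCoh.HasLTensorCx ((pullCx f).obj P)] :
    ∃ τ : DCoh.Rpush f ⋙ DCoh.LTensorCx P ⟶ DCoh.LTensorCx ((pullCx f).obj P) ⋙ DCoh.Rpush f,
      DCoh.IsQCohD (DerivedCategory.Q.obj P) →
        ∀ E, DCoh.IsQCohD E → IsIso (τ.app E) := by
  let cP := (DCoh.tensorCxQ P).totalLeftDerivedCounit DerivedCategory.Q (qisX Y)
  let cM := (DCoh.tensorCxQ ((pullCx f).obj P)).totalLeftDerivedCounit DerivedCategory.Q (qisX X)
  haveI : ∀ N, IsIso (cP.app N) := isIso_LTensorCx_counit_of_isKFlat_right P hP
  haveI : ∀ N, IsIso (cM.app N) :=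
    isIso_LTensorCx_counit_of_isKFlat_right _ (isKFlat_pullback f hP)
  haveI := NatIso.isIso_of_isIso_app cM
  let u : (pushCxF f ⋙ DerivedCategory.Q) ⋙ DCoh.LTensorCx P ⟶
      DerivedCategory.Q ⋙ DCoh.Rpush f ⋙ DCoh.LTensorCx P :=
    Functor.whiskerRight (rpushUnit f) (DCoh.LTensorCx P) ≫ (Functor.associator _ _ _).hom
  let S : (pushCxF f ⋙ DerivedCategory.Q) ⋙ DCoh.LTensorCx P ⟶
      DerivedCategory.Q ⋙ DCoh.LTensorCx ((pullCx f).obj P) ⋙ DCoh.Rpush f :=
    (Functor.associator _ _ _).hom ≫ Functor.whiskerLeft (pushCxF f) cP ≫ projQ f P ≫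
      Functor.whiskerRight (inv cM) (DCoh.Rpush f) ≫ (Functor.associator _ _ _).hom
  have hu : ∀ I : CochainComplex X.Modules ℤ, I.IsKInjective → IsIso (u.app I) := fun I hI => by
    haveI := isIso_rpushUnit_of_kInjective f I
    simp only [u, NatTrans.comp_app, Functor.whiskerRight_app, Functor.associator_hom_app]
    infer_instance
  obtain ⟨τ, hτ⟩ := exists_descend _ _ u hu S
  refine ⟨τ, fun hPq E hE => ?_⟩
  obtain ⟨I, hI, -, ⟨e⟩⟩ := exists_kInjective_rep E
  haveI := hu I hI
  haveI := isIso_projQ f P I (isQCohD_of_iso e hE) hP hPq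
  haveI hS : IsIso (S.app I) := by
    simp only [S, NatTrans.comp_app, Functor.whiskerRight_app, Functor.associator_hom_app,
      Functor.whiskerLeft_app]
    infer_instance
  haveI : IsIso (u.app I ≫ τ.app (DerivedCategory.Q.obj I)) := by
    rw [hτ I hI]
    exact hS
  haveI := IsIso.of_isIso_comp_left (u.app I) (τ.app (DerivedCategory.Q.obj I))
  exact (NatTrans.isIso_app_iff_of_iso τ e).2 inferInstance

/-- The projection map on derived categories. -/
theorem exists_projNat [DCoh.HasRpush f] [QuasiCompact f] [QuasiSeparated f] [DCoh.HasLpull f] (K : CochainComplex Y.Modules ℤ)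
    [DCoh.HasLTensorCx K] (M : CochainComplex X.Modules ℤ)
    (hM : Nonempty (DCoh.toD X M ≅ (DCoh.Lpull f).obj (DCoh.toD Y K))) [DCoh.HasLTensorCx M] :
    ∃ τ : DCoh.Rpush f ⋙ DCoh.LTensorCx K ⟶ DCoh.LTensorCx M ⋙ DCoh.Rpush f,
      DCoh.IsQCohD (DCoh.toD Y K) → ∀ E, DCoh.IsQCohD E → IsIso (τ.app E) := by
  obtain ⟨eM⟩ := hM
  let P := (kRes Y).obj K
  have hP : DCoh.IsKFlat P := isKFlat_kRes _
  haveI := isIso_Q_map _ ((flatCover Y).quasiIso_ψ K)
  let eP : DerivedCategory.Q.obj P ≅ DerivedCategory.Q.obj K :=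
    asIso (DerivedCategory.Q.map ((flatCover Y).ψ.app K))
  haveI := isIso_Lpull_counit f hP
  haveI := isIso_lpullComparison f hP
  let eM' : DerivedCategory.Q.obj ((pullCx f).obj P) ≅ DerivedCategory.Q.obj M :=
    (asIso ((lpullComparison f).app P)).symm ≪≫ (DCoh.Lpull f).mapIso eP ≪≫ eM.symm
  haveI := hasLTensorCx P
  haveI := hasLTensorCx ((pullCx f).obj P)
  obtain ⟨cK⟩ := nonempty_LTensorCx_congr_D eP
  obtain ⟨cM⟩ := nonempty_LTensorCx_congr_D eM'
  obtain ⟨τ, hτ⟩ := exists_projNat_kFlat f P hP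
  refine ⟨Functor.whiskerLeft _ cK.inv ≫ τ ≫ Functor.whiskerRight cM.hom _, fun hK E hE => ?_⟩
  haveI := hτ (isQCohD_of_iso eP.symm hK) E hE
  simp only [NatTrans.comp_app, Functor.whiskerRight_app, Functor.whiskerLeft_app]
  infer_instance

end Groth.Agent.KExact.ProjNat
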