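import Groth.Agent.KExact.RelPush
import Groth.Agent.KFlatLib.Scheme.LpullComp
import Groth.Agent.KFlatLib.Scheme.StalkTorAmpComp
import Groth.Agent.H9Misc.DRingTor
import Groth.Agent.RelPC17.JacFibre

/-!
# Stalkwise tor amplitude over the base of derived direct images
-/

set_option autoImplicit false
set_option linter.style.haveILetI false
set_option backward.isDefEq.respectTransparency false
set_option backward.isDefEq.respectTransparency.types false

universe u

open CategoryTheory CategoryTheory.Limits AlgebraicGeometry MonoidalCategory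

attribute [local instance] HasDerivedCategory.standard

namespace Groth.Agent.KExact

open KFlatLib

/-- Tor amplitude over a ring, tested by tensor products with flat resolutions of modules. -/
theorem torAmp_of_tensor {A : Type u} [CommRing A] (N : DRing.Cx A) (a b : ℤ)
    (h : ∀ M : ModuleCat.{u} A, ∃ (P : DRing.Cx A) (_ : KFlat (curriedTensor (ModuleCat.{u} A)) P)
      (g : P ⟶ (HomologicalComplex.single (ModuleCat.{u} A) (ComplexShape.up ℤ) 0).obj M) (_ : QuasiIso g),
      ∀ i : ℤ, i < a ∨ b < i →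
        IsZero ((((curriedTensor (ModuleCat.{u} A)).map₂CochainComplex.obj N).obj P).homology i)) :
    DRing.HasTorAmplitudeIn A a b (DRing.toD N) := by
  obtain ⟨R, hR, -, ⟨e⟩⟩ := H9Misc.DRingLTensor.exists_rep (DRing.toD N)
  rw [H9Misc.DRingTor.iff_van hR e]
  intro M i hi
  obtain ⟨P, hP, g, hg, hz⟩ := h M
  haveI := hg
  obtain ⟨Z, s, hs, t, ht⟩ := DerivedCategory.right_fac (C := ModuleCat.{u} A) (X := R) (Y := N) e.hom
  haveI : IsIso (DerivedCategory.Q.map s) := hs
  haveI : IsIso (DerivedCategory.Q.map t) := by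
    have h' : DerivedCategory.Q.map t = DerivedCategory.Q.map s ≫ e.hom := by
      rw [ht, IsIso.hom_inv_id_assoc]
    rw [h']
    infer_instance
  haveI : QuasiIso s := (DerivedCategory.isIso_Q_map_iff_quasiIso _ _).1 inferInstance
  haveI : QuasiIso t := (DerivedCategory.isIso_Q_map_iff_quasiIso _ _).1 inferInstance
  let T := curriedTensor (ModuleCat.{u} A)
  haveI : QuasiIso ((T.map₂CochainComplex.map s).app P) := hP.quasiIso_map s
  haveI : QuasiIso ((T.map₂CochainComplex.map t).app P) := hP.quasiIso_map t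
  haveI : QuasiIso ((T.map₂CochainComplex.obj R).map g) := quasiIso_tensorHom_id g hR
  rw [HomologicalComplex.exactAt_iff_isZero_homology]
  exact (hz i hi).of_iso (((HomologicalComplex.homologyFunctor _ _ i).mapIso ((singleIso T M).app R)).symm ≪≫
    (isoOfQuasiIsoAt ((T.map₂CochainComplex.obj R).map g) i).symm ≪≫
    (isoOfQuasiIsoAt ((T.map₂CochainComplex.map s).app P) i).symm ≪≫
    isoOfQuasiIsoAt ((T.map₂CochainComplex.map t).app P) i)

variable {X Y S : Scheme.{u}}

/-- Stalkwise tor amplitude over the base, tested on derived pullbacks of quasi-coherent modules. -/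
theorem hasTorAmplitude_of_qcoh [QuasiSeparatedSpace S] (q : Y ⟶ S) [DCoh.HasLpull q]
    (F : CochainComplex Y.Modules ℤ) (a b : ℤ)
    (h : ∀ (G : S.Modules), Coh.IsQCoh G → ∀ (M : CochainComplex Y.Modules ℤ)
      (_ : DerivedCategory.Q.obj M ≅ (DCoh.Lpull q).obj (DCoh.inD S G)) [DCoh.HasLTensorCx M]
      (i : ℤ), i < a ∨ b < i → IsZero (DCoh.HD ((DCoh.LTensorCx M).obj (DCoh.toD Y F)) i)) :
    DerSch.HasTorAmplitude q a b F := fun x => by
  refine torAmp_of_tensor _ a b fun N => ?_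
  let s := q.base x
  let G : S.Modules := qcSky s N
  let S₀ := (HomologicalComplex.single S.Modules (ComplexShape.up ℤ) 0).obj G
  let P := (kRes S).obj S₀
  haveI := (flatCover S).quasiIso_ψ S₀
  haveI := isIso_Q_map ((flatCover S).ψ.app S₀) inferInstance
  let C := (pullCx q).obj P
  have hC : DCoh.IsKFlat C := isKFlat_pullback q (isKFlat_kRes S₀)
  haveI := hasLTensorCx C
  let eC : DerivedCategory.Q.obj C ≅ (DCoh.Lpull q).obj (DCoh.inD S G) :=
    (lpullIso q (isKFlat_kRes S₀)).symm ≪≫ (DCoh.Lpull q).mapIso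
      (asIso (DerivedCategory.Q.map ((flatCover S).ψ.app S₀)) ≪≫
        ((DerivedCategory.singleFunctorIsoCompQ S.Modules 0).app G).symm)
  let R := (kRes Y).obj F
  haveI := (flatCover Y).quasiIso_ψ F
  haveI := isIso_Q_map ((flatCover Y).ψ.app F) inferInstance
  haveI : QuasiIso ((DCoh.tensorCx.obj C).map ((flatCover Y).ψ.app F)) :=
    KFlat.quasiIso_map' (tensorBiFlipIso Y) hC _
  haveI := isIso_Q_map ((DCoh.tensorCx.obj C).map ((flatCover Y).ψ.app F)) inferInstance
  let e : (DCoh.LTensorCx C).obj (DCoh.toD Y F) ≅ DerivedCategory.Q.obj ((DCoh.tensorCx.obj F).obj C) :=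
    (DCoh.LTensorCx C).mapIso (asIso (DerivedCategory.Q.map ((flatCover Y).ψ.app F))).symm ≪≫
      ltensorCxIso C (isKFlat_kRes F) ≪≫
      DerivedCategory.Q.mapIso ((symmIso (tensorBiFlipIso Y) C).app R) ≪≫
      asIso (DerivedCategory.Q.map ((DCoh.tensorCx.obj C).map ((flatCover Y).ψ.app F))) ≪≫
      DerivedCategory.Q.mapIso ((symmIso (tensorBiFlipIso Y) C).app F).symm
  haveI : QuasiIso ((stalkCx s).map ((flatCover S).ψ.app S₀)) :=
    inferInstanceAs (QuasiIso (((DerSch.stalkFunctor S s).mapHomologicalComplex (ComplexShape.up ℤ)).map _))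
  let eS : (stalkCx s).obj ((𝟭 (CochainComplex S.Modules ℤ)).obj S₀) ≅
      (HomologicalComplex.single (ModuleCat.{u} (S.presheaf.stalk s)) (ComplexShape.up ℤ) 0).obj N :=
    (HomologicalComplex.singleMapHomologicalComplex (DerSch.stalkFunctor S s) _ 0).app G ≪≫
      (HomologicalComplex.single _ (ComplexShape.up ℤ) 0).mapIso (qcSkyStalkIso s N)
  refine ⟨(stalkCx s).obj P, (kFlat_iff_stalk P).1 (isKFlat_kRes S₀) s,
    (stalkCx s).map ((flatCover S).ψ.app S₀) ≫ eS.hom, inferInstance, fun i hi => ?_⟩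
  obtain ⟨ex⟩ := nonempty_stalkOver_tensor_pull q F P x
  have hz : IsZero (((DCoh.tensorCx.obj F).obj C).homology i) :=
    (h G (isQCoh_qcSky s N) C eC i hi).of_iso
      ((DerivedCategory.homologyFunctor Y.Modules i).mapIso e ≪≫
        (DerivedCategory.homologyFunctorFactors Y.Modules i).app _).symm
  exact (((DerSch.stalkOver q x).map_isZero hz).of_iso
    ((((DCoh.tensorCx.obj F).obj C).sc i).mapHomologyIso (DerSch.stalkOver q x))).of_iso
      ((HomologicalComplex.homologyFunctor _ _ i).mapIso ex).symm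

/-- Stalkwise tor amplitude over the base of a derived direct image. -/
theorem hasTorAmplitude_rpush [QuasiSeparatedSpace S] [QuasiSeparatedSpace Y] (q : Y ⟶ S) (f : X ⟶ Y)
    [QuasiCompact f] [QuasiSeparated f] [DCoh.HasRpush f] (N : ℕ)
    (hN : ∀ M : X.Modules, Coh.IsQCoh M → ∀ p : ℕ, N < p → IsZero ((Coh.Rpush f p).obj M))
    (F : CochainComplex X.Modules ℤ) (hq : DCoh.IsQCohD (DCoh.toD X F)) (a b : ℤ)
    (hF : DerSch.HasTorAmplitude (f ≫ q) a b F) (F' : CochainComplex Y.Modules ℤ)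
    (e : DCoh.toD Y F' ≅ (DCoh.Rpush f).obj (DCoh.toD X F)) :
    DerSch.HasTorAmplitude q a (b + N) F' := by
  haveI := hasLpull f
  haveI := hasLpull q
  haveI := hasLpull (f ≫ q)
  refine hasTorAmplitude_of_qcoh q F' a (b + N) fun G hG M eM _ i hi => ?_
  have hM : DCoh.IsQCohD (DCoh.toD Y M) :=
    isQCohD_of_iso eM.symm (isQCohD_lpull q (isQCohD_inD_of_isQCoh hG))
  let L := (DCoh.Lpull f).obj (DCoh.toD Y M)
  let M' := DerivedCategory.Q.objPreimage L
  let eM' : DerivedCategory.Q.obj M' ≅ L := DerivedCategory.Q.objObjPreimageIso L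
  haveI := hasLTensorCx M'
  obtain ⟨c⟩ := nonempty_lpull_comp f q
  obtain ⟨p⟩ := nonempty_projection_DQCoh f (DCoh.toD X F) hq M hM M' ⟨eM'⟩
  refine IsZero.of_iso ?_ ((DerivedCategory.homologyFunctor Y.Modules i).mapIso
    ((DCoh.LTensorCx M).mapIso e ≪≫ p))
  refine isZero_hd_rpush_range f N hN a b _
    (isQCohD_ltensor M' (isQCohD_of_iso eM'.symm (isQCohD_lpull f hM)) hq) (fun j hj => ?_) i hi
  exact isZero_hd_ltensor_lpull_stalk (f ≫ q) hF G M'
    (eM' ≪≫ (DCoh.Lpull f).mapIso eM ≪≫ c.app (DCoh.inD S G)) j hj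

/-- Stalkwise tor amplitude at a point of an open. -/
theorem torAmpAt_rCx_iff {U : Scheme.{u}} (j : U ⟶ Y) [IsOpenImmersion j] (q : Y ⟶ S)
    (F : CochainComplex Y.Modules ℤ) (v : U) (a b : ℤ) :
    DerSch.HasTorAmplitudeAt q a b F (j.base v) ↔ DerSch.HasTorAmplitudeAt (j ≫ q) a b ((rCx j).obj F) v := by
  let e := DerivedCategory.Q.mapIso ((NatIso.mapHomologicalComplex
    (Scheme.Modules.restrictFunctorIsoPullback j) (ComplexShape.up ℤ)).app F)
  rw [RelPC17.JacFibre.hasTorAmplitudeAt_pullCx_iff j q F v a b]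
  exact ⟨RelPC17.hasTorAmplitudeAt_of_iso _ e.symm, RelPC17.hasTorAmplitudeAt_of_iso _ e⟩

/-- Direct images of relatively perfect objects have locally finite tor amplitude over the base. -/
theorem locFiniteTorAmplitude_rpush [IsLocallyNoetherian S] {p : X ⟶ S} (q : Y ⟶ S) [LocallyOfFiniteType p]
    [LocallyOfFiniteType q] (f : X ⟶ Y) [IsProper f] (w : f ≫ q = p) [DCoh.HasRpush f]
    (F : CochainComplex X.Modules ℤ) (hF : DerSch.IsPerfectRel p F) (F' : CochainComplex Y.Modules ℤ)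
    (e : DCoh.toD Y F' ≅ (DCoh.Rpush f).obj (DCoh.toD X F)) :
    DerSch.LocFiniteTorAmplitude q F' := fun y => by
  haveI : IsLocallyNoetherian X := LocallyOfFiniteType.isLocallyNoetherian p
  haveI : IsLocallyNoetherian Y := LocallyOfFiniteType.isLocallyNoetherian q
  obtain ⟨V, hV, hyV, -⟩ := exists_isAffineOpen_mem_and_subset (X := Y) (x := y) (U := ⊤) trivial
  haveI : IsAffine (V : Scheme.{u}) := hV
  haveI : IsProper (f ∣_ V) := MorphismProperty.of_isPullback (isPullback_morphismRestrict f V).flip inferInstance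
  haveI := hasRpush_scheme (f ∣_ V)
  let W := f ⁻¹ᵁ V
  haveI : CompactSpace W := isCompact_iff_compactSpace.1 (f.isCompact_preimage hV.isCompact)
  have hw : (f ∣_ V) ≫ (V.ι ≫ q) = W.ι ≫ p := by
    rw [← Category.assoc, morphismRestrict_ι, Category.assoc, w]
  have hloc : DerSch.LocFiniteTorAmplitude (W.ι ≫ p) ((rCx W.ι).obj F) := fun v => by
    obtain ⟨U, a, b, hvU, hU⟩ := hF.2 (W.ι.base v)
    exact ⟨W.ι ⁻¹ᵁ U, a, b, hvU, fun v' hv' => (torAmpAt_rCx_iff W.ι p F v' a b).1 (hU _ hv')⟩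
  obtain ⟨a, b, -, hamp⟩ := exists_uniform_torAmp (W.ι ≫ p) hloc
  rw [← hw] at hamp
  obtain ⟨N, hN⟩ := exists_Rpush_bound (f ∣_ V)
  obtain ⟨eR⟩ := nonempty_rpush_restrictD_iso f V
  have hq : DCoh.IsQCohD (DCoh.toD (W : Scheme.{u}) ((rCx W.ι).obj F)) :=
    isQCohD_of_iso ((rhoQ W.ι).app F) (isQCohD_rho W.ι (isCohD_isQCohD (isCohD_of_relAll p hF.1)))
  have key := hasTorAmplitude_rpush (V.ι ≫ q) (f ∣_ V) N (fun M hM n hn => hN M hM n hn.le) _ hq a b hamp
    ((rCx V.ι).obj F')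
    (((rhoQ V.ι).app F').symm ≪≫ (rho V.ι).mapIso e ≪≫ eR.app _ ≪≫
      (DCoh.Rpush (f ∣_ V)).mapIso ((rhoQ W.ι).app F))
  exact ⟨V, a, b + N, hyV, fun y' hy' => (torAmpAt_rCx_iff V.ι q F' ⟨y', hy'⟩ a (b + N)).2 (key ⟨y', hy'⟩)⟩

end Groth.Agent.KExact
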