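import Groth.Agent.RelPC17.Comp
import Groth.Agent.RelPC17.Finite
import Groth.Agent.KSixRel.SpreadRel
import Groth.Agent.KFlatLib.Scheme.ProperFlatPC
import Groth.Agent.KExact.TorPush
import Groth.Agent.KExact.PerfRel
import Groth.Agent.H28.FlatPr
import Groth.Agent.H28.PnFlat
import Groth.Agent.Lib.RegImmExt
import Groth.Prelude.Def_DerSch2
import Groth.Prelude.Def_CohB1
import Mathlib.RingTheory.Flat.Basic

/-!
# Projective morphisms preserve relative pseudo-coherence over any base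
-/

set_option autoImplicit false
set_option linter.style.haveILetI false
set_option backward.isDefEq.respectTransparency false
set_option backward.isDefEq.respectTransparency.types false

universe u

open CategoryTheory CategoryTheory.Limits AlgebraicGeometry TopologicalSpace

attribute [local instance] HasDerivedCategory.standard

namespace Groth.Agent.KExact.ProjPush

open KFlatLib RelPC17

variable {X Y S : Scheme.{u}}

instance isProper_toBase (r : ℕ) (T : Scheme.{u}) : IsProper (CohB1.ProjSpaceOver.toBase r T) :=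
  H28.PnFlat.isProper_pr r T

instance flat_toBase (r : ℕ) (T : Scheme.{u}) : Flat (CohB1.ProjSpaceOver.toBase r T) :=
  H28.FlatPr.flat_pr r T

instance lfp_toBase (r : ℕ) (T : Scheme.{u}) :
    LocallyOfFinitePresentation (CohB1.ProjSpaceOver.toBase r T) :=
  H28.PnFlat.lfp_pr r T

/-- A closed subscheme of a proper flat scheme of finite presentation over the base pushes relatively
pseudo-coherent objects to pseudo-coherent ones. -/
theorem locPC_rpush_of_factor {P : Scheme.{u}} (j : X ⟶ P) [IsClosedImmersion j] (π : P ⟶ Y) [IsProper π]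
    [Flat π] [LocallyOfFinitePresentation π] (h : X ⟶ Y) (w : j ≫ π = h) [DCoh.HasRpush h] (E : DCoh.D X)
    (hE : ∀ m, DerSch.IsPseudoCoherentRel h m E) (m : ℤ) : LocPC m ((DCoh.Rpush h).obj E) := by
  subst w
  haveI := hasRpush_scheme j
  haveI := hasRpush_scheme π
  have hj : ∀ m, LocPC m ((pD j).obj E) := fun m =>
    (rel_closed_comp_iff j π (chartsPC_of_flat π) m E).1 (hE m)
  obtain ⟨c⟩ := nonempty_rpush_comp j π
  obtain ⟨p⟩ := nonempty_rpush_pD j E
  exact (TorBC.locPC_rpush_properFlat π _ hj m).of_iso ((DCoh.Rpush π).mapIso p.symm ≪≫ c.app E)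

/-- The direct image to the base along an `r`-projective morphism. -/
theorem locPC_rpush_proj (r : ℕ) (i : X ⟶ CohB1.ProjSpaceOver r Y) [IsClosedImmersion i]
    [DCoh.HasRpush (i ≫ CohB1.ProjSpaceOver.toBase r Y)] (E : DCoh.D X)
    (hE : DerSch.IsPseudoCoherentRelAll (i ≫ CohB1.ProjSpaceOver.toBase r Y) E) (m : ℤ) :
    LocPC m ((DCoh.Rpush (i ≫ CohB1.ProjSpaceOver.toBase r Y)).obj E) :=
  locPC_rpush_of_factor i _ _ rfl E hE m

/-- Relatively pseudo-coherent objects have quasi-coherent cohomology. -/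
theorem isQCohD_of_relAll (f : X ⟶ Y) {E : DCoh.D X} (hE : DerSch.IsPseudoCoherentRelAll f E) :
    DCoh.IsQCohD E := fun i => by
  haveI := (hE 0).1
  refine KFlatLib.isQCoh_of_local fun x => ?_
  obtain ⟨_, ⟨V, hV, rfl⟩, hxV, -⟩ :=
    Y.isBasis_affineOpens.exists_subset_of_mem_open (show f x ∈ (⊤ : Y.Opens) from trivial) (⊤ : Y.Opens).2
  obtain ⟨_, ⟨(U : X.Opens), hU, rfl⟩, hxU, hle⟩ :=
    X.isBasis_affineOpens.exists_subset_of_mem_open (show x ∈ f ⁻¹ᵁ V from hxV) (f ⁻¹ᵁ V).2
  obtain ⟨n, φ, hφ⟩ := exists_isChart hle (finiteType_appLE hU hV hle)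
  haveI := isClosedImmersion_imm hU hφ.1
  have hq : DCoh.IsQCohD ((pD (imm U φ)).obj ((rho U.ι).obj E)) :=
    TorBC.isQCohD_of_locPC' fun m => rel_iff.1 (hE m) U V hU hV hle n φ hφ
  exact ⟨_, U.ι, inferInstance, ⟨⟨x, hxU⟩, rfl⟩,
    isQCoh_of_iso (hdRhoIso U.ι E i)
      (RegImmExt.isQCoh_of_push (imm U φ) (isQCoh_of_iso (hdPD (imm U φ) _ i) (hq i)))⟩

/-- Projective morphisms preserve relative pseudo-coherence. -/
theorem relAll_rpush (q : Y ⟶ S) [LocallyOfFiniteType q] (r : ℕ) (i : X ⟶ CohB1.ProjSpaceOver r Y)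
    [IsClosedImmersion i] [DCoh.HasRpush (i ≫ CohB1.ProjSpaceOver.toBase r Y)] (E : DCoh.D X)
    (hE : DerSch.IsPseudoCoherentRelAll ((i ≫ CohB1.ProjSpaceOver.toBase r Y) ≫ q) E) :
    DerSch.IsPseudoCoherentRelAll q ((DCoh.Rpush (i ≫ CohB1.ProjSpaceOver.toBase r Y)).obj E) := by
  let f := i ≫ CohB1.ProjSpaceOver.toBase r Y
  haveI : IsProper f := inferInstance
  refine fun m => rel_iff.2 fun W V hW hV hle n φ hφ => ?_
  intro _
  let R := MvPolynomial (Fin n) Γ(S, V)
  let c : (W : Scheme.{u}) ⟶ Spec (CommRingCat.of R) := imm W φ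
  let g₀ : CommRingCat.of Γ(S, V) ⟶ CommRingCat.of R := CommRingCat.ofHom (MvPolynomial.C)
  let g : Spec (CommRingCat.of R) ⟶ S := Spec.map g₀ ≫ hV.fromSpec
  haveI : Flat (Spec.map g₀) := Flat.SpecMap_iff.2
    (RingHom.flat_algebraMap_iff.2 (inferInstance : Module.Flat Γ(S, V) R))
  haveI : LocallyOfFinitePresentation (Spec.map g₀) :=
    (HasRingHomProperty.Spec_iff (P := @LocallyOfFinitePresentation)).2
      (RingHom.finitePresentation_algebraMap.2 (inferInstance : Algebra.FinitePresentation Γ(S, V) R))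
  have hg : c ≫ g = W.ι ≫ q := by
    simp only [c, g, imm, Category.assoc]
    rw [← Spec.map_comp_assoc, show g₀ ≫ CommRingCat.ofHom φ = q.appLE V W hle from
      CommRingCat.hom_ext hφ.2, IsAffineOpen.SpecMap_appLE_fromSpec q hV hW hle,
      IsAffineOpen.toSpecΓ_fromSpec_assoc]
  let XW := f ⁻¹ᵁ W
  let h := (f ∣_ W) ≫ c
  haveI : IsProper (f ∣_ W) :=
    MorphismProperty.of_isPullback (isPullback_morphismRestrict f W).flip inferInstance
  haveI := hasRpush_scheme (f ∣_ W)
  haveI := hasRpush_scheme c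
  haveI := hasRpush_scheme h
  haveI : LocallyOfFiniteType g := inferInstance
  have hrel : ∀ k, DerSch.IsPseudoCoherentRel h k ((rho XW.ι).obj E) := fun k => by
    refine (rel_comp_iff h g (chartsPC_of_flat g) k _).1 ?_
    have e : h ≫ g = XW.ι ≫ f ≫ q := by
      simp only [h, Category.assoc, hg]
      exact morphismRestrict_ι_assoc f W q
    rw [e]
    exact KSixRel.rel_restrict XW.ι _ (hE k)
  let T := CohB1.ProjSpace.toSpec r (ULift.{u} ℤ)
  have hcond : ∀ {Z : Scheme.{u}} (a : Z ⟶ CohB1.ProjSpace r (ULift.{u} ℤ)) (b : Z ⟶ W),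
      a ≫ T = b ≫ specULiftZIsTerminal.from (W : Scheme.{u}) := fun a b =>
    specULiftZIsTerminal.hom_ext _ _
  let j' : (XW : Scheme.{u}) ⟶ CohB1.ProjSpaceOver r W :=
    pullback.lift (XW.ι ≫ i ≫ pullback.fst _ _) (f ∣_ W) (hcond _ _)
  let mW : CohB1.ProjSpaceOver r W ⟶ CohB1.ProjSpaceOver r Y :=
    pullback.map _ _ _ _ (𝟙 _) W.ι (𝟙 _) (by simp) (specULiftZIsTerminal.hom_ext _ _)
  let mc : CohB1.ProjSpaceOver r W ⟶ CohB1.ProjSpaceOver r (Spec (CommRingCat.of R)) :=
    pullback.map _ _ _ _ (𝟙 _) c (𝟙 _) (by simp) (specULiftZIsTerminal.hom_ext _ _)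
  have hmW : j' ≫ mW = XW.ι ≫ i := by
    refine pullback.hom_ext ?_ ?_
    · simp [j', mW]
    · simp only [j', mW, Category.assoc, pullback.lift_snd, pullback.lift_snd_assoc]
      exact morphismRestrict_ι f W
  haveI : IsImmersion (j' ≫ mW) := by rw [hmW]; infer_instance
  haveI : IsImmersion j' := IsImmersion.of_comp j' mW
  haveI : IsProper (j' ≫ CohB1.ProjSpaceOver.toBase r W) := by
    rw [show j' ≫ CohB1.ProjSpaceOver.toBase r W = f ∣_ W from pullback.lift_snd _ _ _]; infer_instance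
  haveI : IsProper j' := IsProper.of_comp j' (CohB1.ProjSpaceOver.toBase r W)
  haveI : IsClosedImmersion j' :=
    IsClosedImmersion.of_isPreimmersion j' j'.isClosedMap.isClosed_range
  haveI : IsClosedImmersion c := ‹_›
  haveI : IsClosedImmersion mc :=
    MorphismProperty.pullbackMap (P := @IsClosedImmersion) (inferInstance) (inferInstanceAs (IsClosedImmersion c))
      (by simp) (specULiftZIsTerminal.hom_ext _ _)
  have hw : (j' ≫ mc) ≫ CohB1.ProjSpaceOver.toBase r (Spec (CommRingCat.of R)) = h := by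
    simp only [j', mc, h, CohB1.ProjSpaceOver.toBase, Category.assoc, pullback.lift_snd,
      pullback.lift_snd_assoc]
  have hpc := locPC_rpush_of_factor (j' ≫ mc) _ h hw ((rho XW.ι).obj E) hrel m
  obtain ⟨eR⟩ := nonempty_rpush_restrictD_iso f W
  obtain ⟨ec⟩ := nonempty_rpush_comp (f ∣_ W) c
  obtain ⟨ep⟩ := nonempty_rpush_pD c ((rho W.ι).obj ((DCoh.Rpush f).obj E))
  exact hpc.of_iso ((ec.app _).symm ≪≫ (DCoh.Rpush c).mapIso (eR.app E).symm ≪≫ ep)

end Groth.Agent.KExact.ProjPush
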