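import Groth.Agent.KExact.ProjTw
import Groth.Agent.KExact.ProjDown
import Groth.Agent.KExact.SmoothShriek
import Groth.Agent.KFlatLib.Scheme.DualTensorMod
import Groth.Agent.H9Misc.RpushZero
import Groth.Agent.QCoh.RpushAbGod
import Groth.Agent.QCoh.RpushGod
import Groth.Agent.S0024
import Groth.Agent.S0844
import Groth.Agent.S0910
import Groth.Agent.S1054
import Groth.Agent.S1067
import Groth.Agent.S1118
import Groth.Agent.S7246
import Groth.Agent.CxSuppLib.Basic
import Groth.Agent.KFlatLib.Scheme.KLift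

/-!
# Pseudo-coherence on projective space
-/

set_option linter.style.haveILetI false
set_option backward.isDefEq.respectTransparency false
set_option backward.isDefEq.respectTransparency.types false

universe u

open CategoryTheory CategoryTheory.Limits AlgebraicGeometry Pretriangulated Opposite

attribute [local instance] HasDerivedCategory.standard
attribute [local instance] MvPolynomial.gradedAlgebra
attribute [local instance] Groth.Agent.H23.PicMul.clMonoid

namespace Groth.Agent.KExact.ProjTilting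

open Groth.Agent Groth.Agent.KFlatLib ProjTw

variable (n : ℕ) (A : Type u) [CommRing A]


/-- A quasi-coherent module on an affine scheme without global sections is zero. -/
theorem isZero_of_top {R : CommRingCat.{u}} {N : (Spec R).Modules} (hN : Coh.IsQCoh N)
    (h : Subsingleton Γ(N, (⊤ : (Spec R).Opens))) : IsZero N := by
  haveI : IsIso N.fromTildeΓ := (isQuasicoherent_iff_isIso_fromTildeΓ N).1 hN
  haveI : Subsingleton (moduleSpecΓFunctor.obj N) := h
  exact ((tilde.functor R).map_isZero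
    (ModuleCat.isZero_of_subsingleton (moduleSpecΓFunctor.obj N))).of_iso (asIso N.fromTildeΓ).symm

/-- A quasi-coherent module on an affine scheme with free global sections is the structure sheaf. -/
theorem nonempty_iso_structure {R : CommRingCat.{u}} {N : (Spec R).Modules} (hN : Coh.IsQCoh N)
    (x : moduleSpecΓFunctor.obj N) (hg : Function.Bijective fun r : R => r • x) :
    Nonempty (N ≅ Coh.structureModule (Spec R)) := by
  haveI : IsIso N.fromTildeΓ := (isQuasicoherent_iff_isIso_fromTildeΓ N).1 hN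
  let g : ModuleCat.of R R ⟶ moduleSpecΓFunctor.obj N :=
    (fun (P : ModuleCat.{u} R) (y : P) => ModuleCat.ofHom (LinearMap.toSpanSingleton R P y)) _ x
  haveI : IsIso g := (ConcreteCategory.isIso_iff_bijective g).2 hg
  exact ⟨(asIso N.fromTildeΓ).symm ≪≫ (tilde.functor R).mapIso (asIso g).symm ≪≫ tildeSelf⟩

/-- `π_* O = O`. -/
theorem nonempty_push_structure :
    Nonempty ((Scheme.Modules.pushforward (CohB1.ProjSpace.toSpec n A)).obj
      (Coh.structureModule (CohB1.ProjSpace n A)) ≅ Coh.structureModule (Spec (CommRingCat.of A))) := by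
  haveI : IsProper (CohB1.ProjSpace.toSpec n A) := PnCoh.Chow.isProper_toSpec n A
  haveI := Groth.Agent.S0024.result n A
  refine nonempty_iso_structure (QCoh.isQCoh_pushforward _ (PnCoh.isQCoh_structureModule _))
    (show Γ(CohB1.ProjSpace n A, ⊤) from 1) ?_
  have hb := (ConcreteCategory.bijective_of_isIso (CohB1.ProjSpace.toSpec n A).appTop).comp
    (ConcreteCategory.bijective_of_isIso (Scheme.ΓSpecIso (CommRingCat.of A)).inv)
  have he : ∀ a : A, (Scheme.Hom.appTop (CohB1.ProjSpace.toSpec n A))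
      ((Scheme.ΓSpecIso (CommRingCat.of A)).inv a) * (1 : Γ(CohB1.ProjSpace n A, ⊤)) =
        (Scheme.Hom.appTop (CohB1.ProjSpace.toSpec n A)) ((Scheme.ΓSpecIso (CommRingCat.of A)).inv a) :=
    fun a => mul_one _
  exact ⟨fun a b h => hb.1 ((he a).symm.trans (h.trans (he b))),
    fun y => (hb.2 y).imp fun a ha => (he a).trans ha⟩

/-- Higher direct images with vanishing cohomology vanish. -/
theorem isZero_Rpush_of_HH [HasInjectiveResolutions ((CohB1.ProjSpace n A)).Modules] {M : ((CohB1.ProjSpace n A)).Modules} (hM : Coh.IsQCoh M) (p : ℕ)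
    (h : Subsingleton (Coh.HH (CohB1.ProjSpace n A) M p)) : IsZero ((Coh.Rpush (CohB1.ProjSpace.toSpec n A) p).obj M) := by
  haveI : IsProper (CohB1.ProjSpace.toSpec n A) := PnCoh.Chow.isProper_toSpec n A
  refine isZero_of_top (QCoh.isQCoh_Rpush (CohB1.ProjSpace.toSpec n A) hM p) ?_
  obtain ⟨a⟩ := QCoh.nonempty_HH_equiv_sections (CohB1.ProjSpace.toSpec n A) hM p
  haveI := h
  have hsub : Subsingleton (((Coh.RpushAb (CohB1.ProjSpace.toSpec n A) p).obj (Coh.toAb M)).obj.obj (op ⊤)) := a.symm.toEquiv.subsingleton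
  cases p with
  | zero =>
    haveI := SpObjSS.enoughInjectives_of_hasInjectiveResolutions (C := ((CohB1.ProjSpace n A)).Modules)
    haveI := QCoh.preservesFiniteLimits_push (CohB1.ProjSpace.toSpec n A)
    obtain ⟨e⟩ := QCoh.nonempty_RpushAb_zero_iso (CohB1.ProjSpace.toSpec n A) M
    haveI h1 : Subsingleton ((Coh.toAb ((Coh.push (CohB1.ProjSpace.toSpec n A)).obj M)).obj.obj (op ⊤)) :=
      @Equiv.subsingleton _ _ (((sheafToPresheaf _ _).mapIso e).app (op ⊤)).addCommGroupIsoToAddEquiv.symm.toEquiv hsub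
    haveI h2 : Subsingleton Γ((Scheme.Modules.pushforward (CohB1.ProjSpace.toSpec n A)).obj M, (⊤ : (Spec (CommRingCat.of A)).Opens)) := h1
    exact @Equiv.subsingleton _ _ (((Scheme.Modules.toPresheaf _).mapIso
      ((Scheme.Modules.pushforward (CohB1.ProjSpace.toSpec n A)).rightDerivedZeroIsoSelf.app M)).app (op ⊤)).addCommGroupIsoToAddEquiv.toEquiv h2
  | succ q =>
    obtain ⟨e⟩ := QCoh.nonempty_RpushAb_iso (CohB1.ProjSpace.toSpec n A) M q
    obtain ⟨e'⟩ := QCoh.nonempty_Rpush_iso (CohB1.ProjSpace.toSpec n A) M q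
    have h1 := @Equiv.subsingleton _ _ (((sheafToPresheaf _ _).mapIso e).app (op ⊤)).addCommGroupIsoToAddEquiv.symm.toEquiv hsub
    exact @Equiv.subsingleton _ _ (((Scheme.Modules.toPresheaf _).mapIso e').app (op ⊤)).addCommGroupIsoToAddEquiv.toEquiv h1

variable [DCoh.HasRpush (CohB1.ProjSpace.toSpec n A)]

/-- `R(CohB1.ProjSpace.toSpec n A)_* O(-i) = 0` for `1 ≤ i ≤ n`. -/
theorem isZero_rpush_neg (i : ℕ) (h1 : 1 ≤ i) (h2 : i ≤ n) :
    IsZero ((DCoh.Rpush (CohB1.ProjSpace.toSpec n A)).obj (DCoh.inD (CohB1.ProjSpace n A) (Twist.twistProjSpace n A (-(i : ℤ))))) := by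
  haveI : IsProper (CohB1.ProjSpace.toSpec n A) := PnCoh.Chow.isProper_toSpec n A
  haveI := hasInjectiveResolutions_modules (X := (CohB1.ProjSpace n A))
  refine CxSuppLib.isZero_of_hd fun j => ?_
  by_cases hj : 0 ≤ j
  · obtain ⟨q, rfl⟩ := Int.eq_ofNat_of_zero_le hj
    obtain ⟨e⟩ := nonempty_hd_rpush_single (CohB1.ProjSpace.toSpec n A) (Twist.twistProjSpace n A (-(i : ℤ))) q
    exact (isZero_Rpush_of_HH n A (PnCoh.isQCoh_twist_mvPolynomial _ _ _) q
      (Groth.Agent.S0844.result A n _ q (by omega) (by omega))).of_iso e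
  · haveI : (DCoh.inD (CohB1.ProjSpace n A) (Twist.twistProjSpace n A (-(i : ℤ)))).IsGE 0 := inferInstanceAs
      (((DerivedCategory.singleFunctor ((CohB1.ProjSpace n A)).Modules 0).obj _).IsGE 0)
    exact isZero_hd_rpush_of_lt (CohB1.ProjSpace.toSpec n A) _ 0 j (by omega)

/-- `R(CohB1.ProjSpace.toSpec n A)_* O = O`. -/
theorem nonempty_rpush_structure :
    Nonempty ((DCoh.Rpush (CohB1.ProjSpace.toSpec n A)).obj (DCoh.inD (CohB1.ProjSpace n A) (Coh.structureModule (CohB1.ProjSpace n A))) ≅ DCoh.inD (Spec (CommRingCat.of A)) (Coh.structureModule (Spec (CommRingCat.of A)))) := by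
  haveI : IsProper (CohB1.ProjSpace.toSpec n A) := PnCoh.Chow.isProper_toSpec n A
  haveI := hasInjectiveResolutions_modules (X := (CohB1.ProjSpace n A))
  haveI := SpObjSS.enoughInjectives_of_hasInjectiveResolutions (C := ((CohB1.ProjSpace n A)).Modules)
  haveI := QCoh.preservesFiniteLimits_push (CohB1.ProjSpace.toSpec n A)
  let R := (DCoh.Rpush (CohB1.ProjSpace.toSpec n A)).obj (DCoh.inD (CohB1.ProjSpace n A) (Coh.structureModule (CohB1.ProjSpace n A)))
  obtain ⟨e0⟩ := H23.PicMul.cl_eq_iff.1 (Synt29.PnEuler.tw_zero n A)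
  haveI : (DCoh.inD (CohB1.ProjSpace n A) (Coh.structureModule (CohB1.ProjSpace n A))).IsGE 0 :=
    inferInstanceAs (((DerivedCategory.singleFunctor ((CohB1.ProjSpace n A)).Modules 0).obj _).IsGE 0)
  haveI : R.IsGE 0 := isGE_rpush (CohB1.ProjSpace.toSpec n A) _ 0
  haveI : R.IsLE 0 := (DerivedCategory.isLE_iff _ _).2 fun j hj => by
    obtain ⟨q, rfl⟩ := Int.eq_ofNat_of_zero_le hj.le
    obtain ⟨e⟩ := nonempty_hd_rpush_single (CohB1.ProjSpace.toSpec n A) (Coh.structureModule (CohB1.ProjSpace n A)) q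
    exact (isZero_Rpush_of_HH n A (PnCoh.isQCoh_structureModule _) q
      (QCoh.subsingleton_HH_of_iso e0 q (Groth.Agent.S0844.result A n 0 q (by omega) (by omega)))).of_iso e
  obtain ⟨e⟩ := H9Misc.nonempty_iso_single_homology 0 R
  obtain ⟨eh⟩ := nonempty_hd_rpush_single (CohB1.ProjSpace.toSpec n A) (Coh.structureModule (CohB1.ProjSpace n A)) 0
  obtain ⟨ep⟩ := nonempty_push_structure n A
  exact ⟨e ≪≫ (DerivedCategory.singleFunctor _ 0).mapIso
    (eh ≪≫ (Scheme.Modules.pushforward (CohB1.ProjSpace.toSpec n A)).rightDerivedZeroIsoSelf.app _ ≪≫ ep)⟩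

variable [DCoh.HasLpull (CohB1.ProjSpace.toSpec n A)]

/-- The unit `M → R(CohB1.ProjSpace.toSpec n A)_*L(CohB1.ProjSpace.toSpec n A)^* M` is an isomorphism on quasi-coherent objects. -/
theorem isIso_unit (adj : DCoh.Lpull (CohB1.ProjSpace.toSpec n A) ⊣ DCoh.Rpush (CohB1.ProjSpace.toSpec n A)) (M : DCoh.D (Spec (CommRingCat.of A)))
    (hM : DCoh.IsQCohD M) : IsIso (adj.unit.app M) := by
  haveI : IsProper (CohB1.ProjSpace.toSpec n A) := PnCoh.Chow.isProper_toSpec n A
  let S := Spec (CommRingCat.of A)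
  let E := (HomologicalComplex.single S.Modules (ComplexShape.up ℤ) 0).obj (Coh.structureModule (Spec (CommRingCat.of A)))
  haveI := hasLTensorCx E
  obtain ⟨eR⟩ := nonempty_rpush_structure n A
  obtain ⟨c⟩ := ProjDown.nonempty_lpull_rpush_iso (CohB1.ProjSpace.toSpec n A) E
    (((DerivedCategory.singleFunctorIsoCompQ S.Modules 0).app (Coh.structureModule (Spec (CommRingCat.of A)))).symm ≪≫ eR.symm)
  let eQ : DerivedCategory.Q ≅ DCoh.tensorCxQ E :=
    (Functor.isoWhiskerRight (singleIso (DCoh.tensorBi (X := S)) (Coh.structureModule (Spec (CommRingCat.of A))) ≪≫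
      (NatIso.mapHomologicalComplex (flipRightIso (Coh.structureModule (Spec (CommRingCat.of A))) ≪≫ tensorStructureIso S) (ComplexShape.up ℤ) :) ≪≫
      Functor.mapHomologicalComplexIdIso _ _) DerivedCategory.Q).symm
  haveI := Functor.isLeftDerivedFunctor_of_inverts (F := DCoh.tensorCxQ E)
    (HomologicalComplex.quasiIso S.Modules (ComplexShape.up ℤ)) (𝟭 (DCoh.D S))
    (Functor.rightUnitor _ ≪≫ eQ)
  let eT : DCoh.LTensorCx E ≅ 𝟭 (DCoh.D S) :=
    Functor.leftDerivedUnique _ _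
      ((DCoh.tensorCxQ E).totalLeftDerivedCounit DerivedCategory.Q
        (HomologicalComplex.quasiIso S.Modules (ComplexShape.up ℤ))) (Functor.rightUnitor _ ≪≫ eQ).hom
      (HomologicalComplex.quasiIso S.Modules (ComplexShape.up ℤ))
  let L' : DCoh.DQCoh S ⥤ DCoh.DQCoh (CohB1.ProjSpace n A) := ObjectProperty.lift DCoh.IsQCohD
    (ObjectProperty.ι DCoh.IsQCohD ⋙ DCoh.Lpull (CohB1.ProjSpace.toSpec n A)) fun K => Groth.Agent.S1054.result (CohB1.ProjSpace.toSpec n A) K.obj K.property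
  let R' : DCoh.DQCoh (CohB1.ProjSpace n A) ⥤ DCoh.DQCoh S := ObjectProperty.lift DCoh.IsQCohD
    (ObjectProperty.ι DCoh.IsQCohD ⋙ DCoh.Rpush (CohB1.ProjSpace.toSpec n A)) fun K => isQCohD_rpush (CohB1.ProjSpace.toSpec n A) K.property
  let adj' : L' ⊣ R' := adj.restrictFullyFaithful (ObjectProperty.fullyFaithfulι _)
    (ObjectProperty.fullyFaithfulι _) (Iso.refl _) (Iso.refl _)
  let i : L' ⋙ R' ≅ 𝟭 _ :=
    ((ObjectProperty.fullyFaithfulι DCoh.IsQCohD).whiskeringRight _).preimageIso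
      (c ≪≫ Functor.isoWhiskerLeft _ eT ≪≫ Functor.rightUnitor _ ≪≫ (Functor.leftUnitor _).symm)
  haveI := adj'.isIso_unit_of_iso i
  have h : (ObjectProperty.ι (DCoh.IsQCohD (X := S))).map (adj'.unit.app ⟨M, hM⟩) = adj.unit.app M := by
    rw [Adjunction.map_restrictFullyFaithful_unit_app]
    simp
  rw [← h]
  infer_instance

/-- `R(CohB1.ProjSpace.toSpec n A)_*(L(CohB1.ProjSpace.toSpec n A)^* M ⊗ O(-i)) = 0` for `1 ≤ i ≤ n`. -/
theorem isZero_rpush_tw_lpull (M : DCoh.D (Spec (CommRingCat.of A))) (hM : DCoh.IsQCohD M) (i : ℕ)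
    (h1 : 1 ≤ i) (h2 : i ≤ n) :
    IsZero ((DCoh.Rpush (CohB1.ProjSpace.toSpec n A)).obj ((tw n A (-(i : ℤ))).obj ((DCoh.Lpull (CohB1.ProjSpace.toSpec n A)).obj M))) := by
  haveI : IsProper (CohB1.ProjSpace.toSpec n A) := PnCoh.Chow.isProper_toSpec n A
  let S := Spec (CommRingCat.of A)
  let P := (HomologicalComplex.single ((CohB1.ProjSpace n A)).Modules (ComplexShape.up ℤ) 0).obj (Twist.twistProjSpace n A (-(i : ℤ)))
  let R := repK ((DCoh.Lpull (CohB1.ProjSpace.toSpec n A)).obj M)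
  let K := DerivedCategory.Q.objPreimage M
  haveI := hasLTensorCx P
  haveI := hasLTensorCx R
  haveI := hasLTensorCx K
  obtain ⟨t⟩ := nonempty_tw_ltensorCx (n := n) (A := A) (-(i : ℤ)) ((DCoh.Lpull (CohB1.ProjSpace.toSpec n A)).obj M)
  obtain ⟨s⟩ := nonempty_ltensor_symm R P (isKFlat_repK _)
  let eP := (DerivedCategory.singleFunctorIsoCompQ ((CohB1.ProjSpace n A)).Modules 0).app (Twist.twistProjSpace n A (-(i : ℤ)))
  obtain ⟨c⟩ := Groth.Agent.S1118.result (CohB1.ProjSpace.toSpec n A) (DerivedCategory.Q.obj P)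
    (isQCohD_of_iso eP (isQCohD_inD_of_isQCoh (PnCoh.isQCoh_twist_mvPolynomial _ _ _))) K
    (isQCohD_of_iso (DerivedCategory.Q.objObjPreimageIso M).symm hM) R
    ⟨repKIso _ ≪≫ (DCoh.Lpull (CohB1.ProjSpace.toSpec n A)).mapIso (DerivedCategory.Q.objObjPreimageIso M).symm⟩
  refine IsZero.of_iso ?_ ((DCoh.Rpush (CohB1.ProjSpace.toSpec n A)).mapIso (t ≪≫ (DCoh.LTensorCx P).mapIso (repKIso _).symm ≪≫ s.symm) ≪≫ c.symm)
  obtain ⟨T, hT⟩ : ∃ T, T = (DCoh.Rpush (CohB1.ProjSpace.toSpec n A)).obj (DerivedCategory.Q.obj P) := ⟨_, rfl⟩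
  rw [← hT]
  have hz : IsZero T := hT ▸ (isZero_rpush_neg n A i h1 h2).of_iso ((DCoh.Rpush (CohB1.ProjSpace.toSpec n A)).mapIso eP.symm)
  exact ((DerivedCategory.Q.map_isZero ((DCoh.tensorCx.flip.obj K).map_isZero (isZero_zero _))).of_iso
    ((DCoh.LTensorCx K).mapIso (hz.iso (DerivedCategory.Q.map_isZero (isZero_zero (CochainComplex _ ℤ)))) ≪≫
      ltensorCxIso K (isKFlat_of_isZero (isZero_zero _))))

end Groth.Agent.KExact.ProjTilting
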