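import Groth.Agent.KExact.AmpleTwist
import Groth.Agent.KExact.InvShift
import Groth.Agent.KFlatLib.Scheme.TensorAssoc
import Groth.Agent.KFlatLib.Scheme.TorAmpPush
import Groth.Agent.Synt29.PnEuler
import Groth.Agent.RelVA16.TensorAmple

/-!
# Twisting on the derived category of projective space
-/

set_option linter.style.haveILetI false
set_option backward.isDefEq.respectTransparency false
set_option backward.isDefEq.respectTransparency.types false

universe u

open CategoryTheory CategoryTheory.Limits AlgebraicGeometry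

attribute [local instance] HasDerivedCategory.standard
attribute [local instance] MvPolynomial.gradedAlgebra
attribute [local instance] Groth.Agent.H23.PicMul.clMonoid

namespace Groth.Agent.KExact.ProjTw

open Groth.Agent Groth.Agent.KFlatLib

variable {n : ℕ} {A : Type u} [CommRing A]

/-- `- ⊗ O(a)` on modules. -/
noncomputable abbrev twM (n : ℕ) (A : Type u) [CommRing A] (a : ℤ) :
    (CohB1.ProjSpace n A).Modules ⥤ (CohB1.ProjSpace n A).Modules :=
  DCoh.tensorRightMod (Twist.twistProjSpace n A a)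

/-- `tensorBi.flip` is `tensorRightMod`. -/
noncomputable def flipRightIso {X : Scheme.{u}} (M : X.Modules) :
    DCoh.tensorBi.flip.obj M ≅ DCoh.tensorRightMod M :=
  NatIso.ofComponents (fun _ => Iso.refl _) (fun _ => (Category.comp_id _).trans (Category.id_comp _).symm)

instance isEquivalence_twM (a : ℤ) : (twM n A a).IsEquivalence := by
  haveI := H23.Chern.isEquivalence_ten (Synt29.PnEuler.isInvertible_O n A a)
  haveI : (DCoh.tensorBi.flip.obj (Twist.twistProjSpace n A a)).IsEquivalence :=
    Functor.isEquivalence_of_iso ((tensorBiFlipIso _).app _).symm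
  exact Functor.isEquivalence_of_iso (flipRightIso _)

instance preservesFiniteLimits_twM (a : ℤ) : PreservesFiniteLimits (twM n A a) := inferInstance

instance preservesFiniteColimits_twM (a : ℤ) : PreservesFiniteColimits (twM n A a) := inferInstance

/-- `- ⊗ O(a)` on the derived category. -/
noncomputable abbrev tw (n : ℕ) (A : Type u) [CommRing A] (a : ℤ) :
    DCoh.D (CohB1.ProjSpace n A) ⥤ DCoh.D (CohB1.ProjSpace n A) :=
  (twM n A a).mapDerivedCategory

theorem nonempty_twMComp (a b : ℤ) : Nonempty (twM n A a ⋙ twM n A b ≅ twM n A (a + b)) := by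
  obtain ⟨e⟩ := PnCoh.Finite.twist_tensor_iso (𝒜 := CohB1.polyGrading n A)
    (g := fun i : Fin (n + 1) => (MvPolynomial.X i : MvPolynomial (Fin (n + 1)) A)) (fun i => ProjPt.X_mem i)
    (top_le_iff.1 fun y _ => TopologicalSpace.Opens.mem_iSup.2 (ProjUPX.cov_X y)) a b
  let P := CohB1.ProjSpace n A
  let Oa : P.Modules := Twist.twistProjSpace n A a
  let Ob : P.Modules := Twist.twistProjSpace n A b
  let c : DCoh.tensorBi.flip.obj Oa ⋙ DCoh.tensorBi.flip.obj Ob ≅
      DCoh.tensorBi.flip.obj ((DCoh.tensorBi.obj Oa).obj Ob) :=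
    NatIso.ofComponents (fun M => (((tensorAssocSch P).app M).app Oa).app Ob) fun {M M'} f =>
      congrArg (fun t => (t.app Oa).app Ob) ((tensorAssocSch P).hom.naturality f)
  exact ⟨(Functor.isoWhiskerRight (flipRightIso Oa).symm _ ≪≫
    Functor.isoWhiskerLeft _ (flipRightIso Ob).symm) ≪≫ c ≪≫
      DCoh.tensorBi.flip.mapIso (e : (DCoh.tensorBi.obj Oa).obj Ob ≅ Twist.twistProjSpace n A (a + b)) ≪≫
      flipRightIso _⟩

theorem nonempty_twMZero : Nonempty (twM n A 0 ≅ 𝟭 (CohB1.ProjSpace n A).Modules) := by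
  obtain ⟨e⟩ := H23.PicMul.cl_eq_iff.1 (Synt29.PnEuler.tw_zero n A)
  exact ⟨(flipRightIso _).symm ≪≫ DCoh.tensorBi.flip.mapIso e ≪≫ flipRightIso _ ≪≫ tensorStructureIso _⟩

/-- Twisting composes. -/
theorem nonempty_twComp (a b c : ℤ) (h : a + b = c) : Nonempty (tw n A a ⋙ tw n A b ≅ tw n A c) := by
  subst h
  obtain ⟨e⟩ := nonempty_twMComp (n := n) (A := A) a b
  let W₁ := HomologicalComplex.quasiIso (CohB1.ProjSpace n A).Modules (ComplexShape.up ℤ)
  let F := (twM n A (a + b)).mapHomologicalComplex (ComplexShape.up ℤ)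
  let eC : (twM n A a).mapHomologicalComplex (ComplexShape.up ℤ) ⋙
      (twM n A b).mapHomologicalComplex (ComplexShape.up ℤ) ≅ F :=
    (NatIso.mapHomologicalComplex e (ComplexShape.up ℤ) :)
  letI : Localization.Lifting DerivedCategory.Q W₁ (F ⋙ DerivedCategory.Q) (tw n A a ⋙ tw n A b) :=
    ⟨Functor.isoWhiskerRight (twM n A a).mapDerivedCategoryFactors (tw n A b) ≪≫
      Functor.isoWhiskerLeft ((twM n A a).mapHomologicalComplex (ComplexShape.up ℤ))
        (twM n A b).mapDerivedCategoryFactors ≪≫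
      Functor.isoWhiskerRight eC DerivedCategory.Q⟩
  letI : Localization.Lifting DerivedCategory.Q W₁ (F ⋙ DerivedCategory.Q) (tw n A (a + b)) :=
    ⟨(twM n A (a + b)).mapDerivedCategoryFactors⟩
  exact ⟨Localization.liftNatIso DerivedCategory.Q W₁ (F ⋙ DerivedCategory.Q) (F ⋙ DerivedCategory.Q) _ _
    (Iso.refl _)⟩

/-- Twisting by `O(0)` is the identity. -/
theorem nonempty_twZero : Nonempty (tw n A 0 ≅ 𝟭 (DCoh.D (CohB1.ProjSpace n A))) := by
  obtain ⟨e⟩ := nonempty_twMZero (n := n) (A := A)
  let W₁ := HomologicalComplex.quasiIso (CohB1.ProjSpace n A).Modules (ComplexShape.up ℤ)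
  letI : Localization.Lifting DerivedCategory.Q W₁ DerivedCategory.Q (tw n A 0) :=
    ⟨(twM n A 0).mapDerivedCategoryFactors ≪≫ Functor.isoWhiskerRight
      ((NatIso.mapHomologicalComplex e (ComplexShape.up ℤ) :) ≪≫
        Functor.mapHomologicalComplexIdIso _ _) DerivedCategory.Q⟩
  letI : Localization.Lifting DerivedCategory.Q W₁ DerivedCategory.Q (𝟭 (DCoh.D (CohB1.ProjSpace n A))) :=
    ⟨Iso.refl _⟩
  exact ⟨Localization.liftNatIso DerivedCategory.Q W₁ DerivedCategory.Q DerivedCategory.Q _ _ (Iso.refl _)⟩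

/-- The derived tensor product with `O(a)` is the twist. -/
noncomputable def ltensorTwIso (a : ℤ) [DCoh.HasLTensorMod (Twist.twistProjSpace n A a)] :
    DCoh.LTensorMod (Twist.twistProjSpace n A a) ≅ tw n A a :=
  haveI := Functor.isLeftDerivedFunctor_of_inverts (F := DCoh.tensorModKh (Twist.twistProjSpace n A a))
    (HomotopyCategory.quasiIso (CohB1.ProjSpace n A).Modules (ComplexShape.up ℤ)) (tw n A a)
    (twM n A a).mapDerivedCategoryFactorsh
  Functor.leftDerivedUnique _ _
    ((DCoh.tensorModKh (Twist.twistProjSpace n A a)).totalLeftDerivedCounit DerivedCategory.Qh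
      (HomotopyCategory.quasiIso (CohB1.ProjSpace n A).Modules (ComplexShape.up ℤ)))
    (twM n A a).mapDerivedCategoryFactorsh.hom
    (HomotopyCategory.quasiIso (CohB1.ProjSpace n A).Modules (ComplexShape.up ℤ))

/-- The twist as a derived tensor product with a complex in degree `0`. -/
theorem nonempty_tw_ltensorCx (a : ℤ)
    [DCoh.HasLTensorCx ((HomologicalComplex.single (CohB1.ProjSpace n A).Modules (ComplexShape.up ℤ) 0).obj
      (Twist.twistProjSpace n A a))] (E : DCoh.D (CohB1.ProjSpace n A)) :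
    Nonempty ((tw n A a).obj E ≅ (DCoh.LTensorCx ((HomologicalComplex.single (CohB1.ProjSpace n A).Modules
      (ComplexShape.up ℤ) 0).obj (Twist.twistProjSpace n A a))).obj E) := by
  haveI := hasLTensorMod (X := CohB1.ProjSpace n A) (Twist.twistProjSpace n A a)
  obtain ⟨e⟩ := nonempty_ltensorMod_ltensorCx (Twist.twistProjSpace n A a) E
  exact ⟨((ltensorTwIso a).app E).symm ≪≫ e⟩

/-- Twisting preserves quasi-coherent cohomology. -/
theorem isQCohD_tw (a : ℤ) {E : DCoh.D (CohB1.ProjSpace n A)} (hE : DCoh.IsQCohD E) :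
    DCoh.IsQCohD ((tw n A a).obj E) := fun i => by
  let e := DerivedCategory.Q.objObjPreimageIso E
  let C := DerivedCategory.Q.objPreimage E
  refine isQCoh_of_iso ?_ (RelVA16.isQCoh_tensor_inv (hE i) (Synt29.PnEuler.isInvertible_O n A a))
  exact (twM n A a).mapIso ((DerivedCategory.homologyFunctor _ i).mapIso e.symm ≪≫
      (DerivedCategory.homologyFunctorFactors _ i).app C) ≪≫
    ((C.sc i).mapHomologyIso (twM n A a)).symm ≪≫
    ((DerivedCategory.homologyFunctorFactors _ i).app (((twM n A a).mapHomologicalComplex _).obj C)).symm ≪≫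
    (DerivedCategory.homologyFunctor _ i).mapIso
      (((twM n A a).mapDerivedCategoryFactors.app C).symm ≪≫ (tw n A a).mapIso e)

end Groth.Agent.KExact.ProjTw
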