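import Groth.Agent.KExact.PerfectTensorShriek
import Groth.Agent.Lib.DerivedProj
import Groth.Agent.KFlatLib.Scheme.ProperFlatPerfect

/-!
# Duality for the pushforward of a perfect complex
-/

set_option autoImplicit false
set_option linter.style.haveILetI false
set_option backward.isDefEq.respectTransparency false
set_option backward.isDefEq.respectTransparency.types false
set_option maxHeartbeats 1000000

universe u

open CategoryTheory CategoryTheory.Limits AlgebraicGeometry Opposite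

attribute [local instance] HasDerivedCategory.standard

namespace Groth.Agent.KExact.PushDual

open KFlatLib H9Misc

variable {X Y : Scheme.{u}}

/-- `R ⊗^L -` is `- ⊗^L R`. -/
theorem nonempty_projF_iso_ltensor (R : CochainComplex Y.Modules ℤ) [DCoh.HasLTensorCx R] :
    Nonempty (projF R ≅ DCoh.LTensorCx R) := by
  let c := (DCoh.tensorCxQ R).totalLeftDerivedCounit DerivedCategory.Q (qisX Y)
  haveI : ∀ K, IsIso ((Functor.whiskerLeft (kRes Y) c).app K) := fun K =>
    isIso_LTensorCx_counit R (isKFlat_kRes K)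
  haveI : ∀ K, IsIso ((Functor.whiskerRight (Functor.whiskerRight (flatCover Y).ψ DerivedCategory.Q)
      (DCoh.LTensorCx R)).app K) := fun K =>
    haveI := isIso_Q_map _ ((flatCover Y).quasiIso_ψ K)
    inferInstanceAs (IsIso ((DCoh.LTensorCx R).map (DerivedCategory.Q.map ((flatCover Y).ψ.app K))))
  haveI := NatIso.isIso_of_isIso_app (Functor.whiskerLeft (kRes Y) c)
  haveI := NatIso.isIso_of_isIso_app (Functor.whiskerRight
    (Functor.whiskerRight (flatCover Y).ψ DerivedCategory.Q) (DCoh.LTensorCx R))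
  letI : Localization.Lifting DerivedCategory.Q (qisX Y) (DerivedCategory.Q ⋙ projF R) (projF R) :=
    ⟨Iso.refl _⟩
  letI : Localization.Lifting DerivedCategory.Q (qisX Y)
      (DerivedCategory.Q ⋙ DCoh.LTensorCx R) (DCoh.LTensorCx R) :=
    ⟨Iso.refl _⟩
  exact ⟨Localization.liftNatIso DerivedCategory.Q (qisX Y) (DerivedCategory.Q ⋙ projF R)
    (DerivedCategory.Q ⋙ DCoh.LTensorCx R) _ _
    (kLiftFac (kRespects_tensor R) ≪≫
      Functor.isoWhiskerLeft (kRes Y) (Functor.isoWhiskerRight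
        (symmIso (tensorBiFlipIso Y) R).symm DerivedCategory.Q) ≪≫
      (asIso (Functor.whiskerLeft (kRes Y) c)).symm ≪≫
      asIso (Functor.whiskerRight (Functor.whiskerRight (flatCover Y).ψ DerivedCategory.Q)
        (DCoh.LTensorCx R)))⟩

variable (f : X ⟶ Y)

/-- The dual of `Rf_* M` is `Rf_*` of `RHom(M, f^! G)`. -/
theorem nonempty_rpush_dual [QuasiCompact f] [QuasiSeparated f] [DCoh.HasRpush f] [DCoh.HasLpull f]
    (hf : DCoh.RpushPreservesQCoh f)
    (a : DCoh.DQCoh Y ⥤ DCoh.DQCoh X) (adj : DCoh.RpushQ f hf ⊣ a)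
    (M : CochainComplex X.Modules ℤ) (hM : DCoh.IsQCohD (DCoh.toD X M))
    [DCoh.HasLTensorCx M] [DCoh.HasRSheafHom M]
    (R : CochainComplex Y.Modules ℤ) (eR : DCoh.toD Y R ≅ (DCoh.Rpush f).obj (DCoh.toD X M))
    [DCoh.HasLTensorCx R] [DCoh.HasRSheafHom R] (G : DCoh.DQCoh Y)
    (hq : DCoh.IsQCohD ((DCoh.RSheafHom R).obj G.obj))
    (hq' : DCoh.IsQCohD ((DCoh.RSheafHom M).obj (a.obj G).obj)) :
    Nonempty ((DCoh.RSheafHom R).obj G.obj ≅ (DCoh.Rpush f).obj ((DCoh.RSheafHom M).obj (a.obj G).obj)) := by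
  obtain ⟨p⟩ := Lib.DerivedProj.nonempty_proj f M hM R eR
  obtain ⟨q⟩ := nonempty_projF_iso_ltensor R
  obtain ⟨h⟩ := AdjTensor.nonempty_projH_iso_ltensor f M
  obtain ⟨A⟩ := nonempty_lpull_rpush_adj f
  let ι := ObjectProperty.ι (DCoh.IsQCohD (X := Y))
  let θ : ι ⋙ DCoh.LTensorCx R ≅ ι ⋙ DCoh.Lpull f ⋙ DCoh.LTensorCx M ⋙ DCoh.Rpush f :=
    Functor.isoWhiskerLeft ι q.symm ≪≫ p ≪≫ Functor.isoWhiskerLeft ι (Functor.isoWhiskerRight h _) ≪≫
      Functor.isoWhiskerLeft ι (Functor.associator _ _ _)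
  let T : DCoh.DQCoh Y ⥤ DCoh.DQCoh X := ObjectProperty.lift _
    (ι ⋙ DCoh.Lpull f ⋙ DCoh.LTensorCx M) fun E => isQCohD_ltensor M hM (isQCohD_lpull f E.property)
  let L : DCoh.DQCoh Y ⥤ DCoh.D Y := ι ⋙ DCoh.LTensorCx R
  let H : (DCoh.DQCoh Y)ᵒᵖ ⥤ Type _ := L.op ⋙ yoneda.obj G.obj
  have ff : ∀ {W : Scheme.{u}}, (ObjectProperty.ι (DCoh.IsQCohD (X := W))).FullyFaithful :=
    fun {W} => ObjectProperty.fullyFaithfulι _
  let r₁ : H.RepresentableBy (⟨(DCoh.RSheafHom R).obj G.obj, hq⟩ : DCoh.DQCoh Y) :=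
    { homEquiv := fun {E} => ff.homEquiv.trans ((DCoh.RSheafHomAdj R).homEquiv E.obj G.obj).symm
      homEquiv_comp := fun {E E'} g h => by
        simp only [Equiv.trans_apply]
        exact (DCoh.RSheafHomAdj R).homEquiv_naturality_left_symm g.hom _ }
  let r₂ : H.RepresentableBy (⟨(DCoh.Rpush f).obj ((DCoh.RSheafHom M).obj (a.obj G).obj),
      hf _ hq'⟩ : DCoh.DQCoh Y) :=
    { homEquiv := fun {E} =>
        (((ff.homEquiv (X := E) (Y := (⟨(DCoh.Rpush f).obj ((DCoh.RSheafHom M).obj (a.obj G).obj), hf _ hq'⟩ :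
            DCoh.DQCoh Y))).trans ((A.homEquiv E.obj ((DCoh.RSheafHom M).obj (a.obj G).obj)).symm.trans
            ((DCoh.RSheafHomAdj M).homEquiv ((DCoh.Lpull f).obj E.obj) (a.obj G).obj).symm)).trans
          ((ff.homEquiv (X := T.obj E) (Y := a.obj G)).symm.trans
            ((adj.homEquiv (T.obj E) G).symm.trans ff.homEquiv))).trans
          (Iso.homCongr (θ.app E).symm (Iso.refl G.obj))
      homEquiv_comp := fun {E E'} g h => by
        simp only [Equiv.trans_apply]
        have e1 : ff.homEquiv (g ≫ h) = g.hom ≫ ff.homEquiv h := rfl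
        rw [e1]
        erw [A.homEquiv_naturality_left_symm, (DCoh.RSheafHomAdj M).homEquiv_naturality_left_symm]
        have e2 : ∀ x : (T.obj E').obj ⟶ (a.obj G).obj,
            (ff.homEquiv (X := T.obj E) (Y := a.obj G)).symm
                ((DCoh.LTensorCx M).map ((DCoh.Lpull f).map g.hom) ≫ x) =
              T.map g ≫ (ff.homEquiv (X := T.obj E') (Y := a.obj G)).symm x := fun x => by
          apply ff.map_injective
          rw [Functor.map_comp]
          erw [ff.map_preimage, ff.map_preimage]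
          rfl
        erw [e2, adj.homEquiv_naturality_left_symm]
        generalize (adj.homEquiv (T.obj E') G).symm _ = z
        change θ.hom.app E ≫ ((DCoh.Rpush f).map ((DCoh.LTensorCx M).map ((DCoh.Lpull f).map g.hom)) ≫ z.hom) ≫
            𝟙 G.obj =
          L.map g ≫ θ.hom.app E' ≫ z.hom ≫ 𝟙 G.obj
        rw [Category.comp_id, Category.comp_id]
        exact (θ.hom.naturality_assoc g _).symm }
  exact ⟨(ObjectProperty.ι _).mapIso (r₁.uniqueUpToIso r₂)⟩

end Groth.Agent.KExact.PushDual
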