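import Groth.Agent.KExact.ProjDown
import Groth.Agent.KFlatLib.Scheme.Adjoint
import Groth.Prelude.Def_Dual3

/-!
# `Rf_* a(K) = RSheafHom(Rf_* O, K)` for the right adjoint `a` of `Rf_*` on `D_QCoh`
-/

set_option autoImplicit false
set_option linter.style.haveILetI false
set_option linter.unusedSectionVars false
set_option backward.isDefEq.respectTransparency false
set_option backward.isDefEq.respectTransparency.types false

universe u

open CategoryTheory CategoryTheory.Limits AlgebraicGeometry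

attribute [local instance] HasDerivedCategory.standard

namespace Groth.Agent.KExact.PushShriek

open KFlatLib

variable {X Y : Scheme.{u}} (f : X ⟶ Y) [QuasiCompact f] [QuasiSeparated f] [DCoh.HasRpush f]

/-- The comparison, natural on the objects where `RSheafHom(Rf_* O, -)` is quasi-coherent. -/
theorem nonempty_push_rightAdjoint_iso (hf : DCoh.RpushPreservesQCoh f)
    (a : DCoh.DQCoh Y ⥤ DCoh.DQCoh X) (adj : DCoh.RpushQ f hf ⊣ a)
    (E : CochainComplex Y.Modules ℤ)
    (eE : DCoh.toD Y E ≅ (DCoh.Rpush f).obj (DCoh.inD X (Coh.structureModule X)))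
    [DCoh.HasLTensorCx E] [DCoh.HasRSheafHom E] {P : Type*} [Category P] (ιP : P ⥤ DCoh.DQCoh Y)
    (hq : ∀ K : P, DCoh.IsQCohD ((DCoh.RSheafHom E).obj (ιP.obj K).obj)) :
    Nonempty (ιP ⋙ a ⋙ DCoh.RpushQ f hf ⋙ ObjectProperty.ι _ ≅
      ιP ⋙ ObjectProperty.ι _ ⋙ DCoh.RSheafHom E) := by
  haveI := hasLpull f
  obtain ⟨adjL⟩ := nonempty_lpull_rpush_adj f
  obtain ⟨β⟩ := ProjDown.nonempty_lpull_rpush_iso f E eE
  let adjR := DCoh.RSheafHomAdj E
  let F : P → DCoh.DQCoh Y := fun K => (DCoh.RpushQ f hf).obj (a.obj (ιP.obj K))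
  let u : ∀ K : P, (DCoh.Rpush f).obj ((DCoh.Lpull f).obj (F K).obj) ⟶ (ιP.obj K).obj := fun K =>
    (DCoh.Rpush f).map (adjL.counit.app (a.obj (ιP.obj K)).obj) ≫ (adj.counit.app (ιP.obj K)).hom
  let θ : ∀ K : P, (F K).obj ⟶ (DCoh.RSheafHom E).obj (ιP.obj K).obj := fun K =>
    adjR.homEquiv _ _ (β.inv.app (F K) ≫ u K)
  -- maps into both sides
  let B : ∀ (T : DCoh.DQCoh Y) (K : P), (T.obj ⟶ (F K).obj) → (T.obj ⟶ (DCoh.RSheafHom E).obj (ιP.obj K).obj) :=
    fun T K z => adjR.homEquiv _ _ (β.inv.app T ≫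
      ((adj.homEquiv ⟨(DCoh.Lpull f).obj T.obj, isQCohD_lpull f T.property⟩ (ιP.obj K)).symm
        (ObjectProperty.homMk ((adjL.homEquiv T.obj _).symm z))).hom)
  have hB : ∀ (T : DCoh.DQCoh Y) (K : P) (z : T.obj ⟶ (F K).obj), z ≫ θ K = B T K z := fun T K z => by
    refine (adjR.homEquiv_naturality_left z _).symm.trans (congrArg (adjR.homEquiv _ _) ?_)
    rw [← Category.assoc]
    refine (congrArg (· ≫ u K) (β.inv.naturality (X := T) (Y := F K) (ObjectProperty.homMk z))).trans ?_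
    rw [Category.assoc]
    refine congrArg (_ ≫ ·) ?_
    rw [adj.homEquiv_counit]
    change (DCoh.Rpush f).map ((DCoh.Lpull f).map z) ≫ (DCoh.Rpush f).map _ ≫ _ = (DCoh.Rpush f).map _ ≫ _
    rw [adjL.homEquiv_counit]
    exact ((DCoh.Rpush f).map_comp_assoc _ _ _).symm
  have hbij : ∀ (T : DCoh.DQCoh Y) (K : P), Function.Bijective (B T K) := fun T K => by
    refine (adjR.homEquiv _ _).bijective.comp (Function.Bijective.comp ?_
      (Function.Bijective.comp ⟨fun x y h => ObjectProperty.hom_ext _ h, fun y => ⟨ObjectProperty.homMk y, rfl⟩⟩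
        ((adj.homEquiv _ _).symm.bijective.comp (Function.Bijective.comp
          ⟨fun x y h => congrArg InducedCategory.Hom.hom h, fun y => ⟨y.hom, rfl⟩⟩
            (adjL.homEquiv T.obj _).symm.bijective))))
    exact ⟨fun x y h => (cancel_epi (β.inv.app T)).1 h,
      fun y => ⟨β.hom.app T ≫ y, Iso.inv_hom_id_app_assoc β T y⟩⟩
  have hiso : ∀ K, IsIso (θ K) := fun K => by
    obtain ⟨z, hz⟩ := (hbij ⟨_, hq K⟩ K).2 (𝟙 _)
    rw [← hB] at hz
    refine ⟨z, (hbij (F K) K).1 ?_, hz⟩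
    rw [← hB, ← hB, Category.assoc, hz, Category.comp_id, Category.id_comp]
  refine ⟨NatIso.ofComponents (fun K => @asIso _ _ _ _ (θ K) (hiso K)) fun {K L} g => ?_⟩
  change (DCoh.Rpush f).map (a.map (ιP.map g)).hom ≫ θ L = θ K ≫ (DCoh.RSheafHom E).map (ιP.map g).hom
  refine (hB (F K) L _).trans ?_
  refine Eq.trans ?_ (adjR.homEquiv_naturality_right _ _)
  refine congrArg (adjR.homEquiv _ _) ?_
  rw [Category.assoc]
  refine congrArg (_ ≫ ·) ?_
  rw [adj.homEquiv_counit]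
  change (DCoh.Rpush f).map _ ≫ _ = _
  rw [adjL.homEquiv_counit]
  have h1 := adjL.counit.naturality (a.map (ιP.map g)).hom
  have h2 := congrArg InducedCategory.Hom.hom (adj.counit.naturality (ιP.map g))
  simp only [Functor.comp_map, Functor.id_map] at h1
  change _ = ((DCoh.Rpush f).map (adjL.counit.app (a.obj (ιP.obj K)).obj) ≫
    (adj.counit.app (ιP.obj K)).hom) ≫ (ιP.map g).hom
  rw [Category.assoc]
  refine Eq.trans ?_ (congrArg (_ ≫ ·) h2)
  change (DCoh.Rpush f).map ((DCoh.Lpull f).map ((DCoh.Rpush f).map (a.map (ιP.map g)).hom) ≫ _) ≫ _ =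
    _ ≫ (DCoh.Rpush f).map (a.map (ιP.map g)).hom ≫ _
  rw [← Category.assoc ((DCoh.Rpush f).map _) ((DCoh.Rpush f).map _), ← Functor.map_comp]
  exact congrArg (fun t => (DCoh.Rpush f).map t ≫ _) h1

end Groth.Agent.KExact.PushShriek
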