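import Groth.Agent.KExact.QCohSec
import Groth.Agent.QCohAb.Gen
import Groth.Agent.QCoh.Pullback
import Groth.Agent.QCoh.Qcqs
import Groth.Agent.KFlatLib.Scheme.MVPush
import Groth.Agent.KFlatLib.Scheme.TorBCPerfect
import Groth.Agent.H9Misc.QCohDerivedFun
import Groth.Agent.H9Misc.StalkInjective
import Mathlib.CategoryTheory.Adjunction.AdjointFunctorTheorems

/-!
# The coherator on complexes

For suitable `f : X ⟶ Y` and a K-injective complex `I` of injective modules on `X` with quasi-coherent cohomology,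
`ι Q (f_* I) ⟶ f_* I` is a quasi-isomorphism, `Q` being right adjoint to the inclusion `ι` of quasi-coherent modules.
-/

set_option autoImplicit false
set_option linter.style.haveILetI false
set_option backward.isDefEq.respectTransparency false
set_option backward.isDefEq.respectTransparency.types false

universe w v v' u u'

open CategoryTheory CategoryTheory.Limits AlgebraicGeometry TopologicalSpace Opposite Pretriangulated

attribute [local instance] HasDerivedCategory.standard

namespace Groth.Agent.KExact.QCohCoref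

open KFlatLib QCohSec

section Abstract

variable {C : Type u} [Category.{v} C] [Abelian C]

theorem isIso_app_biprod {D : Type u'} [Category.{v'} D] [Preadditive D] {F G : C ⥤ D} [F.Additive] [G.Additive]
    (τ : F ⟶ G) {A B : C} [IsIso (τ.app A)] [IsIso (τ.app B)] : IsIso (τ.app (A ⊞ B)) := by
  refine ⟨⟨G.map biprod.fst ≫ inv (τ.app A) ≫ F.map biprod.inl +
    G.map biprod.snd ≫ inv (τ.app B) ≫ F.map biprod.inr, ?_, ?_⟩⟩
  · rw [Preadditive.comp_add, ← Category.assoc, ← τ.naturality, ← Category.assoc (τ.app (A ⊞ B)), ← τ.naturality]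
    simp only [Category.assoc, IsIso.hom_inv_id_assoc, ← Functor.map_comp, ← Functor.map_add, biprod.total]
    exact CategoryTheory.Functor.map_id F _
  · rw [Preadditive.add_comp]
    simp only [Category.assoc, τ.naturality]
    simp only [IsIso.inv_hom_id_assoc, ← Functor.map_comp, ← Functor.map_add, biprod.total]
    exact CategoryTheory.Functor.map_id G _

variable [HasDerivedCategory.{w} C]

/-- Five lemma for quasi-isomorphisms of short exact sequences of complexes. -/
theorem quasiIso_τ₁ {S₁ S₂ : ShortComplex (CochainComplex C ℤ)} (hS₁ : S₁.ShortExact) (hS₂ : S₂.ShortExact)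
    (φ : S₁ ⟶ S₂) (h₂ : QuasiIso φ.τ₂) (h₃ : QuasiIso φ.τ₃) : QuasiIso φ.τ₁ := by
  haveI := (DerivedCategory.isIso_Q_map_iff_quasiIso (C := C) φ.τ₂).2 h₂
  haveI := (DerivedCategory.isIso_Q_map_iff_quasiIso (C := C) φ.τ₃).2 h₃
  let Φ : DerivedCategory.triangleOfSES hS₁ ⟶ DerivedCategory.triangleOfSES hS₂ :=
    { hom₁ := DerivedCategory.Q.map φ.τ₁
      hom₂ := DerivedCategory.Q.map φ.τ₂
      hom₃ := DerivedCategory.Q.map φ.τ₃
      comm₁ := by
        simp only [DerivedCategory.triangleOfSES_mor₁, ← Functor.map_comp, φ.comm₁₂]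
      comm₂ := by
        simp only [DerivedCategory.triangleOfSES_mor₂, ← Functor.map_comp, φ.comm₂₃]
      comm₃ := DerivedCategory.triangleOfSESδ_naturality hS₁ hS₂ φ }
  exact (DerivedCategory.isIso_Q_map_iff_quasiIso (C := C) φ.τ₁).1 (isIso₁_of_isIso₂₃ Φ
    (DerivedCategory.triangleOfSES_distinguished hS₁) (DerivedCategory.triangleOfSES_distinguished hS₂)
    (inferInstanceAs (IsIso (DerivedCategory.Q.map φ.τ₂))) (inferInstanceAs (IsIso (DerivedCategory.Q.map φ.τ₃))))

end Abstract

variable {X Y : Scheme.{u}}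

/-! ### The coreflection -/

instance isLeftAdjoint_ι (X : Scheme.{u}) : (QCohCat.isQCoh X).ι.IsLeftAdjoint := by
  haveI : PreservesColimits (QCohCat.isQCoh X).ι := QCohAb.preservesColimits_ι X
  haveI : WellPowered.{u} (QCohCat.QCoh X)ᵒᵖ := inferInstance
  exact isLeftAdjoint_of_preservesColimits_of_isSeparating (isSeparator_separator (QCohCat.QCoh X)) _

/-- The coherator `Q`. -/
noncomputable abbrev coh (X : Scheme.{u}) : X.Modules ⥤ QCohCat.QCoh X := (QCohCat.isQCoh X).ι.rightAdjoint

/-- `ι ⊣ Q`. -/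
noncomputable abbrev cohAdj (X : Scheme.{u}) : (QCohCat.isQCoh X).ι ⊣ coh X := Adjunction.ofIsLeftAdjoint _

attribute [local instance] preservesBinaryBiproducts_of_preservesBinaryProducts in
instance additive_coh (X : Scheme.{u}) : (coh X).Additive := Functor.additive_of_preservesBinaryBiproducts _

/-- `ι Q`. -/
noncomputable abbrev cfun (X : Scheme.{u}) : X.Modules ⥤ X.Modules := coh X ⋙ (QCohCat.isQCoh X).ι

theorem isQCoh_cfun (M : X.Modules) : Coh.IsQCoh ((cfun X).obj M) := ((coh X).obj M).2

/-- The counit `ι Q ⟶ 1`. -/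
noncomputable abbrev cnat (X : Scheme.{u}) : cfun X ⟶ 𝟭 X.Modules := (cohAdj X).counit

/-- The counit on complexes. -/
noncomputable def cmap (K : CochainComplex X.Modules ℤ) : (mapCx (cfun X)).obj K ⟶ K where
  f n := (cnat X).app (K.X n)
  comm' i k _ := ((cnat X).naturality (K.d i k)).symm

/-- The counit as a transformation of functors of complexes. -/
noncomputable def cmapNat (X : Scheme.{u}) : mapCx (cfun X) ⟶ 𝟭 (CochainComplex X.Modules ℤ) where
  app K := cmap K
  naturality K L φ := by
    ext n : 1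
    exact (cnat X).naturality (φ.f n)

theorem bijective_comp_cnat {M : X.Modules} (hM : Coh.IsQCoh M) (F : X.Modules) :
    Function.Bijective (fun a : M ⟶ (cfun X).obj F => a ≫ (cnat X).app F) := by
  let M' : QCohCat.QCoh X := ⟨M, hM⟩
  have h : (fun a : M ⟶ (cfun X).obj F => a ≫ (cnat X).app F) =
      ((cohAdj X).homEquiv M' F).symm ∘ (fun a => (ObjectProperty.homMk a : M' ⟶ (coh X).obj F)) :=
    funext fun a => ((cohAdj X).homEquiv_counit (X := M') (Y := F) (g := ObjectProperty.homMk a)).symm
  rw [h]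
  exact ((cohAdj X).homEquiv M' F).symm.bijective.comp
    ⟨fun a b hab => congrArg (fun t => t.hom) hab, fun g => ⟨g.hom, rfl⟩⟩

/-- Quasi-isomorphy of the counit only depends on the complex up to isomorphism. -/
theorem quasiIso_cmap_of_iso {K L : CochainComplex X.Modules ℤ} (e : K ≅ L) (h : QuasiIso (cmap K)) :
    QuasiIso (cmap L) := by
  haveI := h
  have : cmap L = (mapCx (cfun X)).map e.inv ≫ cmap K ≫ e.hom := by
    have h1 : (mapCx (cfun X)).map e.inv ≫ cmap K = cmap L ≫ e.inv := (cmapNat X).naturality e.inv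
    rw [← Category.assoc, h1, Category.assoc, e.inv_hom_id, Category.comp_id]
  rw [this]
  infer_instance

theorem cfun_injective (F : X.Modules) [Injective F] [IsLocallyNoetherian X] : Injective ((cfun X).obj F) := by
  haveI hq : Injective ((coh X).obj F) := by
    haveI : PreservesFiniteLimits (QCohCat.isQCoh X).ι := QCohAb.preservesFiniteLimits_ι X
    exact Injective.injective_of_adjoint (cohAdj X) F
  obtain ⟨E, m, hm, hE, hEq, -⟩ := H9Misc.QCohDerivedFun.exists_emb _ (isQCoh_cfun F)
  let m' : (coh X).obj F ⟶ ⟨E, hEq⟩ := ObjectProperty.homMk m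
  haveI : Mono ((QCohCat.isQCoh X).ι.map m') := hm
  haveI : Mono m' := (QCohCat.isQCoh X).ι.mono_of_mono_map inferInstance
  let r := Injective.factorThru (𝟙 _) m'
  haveI := hE
  refine (Retract.injective (Y := E) ⟨m, r.hom, ?_⟩)
  exact congrArg (fun t => t.hom) (Injective.comp_factorThru (𝟙 _) m')

/-! ### Sections -/

/-- `K` is exact on sections over `W`. -/
def SecAc (W : X.Opens) (K : CochainComplex X.Modules ℤ) : Prop :=
  ∀ p n q : ℤ, p + 1 = n → n + 1 = q → ∀ x : Γ(K.X n, W), (K.d n q).app W x = 0 →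
    ∃ y : Γ(K.X p, W), (K.d p n).app W y = x

theorem homAcyclic_iff_secAc (W : X.Opens) (K : CochainComplex X.Modules ℤ) :
    HomAcyclic (secObj W) K ↔ SecAc W K := by
  suffices HomAcyclic (secObj W) K ↔ SecAc (W.ι ''ᵁ ⊤) K by rwa [Scheme.Opens.ι_image_top] at this
  have h0 : ∀ {M : X.Modules} (a : secObj W ⟶ M), secEquiv W M a = 0 ↔ a = 0 := by
    intro M a
    have hz : secEquiv W M 0 = 0 := by
      rw [← comp_zero (f := (0 : secObj W ⟶ M)) (Z := M), secEquiv_naturality]
      simp
    exact ⟨fun h => (secEquiv W M).injective (h.trans hz.symm), fun h => h ▸ hz⟩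
  refine ⟨fun h p n q hp hq x hx => ?_, fun h p n q hp hq z hz => ?_⟩
  · obtain ⟨z, rfl⟩ := (secEquiv W _).surjective x
    obtain ⟨w, rfl⟩ := h p n q hp hq z ((h0 _).1 ((secEquiv_naturality W z _).trans hx))
    exact ⟨secEquiv W _ w, (secEquiv_naturality W w _).symm⟩
  · obtain ⟨y, hy⟩ := h p n q hp hq (secEquiv W _ z) ((secEquiv_naturality W z _).symm.trans ((h0 _).2 hz))
    obtain ⟨w, rfl⟩ := (secEquiv W _).surjective y
    exact ⟨w, (secEquiv W _).injective ((secEquiv_naturality W w _).trans hy)⟩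

theorem secAc_push (f : X ⟶ Y) (W : Y.Opens) (K : CochainComplex X.Modules ℤ) (h : SecAc (f ⁻¹ᵁ W) K) :
    SecAc W ((mapCx (Scheme.Modules.pushforward f)).obj K) := h

/-- The counit is a quasi-isomorphism on an affine scheme. -/
theorem quasiIso_cmap_affine [IsAffine X] (I : CochainComplex X.Modules ℤ) [I.IsKInjective]
    (hI : DCoh.IsQCohD (DerivedCategory.Q.obj I)) : QuasiIso (cmap I) := by
  let N := (mapCx (cfun X)).obj I
  have hT := isAffineOpen_top X
  let eS : secObj (⊤ : X.Opens) ≅ Coh.structureModule X :=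
    { hom := (SecPoint.secEq (⊤ : X.Opens) _).symm (topEquiv (Coh.structureModule X) (𝟙 _))
      inv := (topEquiv _).symm (SecPoint.gen (⊤ : X.Opens))
      hom_inv_id := (SecPoint.secEq ⊤ _).injective (by
        rw [SecPoint.secEq_comp, Equiv.apply_symm_apply]
        have h1 := topEquiv_naturality (𝟙 (Coh.structureModule X))
          ((topEquiv (secObj (⊤ : X.Opens))).symm (SecPoint.gen (⊤ : X.Opens)))
        rw [Category.id_comp, Equiv.apply_symm_apply] at h1
        exact h1.symm)
      inv_hom_id := (topEquiv _).injective (by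
        rw [topEquiv_naturality, Equiv.apply_symm_apply]
        exact (SecPoint.secEq_eq _ _).symm.trans ((SecPoint.secEq _ _).apply_symm_apply _)) }
  have hS : Coh.IsQCoh (secObj (⊤ : X.Opens)) := isQCoh_of_iso eS.symm QCoh.isQCoh_structureModule
  have hN : ∀ n, Coh.IsQCoh (N.X n) := fun n => isQCoh_cfun _
  have lN := lifts_of_isQCoh hT N hN
  have lI : Lifts (secObj (⊤ : X.Opens)) I :=
    lifts_of_isKInjective fun n => bijective_psiC_of_shift (bijH0_of_isQCohD (isQCohD_shift hI n) hT)
  have hHI : ∀ n, Coh.IsQCoh (I.homology n) := fun n =>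
    isQCoh_of_iso ((DerivedCategory.homologyFunctorFactors X.Modules n).app I) (hI n)
  have hHN : ∀ n, Coh.IsQCoh (N.homology n) := fun n =>
    isQCoh_of_iso ((cokernelIsCokernel (N.toCycles (n - 1) n)).coconePointUniqueUpToIso
      (N.homologyIsCokernel (n - 1) n (by simp)))
      (QCoh.isQCoh_cokernel (hN (n - 1)) (isQCoh_of_iso
        ((kernelIsKernel _).conePointUniqueUpToIso (N.cyclesIsKernel n (n + 1) (by simp)))
        (QCoh.isQCoh_kernel (hN n) (hN (n + 1)) _)) _)
  rw [quasiIso_iff]
  intro n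
  rw [quasiIsoAt_iff_isIso_homologyMap]
  let hm := HomologicalComplex.homologyMap (cmap I) n
  have hbij : Function.Bijective (fun a : secObj (⊤ : X.Opens) ⟶ N.homology n => a ≫ hm) := by
    refine ⟨fun a b hab => sub_eq_zero.1 ?_, fun y => ?_⟩
    · obtain ⟨z, hz⟩ := lN.surj n (a - b)
      have h1 : (z ≫ HomologicalComplex.cyclesMap (cmap I) n) ≫ I.homologyπ n = 0 := by
        rw [Category.assoc, ← HomologicalComplex.homologyπ_naturality, reassoc_of% hz, Preadditive.sub_comp]
        exact sub_eq_zero.2 hab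
      obtain ⟨w, hw⟩ := lI.inj (n - 1) n (by omega) _ h1
      obtain ⟨w', hw'⟩ := (bijective_comp_cnat hS (I.X (n - 1))).2 w
      have hz' : z = w' ≫ N.toCycles (n - 1) n := by
        rw [← cancel_mono (N.iCycles n), Category.assoc, HomologicalComplex.toCycles_i]
        refine (bijective_comp_cnat hS (I.X n)).1 ?_
        have h2 := congrArg (· ≫ I.iCycles n) hw
        simp only [Category.assoc, HomologicalComplex.toCycles_i, HomologicalComplex.cyclesMap_i] at h2
        show (z ≫ N.iCycles n) ≫ (cmap I).f n = (w' ≫ N.d (n - 1) n) ≫ (cmap I).f n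
        rw [Category.assoc, Category.assoc, ← (cmap I).comm (n - 1) n, ← h2, ← hw']
        exact Category.assoc _ _ _
      rw [← hz, hz', Category.assoc, HomologicalComplex.toCycles_comp_homologyπ, comp_zero]
    · obtain ⟨z, rfl⟩ := lI.surj n y
      obtain ⟨a, ha⟩ := (bijective_comp_cnat hS (I.X n)).2 (z ≫ I.iCycles n)
      have ha' : a ≫ (cmap I).f n = z ≫ I.iCycles n := ha
      have had : a ≫ N.d n (n + 1) = 0 := by
        refine (bijective_comp_cnat hS (I.X (n + 1))).1 ?_
        show (a ≫ N.d n (n + 1)) ≫ (cmap I).f (n + 1) = 0 ≫ (cmap I).f (n + 1)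
        rw [zero_comp, Category.assoc, ← (cmap I).comm n (n + 1), reassoc_of% ha',
          HomologicalComplex.iCycles_d, comp_zero]
      refine ⟨N.liftCycles a (n + 1) (by simp) had ≫ N.homologyπ n, ?_⟩
      show (_ ≫ _) ≫ hm = _
      rw [Category.assoc, HomologicalComplex.homologyπ_naturality, ← Category.assoc]
      congr 1
      rw [← cancel_mono (I.iCycles n), Category.assoc, HomologicalComplex.cyclesMap_i,
        HomologicalComplex.liftCycles_i_assoc, ha']
  haveI : Mono hm := Preadditive.mono_of_kernel_zero ((eq_zero_of_isQCoh_top (QCoh.isQCoh_kernel (hHN n) (hHI n) hm)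
    fun s => by
      have : (s ≫ kernel.ι hm) ≫ hm = (0 : secObj (⊤ : X.Opens) ⟶ N.homology n) ≫ hm := by simp
      have := hbij.1 this
      rwa [← cancel_mono (kernel.ι hm), zero_comp]).eq_of_src _ _)
  haveI : Epi hm := Preadditive.epi_of_cokernel_zero ((eq_zero_of_isQCoh_top (QCoh.isQCoh_cokernel (hHN n) (hHI n) hm)
    fun s => by
      obtain ⟨t, ht⟩ := exists_secLift_exact (S := ShortComplex.mk (cokernel.π hm) (0 : cokernel hm ⟶ cokernel hm) (by simp))
        ((ShortComplex.exact_iff_epi _ rfl).2 inferInstance) (hHI n) (QCoh.isQCoh_cokernel (hHN n) (hHI n) hm) hT s (by simp)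
      obtain ⟨a, rfl⟩ := hbij.2 t
      rw [← ht]
      simp).eq_of_tgt _ _)
  exact isIso_of_mono_of_epi hm
where
  eq_zero_of_isQCoh_top {M : X.Modules} (hM : Coh.IsQCoh M)
      (h : ∀ s : secObj (⊤ : X.Opens) ⟶ M, s = 0) : IsZero M :=
    isZero_of_sections hM fun x => ⟨⊤, trivial, isAffineOpen_top X,
      ⟨fun a b => (SecPoint.secEq ⊤ _).symm.injective ((h _).trans (h _).symm)⟩⟩

end Groth.Agent.KExact.QCohCoref
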