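import Groth.Agent.KFlatLib.Scheme.TorBCPerfect
import Groth.Agent.KFlatLib.Scheme.RpushQCoh

/-!
# Devissage of `D_QCoh` of a qcqs scheme by direct images from affine opens
-/

set_option linter.style.haveILetI false
set_option backward.isDefEq.respectTransparency false

universe u

open CategoryTheory CategoryTheory.Limits AlgebraicGeometry Pretriangulated TopologicalSpace

attribute [local instance] HasDerivedCategory.standard

namespace Groth.Agent.KExact

open KFlatLib

/-- A triangulated property containing the direct images of quasi-coherent objects of affine opens contains all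
quasi-coherent objects. -/
theorem prop_of_affine_rpush {X : Scheme.{u}} [CompactSpace X] [QuasiSeparatedSpace X]
    (Q : ObjectProperty (DCoh.D X)) [Q.IsClosedUnderIsomorphisms] [Q.IsTriangulated]
    (hQ : ∀ (C : CommRingCat.{u}) (j : Spec C ⟶ X) [IsOpenImmersion j] [DCoh.HasRpush j]
      (F : DCoh.D (Spec C)), DCoh.IsQCohD F → Q ((DCoh.Rpush j).obj F))
    (E : DCoh.D X) (hE : DCoh.IsQCohD E) : Q E := by
  let P : X.Opens → Prop := fun O => ∀ (W : Scheme.{u}) (j : W ⟶ X) [IsOpenImmersion j] [DCoh.HasRpush j],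
    j.opensRange = O → ∀ F : DCoh.D W, DCoh.IsQCohD F → Q ((DCoh.Rpush j).obj F)
  have key : P ⊤ := by
    refine qc_induction P ?_ ?_ ⊤ (by simpa using isCompact_univ)
    · intro O hO W j _ _ hj F hF
      haveI : IsAffine (j.opensRange : Scheme.{u}) := hj ▸ hO
      haveI : IsAffine W := .of_isIso j.isoOpensRange.hom
      let e : Spec Γ(W, ⊤) ≅ W := W.isoSpec.symm
      haveI := hasRpush_scheme e.hom
      haveI := hasRpush_scheme (e.hom ≫ j)
      let G := (rho e.hom).obj F
      obtain ⟨a⟩ := AffineRpush.nonempty_rpush_iso_inv e G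
      obtain ⟨b⟩ := AffineLift.nonempty_rho_id (e.inv ≫ e.hom) e.inv_hom_id
      obtain ⟨c⟩ := nonempty_rpush_comp e.hom j
      exact Q.prop_of_iso ((c.app G).symm ≪≫ (DCoh.Rpush j).mapIso
        (a ≪≫ rhoComp e.inv e.hom (e.inv ≫ e.hom) rfl F ≪≫ b.app F))
        (hQ _ (e.hom ≫ j) G (isQCohD_rho e.hom hF))
    · intro U V _ _ hU hV hUV W j _ _ hj F hF
      let U' := j ⁻¹ᵁ U
      let V' := j ⁻¹ᵁ V
      have htop : U' ⊔ V' = ⊤ := top_unique fun w _ => by
        have : j w ∈ U ⊔ V := hj ▸ (⟨w, rfl⟩ : j w ∈ j.opensRange)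
        exact Opens.mem_sup.2 ((Opens.mem_sup.1 this).imp id id)
      have hr : ∀ O : X.Opens, O ≤ U ⊔ V → ((j ⁻¹ᵁ O).ι ≫ j).opensRange = O := fun O hO => by
        rw [Scheme.Hom.opensRange_comp, Scheme.Opens.opensRange_ι,
          Scheme.Hom.image_preimage_eq_opensRange_inf, hj, inf_eq_right.2 hO]
      haveI := hasRpush_scheme U'.ι
      haveI := hasRpush_scheme V'.ι
      haveI := hasRpush_scheme (U' ⊓ V').ι
      haveI := hasRpush_scheme (U'.ι ≫ j)
      haveI := hasRpush_scheme (V'.ι ≫ j)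
      haveI := hasRpush_scheme ((U' ⊓ V').ι ≫ j)
      obtain ⟨a, b, c, h⟩ := exists_mvRpush_triangle U' V' htop F
      haveI : (DCoh.Rpush j).Additive :=
        (exists_rightDerived_triangle (Scheme.Modules.pushforward j) _ (contractible_distinguished F)).1
      obtain ⟨cU⟩ := nonempty_rpush_comp U'.ι j
      obtain ⟨cV⟩ := nonempty_rpush_comp V'.ι j
      obtain ⟨cW⟩ := nonempty_rpush_comp (U' ⊓ V').ι j
      obtain ⟨a', b', c', h'⟩ := exists_map_mv_triangle (DCoh.Rpush j) (fun T hT => exists_rpush_triangle j T hT)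
        a b c h (Iso.refl _) (cU.app _) (cV.app _) (cW.app _)
      have hA := hU _ (U'.ι ≫ j) (hr U le_sup_left) _ (isQCohD_rho U'.ι hF)
      have hB := hV _ (V'.ι ≫ j) (hr V le_sup_right) _ (isQCohD_rho V'.ι hF)
      have hC := hUV _ ((U' ⊓ V').ι ≫ j) (hr (U ⊓ V) (inf_le_left.trans le_sup_left)) _
        (isQCohD_rho (U' ⊓ V').ι hF)
      have hAB := ObjectProperty.ext_of_isTriangulatedClosed₂ Q _
        (binaryBiproductTriangle_distinguished ((DCoh.Rpush (U'.ι ≫ j)).obj ((rho U'.ι).obj F))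
          ((DCoh.Rpush (V'.ι ≫ j)).obj ((rho V'.ι).obj F))) hA hB
      exact ObjectProperty.ext_of_isTriangulatedClosed₁ Q _ h' hAB hC
  haveI := hasRpush_scheme (Iso.refl X).hom
  obtain ⟨e₁⟩ := AffineRpush.nonempty_rpush_iso_inv (Iso.refl X) E
  obtain ⟨e₃⟩ := AffineLift.nonempty_rho_id (Iso.refl X).inv rfl
  exact Q.prop_of_iso (e₁ ≪≫ e₃.app _) (key X (Iso.refl X).hom (Scheme.Hom.opensRange_of_isIso _) E hE)

end Groth.Agent.KExact
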