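import Groth.Agent.KExact.QCohCoref

/-!
# Mayer-Vietoris for the coherator on complexes
-/

set_option autoImplicit false
set_option linter.style.haveILetI false
set_option backward.isDefEq.respectTransparency false
set_option backward.isDefEq.respectTransparency.types false

universe w v v' u u'

open CategoryTheory CategoryTheory.Limits AlgebraicGeometry TopologicalSpace Opposite

attribute [local instance] HasDerivedCategory.standard

namespace Groth.Agent.KExact.QCohMV

open KFlatLib QCohSec QCohCoref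

variable {X Y : Scheme.{u}}

/-- Induction over quasi-compact opens of a quasi-separated scheme by Mayer-Vietoris. -/
theorem prop_of_mv [QuasiSeparatedSpace X] (P : X.Opens → Prop) (h0 : P ⊥)
    (haff : ∀ U : X.Opens, IsAffineOpen U → P U)
    (hmv : ∀ A B : X.Opens, P A → P B → P (A ⊓ B) → P (A ⊔ B))
    (S : X.Opens) (hS : IsCompact (S : Set X)) : P S := by
  classical
  have step1 : ∀ (V : X.Opens), IsAffineOpen V → ∀ (s : Finset Γ(X, V)) (g : Γ(X, V)),
      P ((s.sup fun f => X.basicOpen f) ⊓ X.basicOpen g) := by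
    intro V hV s
    induction s using Finset.induction_on with
    | empty => intro g; simpa using h0
    | insert a s _ ih =>
      intro g
      rw [Finset.sup_insert, inf_sup_right, ← Scheme.basicOpen_mul]
      refine hmv _ _ (haff _ (hV.basicOpen _)) (ih g) ?_
      rw [inf_comm (X.basicOpen (a * g)), inf_assoc, ← Scheme.basicOpen_mul]
      exact ih _
  have step2 : ∀ (V T : X.Opens), IsAffineOpen V → IsCompact (T : Set X) → T ≤ V → P T := by
    intro V T hV hT hle
    have hc : ∀ x : (T : Set X), ∃ f : Γ(X, V), X.basicOpen f ≤ T ∧ x.1 ∈ X.basicOpen f := fun x => by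
      obtain ⟨f, hf, hx⟩ := hV.exists_basicOpen_le (V := T) ⟨x.1, x.2⟩ (hle x.2)
      exact ⟨f, hf, hx⟩
    choose f hf hxf using hc
    obtain ⟨t, ht⟩ := hT.elim_finite_subcover (fun x => (X.basicOpen (f x) : Set X))
      (fun x => (X.basicOpen (f x)).isOpen) (fun x hx => Set.mem_iUnion.2 ⟨⟨x, hx⟩, hxf ⟨x, hx⟩⟩)
    have e : (((t.image f).sup fun g => X.basicOpen g) ⊓ X.basicOpen (1 : Γ(X, V))) = T := by
      rw [Scheme.basicOpen_of_isUnit _ isUnit_one, Finset.sup_image]
      refine (inf_eq_left.2 (Finset.sup_le fun x _ => X.basicOpen_le _)).trans ?_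
      refine le_antisymm (Finset.sup_le fun x _ => hf x) fun x hx => ?_
      obtain ⟨y, hy, hxy⟩ := Set.mem_iUnion₂.1 (ht hx)
      exact (Finset.le_sup (f := (fun g => X.basicOpen g) ∘ f) hy) hxy
    exact e ▸ step1 V hV _ _
  suffices ∀ T : X.Opens, IsCompact (T : Set X) → P (S ⊓ T) by simpa using this S hS
  refine compact_open_induction_on (P := fun S => ∀ T : X.Opens, IsCompact (T : Set X) → P (S ⊓ T)) S hS
    (fun T _ => by simpa using h0) fun S' _ U ih T hT => ?_
  rw [inf_sup_right]
  have hUT : IsCompact ((U.1 ⊓ T : X.Opens) : Set X) :=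
    QuasiSeparatedSpace.inter_isCompact _ _ U.1.isOpen U.2.isCompact T.isOpen hT
  refine hmv _ _ (ih T hT) (step2 U.1 _ U.2 hUT inf_le_left) ?_
  rw [inf_assoc, ← inf_left_comm U.1, inf_idem]
  exact ih _ hUT

variable (f : X ⟶ Y)

/-- The counit is a quasi-isomorphism on `f_* j_{A*} j_A^* I` for all suitable `I`. -/
def Good (A : X.Opens) : Prop :=
  ∀ (I : CochainComplex X.Modules ℤ) [I.IsKInjective] [∀ n, Injective (I.X n)],
    DCoh.IsQCohD (DerivedCategory.Q.obj I) →
      QuasiIso (cmap ((mapCx (resPush A ⋙ Scheme.Modules.pushforward f)).obj I))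

theorem isZero_modules_of_isEmpty {U : Scheme.{u}} [IsEmpty U] (M : U.Modules) : IsZero M :=
  isZero_of_sections_empty M
where
  isZero_of_sections_empty (M : U.Modules) : IsZero M := by
    rw [IsZero.iff_id_eq_zero]
    refine eq_zero_of_secObj _ fun V _ s => (secEquiv V M).injective ?_
    haveI : Subsingleton Γ(M, V.ι ''ᵁ ⊤) :=
      AddCommGrpCat.subsingleton_of_isZero (((QCoh.abSheaf M).isTerminalOfEqEmpty
        (Opens.ext ((Set.eq_empty_of_isEmpty _).trans Opens.coe_bot.symm))).isZero)
    exact Subsingleton.elim _ _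

theorem good_bot : Good f ⊥ := by
  intro I _ _ _
  let K := (mapCx (resPush (⊥ : X.Opens) ⋙ Scheme.Modules.pushforward f)).obj I
  haveI : IsEmpty ((⊥ : X.Opens) : Scheme.{u}) := ⟨fun x => x.2⟩
  have hK : ∀ n, IsZero (K.X n) := fun n =>
    ((Scheme.Modules.pushforward f).map_isZero
      ((Scheme.Modules.pushforward (⊥ : X.Opens).ι).map_isZero (isZero_modules_of_isEmpty _)))
  haveI : ∀ n, IsIso ((cmap K).f n) := fun n =>
    ⟨0, ((cfun Y).map_isZero (hK n)).eq_of_src _ _, (hK n).eq_of_src _ _⟩
  haveI := HomologicalComplex.Hom.isIso_of_components (cmap K)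
  show QuasiIso (cmap K)
  infer_instance

theorem good_sup (A B : X.Opens) (hA : Good f A) (hB : Good f B) (hAB : Good f (A ⊓ B)) :
    Good f (A ⊔ B) := by
  intro I _ _ hI
  let S := A ⊔ B
  let Φ : X.Modules ⥤ Y.Modules := resPush S ⋙ Scheme.Modules.pushforward f
  let ra := (NatTrans.mapHomologicalComplex (pushTrans (A ⊓ B) A inf_le_left) (ComplexShape.up ℤ)).app I
  let rb := (NatTrans.mapHomologicalComplex (pushTrans (A ⊓ B) B inf_le_right) (ComplexShape.up ℤ)).app I
  let ca : I ⟶ (mapCx (resPush A)).obj I :=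
    { f := fun n => (pushUnit A).app (I.X n)
      comm' := fun i k _ => ((pushUnit A).naturality (I.d i k)).symm }
  let cb : I ⟶ (mapCx (resPush B)).obj I :=
    { f := fun n => (pushUnit B).app (I.X n)
      comm' := fun i k _ => ((pushUnit B).naturality (I.d i k)).symm }
  have h : ca ≫ ra = cb ≫ rb := HomologicalComplex.hom_ext _ _ fun n =>
    (pushUnit_trans (A ⊓ B) A inf_le_left (I.X n)).trans
      (pushUnit_trans (A ⊓ B) B inf_le_right (I.X n)).symm
  let S₀ := ShortComplex.mk (biprod.lift ca cb) (biprod.desc ra (-rb)) (by simp [h])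
  let R := Scheme.Modules.restrictFunctor S.ι
  have hR : ∀ n, ((S₀.map (HomologicalComplex.eval X.Modules (ComplexShape.up ℤ) n)).map R).ShortExact := by
    intro n
    rw [shortExact_iff_stalk]
    intro x
    let Ψ := HomologicalComplex.eval X.Modules (ComplexShape.up ℤ) n ⋙ R ⋙ DerSch.stalkFunctor (S : Scheme.{u}) x
    have hle : ∀ (W : X.Opens) (O : (S : Scheme.{u}).Opens), O ≤ S.ι ⁻¹ᵁ W → S.ι ''ᵁ O ≤ W := fun W O hO => by
      refine le_trans (Scheme.Hom.image_mono _ hO) ?_
      rw [image_preimage_ι]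
      exact inf_le_right
    by_cases hx : x.1 ∈ A
    · exact shortExact_map_mv' Ψ ca cb ra rb h
        (isIso_stalk_of_app _ (S.ι ⁻¹ᵁ A) x hx fun O hO => isIso_pushUnit_app A _ _ (hle A O hO))
        (isIso_stalk_of_app _ (S.ι ⁻¹ᵁ A) x hx fun O hO => isIso_pushTrans_app (A ⊓ B) B inf_le_right _ _
          (le_inf (inf_le_right.trans (hle A O hO)) inf_le_left))
    · have hv : x.1 ∈ B := (Opens.mem_sup.1 (show x.1 ∈ A ⊔ B from x.2)).resolve_left hx
      have h1 := shortExact_map_mv' Ψ cb ca rb ra h.symm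
        (isIso_stalk_of_app _ (S.ι ⁻¹ᵁ B) x hv fun O hO => isIso_pushUnit_app B _ _ (hle B O hO))
        (isIso_stalk_of_app _ (S.ι ⁻¹ᵁ B) x hv fun O hO => isIso_pushTrans_app (A ⊓ B) A inf_le_left _ _
          (le_inf inf_le_left (inf_le_right.trans (hle B O hO))))
      refine ShortComplex.shortExact_of_iso ?_ h1
      refine ShortComplex.isoMk (Iso.refl _) (Ψ.mapIso (biprod.braiding _ _)) (-(Iso.refl _)) ?_ ?_
      · change 𝟙 _ ≫ Ψ.map (biprod.lift ca cb) = Ψ.map (biprod.lift cb ca) ≫ Ψ.map _
        rw [← Ψ.map_comp, Category.id_comp]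
        refine congrArg Ψ.map ?_
        apply biprod.hom_ext <;> simp
      · change Ψ.map _ ≫ Ψ.map (biprod.desc ra (-rb)) = Ψ.map (biprod.desc rb (-ra)) ≫ (-(𝟙 _))
        refine (Ψ.map_comp _ _).symm.trans (Eq.trans ?_
          ((Ψ.map_neg).trans ((congrArg Neg.neg (Category.comp_id _)).symm.trans
            (Preadditive.comp_neg _ _).symm)))
        refine congrArg Ψ.map ?_
        apply biprod.hom_ext' <;> simp
  have hsplit : ∀ n, Nonempty ((S₀.map (HomologicalComplex.eval X.Modules (ComplexShape.up ℤ) n)).map Φ).Splitting := by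
    intro n
    haveI : Injective ((S₀.map (HomologicalComplex.eval X.Modules (ComplexShape.up ℤ) n)).map R).X₁ :=
      H9Misc.StalkInjective.injective_restrict S.ι (I.X n)
    exact ⟨((hR n).splittingOfInjective.map (Scheme.Modules.pushforward S.ι)).map (Scheme.Modules.pushforward f)⟩
  let T := S₀.map (mapCx Φ)
  have hT : T.ShortExact := HomologicalComplex.shortExact_of_degreewise_shortExact _ fun n =>
    (hsplit n).some.shortExact
  have hT' : (T.map (mapCx (cfun Y))).ShortExact := HomologicalComplex.shortExact_of_degreewise_shortExact _ fun n =>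
    ((hsplit n).some.map (cfun Y)).shortExact
  let φ : T.map (mapCx (cfun Y)) ⟶ T :=
    { τ₁ := cmap T.X₁
      τ₂ := cmap T.X₂
      τ₃ := cmap T.X₃
      comm₁₂ := ((cmapNat Y).naturality T.f).symm
      comm₂₃ := ((cmapNat Y).naturality T.g).symm }
  have key : ∀ W : X.Opens, W ≤ S → Good f W →
      QuasiIso (cmap ((mapCx Φ).obj ((mapCx (resPush W)).obj I))) := by
    intro W hW hG
    haveI : ∀ n, IsIso ((pushUnit S).app ((resPush W).obj (I.X n))) := fun n => isIso_pushUnit_resPush W S hW _
    let e : (mapCx (resPush W ⋙ Scheme.Modules.pushforward f)).obj I ≅ (mapCx Φ).obj ((mapCx (resPush W)).obj I) :=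
      HomologicalComplex.Hom.isoOfComponents
        (fun n => (Scheme.Modules.pushforward f).mapIso (asIso ((pushUnit S).app ((resPush W).obj (I.X n)))))
        (fun i k _ => by
          show (Scheme.Modules.pushforward f).map _ ≫ (Scheme.Modules.pushforward f).map _ =
            (Scheme.Modules.pushforward f).map _ ≫ (Scheme.Modules.pushforward f).map _
          rw [← Functor.map_comp, ← Functor.map_comp]
          exact congrArg _ ((pushUnit S).naturality ((resPush W).map (I.d i k))).symm)
    exact quasiIso_cmap_of_iso e (hG I hI)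
  refine quasiIso_τ₁ hT' hT φ ?_ (key (A ⊓ B) (inf_le_left.trans le_sup_left) hAB)
  let τ : mapCx Φ ⋙ mapCx (cfun Y) ⋙ DerivedCategory.Q ⟶ mapCx Φ ⋙ DerivedCategory.Q :=
    Functor.whiskerLeft (mapCx Φ) (Functor.whiskerRight (cmapNat Y) DerivedCategory.Q)
  haveI : IsIso (τ.app ((mapCx (resPush A)).obj I)) :=
    (DerivedCategory.isIso_Q_map_iff_quasiIso (C := Y.Modules) _).2 (key A le_sup_left hA)
  haveI : IsIso (τ.app ((mapCx (resPush B)).obj I)) :=
    (DerivedCategory.isIso_Q_map_iff_quasiIso (C := Y.Modules) _).2 (key B le_sup_right hB)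
  exact (DerivedCategory.isIso_Q_map_iff_quasiIso (C := Y.Modules) _).1 (isIso_app_biprod τ)

/-- The affine case. -/
theorem good_affine [QuasiCompact f] [QuasiSeparated f] [QuasiSeparatedSpace X] {A : X.Opens} (hA : IsAffineOpen A)
    (H : ∀ W : Y.Opens, IsAffineOpen W → ∀ (I : CochainComplex (A : Scheme.{u}).Modules ℤ) [I.IsKInjective]
      [∀ n, Injective (I.X n)] [QuasiIso (cmap I)],
      SecAc ((A.ι ≫ f) ⁻¹ᵁ W) (CochainComplex.mappingCone (cmap I))) : Good f A := by
  intro I _ _ hI
  haveI : IsAffine (A : Scheme.{u}) := hA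
  haveI : QuasiCompact A.ι := (quasiCompact_iff_forall_isAffineOpen).2 fun U hU => by
    rw [A.ι.isOpenEmbedding.isCompact_iff, Scheme.Hom.coe_preimage, Set.image_preimage_eq_inter_range,
      Scheme.Opens.range_ι]
    exact QuasiSeparatedSpace.inter_isCompact _ _ U.isOpen hU.isCompact A.isOpen hA.isCompact
  let j := A.ι ≫ f
  haveI : QuasiCompact j := inferInstance
  haveI : QuasiSeparated j := inferInstance
  let I' := (rCx A.ι).obj I
  haveI : I'.IsKInjective := isKInjective_rCx A.ι I
  haveI : ∀ n, Injective (I'.X n) := fun n => H9Misc.StalkInjective.injective_restrict A.ι (I.X n)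
  haveI : PreservesFiniteLimits (Scheme.Modules.restrictFunctor A.ι) := inferInstance
  haveI hq : QuasiIso (cmap I') := quasiIso_cmap_affine I'
    (isQCohD_of_iso ((Scheme.Modules.restrictFunctor A.ι).mapDerivedCategoryFactors.app I)
      (isQCohD_restrictD A.ι hI))
  let P := Scheme.Modules.pushforward j
  let g := (mapCx P).map (cmap I')
  haveI hg : QuasiIso g := by
    have hac : (CochainComplex.mappingCone g).Acyclic := by
      refine fun n => ((acyclic_of_homAcyclic _ fun W hW => (homAcyclic_iff_secAc W _).2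
        (secAc_push j W _ (H W hW I'))) n).of_iso ?_
      exact CochainComplex.mappingCone.mapHomologicalComplexIso (cmap I') P
    exact quasiIso_of_acyclic_cone g hac
  let K := (mapCx P).obj I'
  have hl : ∀ n, ∃ e : P.obj ((cfun _).obj (I'.X n)) ≅ (cfun Y).obj (K.X n),
      e.hom ≫ (cnat Y).app (K.X n) = P.map ((cnat _).app (I'.X n)) := by
    intro n
    have hq : Coh.IsQCoh (P.obj ((cfun _).obj (I'.X n))) := QCoh.isQCoh_pushforward j (isQCoh_cfun _)
    obtain ⟨a, ha⟩ := (bijective_comp_cnat hq (K.X n)).2 (P.map ((cnat _).app (I'.X n)))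
    let adj := Scheme.Modules.pullbackPushforwardAdjunction j
    obtain ⟨b, hb⟩ := (bijective_comp_cnat (QCoh.isQCoh_pullback j (isQCoh_cfun (K.X n))) (I'.X n)).2
      ((adj.homEquiv _ _).symm ((cnat Y).app (K.X n)))
    have hb₀ : b ≫ (cnat _).app (I'.X n) = (adj.homEquiv _ _).symm ((cnat Y).app (K.X n)) := hb
    have hb' : adj.homEquiv _ _ b ≫ P.map ((cnat _).app (I'.X n)) = (cnat Y).app (K.X n) := by
      rw [← adj.homEquiv_naturality_right, hb₀]
      exact Equiv.apply_symm_apply _ _
    refine ⟨⟨a, adj.homEquiv _ _ b, ?_, ?_⟩, ha⟩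
    · refine (adj.homEquiv _ _).symm.injective ?_
      refine (bijective_comp_cnat (QCoh.isQCoh_pullback j hq) (I'.X n)).1 ?_
      show (adj.homEquiv _ _).symm _ ≫ _ = (adj.homEquiv _ _).symm _ ≫ _
      rw [← adj.homEquiv_naturality_right_symm, ← adj.homEquiv_naturality_right_symm, Category.id_comp,
        Category.assoc, hb']
      exact congrArg _ ha
    · refine (bijective_comp_cnat (isQCoh_cfun (K.X n)) (K.X n)).1 ?_
      show (_ ≫ a) ≫ _ = 𝟙 _ ≫ _
      rw [Category.id_comp, Category.assoc]
      exact (congrArg _ ha).trans hb'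
  choose e he using hl
  let eK : (mapCx P).obj ((mapCx (cfun _)).obj I') ≅ (mapCx (cfun Y)).obj K :=
    HomologicalComplex.Hom.isoOfComponents e (fun i k _ => by
      refine (bijective_comp_cnat (QCoh.isQCoh_pushforward j (isQCoh_cfun _)) (K.X k)).1 ?_
      show ((e i).hom ≫ (cfun Y).map (K.d i k)) ≫ _ = (P.map ((cfun _).map (I'.d i k)) ≫ (e k).hom) ≫ _
      rw [Category.assoc, Category.assoc, (cnat Y).naturality, ← Category.assoc, he, he, ← Functor.map_comp,
        (cnat _).naturality]
      exact (P.map_comp _ _).symm)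
  have hK : QuasiIso (cmap K) := by
    have : cmap K = eK.inv ≫ g := by
      rw [Iso.eq_inv_comp]
      ext n : 1
      exact he n
    rw [this]
    infer_instance
  refine quasiIso_cmap_of_iso (K := K) ?_ hK
  exact HomologicalComplex.Hom.isoOfComponents
    (fun n => ((Scheme.Modules.pushforwardComp A.ι f).app _).symm)
    (fun i k _ => ((Scheme.Modules.pushforwardComp A.ι f).inv.naturality ((Scheme.Modules.restrictFunctor A.ι).map (I.d i k))).symm)
where
  quasiIso_of_acyclic_cone {K L : CochainComplex Y.Modules ℤ} (g : K ⟶ L)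
      (h : (CochainComplex.mappingCone g).Acyclic) : QuasiIso g := by
    refine (DerivedCategory.isIso_Q_map_iff_quasiIso (C := Y.Modules) g).1 ?_
    refine (Pretriangulated.Triangle.isZero₃_iff_isIso₁ _
      (DerivedCategory.mappingCone_triangle_distinguished g)).1 ?_
    show IsZero (DerivedCategory.Q.obj (CochainComplex.mappingCone g))
    have hH : ∀ n : ℤ, IsZero ((DerivedCategory.homologyFunctor Y.Modules n).obj
        (DerivedCategory.Q.obj (CochainComplex.mappingCone g))) := fun n =>
      ((HomologicalComplex.exactAt_iff_isZero_homology _ _).1 (h n)).of_iso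
        ((DerivedCategory.homologyFunctorFactors Y.Modules n).app _)
    haveI : IsIso (0 : DerivedCategory.Q.obj (CochainComplex.mappingCone g) ⟶
        DerivedCategory.Q.obj (CochainComplex.mappingCone g)) := (DerivedCategory.isIso_iff Y.Modules _).2 fun n =>
      ⟨0, (hH n).eq_of_src _ _, (hH n).eq_of_src _ _⟩
    exact (IsZero.iff_id_eq_zero _).2 ((isIsoZeroEquiv (DerivedCategory.Q.obj (CochainComplex.mappingCone g)) (DerivedCategory.Q.obj (CochainComplex.mappingCone g))).toFun inferInstance).1

end Groth.Agent.KExact.QCohMV
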