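import Groth.Agent.KFlatLib.Scheme.DQCohLimit
import Groth.Agent.KFlatLib.PsiC
import Groth.Agent.KFlatLib.Scheme.TildeD
import Mathlib.Algebra.Homology.HomotopyCategory.MappingCone
import Mathlib.Algebra.Homology.DerivedCategory.KInjective

/-!
# Acyclicity of mapping cones on sections over affine opens

If `g : N ⟶ I` is a quasi-isomorphism from a complex of quasi-coherent modules to a K-injective complex with
quasi-coherent cohomology, the cone of `g` is acyclic on sections over every affine open.
-/

set_option autoImplicit false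
set_option linter.style.haveILetI false
set_option backward.isDefEq.respectTransparency false
set_option backward.isDefEq.respectTransparency.types false

universe w v u

open CategoryTheory CategoryTheory.Limits AlgebraicGeometry TopologicalSpace Opposite

attribute [local instance] HasDerivedCategory.standard

namespace Groth.Agent.KExact.QCohSec

open KFlatLib

section Abstract

variable {C : Type u} [Category.{v} C] [Abelian C]

/-- `Hom(S, -)` sees `H^n K` as cycles modulo boundaries. -/
structure Lifts (S : C) (K : CochainComplex C ℤ) : Prop where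
  surj : ∀ (n : ℤ) (y : S ⟶ K.homology n), ∃ z : S ⟶ K.cycles n, z ≫ K.homologyπ n = y
  inj : ∀ (p n : ℤ), p + 1 = n → ∀ z : S ⟶ K.cycles n, z ≫ K.homologyπ n = 0 →
    ∃ w : S ⟶ K.X p, w ≫ K.toCycles p n = z

/-- `Hom(S, -)` is exact on `K` at every place. -/
def HomAcyclic (S : C) (K : CochainComplex C ℤ) : Prop :=
  ∀ p n q : ℤ, p + 1 = n → n + 1 = q → ∀ z : S ⟶ K.X n, z ≫ K.d n q = 0 → ∃ w : S ⟶ K.X p, w ≫ K.d p n = z

open CochainComplex in
theorem homAcyclic_mappingCone {S : C} {N I : CochainComplex C ℤ} (g : N ⟶ I) [QuasiIso g]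
    (hN : Lifts S N) (hI : Lifts S I) : HomAcyclic S (mappingCone g) := by
  intro p n q hp hn x hx
  let u : S ⟶ N.X q := x ≫ (mappingCone.fst g).1.v n q hn
  let z : S ⟶ I.X n := x ≫ (mappingCone.snd g).v n n (add_zero n)
  have hu : u ≫ N.d q (q + 1) = 0 := by
    have := congrArg (· ≫ (mappingCone.fst g).1.v q (q + 1) rfl) hx
    rw [Category.assoc, mappingCone.d_fst_v g n q (q + 1) hn rfl, zero_comp] at this
    simpa [u] using this
  have hz : u ≫ g.f q + z ≫ I.d n q = 0 := by
    have := congrArg (· ≫ (mappingCone.snd g).v q q (add_zero q)) hx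
    rw [Category.assoc, mappingCone.d_snd_v g n q hn, zero_comp, Preadditive.comp_add] at this
    simpa [u, z] using this
  obtain ⟨u', hu'⟩ : ∃ u' : S ⟶ N.X n, u' ≫ N.d n q = u := by
    obtain ⟨u', hu'⟩ := hN.inj n q hn (N.liftCycles u (q + 1) (by simp) hu) (by
      rw [← cancel_mono (HomologicalComplex.homologyMap g q), zero_comp, Category.assoc,
        HomologicalComplex.homologyπ_naturality, ← Category.assoc]
      have : N.liftCycles u (q + 1) (by simp) hu ≫ HomologicalComplex.cyclesMap g q = (-z) ≫ I.toCycles n q := by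
        rw [← cancel_mono (I.iCycles q)]
        simp only [Category.assoc, HomologicalComplex.cyclesMap_i, HomologicalComplex.liftCycles_i_assoc,
          HomologicalComplex.toCycles_i, Preadditive.neg_comp]
        exact eq_neg_of_add_eq_zero_left hz
      rw [this, Category.assoc, HomologicalComplex.toCycles_comp_homologyπ, comp_zero])
    exact ⟨u', by rw [← N.toCycles_i n q, reassoc_of% hu', HomologicalComplex.liftCycles_i]⟩
  have hc : (z + u' ≫ g.f n) ≫ I.d n q = 0 := by
    rw [Preadditive.add_comp, Category.assoc u', g.comm, reassoc_of% hu', add_comm]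
    exact hz
  let c : S ⟶ I.cycles n := I.liftCycles (z + u' ≫ g.f n) q (by simp [hn]) hc
  obtain ⟨v, hv⟩ := hN.surj n ((c ≫ I.homologyπ n) ≫ inv (HomologicalComplex.homologyMap g n))
  obtain ⟨w, hw⟩ := hI.inj p n hp (c - v ≫ HomologicalComplex.cyclesMap g n) (by
    rw [Preadditive.sub_comp, Category.assoc v, ← HomologicalComplex.homologyπ_naturality, ← Category.assoc v, hv,
      Category.assoc _ (inv _), IsIso.inv_hom_id, Category.comp_id, sub_self])
  have hw' : w ≫ I.d p n = z + u' ≫ g.f n - v ≫ N.iCycles n ≫ g.f n := by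
    rw [← I.toCycles_i p n, reassoc_of% hw, Preadditive.sub_comp, Category.assoc,
      HomologicalComplex.cyclesMap_i, HomologicalComplex.liftCycles_i]
  let a : S ⟶ N.X n := u' - v ≫ N.iCycles n
  have ha : a ≫ N.d n q = u := by
    rw [Preadditive.sub_comp, Category.assoc, HomologicalComplex.iCycles_d, comp_zero, sub_zero, hu']
  refine ⟨-a ≫ (mappingCone.inl g).v n p (by omega) + w ≫ (mappingCone.inr g).f p, ?_⟩
  refine mappingCone.ext_to g n q hn ?_ ?_
  · simp only [Preadditive.add_comp, Preadditive.neg_comp, Category.assoc]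
    rw [mappingCone.d_fst_v g p n q hp hn]
    simp only [Preadditive.comp_neg, Preadditive.neg_comp, neg_neg, mappingCone.inl_v_fst_v_assoc,
      mappingCone.inr_f_fst_v_assoc, zero_comp, comp_zero, neg_zero, add_zero]
    exact ha
  · simp only [Preadditive.add_comp, Preadditive.neg_comp, Category.assoc]
    rw [mappingCone.d_snd_v g p n hp]
    simp only [Preadditive.comp_add, mappingCone.inl_v_fst_v_assoc, mappingCone.inl_v_snd_v_assoc,
      mappingCone.inr_f_fst_v_assoc, mappingCone.inr_f_snd_v_assoc, zero_comp, comp_zero, add_zero, zero_add, hw']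
    show -(a ≫ g.f n) + _ = z
    simp only [a, Preadditive.sub_comp, Category.assoc]
    abel

variable [HasDerivedCategory.{w} C]

theorem lifts_of_isKInjective {S : C} {I : CochainComplex C ℤ} [I.IsKInjective]
    (h : ∀ n, Function.Bijective (psiC n S (DerivedCategory.Q.obj I))) : Lifts S I := by
  let sg (n : ℤ) := (CochainComplex.singleFunctor C n).obj S
  let ν (n : ℤ) : S ≅ S := (hSingle n S).symm ≪≫
    (DerivedCategory.homologyFunctorFactors C n).app (sg n) ≪≫
      HomologicalComplex.singleObjHomologySelfIso (ComplexShape.up ℤ) n S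
  have key : ∀ (n : ℤ) (f : sg n ⟶ I) (z : S ⟶ I.cycles n),
      f.f n = (HomologicalComplex.singleObjXSelf (ComplexShape.up ℤ) n S).hom ≫ z ≫ I.iCycles n →
      psiC n S (DerivedCategory.Q.obj I) (DerivedCategory.Q.map f) =
        (ν n).hom ≫ z ≫ I.homologyπ n ≫ (DerivedCategory.homologyFunctorFactors C n).inv.app I := by
    intro n f z hf
    have h1 : (HomologicalComplex.singleObjHomologySelfIso (ComplexShape.up ℤ) n S).inv ≫
        HomologicalComplex.homologyMap f n = z ≫ I.homologyπ n := by
      rw [← HomologicalComplex.singleObjCyclesSelfIso_inv_homologyπ, Category.assoc,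
        HomologicalComplex.homologyπ_naturality, ← Category.assoc]
      congr 1
      rw [← cancel_mono (I.iCycles n), Category.assoc, HomologicalComplex.cyclesMap_i,
        HomologicalComplex.singleObjCyclesSelfIso_inv_iCycles_assoc, hf, Iso.inv_hom_id_assoc]
    have h2 := (DerivedCategory.homologyFunctorFactors C n).hom.naturality f
    simp only [Functor.comp_map] at h2
    rw [← cancel_mono ((DerivedCategory.homologyFunctorFactors C n).hom.app I)]
    simp only [psiC, ν, Iso.trans_hom, Iso.symm_hom, Iso.app_hom, Category.assoc, Iso.inv_hom_id_app]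
    erw [Category.comp_id, h2]
    rw [← h1]
    erw [Iso.hom_inv_id_assoc]
    rfl
  refine ⟨fun n y => ?_, fun p n hp z hz => ?_⟩
  · obtain ⟨φ, hφ⟩ := (h n).2 ((ν n).hom ≫ y ≫ (DerivedCategory.homologyFunctorFactors C n).inv.app I)
    obtain ⟨f, hf⟩ := exists_Q_map (K := sg n) φ
    have hd : ((HomologicalComplex.singleObjXSelf (ComplexShape.up ℤ) n S).inv ≫ f.f n) ≫ I.d n (n + 1) = 0 := by
      rw [Category.assoc, f.comm]
      simp [sg, CochainComplex.singleFunctor, CochainComplex.singleFunctors]
    refine ⟨I.liftCycles _ (n + 1) (by simp) hd, ?_⟩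
    rw [← cancel_mono ((DerivedCategory.homologyFunctorFactors C n).inv.app I), ← cancel_epi (ν n).hom,
      ← hφ, ← hf, Category.assoc, key n f (I.liftCycles _ (n + 1) (by simp) hd)
        (by rw [HomologicalComplex.liftCycles_i, Iso.hom_inv_id_assoc])]
  · let f : sg n ⟶ I := HomologicalComplex.mkHomFromSingle (z ≫ I.iCycles n) (fun i _ => by
      rw [Category.assoc, HomologicalComplex.iCycles_d, comp_zero])
    have hf : f.f n = (HomologicalComplex.singleObjXSelf (ComplexShape.up ℤ) n S).hom ≫ z ≫ I.iCycles n :=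
      HomologicalComplex.mkHomFromSingle_f _ _
    have h0 : DerivedCategory.Q.map f = 0 := by
      refine (h n).1 ?_
      rw [key n f z hf, reassoc_of% hz, zero_comp, comp_zero]
      simp [psiC]
    obtain ⟨H⟩ := homotopy_of_Q_map_eq f 0 (by rw [h0, Functor.map_zero])
    refine ⟨(HomologicalComplex.singleObjXSelf (ComplexShape.up ℤ) n S).inv ≫ H.hom n p, ?_⟩
    rw [← cancel_mono (I.iCycles n), Category.assoc, Category.assoc, HomologicalComplex.toCycles_i,
      ← cancel_epi (HomologicalComplex.singleObjXSelf (ComplexShape.up ℤ) n S).hom, Iso.hom_inv_id_assoc, ← hf,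
      H.comm n, dNext_eq H.hom (show (ComplexShape.up ℤ).Rel n (n + 1) by simp),
      prevD_eq H.hom (show (ComplexShape.up ℤ).Rel p n by simp [hp])]
    simp [sg, CochainComplex.singleFunctor, CochainComplex.singleFunctors]

end Abstract

variable {X : Scheme.{u}}

theorem lifts_of_isQCoh {W : X.Opens} (hW : IsAffineOpen W) (N : CochainComplex X.Modules ℤ)
    (hN : ∀ n, Coh.IsQCoh (N.X n)) : Lifts (secObj W) N := by
  have hcy : ∀ n, Coh.IsQCoh (N.cycles n) := fun n =>
    isQCoh_of_iso ((kernelIsKernel _).conePointUniqueUpToIso (N.cyclesIsKernel n (n + 1) (by simp)))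
      (QCoh.isQCoh_kernel (hN n) (hN (n + 1)) _)
  have hH : ∀ n, Coh.IsQCoh (N.homology n) := fun n =>
    isQCoh_of_iso ((cokernelIsCokernel (N.toCycles (n - 1) n)).coconePointUniqueUpToIso
      (N.homologyIsCokernel (n - 1) n (by simp)))
      (QCoh.isQCoh_cokernel (hN (n - 1)) (hcy n) _)
  refine ⟨fun n y => ?_, fun p n hp z hz => ?_⟩
  · let T : ShortComplex X.Modules := ShortComplex.mk (N.homologyπ n) (0 : N.homology n ⟶ N.homology n) (by simp)
    exact exists_secLift_exact (S := T) ((T.exact_iff_epi rfl).2 inferInstance) (hcy n) (hH n) hW y (by simp [T])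
  · let T : ShortComplex X.Modules := ShortComplex.mk (N.toCycles p n) (N.homologyπ n) (N.toCycles_comp_homologyπ p n)
    exact exists_secLift_exact (S := T)
      (ShortComplex.exact_of_g_is_cokernel _ (N.homologyIsCokernel p n (by simp [← hp]))) (hN p) (hcy n) hW z hz

/-- The cone of a quasi-isomorphism from quasi-coherent modules to a K-injective complex is acyclic on affines. -/
theorem homAcyclic_cone {W : X.Opens} (hW : IsAffineOpen W) {N I : CochainComplex X.Modules ℤ}
    (hN : ∀ n, Coh.IsQCoh (N.X n)) [I.IsKInjective] (g : N ⟶ I) [QuasiIso g] :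
    HomAcyclic (secObj W) (CochainComplex.mappingCone g) := by
  have hq : DCoh.IsQCohD (DerivedCategory.Q.obj N) := fun n =>
    isQCoh_of_iso ((DerivedCategory.homologyFunctorFactors X.Modules n).app N).symm
      (isQCoh_of_iso ((cokernelIsCokernel (N.toCycles (n - 1) n)).coconePointUniqueUpToIso
        (N.homologyIsCokernel (n - 1) n (by simp)))
        (QCoh.isQCoh_cokernel (hN (n - 1)) (isQCoh_of_iso
          ((kernelIsKernel _).conePointUniqueUpToIso (N.cyclesIsKernel n (n + 1) (by simp)))
          (QCoh.isQCoh_kernel (hN n) (hN (n + 1)) _)) _))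
  have hqI : DCoh.IsQCohD (DerivedCategory.Q.obj I) := isQCohD_of_iso (asIso (DerivedCategory.Q.map g)) hq
  exact homAcyclic_mappingCone g (lifts_of_isQCoh hW N hN)
    (lifts_of_isKInjective fun n => bijective_psiC_of_shift (bijH0_of_isQCohD (isQCohD_shift hqI n) hW))

/-- A complex exact on sections over all affine opens is acyclic. -/
theorem acyclic_of_homAcyclic (K : CochainComplex X.Modules ℤ)
    (h : ∀ W : X.Opens, IsAffineOpen W → HomAcyclic (secObj W) K) : K.Acyclic := by
  intro n
  rw [HomologicalComplex.exactAt_iff_isZero_homology]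
  have h0 : K.homologyπ n = 0 := eq_zero_of_secObj _ fun W hW z => by
    obtain ⟨w, hw⟩ := h W hW (n - 1) n (n + 1) (by omega) rfl (z ≫ K.iCycles n)
      (by rw [Category.assoc, HomologicalComplex.iCycles_d, comp_zero])
    have : w ≫ K.toCycles (n - 1) n = z := by
      rw [← cancel_mono (K.iCycles n), Category.assoc, HomologicalComplex.toCycles_i, hw]
    rw [← this, Category.assoc, HomologicalComplex.toCycles_comp_homologyπ, comp_zero]
  exact (IsZero.iff_id_eq_zero _).2 ((cancel_epi (K.homologyπ n)).1 (by rw [h0]; simp))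

end Groth.Agent.KExact.QCohSec
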