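import Groth.Agent.KExact.RHomOAdjoint

/-!
# The right adjoint of `Ri_*` is `RHom(O_Z, -)` when `i_*O_Z` is pseudo-coherent
-/

set_option autoImplicit false
set_option linter.style.haveILetI false
set_option linter.unusedSectionVars false
set_option backward.isDefEq.respectTransparency false
set_option backward.isDefEq.respectTransparency.types false

universe u

open CategoryTheory CategoryTheory.Limits AlgebraicGeometry

attribute [local instance] HasDerivedCategory.standard

namespace Groth.Agent.KExact.RHomO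

open KFlatLib

variable {X Z : Scheme.{u}} (i : Z ⟶ X) [IsClosedImmersion i] [Dual3.HasHomO i] [EnoughInjectives X.Modules]

/-- Quasi-coherence of `RHom(O_Z, K)`. -/
theorem isQCohD_RHomOPlus_pc (hpcZ : ∀ m : ℤ, DCoh.IsPseudoCoherentD m (DCoh.inD X ((Coh.push i).obj (Coh.structureModule Z)))) (K : DerivedCategory.Plus X.Modules) (hK : DCoh.IsQCohD K.obj) :
    DCoh.IsQCohD ((Dual3.RHomOPlus i).obj K).obj := fun n => by
  obtain ⟨I, a, hI, hge, hinj, ⟨eI⟩, h⟩ := exists_model i K
  haveI := hinj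
  obtain ⟨e⟩ := h n
  let P := (kRes X).obj (pushO i)
  haveI := (flatCover X).quasiIso_ψ (pushO i)
  haveI := hasLTensorCx P
  haveI := hasRSheafHom_of_isKFlat P (isKFlat_kRes _)
  haveI := isIso_Q_map ((flatCover X).ψ.app (pushO i)) inferInstance
  have hpc : DCoh.IsPseudoCoherentD (a - n - 1) (DCoh.toD X P) :=
    (isPseudoCoherentD_iff _ _).2 (((isPseudoCoherentD_iff _ _).1 (hpcZ _)).of_iso
      (((DerivedCategory.singleFunctorIsoCompQ X.Modules 0).app _) ≪≫
        (asIso (DerivedCategory.Q.map ((flatCover X).ψ.app (pushO i)))).symm))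
  haveI := quasiIso_iHomMap ((flatCover X).ψ.app (pushO i)) I
  obtain ⟨eP⟩ := nonempty_RSheafHom_iso P I
  have hq : Coh.IsQCoh ((Scheme.Modules.pushforward i).obj (DCoh.HD ((Dual3.RHomOPlus i).obj K).obj n)) :=
    KFlatLib.isQCoh_of_iso (e ≪≫
      asIso (HomologicalComplex.homologyMap ((iHomMap ((flatCover X).ψ.app (pushO i))).app I) n) ≪≫
      ((DerivedCategory.homologyFunctor X.Modules n).mapIso eP ≪≫
        (DerivedCategory.homologyFunctorFactors X.Modules n).app _).symm).symm
      (isQCoh_HD_RSheafHom P (DerivedCategory.Q.obj I) (isQCohD_of_iso eI.symm hK) a n hpc)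
  haveI := KZ.ClosedDev.isIso_counit i hq
  exact KFlatLib.isQCoh_of_iso (asIso ((Scheme.Modules.pullbackPushforwardAdjunction i).counit.app _))
    (QCoh.isQCoh_pullback i hq)

variable [CompactSpace X] [QuasiSeparatedSpace X]

/-- The comparison. -/
theorem nonempty_rightAdjoint_iso_pc [DCoh.HasRpush i] (hpcZ : ∀ m : ℤ, DCoh.IsPseudoCoherentD m (DCoh.inD X ((Coh.push i).obj (Coh.structureModule Z))))
    (hf : DCoh.RpushPreservesQCoh i)
    (a : DCoh.DQCoh X ⥤ DCoh.DQCoh Z) (adj : DCoh.RpushQ i hf ⊣ a) :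
    Nonempty (Dual3.bddι X ⋙ a ⋙ ObjectProperty.ι _ ≅
      Dual3.bddToPlus X ⋙ Dual3.RHomOPlus i ⋙
        (DerivedCategory.Plus.ι : DerivedCategory.Plus Z.Modules ⥤ DCoh.D Z)) := by
  haveI : QuasiSeparatedSpace Z := quasiSeparatedSpace_of_quasiSeparated i
  haveI : CompactSpace Z := QuasiCompact.compactSpace_of_compactSpace i
  haveI : EnoughInjectives Z.Modules := inferInstance
  haveI := ClosedShriek.preservesFiniteColimits_push i
  haveI : PreservesFiniteLimits (Scheme.Modules.pushforward i) := by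
    haveI := (Scheme.Modules.pullbackPushforwardAdjunction i).isRightAdjoint
    infer_instance
  obtain ⟨A⟩ := H9Misc.PlusRB.nonempty_adj (Dual3.homOAdj i)
  obtain ⟨π⟩ := nonempty_plusι_iso (Scheme.Modules.pushforward i)
  obtain ⟨ρ⟩ := nonempty_rpush_iso i
  let P := (Dual3.IsBddBelowQ X).FullSubcategory
  let H : P ⥤ DCoh.DQCoh Z := ObjectProperty.lift _
    (Dual3.bddToPlus X ⋙ Dual3.RHomOPlus i ⋙ DerivedCategory.Plus.ι)
    fun K => isQCohD_RHomOPlus_pc i hpcZ _ K.obj.property
  let σ : DerivedCategory.Plus.ι ⋙ DCoh.Rpush i ≅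
      (Scheme.Modules.pushforward i).rightDerivedFunctorPlus ⋙ DerivedCategory.Plus.ι :=
    Functor.isoWhiskerLeft _ ρ ≪≫ π.symm
  let ε : ∀ K : P, (DCoh.Rpush i).obj (H.obj K).obj ⟶ K.obj.obj := fun K =>
    σ.hom.app ((Dual3.RHomOPlus i).obj ((Dual3.bddToPlus X).obj K)) ≫
      DerivedCategory.Plus.ι.map (A.counit.app ((Dual3.bddToPlus X).obj K))
  have εnat : ∀ {K L : P} (g : K ⟶ L),
      (DCoh.Rpush i).map (H.map g).hom ≫ ε L = ε K ≫ g.hom.hom := fun {K L} g => by
    have h1 := σ.hom.naturality ((Dual3.RHomOPlus i).map ((Dual3.bddToPlus X).map g))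
    have h2 : DerivedCategory.Plus.ι.map
          ((Scheme.Modules.pushforward i).rightDerivedFunctorPlus.map
            ((Dual3.RHomOPlus i).map ((Dual3.bddToPlus X).map g))) ≫
        DerivedCategory.Plus.ι.map (A.counit.app ((Dual3.bddToPlus X).obj L)) =
      DerivedCategory.Plus.ι.map (A.counit.app ((Dual3.bddToPlus X).obj K)) ≫
        DerivedCategory.Plus.ι.map ((Dual3.bddToPlus X).map g) := by
      rw [← Functor.map_comp, ← Functor.map_comp]
      exact congrArg _ (A.counit.naturality ((Dual3.bddToPlus X).map g))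
    refine (Category.assoc _ _ _).symm.trans ((congrArg (· ≫ _) h1).trans ?_)
    refine (Category.assoc _ _ _).trans ((congrArg (_ ≫ ·) h2).trans ?_)
    exact (Category.assoc _ _ _).symm
  let η : H ⟶ Dual3.bddι X ⋙ a :=
    { app := fun K => adj.homEquiv (H.obj K) K.obj (ObjectProperty.homMk (ε K))
      naturality := fun K L g => by
        change H.map g ≫ adj.homEquiv _ _ _ = adj.homEquiv _ _ _ ≫ a.map g.hom
        rw [← adj.homEquiv_naturality_left, ← adj.homEquiv_naturality_right]
        refine congrArg _ (ObjectProperty.hom_ext _ ?_)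
        exact εnat g }
  have key : ∀ (K : P) (T : DCoh.DQCoh Z), (∃ n : ℤ, DerivedCategory.IsGE T.obj n) →
      Function.Bijective (fun z : T ⟶ H.obj K => z ≫ η.app K) := fun K T hT => by
    let T' : DerivedCategory.Plus Z.Modules := ⟨T.obj, hT⟩
    let K' := (Dual3.bddToPlus X).obj K
    have heq : (fun z : T ⟶ H.obj K => z ≫ η.app K) =
        (adj.homEquiv T K.obj) ∘ (fun w : (Scheme.Modules.pushforward i).rightDerivedFunctorPlus.obj T' ⟶ K' =>
          ObjectProperty.homMk (σ.hom.app T' ≫ DerivedCategory.Plus.ι.map w)) ∘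
          (A.homEquiv T' K').symm ∘ (fun z => ObjectProperty.homMk z.hom) := funext fun z => by
      change z ≫ adj.homEquiv _ _ _ = adj.homEquiv _ _ _
      rw [← adj.homEquiv_naturality_left]
      refine congrArg _ (ObjectProperty.hom_ext _ ?_)
      change (DCoh.Rpush i).map z.hom ≫ ε K = σ.hom.app T' ≫ DerivedCategory.Plus.ι.map
        ((A.homEquiv T' K').symm (ObjectProperty.homMk z.hom))
      have h1 := σ.hom.naturality (ObjectProperty.homMk z.hom : T' ⟶ (Dual3.RHomOPlus i).obj K')
      rw [A.homEquiv_counit, Functor.map_comp]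
      exact (Category.assoc _ _ _).symm.trans ((congrArg (· ≫ _) h1).trans (Category.assoc _ _ _))
    rw [heq]
    refine (adj.homEquiv _ _).bijective.comp (Function.Bijective.comp ?_
      ((A.homEquiv T' K').symm.bijective.comp ⟨fun x y h => ?_, fun y => ⟨ObjectProperty.homMk y.hom, rfl⟩⟩))
    · refine ⟨fun x y h => ?_, fun y => ?_⟩
      · exact DerivedCategory.Plus.ι.map_injective
          ((cancel_epi (σ.hom.app T')).1 (congrArg InducedCategory.Hom.hom h))
      · let y' : (DerivedCategory.Plus.ι ⋙ DCoh.Rpush i).obj T' ⟶ DerivedCategory.Plus.ι.obj K' := y.hom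
        obtain ⟨x, hx⟩ := DerivedCategory.Plus.ι.map_surjective (σ.inv.app T' ≫ y')
        refine ⟨x, ObjectProperty.hom_ext _ ?_⟩
        change σ.hom.app T' ≫ DerivedCategory.Plus.ι.map x = y'
        rw [hx, Iso.hom_inv_id_app_assoc]
    · exact ObjectProperty.hom_ext _ (congrArg InducedCategory.Hom.hom h :)
  haveI : ∀ K, IsIso (η.app K) := fun K => by
    obtain ⟨n, hn⟩ := K.property
    obtain ⟨N, hN⟩ := Groth.Agent.S1767.result Z X i hf a adj
    have hb : ∃ m : ℤ, DerivedCategory.IsGE (a.obj K.obj).obj m :=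
      ⟨n - 1 - N + 1, (DerivedCategory.isGE_iff _ _).2 fun j hj => hN K.obj (n - 1)
        (fun k hk => DerivedCategory.isZero_of_isGE K.obj.obj n k (by omega)) j (by omega)⟩
    obtain ⟨z, hz⟩ := (key K (a.obj K.obj) hb).2 (𝟙 _)
    refine ⟨z, (key K (H.obj K) ((Dual3.RHomOPlus i).obj ((Dual3.bddToPlus X).obj K)).property).1 ?_, hz⟩
    change (η.app K ≫ z) ≫ η.app K = 𝟙 _ ≫ η.app K
    rw [Category.assoc, Category.id_comp]
    exact (congrArg (η.app K ≫ ·) hz).trans (Category.comp_id _)
  haveI := NatIso.isIso_of_isIso_app η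
  exact ⟨Functor.isoWhiskerRight (asIso η).symm (ObjectProperty.ι _) ≪≫
    ObjectProperty.liftCompιIso _ _ _⟩

end Groth.Agent.KExact.RHomO
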