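import Groth.Agent.Lib.ClosedShriek
import Groth.Agent.KExact.RHomCoherent
import Groth.Agent.KFlatLib.TotalMapFlip
import Groth.Agent.ZClosLib.CohDescent
import Groth.Agent.QCoh.DevissageP
import Groth.Agent.H9Misc.PlusRB
import Groth.Prelude.Def_Dual3

/-!
# `RHom(O_Z, -)` for a closed immersion, seen on the ambient scheme
-/

set_option autoImplicit false
set_option linter.style.haveILetI false
set_option linter.unusedSectionVars false
set_option backward.isDefEq.respectTransparency false
set_option backward.isDefEq.respectTransparency.types false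

universe u

open CategoryTheory CategoryTheory.Limits AlgebraicGeometry

attribute [local instance] HasDerivedCategory.standard

namespace Groth.Agent.KExact.RHomO

open KFlatLib

variable {X : Scheme.{u}}

/-- `iHom` out of a module in degree `0` is the sheaf Hom in each degree. -/
theorem nonempty_iHom_single_iso (M : X.Modules) :
    Nonempty (iHom ((HomologicalComplex.single X.Modules (ComplexShape.up ℤ) 0).obj M) ≅
      (SheafHomX.hom M).mapHomologicalComplex (ComplexShape.up ℤ)) := by
  haveI : (SheafHomX.hom M).Additive := (SheafHomX.adj M).right_adjoint_additive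
  exact ⟨((iHomAdj _).ofNatIsoLeft (singleIso (DCoh.tensorBi (X := X)) M)).rightAdjointUniq
    (adjCx (SheafHomX.adj M) (ComplexShape.up ℤ))⟩

variable {Z : Scheme.{u}} (i : Z ⟶ X) [IsClosedImmersion i] [Dual3.HasHomO i]

/-- `i_* O_Z` in degree zero. -/
noncomputable abbrev pushO : CochainComplex X.Modules ℤ :=
  (HomologicalComplex.single X.Modules (ComplexShape.up ℤ) 0).obj
    ((Scheme.Modules.pushforward i).obj (Coh.structureModule Z))

/-- The complex computing `RHom(O_Z, -)`, pushed forward. -/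
theorem nonempty_push_homO_iso (I : CochainComplex X.Modules ℤ) :
    Nonempty ((((Dual3.homO i) ⋙ Scheme.Modules.pushforward i).mapHomologicalComplex (ComplexShape.up ℤ)).obj I ≅
      (iHom (pushO i)).obj I) := by
  let e : Dual3.homO i ≅ ClosedShriek.shriek i :=
    (Dual3.homOAdj i).rightAdjointUniq (ClosedShriek.shriekAdj i)
  haveI : (SheafHomX.hom ((Scheme.Modules.pushforward i).obj (Coh.structureModule Z))).Additive :=
    (SheafHomX.adj _).right_adjoint_additive
  obtain ⟨e'⟩ := nonempty_iHom_single_iso ((Scheme.Modules.pushforward i).obj (Coh.structureModule Z))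
  exact ⟨(NatIso.mapHomologicalComplex (Functor.isoWhiskerRight e _ ≪≫ (ClosedShriek.shriekPushIso i).symm)
    (ComplexShape.up ℤ)).app I ≪≫ (e'.app I).symm⟩

variable [EnoughInjectives X.Modules]

/-- `RHom(O_Z, K)` on the ambient scheme. -/
theorem exists_model (K : DerivedCategory.Plus X.Modules) :
    ∃ (I : CochainComplex X.Modules ℤ) (a : ℤ) (_ : I.IsKInjective) (_ : I.IsStrictlyGE a),
      (∀ n, Injective (I.X n)) ∧ Nonempty (DerivedCategory.Q.obj I ≅ K.obj) ∧
      ∀ n, Nonempty ((Scheme.Modules.pushforward i).obj (DCoh.HD ((Dual3.RHomOPlus i).obj K).obj n) ≅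
        ((iHom (pushO i)).obj I).homology n) := by
  let F := (InjectiveObject.ι X.Modules).mapHomotopyCategoryPlus ⋙ DerivedCategory.Plus.Qh
  let X₀ := F.objPreimage K
  obtain ⟨K₀, hK₀⟩ := HomotopyCategory.Plus.quotient_obj_surjective X₀
  let eK : F.obj X₀ ≅ K := F.objObjPreimageIso K
  rw [← hK₀] at eK
  let I₀ : CochainComplex.Plus X.Modules := (InjectiveObject.ι X.Modules).mapCochainComplexPlus.obj K₀
  obtain ⟨a, ha⟩ := I₀.property
  haveI := ha
  haveI hinj : ∀ n, Injective (I₀.obj.X n) := fun n => (K₀.obj.X n).2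
  haveI : I₀.obj.IsKInjective := CochainComplex.isKInjective_of_injective I₀.obj a
  let eQ : DerivedCategory.Q.obj I₀.obj ≅ K.obj :=
    ((DerivedCategory.quotientCompQhIso X.Modules).app I₀.obj).symm ≪≫ DerivedCategory.Plus.ι.mapIso eK
  refine ⟨I₀.obj, a, inferInstance, ha, hinj, ⟨eQ⟩, fun n => ?_⟩
  haveI := ClosedShriek.preservesHomology_push i
  let G := Dual3.homO i
  let eR : DerivedCategory.Q.obj ((G.mapHomologicalComplex (ComplexShape.up ℤ)).obj I₀.obj) ≅
      ((Dual3.RHomOPlus i).obj K).obj :=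
    ((DerivedCategory.quotientCompQhIso Z.Modules).app _).symm ≪≫ DerivedCategory.Plus.ι.mapIso
      (asIso (G.rightDerivedFunctorPlusUnit.app
          ((HomotopyCategory.Plus.quotient X.Modules).obj I₀)) ≪≫
        (G.rightDerivedFunctorPlus).mapIso eK)
  obtain ⟨e⟩ := nonempty_push_homO_iso i I₀.obj
  exact ⟨(Scheme.Modules.pushforward i).mapIso
      ((DerivedCategory.homologyFunctor Z.Modules n).mapIso eR.symm ≪≫
        (DerivedCategory.homologyFunctorFactors Z.Modules n).app _) ≪≫
    ((((G.mapHomologicalComplex (ComplexShape.up ℤ)).obj I₀.obj).sc n).mapHomologyIso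
      (Scheme.Modules.pushforward i)).symm ≪≫ HomologicalComplex.homologyMapIso e n⟩

variable [IsLocallyNoetherian X]

/-- `i_* O_Z` is pseudo-coherent. -/
theorem isPseudoCoherentD_pushO (m : ℤ) :
    DCoh.IsPseudoCoherentD m (DerivedCategory.Q.obj (pushO i)) := by
  haveI := LocallyOfFiniteType.isLocallyNoetherian i
  have hO : Coh.IsCoh ((Scheme.Modules.pushforward i).obj (Coh.structureModule Z)) :=
    QCoh.isCoh_pushforward_finite i QCoh.isCoh_structureModule'
  have hz : ∀ k : ℤ, k ≠ 0 → IsZero (DCoh.HD (DerivedCategory.Q.obj (pushO i)) k) := fun k hk =>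
    ((HomologicalComplex.exactAt_iff_isZero_homology _ k).1
      (HomologicalComplex.exactAt_single_obj _ 0 _ k hk)).of_iso
        ((DerivedCategory.homologyFunctorFactors X.Modules k).app _)
  have hc : DCoh.IsCohD (DerivedCategory.Q.obj (pushO i)) := fun k => by
    by_cases hk : k = 0
    · subst hk
      exact isCoh_of_iso ((DerivedCategory.homologyFunctorFactors X.Modules 0).app _ ≪≫
        HomologicalComplex.singleObjHomologySelfIso _ 0 _).symm hO
    · exact isCoh_of_isZero (hz k hk)
  exact (isPseudoCoherentD_iff _ _).2 (locPC_of_coh (isCohD_isQCohD hc) (fun k _ => hc k) 0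
    fun k hk => hz k (by omega))

/-- Quasi-coherence of `RHom(O_Z, K)`. -/
theorem isQCohD_RHomOPlus (K : DerivedCategory.Plus X.Modules) (hK : DCoh.IsQCohD K.obj) :
    DCoh.IsQCohD ((Dual3.RHomOPlus i).obj K).obj := fun n => by
  obtain ⟨I, a, hI, hge, hinj, ⟨eI⟩, h⟩ := exists_model i K
  haveI := hinj
  obtain ⟨e⟩ := h n
  let P := (kRes X).obj (pushO i)
  haveI := (flatCover X).quasiIso_ψ (pushO i)
  haveI := hasLTensorCx P
  haveI := hasRSheafHom_of_isKFlat P (isKFlat_kRes _)
  haveI := isIso_Q_map ((flatCover X).ψ.app (pushO i)) inferInstance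
  have hpc : DCoh.IsPseudoCoherentD (a - n - 1) (DCoh.toD X P) :=
    (isPseudoCoherentD_iff _ _).2 (((isPseudoCoherentD_iff _ _).1 (isPseudoCoherentD_pushO i _)).of_iso
      (asIso (DerivedCategory.Q.map ((flatCover X).ψ.app (pushO i)))).symm)
  haveI := quasiIso_iHomMap ((flatCover X).ψ.app (pushO i)) I
  obtain ⟨eP⟩ := nonempty_RSheafHom_iso P I
  have hq : Coh.IsQCoh ((Scheme.Modules.pushforward i).obj (DCoh.HD ((Dual3.RHomOPlus i).obj K).obj n)) :=
    KFlatLib.isQCoh_of_iso (e ≪≫
      asIso (HomologicalComplex.homologyMap ((iHomMap ((flatCover X).ψ.app (pushO i))).app I) n) ≪≫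
      ((DerivedCategory.homologyFunctor X.Modules n).mapIso eP ≪≫
        (DerivedCategory.homologyFunctorFactors X.Modules n).app _).symm).symm
      (isQCoh_HD_RSheafHom P (DerivedCategory.Q.obj I) (isQCohD_of_iso eI.symm hK) a n hpc)
  haveI := KZ.ClosedDev.isIso_counit i hq
  exact KFlatLib.isQCoh_of_iso (asIso ((Scheme.Modules.pullbackPushforwardAdjunction i).counit.app _))
    (QCoh.isQCoh_pullback i hq)

/-- Coherence of `RHom(O_Z, K)`. -/
theorem isCohD_RHomOPlus (K : DerivedCategory.Plus X.Modules) (hK : DCoh.IsCohD K.obj) :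
    DCoh.IsCohD ((Dual3.RHomOPlus i).obj K).obj := fun n => by
  obtain ⟨I, a, hI, hge, hinj, ⟨eI⟩, h⟩ := exists_model i K
  haveI := hinj
  obtain ⟨e⟩ := h n
  let P := (kRes X).obj (pushO i)
  haveI := (flatCover X).quasiIso_ψ (pushO i)
  haveI := hasLTensorCx P
  haveI := hasRSheafHom_of_isKFlat P (isKFlat_kRes _)
  haveI := isIso_Q_map ((flatCover X).ψ.app (pushO i)) inferInstance
  have hpc : DCoh.IsPseudoCoherentD (a - n - 1) (DCoh.toD X P) :=
    (isPseudoCoherentD_iff _ _).2 (((isPseudoCoherentD_iff _ _).1 (isPseudoCoherentD_pushO i _)).of_iso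
      (asIso (DerivedCategory.Q.map ((flatCover X).ψ.app (pushO i)))).symm)
  haveI := quasiIso_iHomMap ((flatCover X).ψ.app (pushO i)) I
  obtain ⟨eP⟩ := nonempty_RSheafHom_iso P I
  have hq : Coh.IsCoh ((Scheme.Modules.pushforward i).obj (DCoh.HD ((Dual3.RHomOPlus i).obj K).obj n)) :=
    KFlatLib.isCoh_of_iso (e ≪≫
      asIso (HomologicalComplex.homologyMap ((iHomMap ((flatCover X).ψ.app (pushO i))).app I) n) ≪≫
      ((DerivedCategory.homologyFunctor X.Modules n).mapIso eP ≪≫
        (DerivedCategory.homologyFunctorFactors X.Modules n).app _).symm).symm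
      (isCoh_hd_RSheafHom P (DerivedCategory.Q.obj I) (isCohD_of_iso eI.symm hK) a n hpc)
  haveI := KZ.ClosedDev.isIso_counit i hq.1
  haveI := LocallyOfFiniteType.isLocallyNoetherian i
  exact KFlatLib.isCoh_of_iso (asIso ((Scheme.Modules.pullbackPushforwardAdjunction i).counit.app _))
    (ZClosLib.isCoh_pullback i hq)

end Groth.Agent.KExact.RHomO
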