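import Groth.Agent.KExact.Transfer
import Groth.Agent.FlatCxLib.Reduced
import Mathlib.AlgebraicGeometry.Properties
import Mathlib.RingTheory.TensorProduct.Free

/-!
# Locally constant fibre dimensions force flat opcycles over reduced schemes
-/

set_option autoImplicit false
set_option linter.style.haveILetI false
set_option backward.isDefEq.respectTransparency false
set_option backward.isDefEq.respectTransparency.types false

universe u

open CategoryTheory CategoryTheory.Limits AlgebraicGeometry TopologicalSpace Module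
open scoped TensorProduct

attribute [local instance] HasDerivedCategory.standard

namespace Groth.Agent.KExact

open KFlatLib

variable {X U : Scheme.{u}}

/-- A cokernel of free modules of constant rank in all fields is flat over a reduced local ring. -/
lemma flat_coker_stalk {n m r : ℕ} (d : FlatMod.freeMod U n ⟶ FlatMod.freeMod U m) (y : U)
    [_root_.IsReduced (U.presheaf.stalk y)]
    (h : ∀ (K : Type u) [Field K] (φ : U.presheaf.stalk y →+* K),
      ((secMat d).map (φ.comp (U.presheaf.germ ⊤ y trivial).hom)).rank = r) :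
    Module.Flat (U.presheaf.stalk y) ((DerSch.stalkFunctor U y).obj (cokernel d) : Type u) := by
  let A := U.presheaf.stalk y
  let f := ((DerSch.stalkFunctor U y).map d).hom
  let g := ((DerSch.stalkFunctor U y).map (cokernel.π d)).hom
  let M : Type u := ((DerSch.stalkFunctor U y).obj (cokernel d) : Type u)
  let b := eBasis y m
  have hS := (ShortComplex.exact_and_epi_g_iff_g_is_cokernel
    ((ShortComplex.mk d (cokernel.π d) (cokernel.condition d)).map (DerSch.stalkFunctor U y))).2
      ⟨CokernelCofork.mapIsColimit _ (cokernelIsCokernel d) (DerSch.stalkFunctor U y)⟩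
  have hex : Function.Exact f g :=
    (ShortComplex.ShortExact.moduleCat_exact_iff_function_exact _).1 hS.1
  have hg : Function.Surjective g := (ModuleCat.epi_iff_surjective _).1 hS.2
  haveI : Module.Finite A ((DerSch.stalkFunctor U y).obj (FlatMod.freeMod U m) : Type u) :=
    Module.Finite.of_basis b
  haveI : Module.Finite A M := Module.Finite.of_surjective g hg
  have hdim : ∀ q : PrimeSpectrum A, FlatCxLib.fibreRank M q = m - r := fun q => by
    let K := q.asIdeal.ResidueField
    have hK := h K (algebraMap A K)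
    have hM : (secMat d).map ((algebraMap A K).comp (U.presheaf.germ ⊤ y trivial).hom) =
        LinearMap.toMatrix (Algebra.TensorProduct.basis K (eBasis y n))
          (Algebra.TensorProduct.basis K b) (f.baseChange K) := by
      rw [LinearMap.toMatrix_baseChange, toMatrix_stalk, Matrix.map_map]
      rfl
    rw [hM, Matrix.rank_eq_finrank_range_toLin _ (Algebra.TensorProduct.basis K b)
      (Algebra.TensorProduct.basis K (eBasis y n)), Matrix.toLin_toMatrix] at hK
    have hex' : Function.Exact (f.baseChange K) (g.baseChange K) := lTensor_exact K hex hg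
    have hg' : Function.Surjective (g.baseChange K) := LinearMap.lTensor_surjective K hg
    haveI : FiniteDimensional K (K ⊗[A] ((DerSch.stalkFunctor U y).obj (FlatMod.freeMod U m) : Type u)) :=
      Module.Finite.of_basis (Algebra.TensorProduct.basis K b)
    have hadd := LinearMap.finrank_range_add_finrank_ker (g.baseChange K)
    rw [hex'.linearMap_ker_eq, hK, LinearMap.range_eq_top.2 hg', finrank_top,
      finrank_eq_card_basis (Algebra.TensorProduct.basis K b), Fintype.card_fin] at hadd
    change finrank K (K ⊗[U.presheaf.stalk y]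
      ((DerSch.stalkFunctor U y).obj (cokernel d) : Type u)) = m - r
    omega
  haveI : Module.Free A M := FlatCxLib.free_of_fibreRank_eq M fun q _ => (hdim q).trans (hdim _).symm
  exact inferInstanceAs (Module.Flat A M)

/-- Locally constant rank on a reduced scheme gives constant rank in all fields at a stalk. -/
lemma rank_stalk_eq {n m : ℕ} (c : Matrix (Fin m) (Fin n) Γ(U, ⊤)) [IsReduced U] (W : U.Opens) (y : U)
    (hy : y ∈ W) (r : ℕ) (hW : ∀ z ∈ W, rkAt c z = r) (K : Type u) [Field K]
    (φ : U.presheaf.stalk y →+* K) :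
    (c.map (φ.comp (U.presheaf.germ ⊤ y trivial).hom)).rank = r := by
  refine le_antisymm ?_ ?_
  · by_contra hlt
    obtain ⟨s, t, hst⟩ := (le_rank_iff_exists_minor
      (c.map (φ.comp (U.presheaf.germ ⊤ y trivial).hom))).1 (Nat.succ_le_of_lt (not_le.1 hlt))
    apply hst
    rw [Matrix.submatrix_map, ← RingHom.mapMatrix_apply, ← RingHom.map_det, RingHom.comp_apply]
    have hbot : U.presheaf.map (homOfLE (le_top : W ≤ ⊤)).op (c.submatrix s t).det = 0 := by
      refine AlgebraicGeometry.eq_zero_of_basicOpen_eq_bot _ ?_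
      rw [Scheme.basicOpen_res, eq_bot_iff]
      rintro z ⟨hzW, hz⟩
      have hle : r + 1 ≤ rkAt c z := (le_rkAt_iff c z (r + 1)).2
        (Opens.mem_iSup.2 ⟨s, Opens.mem_iSup.2 ⟨t, hz⟩⟩)
      have := hW z hzW
      omega
    rw [← U.presheaf.germ_res_apply (homOfLE (le_top : W ≤ ⊤)) y hy (c.submatrix s t).det, hbot,
      map_zero, map_zero]
  · obtain ⟨s, hs⟩ := Opens.mem_iSup.1 ((le_rkAt_iff c y r).1 (hW y hy).ge)
    obtain ⟨t, ht⟩ := Opens.mem_iSup.1 hs
    refine (le_rank_iff_exists_minor _).2 ⟨s, t, ?_⟩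
    rw [Matrix.submatrix_map, ← RingHom.mapMatrix_apply, ← RingHom.map_det, RingHom.comp_apply]
    rw [Scheme.mem_basicOpen_top] at ht
    exact (ht.map φ).ne_zero

/-- Flatness can be checked after restriction to an open neighbourhood of each point. -/
lemma isFlat_of_local (M : X.Modules)
    (h : ∀ x : X, ∃ (U : Scheme.{u}) (j : U ⟶ X) (_ : IsOpenImmersion j), x ∈ Set.range j.base ∧
      FlatMod.IsFlat ((Scheme.Modules.restrictFunctor j).obj M)) : FlatMod.IsFlat M := fun x => by
  obtain ⟨U, j, _, ⟨y, rfl⟩, hU⟩ := h x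
  have hp : FlatMod.IsFlat ((Scheme.Modules.pullback j).obj M) :=
    KFlatLib.IsFlat.of_iso ((Scheme.Modules.restrictFunctorIsoPullback j).app M) hU
  letI := (j.stalkMap y).hom.toAlgebra
  haveI : Module.Flat (U.presheaf.stalk y) (TensorProduct (X.presheaf.stalk (j.base y))
      (U.presheaf.stalk y) ((DerSch.stalkFunctor X (j.base y)).obj M : Type u)) :=
    (Module.Flat.equiv_iff ((stalkPullbackIso j y).app M).toLinearEquiv).1 (hp y)
  exact flat_of_extendScalars (R := X.presheaf.stalk (j.base y))
    (S := U.presheaf.stalk y) (ConcreteCategory.bijective_of_isIso (j.stalkMap y))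
    ((DerSch.stalkFunctor X (j.base y)).obj M : Type u)

/-- Over a reduced scheme, a locally constant fibre dimension at `p` gives flat opcycles at `p, p + 1`. -/
theorem isFlat_opcycles_of_betti [IsReduced X] (E : DCoh.D X) (p : ℤ) (hE : LocPC (p - 1) E)
    (R : CochainComplex X.Modules ℤ) (hRK : DCoh.IsKFlat R) (hR : ∀ n, FlatMod.IsFlat (R.X n))
    (eR : DerivedCategory.Q.obj R ≅ E) [∀ x : X, DCoh.HasLpull (X.fromSpecResidueField x)]
    (hc : IsLocallyConstant (fun x : X => PerfD.betti E x p)) :
    FlatMod.IsFlat (R.opcycles p) ∧ FlatMod.IsFlat (R.opcycles (p + 1)) := by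
  have key : ∀ x : X, ∃ (U : Scheme.{u}) (j : U ⟶ X) (_ : IsOpenImmersion j), x ∈ Set.range j.base ∧
      FlatMod.IsFlat (((rCx j).obj R).opcycles p) ∧ FlatMod.IsFlat (((rCx j).obj R).opcycles (p + 1)) := by
    intro x
    obtain ⟨U, j, _, hx, P, n, e, α, hPK, hα⟩ := exists_betti_data E hE x
    haveI : IsReduced U := isReduced_of_isOpenImmersion j
    have hPf : ∀ i, FlatMod.IsFlat (P.X i) := fun i =>
      KFlatLib.IsFlat.of_iso (e i).symm (isFlat_freeMod (n i))
    have hflatC : ∀ i, (∀ y : U, ∃ (W : U.Opens) (r : ℕ), y ∈ W ∧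
        ∀ z ∈ W, rkAt (dMat e (i - 1) i) z = r) → FlatMod.IsFlat (P.opcycles i) := by
      intro i h
      refine KFlatLib.IsFlat.of_iso (cokernel.mapIso ((e (i - 1)).inv ≫ P.d (i - 1) i ≫ (e i).hom)
        (P.d (i - 1) i) (e (i - 1)).symm (e i).symm (by simp) ≪≫ cokerOpIso P i) fun y => ?_
      obtain ⟨W, r, hyW, hr⟩ := h y
      exact flat_coker_stalk _ y fun K _ φ => rank_stalk_eq _ W y hyW r hr K φ
    have hcast : ∀ i k : ℤ, i = k → ∀ z : U,
        rkAt (dMat e i (p + 1)) z = rkAt (dMat e k (p + 1)) z := by rintro i k rfl z; rfl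
    have hloc : ∀ y : U, ∃ W : U.Opens, y ∈ W ∧ ∀ z ∈ W,
        rkAt (dMat e (p - 1) p) z = rkAt (dMat e (p - 1) p) y ∧
          rkAt (dMat e p (p + 1)) z = rkAt (dMat e p (p + 1)) y := by
      intro y
      let W : U.Opens := minorLocus (dMat e (p - 1) p) (rkAt (dMat e (p - 1) p) y) ⊓
        minorLocus (dMat e p (p + 1)) (rkAt (dMat e p (p + 1)) y) ⊓
        ⟨j.base ⁻¹' {z | PerfD.betti E z p = PerfD.betti E (j.base y) p},
          (hc.isOpen_fiber _).preimage j.base.hom.continuous⟩
      refine ⟨W, ⟨⟨(le_rkAt_iff _ _ _).1 le_rfl, (le_rkAt_iff _ _ _).1 le_rfl⟩, rfl⟩, ?_⟩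
      rintro z ⟨⟨hz₁, hz₂⟩, (hz₃ : PerfD.betti E (j.base z) p = _)⟩
      have h₁ := (le_rkAt_iff _ _ _).2 hz₁
      have h₂ := (le_rkAt_iff _ _ _).2 hz₂
      have hfy := betti_formula E _ j y rfl hPK e α hα (p - 1) p (p + 1) (by omega) rfl (by omega)
      have hfz := betti_formula E _ j z rfl hPK e α hα (p - 1) p (p + 1) (by omega) rfl (by omega)
      omega
    obtain ⟨hl, hr⟩ := exact_psi P hPf p
      (hflatC p fun y => by
        obtain ⟨W, hy, hW⟩ := hloc y
        exact ⟨W, _, hy, fun z hz => (hW z hz).1⟩)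
      (hflatC (p + 1) fun y => by
        obtain ⟨W, hy, hW⟩ := hloc y
        exact ⟨W, _, hy, fun z hz => (hcast (p + 1 - 1) p (by omega) z).trans (hW z hz).2⟩)
    let RU := (rCx j).obj R
    let c₀ : (rho j).obj E ≅ DerivedCategory.Q.obj RU := (rho j).mapIso eR.symm ≪≫ (rhoQ j).app R
    obtain ⟨iso⟩ := nonempty_psi_iso_of_isPcMap hPK (isKFlat_restrict j hRK) (α ≫ c₀.hom)
      (by simpa using hα.comp_iso (𝟙 _) c₀.hom) p (by omega)
    haveI : PreservesFiniteLimits (psi RU p) := preservesFiniteLimits_of_natIso iso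
    haveI : PreservesFiniteColimits (psi RU p) := preservesFiniteColimits_of_natIso iso
    exact ⟨U, j, inferInstance, hx,
      isFlat_opcycles_of_preservesFiniteLimits RU (isFlat_restrict_X j R hR) p,
      isFlat_opcycles_succ_of_preservesFiniteColimits RU (isFlat_restrict_X j R hR) p⟩
  constructor <;> refine isFlat_of_local _ fun x => ?_
  · obtain ⟨U, j, hj, hx, h, -⟩ := key x
    obtain ⟨φ, hφ, -⟩ := exists_map_opcycles (Scheme.Modules.restrictFunctor j) R p
    exact ⟨U, j, hj, hx, KFlatLib.IsFlat.of_iso (asIso φ).symm h⟩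
  · obtain ⟨U, j, hj, hx, -, h⟩ := key x
    obtain ⟨φ, hφ, -⟩ := exists_map_opcycles (Scheme.Modules.restrictFunctor j) R (p + 1)
    exact ⟨U, j, hj, hx, KFlatLib.IsFlat.of_iso (asIso φ).symm h⟩

end Groth.Agent.KExact
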