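import Groth.Agent.KZ.RegPerf
import Groth.Agent.KFlatLib.Scheme.PerfectFibresSch
import Groth.Agent.KFlatLib.Scheme.CohD
import Groth.Agent.GrpSchLib.SmoothRegular
import Groth.Agent.S9349
import Groth.Agent.H26.FibModel
import Groth.Agent.S5629
import Groth.Agent.KFlatLib.Scheme.RelTensorAmp

/-!
# Perfection of pseudo-coherent objects, flat over the base, on smooth schemes
-/

set_option autoImplicit false
set_option linter.style.haveILetI false
set_option backward.isDefEq.respectTransparency false
set_option backward.isDefEq.respectTransparency.types false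

universe u

open CategoryTheory CategoryTheory.Limits AlgebraicGeometry

attribute [local instance] HasDerivedCategory.standard

namespace Groth.Agent.KExact

open KFlatLib KFlatLib.RelTor KFlatLib.RelPerfectSch KFlatLib.RelPerfectBC

/-- On a regular locally noetherian scheme pseudo-coherent objects locally bounded below are perfect. -/
theorem isPerfect_of_regular {X : Scheme.{u}} [IsLocallyNoetherian X]
    (hreg : ∀ x : X, IsRegularLocalRing (X.presheaf.stalk x)) {E : DCoh.D X}
    (hpc : ∀ m : ℤ, LocPC m E) (hge : LocGE E) : DCoh.IsPerfect E := by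
  refine (isPerfect_iff E).2 (LocSP.of_local fun x => ?_)
  obtain ⟨U, j, _, a, hx, ha⟩ := hge x
  haveI := ha
  obtain ⟨y, rfl⟩ := hx
  haveI : IsLocallyNoetherian U := isLocallyNoetherian_of_isOpenImmersion j
  obtain ⟨R, hR, k, hk, hy⟩ := exists_chart y
  haveI : IsNoetherianRing R := hR
  haveI : AlgebraicGeometry.IsNoetherian (Spec R) := inferInstance
  refine ⟨_, k ≫ j, inferInstance, ?_, ?_⟩
  · obtain ⟨z, rfl⟩ := hy
    exact ⟨z, rfl⟩
  refine ((isPerfect_iff _).1 ?_).of_iso (rhoComp k j _ rfl E)
  let E' := (rho k).obj ((rho j).obj E)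
  haveI : E'.IsGE a := isGE_rho k _ a
  have hpc' : ∀ m : ℤ, LocPC m E' := fun m => ((hpc m).restrict j).restrict k
  have hq : DCoh.IsQCohD E' := fun i => (Groth.Agent.S7240.result (i - 1) E'
    ((isPseudoCoherentD_iff (i - 1) E').2 (hpc' (i - 1)))).1 i (by omega)
  have hregR : ∀ z : Spec R, IsRegularLocalRing ((Spec R).presheaf.stalk z) := fun z => by
    haveI := hreg ((k ≫ j).base z)
    exact IsRegularLocalRing.of_ringEquiv
      (asIso ((k ≫ j).stalkMap z)).commRingCatIsoToRingEquiv
  obtain ⟨b, hb⟩ := exists_bound_of_locPC (hpc' 0)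
  exact (KZ.isPerfect_iff_of_regular hregR E').2
    ⟨fun i => isCoh_of_locPC hq (hpc' i) i le_rfl, a, b, inferInstance,
      (DerivedCategory.isLE_iff E' b).2 hb⟩

variable {Y S : Scheme.{u}} (g : Y ⟶ S)

/-- A pseudo-coherent object of finite tor dimension over the base of a smooth scheme is perfect. -/
theorem isPerfect_of_smooth [Smooth g] {E : DCoh.D Y} (hE : RelPerf g E) : DCoh.IsPerfect E := by
  haveI : ∀ s : S, DCoh.HasLpull (g.fiberι s) := fun s => hasLpull _
  refine isPerfect_of_fibres g hE fun s => ?_
  haveI : DCoh.HasLpull (pullback.fst g (S.fromSpecResidueField s)) := hasLpull _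
  haveI : Smooth (pullback.snd g (S.fromSpecResidueField s)) := MorphismProperty.pullback_snd _ _ inferInstance
  haveI : IsLocallyNoetherian (g.fiber s) :=
    LocallyOfFiniteType.isLocallyNoetherian (pullback.snd g (S.fromSpecResidueField s))
  have h := relPerf_lpull g (S.fromSpecResidueField s) (K := E) hE
  exact isPerfect_of_regular
    (fun x => GrpSchLib.isRegularLocalRing_stalk_of_smooth (pullback.snd g (S.fromSpecResidueField s)) x)
    h.1 h.2.locGE

/-- An object in degree zero flat over the base has finite tor dimension over the base. -/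
theorem locRTD_inD {M : Y.Modules} (hM : FlatMod.IsFlatOver g M) : LocRTD g (DCoh.inD Y M) := by
  refine LocRTD.of_amp (a := 0) (b := 0) ⟨(HomologicalComplex.single Y.Modules (ComplexShape.up ℤ) 0).obj M,
    fun i hi => HomologicalComplex.isZero_single_obj_X _ _ _ _ (by omega), fun i => ?_,
    ⟨((DerivedCategory.singleFunctorIsoCompQ Y.Modules 0).app M).symm⟩⟩
  by_cases hi : i = 0
  · subst hi
    exact isFlatOver_of_iso' g
      (HomologicalComplex.singleObjXSelf (ComplexShape.up ℤ) 0 M).symm hM
  · exact isFlatOver_of_isZero g (HomologicalComplex.isZero_single_obj_X _ _ _ _ hi)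

end Groth.Agent.KExact
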