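import Groth.Agent.KExact.PerfRel
import Groth.Agent.RelPC17.Compact
import Groth.Agent.QCoh.Support
import Groth.Agent.KFlatLib.Scheme.ProperFlatPC

/-!
# Relative pseudo-coherence over noetherian bases and proper direct images
-/

set_option autoImplicit false
set_option linter.style.haveILetI false
set_option backward.isDefEq.respectTransparency false
set_option backward.isDefEq.respectTransparency.types false

universe u

open CategoryTheory CategoryTheory.Limits AlgebraicGeometry TopologicalSpace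

attribute [local instance] HasDerivedCategory.standard

namespace Groth.Agent.KExact

open KFlatLib RelPC17

variable {X Y S : Scheme.{u}}

/-- Relatively pseudo-coherent objects are bounded above near every point. -/
theorem exists_local_bound_of_rel {f : X ⟶ Y} {m : ℤ} {E : DCoh.D X}
    (hE : DerSch.IsPseudoCoherentRel f m E) (x : X) :
    ∃ (U : X.Opens) (b : ℤ), x ∈ U ∧ ∀ i, b < i → IsZero (DCoh.HD ((rho U.ι).obj E) i) := by
  haveI := hE.1
  obtain ⟨_, ⟨V, hV, rfl⟩, hxV, -⟩ :=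
    Y.isBasis_affineOpens.exists_subset_of_mem_open (show f x ∈ (⊤ : Y.Opens) from trivial) (⊤ : Y.Opens).2
  obtain ⟨_, ⟨(U : X.Opens), hU, rfl⟩, hxU, hle⟩ :=
    X.isBasis_affineOpens.exists_subset_of_mem_open (show x ∈ f ⁻¹ᵁ V from hxV) (f ⁻¹ᵁ V).2
  obtain ⟨n, φ, hφ⟩ := exists_isChart hle (finiteType_appLE hU hV hle)
  haveI := isClosedImmersion_imm hU hφ.1
  obtain ⟨b, hb⟩ := RelPC17.exists_bound_of_locPC (rel_iff.1 hE U V hU hV hle n φ hφ)
  exact ⟨U, b, hxU, fun i hi => (isZero_HD_pD_iff (imm U φ) _ i).1 (hb i hi)⟩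

/-- Over a locally noetherian base, coherent cohomology and local bounds give relative pseudo-coherence. -/
theorem relAll_of_coh [IsLocallyNoetherian S] (q : Y ⟶ S) [LocallyOfFiniteType q] {K : DCoh.D Y}
    (hK : DCoh.IsCohD K)
    (hb : ∀ y : Y, ∃ (U : Y.Opens) (b : ℤ), y ∈ U ∧ ∀ i, b < i → IsZero (DCoh.HD ((rho U.ι).obj K) i)) :
    DerSch.IsPseudoCoherentRelAll q K := by
  haveI : IsLocallyNoetherian Y := LocallyOfFiniteType.isLocallyNoetherian q
  intro m
  refine rel_iff.2 fun U V hU hV hle n φ hφ => ?_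
  intro _
  haveI : IsNoetherianRing Γ(S, V) := QCoh.noetherian_sections ⟨V, hV⟩
  haveI : IsLocallyNoetherian (U : Scheme.{u}) := isLocallyNoetherian_of_isOpenImmersion U.ι
  have hc : ∀ i, Coh.IsCoh (DCoh.HD ((rho U.ι).obj K) i) := fun i =>
    KFlatLib.isCoh_of_iso (hdRhoIso U.ι K i).symm (KFlatLib.isCoh_restrict U.ι (hK i))
  have hP : ∀ i, Coh.IsCoh (DCoh.HD ((pD (imm U φ)).obj ((rho U.ι).obj K)) i) := fun i =>
    KFlatLib.isCoh_of_iso (hdPD (imm U φ) _ i).symm (QCoh.isCoh_pushforward_finite (imm U φ) (hc i))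
  haveI : CompactSpace U := isCompact_iff_compactSpace.1 hU.isCompact
  obtain ⟨b, hb'⟩ : ∃ b, ∀ i, b < i → IsZero (DCoh.HD ((rho U.ι).obj K) i) := by
    refine exists_bound_of_cover _ fun u => ?_
    obtain ⟨W, b, huW, hW⟩ := hb u.1
    refine ⟨_, (U.ι ⁻¹ᵁ W).ι, inferInstance, b, ⟨⟨u, huW⟩, rfl⟩, fun i hi => ?_⟩
    refine IsZero.of_iso ?_ (hdRhoIso (U.ι ⁻¹ᵁ W).ι ((rho U.ι).obj K) i)
    refine IsZero.of_iso ?_ ((Scheme.Modules.restrictFunctor (U.ι ⁻¹ᵁ W).ι).mapIso (hdRhoIso U.ι K i) ≪≫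
      ((Scheme.Modules.restrictFunctorComp (U.ι ⁻¹ᵁ W).ι U.ι).symm ≪≫
        Scheme.Modules.restrictFunctorCongr (morphismRestrict_ι U.ι W).symm ≪≫
        Scheme.Modules.restrictFunctorComp (U.ι ∣_ W) W.ι).app (DCoh.HD K i))
    exact Functor.map_isZero (Scheme.Modules.restrictFunctor (U.ι ∣_ W)) ((hW i hi).of_iso (hdRhoIso W.ι K i).symm)
  exact locPC_of_coh (fun i => (hP i).1) (fun i _ => hP i) b fun i hi =>
    (isZero_HD_pD_iff (imm U φ) _ i).2 (hb' i hi)

/-- Cohomology of the restriction to an open. -/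
theorem isCohD_rho [IsLocallyNoetherian Y] {K : DCoh.D Y} (hK : DCoh.IsCohD K) {U : Scheme.{u}} (j : U ⟶ Y)
    [IsOpenImmersion j] : DCoh.IsCohD ((rho j).obj K) := by
  haveI : IsLocallyNoetherian U := isLocallyNoetherian_of_isOpenImmersion j
  exact fun i => KFlatLib.isCoh_of_iso (hdRhoIso j K i).symm (KFlatLib.isCoh_restrict j (hK i))

/-- Restrictions are bounded below when the object is. -/
theorem isGE_rho {K : DCoh.D X} {a : ℤ} [K.IsGE a] {U : Scheme.{u}} (j : U ⟶ X) [IsOpenImmersion j] :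
    ((rho j).obj K).IsGE a :=
  (DerivedCategory.isGE_iff _ _).2 fun i hi =>
    (Functor.map_isZero (Scheme.Modules.restrictFunctor j) ((DerivedCategory.isGE_iff K a).1 inferInstance i hi)).of_iso
      (hdRhoIso j K i)

/-- Proper direct images of bounded below relatively pseudo-coherent objects, near a point of the target. -/
theorem exists_nhd_rpush_coh [IsLocallyNoetherian S] {p : X ⟶ S} {q : Y ⟶ S} [LocallyOfFiniteType p]
    [LocallyOfFiniteType q] (f : X ⟶ Y) [IsProper f] [DCoh.HasRpush f] (E : DCoh.D X) (a : ℤ) [E.IsGE a]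
    (hE : DerSch.IsPseudoCoherentRelAll p E) (y : Y) :
    ∃ (V : Y.Opens) (b : ℤ), y ∈ V ∧ DCoh.IsCohD ((rho V.ι).obj ((DCoh.Rpush f).obj E)) ∧
      ∀ i, b < i → IsZero (DCoh.HD ((rho V.ι).obj ((DCoh.Rpush f).obj E)) i) := by
  haveI : IsLocallyNoetherian X := LocallyOfFiniteType.isLocallyNoetherian p
  haveI : IsLocallyNoetherian Y := LocallyOfFiniteType.isLocallyNoetherian q
  obtain ⟨V, hV, hyV, -⟩ := exists_isAffineOpen_mem_and_subset (X := Y) (x := y) (U := ⊤) trivial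
  refine ⟨V, ?_⟩
  haveI : IsAffine (V : Scheme.{u}) := hV
  haveI : IsLocallyNoetherian (V : Scheme.{u}) := isLocallyNoetherian_of_isOpenImmersion V.ι
  haveI : IsProper (f ∣_ V) := MorphismProperty.of_isPullback (isPullback_morphismRestrict f V).flip inferInstance
  haveI := hasRpush_scheme (f ∣_ V)
  let W := f ⁻¹ᵁ V
  haveI : CompactSpace W := isCompact_iff_compactSpace.1 (f.isCompact_preimage hV.isCompact)
  haveI : IsLocallyNoetherian (W : Scheme.{u}) := isLocallyNoetherian_of_isOpenImmersion W.ι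
  let K := (rho W.ι).obj E
  haveI hge : K.IsGE a := isGE_rho W.ι
  obtain ⟨b, hb⟩ : ∃ b, ∀ i, b < i → IsZero (DCoh.HD K i) := by
    refine exists_bound_of_cover K fun w => ?_
    obtain ⟨U, b, hwU, hU⟩ := exists_local_bound_of_rel (hE 0) w.1
    refine ⟨_, (W.ι ⁻¹ᵁ U).ι, inferInstance, b, ⟨⟨w, hwU⟩, rfl⟩, fun i hi => ?_⟩
    refine IsZero.of_iso ?_ (hdRhoIso (W.ι ⁻¹ᵁ U).ι K i)
    refine IsZero.of_iso ?_ ((Scheme.Modules.restrictFunctor (W.ι ⁻¹ᵁ U).ι).mapIso (hdRhoIso W.ι E i) ≪≫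
      ((Scheme.Modules.restrictFunctorComp (W.ι ⁻¹ᵁ U).ι W.ι).symm ≪≫
        Scheme.Modules.restrictFunctorCongr (morphismRestrict_ι W.ι U).symm ≪≫
        Scheme.Modules.restrictFunctorComp (W.ι ∣_ U) U.ι).app (DCoh.HD E i))
    exact Functor.map_isZero (Scheme.Modules.restrictFunctor (W.ι ∣_ U)) ((hU i hi).of_iso (hdRhoIso U.ι E i).symm)
  have hK := isCohD_rho (isCohD_of_relAll p hE) W.ι
  obtain ⟨hc, hbd⟩ := rpush_coherent_bounded (f ∣_ V) (b - a).toNat a K hge
    ((DerivedCategory.isLE_iff _ _).2 fun i hi => hb i (by omega))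
    fun i => ⟨hK i, isProperOver_of_isProper (f ∣_ V) (QCoh.isClosed_support_of_isFT (hK i).1 (hK i).2)⟩
  obtain ⟨b', hb'⟩ := hbd inferInstance
  obtain ⟨e⟩ := nonempty_rpush_restrictD_iso f V
  let eH : ∀ i, DCoh.HD ((rho V.ι).obj ((DCoh.Rpush f).obj E)) i ≅ DCoh.HD ((DCoh.Rpush (f ∣_ V)).obj K) i :=
    fun i => (DerivedCategory.homologyFunctor _ i).mapIso (e.app E)
  exact ⟨b', hyV, fun i => KFlatLib.isCoh_of_iso (eH i).symm (hc i), fun i hi => (hb' i hi).of_iso (eH i)⟩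

/-- Proper direct images preserve relative pseudo-coherence over a locally noetherian base. -/
theorem relAll_rpush [IsLocallyNoetherian S] {p : X ⟶ S} (q : Y ⟶ S) [LocallyOfFiniteType p]
    [LocallyOfFiniteType q] (f : X ⟶ Y) [IsProper f] [DCoh.HasRpush f] (E : DCoh.D X) (a : ℤ) [E.IsGE a]
    (hE : DerSch.IsPseudoCoherentRelAll p E) :
    DerSch.IsPseudoCoherentRelAll q ((DCoh.Rpush f).obj E) := by
  haveI : IsLocallyNoetherian Y := LocallyOfFiniteType.isLocallyNoetherian q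
  refine relAll_of_coh q (fun i => KFlatLib.isCoh_of_local fun y => ?_) fun y => ?_
  · obtain ⟨V, b, hy, hc, -⟩ := exists_nhd_rpush_coh (q := q) f E a hE y
    haveI : IsLocallyNoetherian (V : Scheme.{u}) := isLocallyNoetherian_of_isOpenImmersion V.ι
    exact ⟨_, V.ι, inferInstance, ⟨⟨y, hy⟩, rfl⟩, KFlatLib.isCoh_of_iso (hdRhoIso V.ι _ i) (hc i)⟩
  · obtain ⟨V, b, hy, -, hb⟩ := exists_nhd_rpush_coh (q := q) f E a hE y
    exact ⟨V, b, hy, hb⟩

end Groth.Agent.KExact
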