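import Groth.Agent.KExact.HHLinear
import Groth.Agent.KExact.DualCM
import Groth.Agent.KExact.SmoothShriek
import Groth.Agent.Snapper.DimVanish
import Groth.Agent.QCoh.RpushAbGod
import Groth.Agent.S0042

/-!
# Duality in top degree over a local ring
-/

set_option autoImplicit false
set_option linter.style.haveILetI false
set_option linter.unusedSectionVars false
set_option linter.unusedVariables false
set_option backward.isDefEq.respectTransparency false
set_option backward.isDefEq.respectTransparency.types false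

universe u

open CategoryTheory CategoryTheory.Limits AlgebraicGeometry TopologicalSpace Opposite

attribute [local instance] HasDerivedCategory.standard

namespace Groth.Agent.KExact.SerreTop

open KFlatLib DualShriek

/-- The shift of `Rf_*`. -/
theorem nonempty_rpush_shiftNat {X Y : Scheme.{u}} (f : X ⟶ Y) [DCoh.HasRpush f] (n : ℤ) :
    Nonempty (shiftFunctor (DCoh.D X) n ⋙ DCoh.Rpush f ≅ DCoh.Rpush f ⋙ shiftFunctor (DCoh.D Y) n) := by
  haveI := TriCat.qh_isLeftAdjoint_of_exists_resolution (A := X.Modules) exists_kInjective_res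
  let adjQ := Adjunction.ofIsLeftAdjoint (DerivedCategory.Qh (C := X.Modules))
  let ρ := (DerivedCategory.Qh (C := X.Modules)).rightAdjoint
  let W := HomotopyCategory.quasiIso X.Modules (ComplexShape.up ℤ)
  haveI : (ρ ⋙ DCoh.pushKh f).IsRightDerivedFunctor
      (Functor.whiskerRight adjQ.unit (DCoh.pushKh f)) W :=
    TriCat.isRightDerivedFunctor_of_adjunction adjQ W (DCoh.pushKh f)
  let e : ρ ⋙ DCoh.pushKh f ≅ DCoh.Rpush f :=
    Functor.rightDerivedUnique _ _ (Functor.whiskerRight adjQ.unit (DCoh.pushKh f))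
      ((DCoh.pushKh f).totalRightDerivedUnit DerivedCategory.Qh W) W
  letI := adjQ.rightAdjointCommShift ℤ
  exact ⟨Functor.isoWhiskerLeft _ e.symm ≪≫ (ρ ⋙ DCoh.pushKh f).commShiftIso n ≪≫
    Functor.isoWhiskerRight e _⟩

/-- `Rf_*` is additive. -/
theorem additive_rpush {X Y : Scheme.{u}} (f : X ⟶ Y) [DCoh.HasRpush f] : (DCoh.Rpush f).Additive := by
  haveI := hasLpull f
  obtain ⟨adj⟩ := nonempty_lpull_rpush_adj f
  haveI := adj.rightAdjoint_preservesLimits
  haveI : HasBinaryBiproducts (DCoh.D X) := HasBinaryBiproducts.of_hasBinaryProducts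
  haveI := preservesBinaryBiproducts_of_preservesBinaryProducts (DCoh.Rpush f)
  exact Functor.additive_of_preservesBinaryBiproducts _

variable [∀ (U V : Scheme.{u}) (j : U ⟶ V) [IsOpenImmersion j], PreservesFiniteLimits (Scheme.Modules.restrictFunctor j)]
  [∀ (R : CommRingCat.{u}), PreservesFiniteLimits (tilde.functor R)]

/-- `~` as an equivalence with `D_QCoh`. -/
noncomputable abbrev eqA (B : CommRingCat.{u}) : Dual.D B ≌ DCoh.DQCoh (Spec B) := (tildeL B).asEquivalence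

variable {A : Type u} [CommRing A] {X : Scheme.{u}} [X.Over (Spec (CommRingCat.of A))]
  [DCoh.HasRpush (X ↘ Spec (CommRingCat.of A))]
  {hf : DCoh.RpushPreservesQCoh (X ↘ Spec (CommRingCat.of A))}

variable (A) in
/-- The identity as structure morphism. -/
@[reducible] noncomputable def selfOver : (Spec (CommRingCat.of A)).Over (Spec (CommRingCat.of A)) := ⟨𝟙 _⟩

attribute [local instance] selfOver

instance : Scheme.Hom.IsOver (X ↘ Spec (CommRingCat.of A)) (Spec (CommRingCat.of A)) := ⟨Category.comp_id _⟩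

/-- Quasi-coherent modules without cohomology above degree `d`. -/
def Good (X : Scheme.{u}) (d : ℕ) : ObjectProperty X.Modules := fun F =>
  Coh.IsQCoh F ∧ ∀ i : ℕ, d < i → Subsingleton (Coh.HH X F i)

/-- A module as an object of the derived category. -/
noncomputable def toD (X : Scheme.{u}) (d : ℕ) : (Good X d).FullSubcategory ⥤ DCoh.DQCoh X :=
  ObjectProperty.lift _ (ObjectProperty.ι _ ⋙ DerivedCategory.singleFunctor X.Modules 0)
    fun F => isQCohD_inD_of_isQCoh F.property.1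

variable (X hf) in
/-- `RΓ` as a functor to `D(A)`. -/
noncomputable def mf (d : ℕ) : (Good X d).FullSubcategory ⥤ Dual.D A :=
  toD X d ⋙ DCoh.RpushQ (X ↘ Spec (CommRingCat.of A)) hf ⋙ (eqA (CommRingCat.of A)).inverse

variable (X hf) in
theorem nonempty_eps (d : ℕ) (n : ℤ) :
    Nonempty ((toD X d ⋙ ObjectProperty.ι _) ⋙ shiftFunctor (DCoh.D X) n ⋙
        DCoh.Rpush (X ↘ Spec (CommRingCat.of A)) ≅
      mf X hf d ⋙ shiftFunctor (Dual.D A) n ⋙ DCoh.tildeD (CommRingCat.of A)) := by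
  obtain ⟨S⟩ := nonempty_rpush_shiftNat (X ↘ Spec (CommRingCat.of A)) n
  let e0 : (toD X d ⋙ ObjectProperty.ι _) ⋙ DCoh.Rpush (X ↘ Spec (CommRingCat.of A)) ≅
      mf X hf d ⋙ DCoh.tildeD (CommRingCat.of A) :=
    Functor.isoWhiskerRight (Functor.isoWhiskerLeft (toD X d ⋙ DCoh.RpushQ _ hf)
      (eqA (CommRingCat.of A)).counitIso.symm) (ObjectProperty.ι _)
  exact ⟨Functor.isoWhiskerLeft _ S ≪≫ Functor.isoWhiskerRight e0 (shiftFunctor _ n) ≪≫
    Functor.isoWhiskerLeft (mf X hf d) ((DCoh.tildeD (CommRingCat.of A)).commShiftIso n).symm⟩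

instance linear_tildeD : Functor.Linear A (DCoh.tildeD (CommRingCat.of A)) := by
  haveI : (tilde.functor (CommRingCat.of A)).Additive := tilde_additive _
  haveI := HHLinear.linear_tilde (A := A)
  haveI : PreservesFiniteColimits (tilde.functor (CommRingCat.of A)) := QCoh.tilde_preservesFiniteColimits
  exact inferInstanceAs (Functor.Linear A (tilde.functor (CommRingCat.of A)).mapDerivedCategory)

theorem mf_map_smul (d : ℕ) (F : (Good X d).FullSubcategory) (r : A) :
    (mf X hf d).map (r • 𝟙 F) = r • 𝟙 _ := by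
  haveI := additive_rpush (X ↘ Spec (CommRingCat.of A))
  haveI := HHLinear.linear_rpush (A := A) (X ↘ Spec (CommRingCat.of A))
  let eA := (eqA (CommRingCat.of A))
  apply eA.functor.map_injective
  refine ObjectProperty.hom_ext _ ?_
  let c := (ObjectProperty.ι DCoh.IsQCohD).mapIso (eA.counitIso.app
    ((DCoh.RpushQ (X ↘ Spec (CommRingCat.of A)) hf).obj ((toD X d).obj F)))
  have h1 := congrArg (fun t => t.hom) (eA.counitIso.hom.naturality
    ((DCoh.RpushQ (X ↘ Spec (CommRingCat.of A)) hf).map ((toD X d).map (r • 𝟙 F))))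
  have h2 : ((DCoh.RpushQ (X ↘ Spec (CommRingCat.of A)) hf).map ((toD X d).map (r • 𝟙 F))).hom = r • 𝟙 _ := by
    show (DCoh.Rpush _).map ((DerivedCategory.singleFunctor X.Modules 0).map (r • 𝟙 F.obj)) = _
    rw [Functor.map_smul, CategoryTheory.Functor.map_id, Functor.map_smul, CategoryTheory.Functor.map_id]
    rfl
  show (DCoh.tildeD (CommRingCat.of A)).map ((mf X hf d).map (r • 𝟙 F)) = (DCoh.tildeD _).map (r • 𝟙 _)
  rw [(DCoh.tildeD (CommRingCat.of A)).map_smul, CategoryTheory.Functor.map_id, ← cancel_mono c.hom, Linear.smul_comp,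
    Category.id_comp]
  refine h1.trans ?_
  show c.hom ≫ ((DCoh.RpushQ (X ↘ Spec (CommRingCat.of A)) hf).map ((toD X d).map (r • 𝟙 F))).hom = _
  rw [h2, Linear.comp_smul]
  exact congrArg (r • ·) (Category.comp_id _)

/-- Degree `d` of `RΓ`. -/
noncomputable def gf (d : ℕ) (n : ℕ) : (Good X d).FullSubcategory ⥤ ModuleCat.{u} A :=
  mf X hf d ⋙ DerivedCategory.homologyFunctor (ModuleCat.{u} A) (n : ℤ)

/-- Cohomology is the cohomology of `RΓ`, naturally and linearly. -/
theorem exists_theta (d n : ℕ) :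
    ∃ θ : ∀ F : (Good X d).FullSubcategory, Coh.HH X F.obj n ≃ₗ[A] (gf (hf := hf) d n).obj F,
      ∀ (F G : (Good X d).FullSubcategory) (φ : F ⟶ G) (x : Coh.HH X F.obj n),
        θ G (Sheaf.H.map ((SheafOfModules.toSheaf X.ringCatSheaf).map φ.hom) n x) =
          (gf (hf := hf) d n).map φ (θ F x) := by
  let f := X ↘ Spec (CommRingCat.of A)
  haveI : HasExt.{u} X.Modules := IsGrothendieckAbelian.hasExt _
  haveI := additive_rpush f
  haveI := hasLpull f
  obtain ⟨adj⟩ := nonempty_lpull_rpush_adj f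
  obtain ⟨eO⟩ := SmoothShriek.nonempty_lpull_inD f
  obtain ⟨et⟩ := DualNormalized.nonempty_tildeD_iso A
  obtain ⟨ε⟩ := nonempty_eps X hf d (n : ℤ)
  let P := fun F => ((mf X hf d).obj F)⟦(n : ℤ)⟧
  let T := DCoh.tildeD (CommRingCat.of A)
  let toT : ∀ F : (Good X d).FullSubcategory,
      (DCoh.inD X (Coh.structureModule X) ⟶ (DCoh.inD X F.obj)⟦(n : ℤ)⟧) →+
        (T.obj (Dual.inD A A) ⟶ T.obj (P F)) := fun F =>
    AddMonoidHom.mk' (fun φ => et.hom ≫ adj.homEquiv _ _ (eO.inv ≫ φ) ≫ ε.hom.app F) fun a b => by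
      simp only [Adjunction.homEquiv_unit, Preadditive.comp_add, Functor.map_add, Preadditive.add_comp]
  have hT : ∀ F, Function.Bijective (toT F) := fun F =>
    ((et.symm.homFromEquiv.bijective.comp (ε.app F).homToEquiv.bijective).comp
      ((adj.homEquiv _ _).bijective.comp eO.homFromEquiv.bijective) : _)
  let tm : ∀ F, (Dual.inD A A ⟶ P F) →+ (T.obj (Dual.inD A A) ⟶ T.obj (P F)) := fun F =>
    AddMonoidHom.mk' (fun g => T.map g) fun a b => T.map_add
  have htm : ∀ F, Function.Bijective (tm F) := fun F => by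
    show Function.Bijective fun g : Dual.inD A A ⟶ P F => T.map g
    exact tildeD_map_bijective (R := CommRingCat.of A) (Dual.inD A A) (P F)
  let θ₀ : ∀ F : (Good X d).FullSubcategory, Coh.HH X F.obj n ≃+ (gf (hf := hf) d n).obj F := fun F =>
    (HHLinear.homHH (A := A) F.obj n).symm.toAddEquiv.trans
      ((AddEquiv.ofBijective (toT F) (hT F)).trans ((AddEquiv.ofBijective (tm F) (htm F)).symm.trans
        ((AddEquiv.ofBijective (HHLinear.evalOne (P F)).toAddMonoidHom (HHLinear.bijective_evalOne (P F))).trans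
          (((DerivedCategory.homologyFunctor (ModuleCat.{u} A) 0).shiftIso (n : ℤ) 0 n (by omega)).app
            ((mf X hf d).obj F)).toLinearEquiv.toAddEquiv)))
  have hθ₀ : ∀ F e g, tm F g = toT F e → θ₀ F (HHLinear.homHH (A := A) F.obj n e) =
      (((DerivedCategory.homologyFunctor (ModuleCat.{u} A) 0).shiftIso (n : ℤ) 0 n (by omega)).app
        ((mf X hf d).obj F)).toLinearEquiv (HHLinear.evalOne (P F) g) := fun F e g hg => by
    show (((DerivedCategory.homologyFunctor (ModuleCat.{u} A) 0).shiftIso (n : ℤ) 0 n (by omega)).app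
      ((mf X hf d).obj F)).toLinearEquiv (HHLinear.evalOne (P F) ((AddEquiv.ofBijective (tm F) (htm F)).symm
        (toT F ((HHLinear.homHH (A := A) F.obj n).symm (HHLinear.homHH (A := A) F.obj n e))))) = _
    rw [LinearEquiv.symm_apply_apply, show (AddEquiv.ofBijective (tm F) (htm F)).symm (toT F e) = g from
      (AddEquiv.symm_apply_eq _).2 hg.symm]
  have hnat : ∀ (F G : (Good X d).FullSubcategory) (φ : F ⟶ G) (x : Coh.HH X F.obj n),
      θ₀ G (Sheaf.H.map ((SheafOfModules.toSheaf X.ringCatSheaf).map φ.hom) n x) =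
        (gf (hf := hf) d n).map φ (θ₀ F x) := fun F G φ x => by
    obtain ⟨e, rfl⟩ := (HHLinear.homHH (A := A) F.obj n).surjective x
    rw [← HHLinear.homHH_natural]
    let q := ((mf X hf d).map φ)⟦(n : ℤ)⟧'
    obtain ⟨g, hg⟩ := (htm F).2 (toT F e)
    have hg' : tm G (g ≫ q) = toT G (e ≫ ((DerivedCategory.singleFunctor X.Modules 0).map φ.hom)⟦(n : ℤ)⟧') := by
      show T.map (g ≫ q) = _
      rw [Functor.map_comp, show T.map g = toT F e from hg]
      show (et.hom ≫ adj.homEquiv _ _ (eO.inv ≫ e) ≫ ε.hom.app F) ≫ T.map q =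
        et.hom ≫ adj.homEquiv _ _ (eO.inv ≫ e ≫ _) ≫ ε.hom.app G
      rw [← Category.assoc eO.inv e, adj.homEquiv_naturality_right (eO.inv ≫ e)]
      simp only [Category.assoc]
      exact congrArg (et.hom ≫ adj.homEquiv _ _ (eO.inv ≫ e) ≫ ·) (ε.hom.naturality φ).symm
    rw [hθ₀ G _ _ hg', hθ₀ F _ _ hg, HHLinear.evalOne_natural]
    exact ConcreteCategory.congr_hom
      (((DerivedCategory.homologyFunctor (ModuleCat.{u} A) 0).shiftIso (n : ℤ) 0 n (by omega)).hom.naturality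
        ((mf X hf d).map φ)) (HHLinear.evalOne (P F) g)
  refine ⟨fun F => (θ₀ F).toLinearEquiv fun r x => ?_, hnat⟩
  have h := hnat F F (r • 𝟙 F) x
  rw [show ((gf (hf := hf) d n).map (r • 𝟙 F)) = r • 𝟙 _ from by
    show (DerivedCategory.homologyFunctor (ModuleCat.{u} A) (n : ℤ)).map _ = _
    rw [mf_map_smul, Functor.map_smul, CategoryTheory.Functor.map_id]
    rfl] at h
  rw [show r • x = Sheaf.H.map ((SheafOfModules.toSheaf X.ringCatSheaf).map (r • 𝟙 F.obj)) n x by
    rw [KLin.smul_id]; rfl]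
  exact h

/-- Representability of the dual of the top cohomology. -/
theorem exists_trace [IsLocalRing A] [IsNoetherianRing A] [IsProper (X ↘ Spec (CommRingCat.of A))]
    (ω : Dual.D A) (hω : Dual.IsDualizing A ω) (hn : Dual.IsNormalized A ω)
    {a : DCoh.DQCoh (Spec (CommRingCat.of A)) ⥤ DCoh.DQCoh X}
    (adj : DCoh.RpushQ (X ↘ Spec (CommRingCat.of A)) hf ⊣ a) (W : DCoh.DQCoh (Spec (CommRingCat.of A)))
    (eW : W.obj ≅ (DCoh.tildeD (CommRingCat.of A)).obj ω) (dA dX d : ℕ) (hdA : ringKrullDim A = dA)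
    (hdX : topologicalKrullDim X = dX) (hdim : dX = d + dA)
    (hgood : Good X d (DCoh.HD (a.obj W).obj (-(dX : ℤ)))) :
    ∃ t : Coh.HH X (DCoh.HD (a.obj W).obj (-(dX : ℤ))) d →ₗ[A] Dual.HD A ω (-(dA : ℤ)),
      ∀ (F : X.Modules), Good X d F → ∀ ψ : Coh.HH X F d →ₗ[A] Dual.HD A ω (-(dA : ℤ)),
        ∃! φ : F ⟶ DCoh.HD (a.obj W).obj (-(dX : ℤ)), ∀ x : Coh.HH X F d,
          ψ x = t (Sheaf.H.map ((SheafOfModules.toSheaf X.ringCatSheaf).map φ) d x) := by
  obtain ⟨hX, hK, hM⟩ := DualNormalized.proper_package hω hn (X ↘ Spec (CommRingCat.of A)) adj W eW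
  haveI := hX
  haveI : (a.obj W).obj.IsGE (-(dX : ℤ)) := (DerivedCategory.isGE_iff _ _).2 fun i hi =>
    DualNormalized.isZero_hd hM hdX i (Or.inl hi)
  haveI : ω.IsGE (-(dA : ℤ)) := (DerivedCategory.isGE_iff _ _).2 fun i hi => by
    obtain ⟨e⟩ := exists_homRingLEquiv ω i
    haveI : Subsingleton (Dual.HD A ω i) := not_nontrivial_iff_subsingleton.1 fun h => by
      have := ((S0366.result A ω hω hn A dA ((Module.supportDim_self_eq_ringKrullDim _).trans hdA) i).1
        e.toEquiv.nontrivial).1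
      omega
    exact @ModuleCat.isZero_of_subsingleton _ _ _ this
  haveI : ∀ F : (Good X d).FullSubcategory, ((mf X hf d).obj F).IsLE d := fun F =>
    (DerivedCategory.isLE_iff _ _).2 fun i hi => by
      obtain ⟨j, rfl⟩ := Int.eq_ofNat_of_zero_le (show 0 ≤ i by omega)
      obtain ⟨θ, -⟩ := exists_theta (X := X) (hf := hf) d j
      haveI := F.property.2 j (by omega)
      exact @ModuleCat.isZero_of_subsingleton _ _ _ (θ F).symm.toEquiv.subsingleton
  obtain ⟨θ, hθ⟩ := exists_theta (X := X) (hf := hf) d d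
  obtain ⟨ε⟩ := nonempty_eps X hf d (dX : ℤ)
  let K := (a.obj W).obj
  let ωX := DCoh.HD K (-(dX : ℤ))
  let H0 := DerivedCategory.homologyFunctor X.Modules 0
  let HA := DerivedCategory.homologyFunctor (ModuleCat.{u} A) (-(dA : ℤ))
  let c := (DerivedCategory.homologyFunctor X.Modules 0).shiftIso (-(dX : ℤ)) 0 (-(dX : ℤ)) (by omega)
  let c' := (DerivedCategory.homologyFunctor (ModuleCat.{u} A) 0).shiftIso (dX : ℤ) 0 (dX : ℤ) (by omega)
  let cA := (DerivedCategory.homologyFunctor (ModuleCat.{u} A) 0).shiftIso (dX : ℤ) (-(dA : ℤ)) (d : ℤ) (by omega)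
  haveI : ∀ F : X.Modules, (DCoh.inD X F).IsLE 0 := fun F =>
    inferInstanceAs (((DerivedCategory.singleFunctor X.Modules 0).obj F).IsLE 0)
  haveI : (K⟦(-(dX : ℤ))⟧).IsGE 0 := DerivedCategory.TStructure.t.isGE_shift K (-(dX : ℤ)) (-(dX : ℤ)) 0 (by omega)
  haveI : ∀ F : (Good X d).FullSubcategory, (((mf X hf d).obj F)⟦(dX : ℤ)⟧).IsLE (-(dA : ℤ)) := fun F =>
    DerivedCategory.TStructure.t.isLE_shift _ (d : ℤ) (dX : ℤ) (-(dA : ℤ)) (by omega)
  let u := DerivedCategory.singleFunctorCompHomologyFunctorIso X.Modules 0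
  let e1 : ∀ F : (Good X d).FullSubcategory, (F.obj ⟶ ωX) ≃ (DCoh.inD X F.obj ⟶ K⟦(-(dX : ℤ))⟧) := fun F =>
    ((u.app F.obj).symm.homFromEquiv.trans (c.app K).symm.homToEquiv).trans
      (Equiv.ofBijective _ (bijective_homologyMap 0)).symm
  have e1_nat : ∀ (F G : (Good X d).FullSubcategory) (φ : F ⟶ G) (ψ : G.obj ⟶ ωX),
      e1 F (φ.hom ≫ ψ) = (DerivedCategory.singleFunctor X.Modules 0).map φ.hom ≫ e1 G ψ := fun F G φ ψ => by
    refine (bijective_homologyMap (C := X.Modules) 0).1 ?_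
    have hs : ∀ (F : (Good X d).FullSubcategory) (ψ : F.obj ⟶ ωX),
        H0.map (e1 F ψ) = u.hom.app F.obj ≫ ψ ≫ (c.app K).inv := fun F ψ => by
      refine ((Equiv.ofBijective _ (bijective_homologyMap 0)).apply_symm_apply _).trans ?_
      simp [Iso.homFromEquiv, Iso.homToEquiv]
    show H0.map (e1 F (φ.hom ≫ ψ)) = H0.map (_ ≫ e1 G ψ)
    rw [Functor.map_comp, hs, hs, Category.assoc]
    exact (u.hom.naturality_assoc φ.hom (ψ ≫ (c.app K).inv)).symm
  let sh := (shiftEquiv' (DCoh.D X) (dX : ℤ) (-(dX : ℤ)) (add_neg_cancel _)).toAdjunction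
  let EQ : (Good X d).FullSubcategory → DCoh.DQCoh X := fun F =>
    ⟨(DCoh.inD X F.obj)⟦(dX : ℤ)⟧, isQCohD_shift (isQCohD_inD_of_isQCoh F.property.1) _⟩
  let e2 : ∀ F, (DCoh.inD X F.obj ⟶ K⟦(-(dX : ℤ))⟧) ≃ ((DCoh.RpushQ _ hf).obj (EQ F) ⟶ W) := fun F =>
    ((sh.homEquiv _ _).symm.trans
      { toFun := fun g => (ObjectProperty.homMk g : EQ F ⟶ a.obj W)
        invFun := fun g => g.hom
        left_inv := fun _ => rfl
        right_inv := fun _ => rfl }).trans (adj.homEquiv _ _).symm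
  let e3 : ∀ F, ((DCoh.RpushQ (X ↘ Spec (CommRingCat.of A)) hf).obj (EQ F) ⟶ W) ≃
      (((mf X hf d).obj F)⟦(dX : ℤ)⟧ ⟶ ω) := fun F =>
    ({ toFun := fun g => g.hom
       invFun := fun g => ObjectProperty.homMk g
       left_inv := fun _ => rfl
       right_inv := fun _ => rfl } : _ ≃ ((DCoh.Rpush (X ↘ Spec (CommRingCat.of A))).obj
          ((DCoh.inD X F.obj)⟦(dX : ℤ)⟧) ⟶ W.obj)).trans
      (((ε.app F).homFromEquiv.trans eW.homToEquiv).trans (Equiv.ofBijective _ (tildeD_map_bijective _ _)).symm)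
  let e4 : ∀ F, (((mf X hf d).obj F)⟦(dX : ℤ)⟧ ⟶ ω) ≃
      ((gf (hf := hf) d d).obj F ⟶ ModuleCat.of A (Dual.HD A ω (-(dA : ℤ)))) := fun F =>
    (Equiv.ofBijective _ (bijective_homologyMap (-(dA : ℤ)))).trans (cA.app _).homFromEquiv
  let Ψ := fun F => (((e1 F).trans (e2 F)).trans (e3 F)).trans (e4 F)
  have hΨ : ∀ (F G : (Good X d).FullSubcategory) (φ : F ⟶ G) (ψ : G.obj ⟶ ωX),
      Ψ F (φ.hom ≫ ψ) = (gf (hf := hf) d d).map φ ≫ Ψ G ψ := fun F G φ ψ => by
    let gD := (DerivedCategory.singleFunctor X.Modules 0).map φ.hom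
    let gE : EQ F ⟶ EQ G := ObjectProperty.homMk (gD⟦(dX : ℤ)⟧')
    let q := ((mf X hf d).map φ)⟦(dX : ℤ)⟧'
    have h2 : ∀ g, e2 F (gD ≫ g) = (DCoh.RpushQ _ hf).map gE ≫ e2 G g := fun g => by
      show (adj.homEquiv _ _).symm (ObjectProperty.homMk _) = _
      rw [show (ObjectProperty.homMk ((sh.homEquiv (DCoh.inD X F.obj) K).symm (gD ≫ g)) : EQ F ⟶ a.obj W) =
          gE ≫ ObjectProperty.homMk ((sh.homEquiv (DCoh.inD X G.obj) K).symm g) from
        ObjectProperty.hom_ext _ (sh.homEquiv_naturality_left_symm gD g),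
        Adjunction.homEquiv_naturality_left_symm]
      rfl
    have he3 : ∀ (H : (Good X d).FullSubcategory)
        (g : (DCoh.RpushQ (X ↘ Spec (CommRingCat.of A)) hf).obj (EQ H) ⟶ W),
        (DCoh.tildeD (CommRingCat.of A)).map (e3 H g) = ε.inv.app H ≫ g.hom ≫ eW.hom := fun H g => by
      refine ((Equiv.ofBijective _ (tildeD_map_bijective (R := CommRingCat.of A)
        (((mf X hf d).obj H)⟦(dX : ℤ)⟧) ω)).apply_symm_apply _).trans ?_
      show (ε.inv.app H ≫ g.hom) ≫ eW.hom = _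
      exact Category.assoc _ _ _
    have h3 : ∀ g, e3 F ((DCoh.RpushQ (X ↘ Spec (CommRingCat.of A)) hf).map gE ≫ g) = q ≫ e3 G g := fun g => by
      refine (tildeD_map_bijective _ _).1 ?_
      refine (he3 F _).trans (Eq.trans ?_ ((DCoh.tildeD (CommRingCat.of A)).map_comp q (e3 G g)).symm)
      refine Eq.trans ?_ (congrArg ((DCoh.tildeD (CommRingCat.of A)).map q ≫ ·) (he3 G g)).symm
      exact (congrArg (ε.inv.app F ≫ ·) (Category.assoc _ _ _)).trans
        (ε.inv.naturality_assoc φ (g.hom ≫ eW.hom)).symm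
    have h4 : ∀ g, e4 F (q ≫ g) = (gf (hf := hf) d d).map φ ≫ e4 G g := fun g => by
      show (cA.app _).inv ≫ HA.map (q ≫ g) = _ ≫ (cA.app _).inv ≫ HA.map g
      rw [Functor.map_comp]
      exact (cA.inv.naturality_assoc ((mf X hf d).map φ) _).symm
    show e4 F (e3 F (e2 F (e1 F (φ.hom ≫ ψ)))) = _
    rw [e1_nat, h2, h3, h4]
    rfl
  let G₀ : (Good X d).FullSubcategory := ⟨ωX, hgood⟩
  let t : Coh.HH X ωX d →ₗ[A] Dual.HD A ω (-(dA : ℤ)) := (Ψ G₀ (𝟙 ωX)).hom.comp (θ G₀).toLinearMap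
  refine ⟨t, fun F hF ψ => ?_⟩
  let F₀ : (Good X d).FullSubcategory := ⟨F, hF⟩
  have key : ∀ (φ : F ⟶ ωX) (x : Coh.HH X F d),
      t (Sheaf.H.map ((SheafOfModules.toSheaf X.ringCatSheaf).map φ) d x) = (Ψ F₀ φ).hom (θ F₀ x) := fun φ x => by
    let φ' : F₀ ⟶ G₀ := ObjectProperty.homMk φ
    show (Ψ G₀ (𝟙 ωX)).hom (θ G₀ _) = _
    rw [show θ G₀ (Sheaf.H.map ((SheafOfModules.toSheaf X.ringCatSheaf).map φ) d x) = _ from hθ F₀ G₀ φ' x]
    have h := hΨ F₀ G₀ φ' (𝟙 ωX)
    rw [show φ'.hom ≫ 𝟙 ωX = φ from Category.comp_id _] at h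
    rw [h]
    rfl
  refine ⟨(Ψ F₀).symm (ModuleCat.ofHom (ψ.comp (θ F₀).symm.toLinearMap)), fun x => ?_, fun φ hφ => ?_⟩
  · rw [key]
    erw [Equiv.apply_symm_apply]
    show ψ x = ψ ((θ F₀).symm (θ F₀ x))
    rw [LinearEquiv.symm_apply_apply]
  · refine (Ψ F₀).eq_symm_apply.2 (ModuleCat.hom_ext (LinearMap.ext fun y => ?_))
    obtain ⟨x, rfl⟩ := (θ F₀).surjective y
    rw [← key, ← hφ]
    show ψ x = ψ ((θ F₀).symm (θ F₀ x))
    rw [LinearEquiv.symm_apply_apply]

/-- Coherent modules have no cohomology above the dimension of the closed fibre. -/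
theorem good_of_isCoh [IsLocalRing A] [IsNoetherianRing A] [IsProper (X ↘ Spec (CommRingCat.of A))] {d : ℕ}
    (hd : topologicalKrullDim ((X ↘ Spec (CommRingCat.of A)).fiber (IsLocalRing.closedPoint A)) ≤ d)
    {F : X.Modules} (hF : Coh.IsCoh F) : Good X d F := by
  refine ⟨hF.1, fun i hi => ?_⟩
  have hz := S0042.result (X ↘ Spec (CommRingCat.of A)) (IsLocalRing.closedPoint A) d hd F hF i hi
  obtain ⟨e⟩ := QCoh.nonempty_HH_equiv_sections (X ↘ Spec (CommRingCat.of A)) hF.1 i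
  let G : TopCat.Presheaf AddCommGrpCat.{u} (Spec (CommRingCat.of A)).toPresheafedSpace.carrier :=
    ((Coh.RpushAb (X ↘ Spec (CommRingCat.of A)) i).obj (Coh.toAb F)).obj
  have htop : ∀ U : (Spec (CommRingCat.of A)).Opens, IsLocalRing.closedPoint A ∈ U → U = ⊤ := fun U hU =>
    top_le_iff.1 fun z _ => ((PrimeSpectrum.le_iff_specializes z _).1
      (IsLocalRing.le_maximalIdeal z.isPrime.ne_top)).mem_open U.2 hU
  haveI hs : Subsingleton (G.stalk (IsLocalRing.closedPoint A)) := AddCommGrpCat.subsingleton_of_isZero hz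
  haveI : Subsingleton (G.obj (op ⊤)) := subsingleton_of_forall_eq 0 fun s => by
    obtain ⟨W, hW, i₁, i₂, h⟩ := G.germ_eq (IsLocalRing.closedPoint A)
      (U := ⊤) (V := ⊤) trivial trivial s 0 (hs.elim _ _)
    obtain rfl := htop W hW
    rw [Subsingleton.elim i₁ (𝟙 _), Subsingleton.elim i₂ (𝟙 _), op_id, CategoryTheory.Functor.map_id] at h
    exact h
  exact e.toEquiv.subsingleton

end Groth.Agent.KExact.SerreTop
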