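import Groth.Agent.KExact.TorBCData
import Groth.Agent.KExact.BCNat
import Groth.Agent.KExact.SerreTop
import Groth.Agent.KFlatLib.Scheme.RightAdjBound
import Groth.Agent.KFlatLib.Scheme.LpullLE
import Groth.Agent.KFlatLib.Scheme.AffineConservative
import Groth.Agent.KFlatLib.Scheme.RpushFF
import Groth.Agent.KFlatLib.Scheme.MVPush
import Groth.Agent.KFlatLib.Scheme.QcInduction
import Groth.Agent.S16953
import Groth.Agent.KFlatLib.Scheme.AffineRpush
import Groth.Agent.KFlatLib.Scheme.AffineLift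

/-!
# Bounded above right adjoints under tor-independent base change
-/

set_option linter.style.haveILetI false
set_option backward.isDefEq.respectTransparency false
set_option backward.isDefEq.respectTransparency.types false

universe u

open CategoryTheory CategoryTheory.Limits AlgebraicGeometry Pretriangulated ZeroObject TopologicalSpace

attribute [local instance] HasDerivedCategory.standard

namespace Groth.Agent.KExact.RightAdjBdBC

open KFlatLib CanBC TorBCGen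

variable {X Y X' Y' : Scheme.{u}}

/-- Tor independence passes to opens of the base change. -/
theorem torIndepG_comp_open {f : X ⟶ Y} {g : Y' ⟶ Y} (h : TorIndepG f g) {O : Scheme.{u}} (i : O ⟶ Y')
    [IsOpenImmersion i] : TorIndepG f (i ≫ g) := by
  intro U hU U' hU' hle C ψ j _ hψ p hp
  have hle' : i ''ᵁ U' ≤ g ⁻¹ᵁ U := by
    rintro _ ⟨x, hx, rfl⟩
    exact hle hx
  have key := h U hU (i ''ᵁ U') (hU'.image_of_isOpenImmersion i) hle' C ψ j hψ p hp
  letI a₁ : Algebra Γ(Y, U) Γ(O, U') := ((i ≫ g).appLE U U' hle).hom.toAlgebra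
  letI a₂ : Algebra Γ(Y, U) Γ(Y', i ''ᵁ U') := (g.appLE U (i ''ᵁ U') hle').hom.toAlgebra
  have hc : g.appLE U (i ''ᵁ U') hle' ≫ (i.appIso U').hom = (i ≫ g).appLE U U' hle := by
    rw [Scheme.Hom.appIso_hom', Scheme.Hom.appLE_comp_appLE]
  let e := (i.appIso U').commRingCatIsoToRingEquiv
  let l : Γ(Y', i ''ᵁ U') ≃ₗ[Γ(Y, U)] Γ(O, U') :=
    { e.toAddEquiv with
      map_smul' := fun r x => by
        change e ((g.appLE U (i ''ᵁ U') hle').hom r * x) = ((i ≫ g).appLE U U' hle).hom r * e x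
        rw [map_mul, ← hc]
        rfl }
  exact key.of_iso ((((CategoryTheory.Tor (ModuleCat.{u} Γ(Y, U)) p).obj
    ((ModuleCat.restrictScalars.{u} ψ.hom).obj (ModuleCat.of C C)))).mapIso l.toModuleIso.symm)

/-- Right adjoints commute with tor-independent base change. -/
theorem nonempty_rightAdjoint_bc {f : X ⟶ Y} {g : Y' ⟶ Y} {f' : X' ⟶ Y'} {g' : X' ⟶ X}
    (hsq : IsPullback g' f' f g) [QuasiCompact f] [QuasiSeparated f] [QuasiCompact g] [QuasiSeparated g]
    (htor : TorIndepG f g) [DCoh.HasRpush f] [DCoh.HasRpush f'] [DCoh.HasRpush g] [DCoh.HasRpush g']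
    (hf : DCoh.RpushPreservesQCoh f) (hf' : DCoh.RpushPreservesQCoh f') (hg : DCoh.RpushPreservesQCoh g)
    {a : DCoh.DQCoh Y ⥤ DCoh.DQCoh X} {a' : DCoh.DQCoh Y' ⥤ DCoh.DQCoh X'}
    (adj : DCoh.RpushQ f hf ⊣ a) (adj' : DCoh.RpushQ f' hf' ⊣ a') (K : DCoh.DQCoh Y') :
    Nonempty ((a.obj ((DCoh.RpushQ g hg).obj K)).obj ≅ (DCoh.Rpush g').obj (a'.obj K).obj) := by
  haveI : QuasiCompact g' := MorphismProperty.of_isPullback (P := @QuasiCompact) hsq.flip inferInstance
  haveI : QuasiSeparated g' := MorphismProperty.of_isPullback (P := @QuasiSeparated) hsq.flip inferInstance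
  haveI := hasLpull g; haveI := hasLpull g'
  have hg' : DCoh.RpushPreservesQCoh g' := fun K hK => isQCohD_rpush g' hK
  have hLg : Dual3.LpullPreservesQCoh g := fun K hK => isQCohD_lpull g hK
  have hLg' : Dual3.LpullPreservesQCoh g' := fun K hK => isQCohD_lpull g' hK
  obtain ⟨A⟩ := nonempty_lpull_rpush_adj g
  obtain ⟨A'⟩ := nonempty_lpull_rpush_adj g'
  let ff := fun (Z : Scheme.{u}) => ObjectProperty.fullyFaithfulι (DCoh.IsQCohD (X := Z))
  let Ar : Dual3.LpullQ g hLg ⊣ DCoh.RpushQ g hg :=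
    A.restrictFullyFaithful (ff Y) (ff Y') (Iso.refl _) (Iso.refl _)
  let Ar' : Dual3.LpullQ g' hLg' ⊣ DCoh.RpushQ g' hg' :=
    A'.restrictFullyFaithful (ff X) (ff X') (Iso.refl _) (Iso.refl _)
  obtain ⟨e, -, he⟩ := exists_isIso_baseChangeApp hsq htor A A'
  let θ : DCoh.RpushQ f hf ⋙ Dual3.LpullQ g hLg ≅ Dual3.LpullQ g' hLg' ⋙ DCoh.RpushQ f' hf' :=
    NatIso.ofComponents (fun M => (ff Y').preimageIso
        (X := (DCoh.RpushQ f hf ⋙ Dual3.LpullQ g hLg).obj M)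
        (Y := (Dual3.LpullQ g' hLg' ⋙ DCoh.RpushQ f' hf').obj M)
        (@asIso _ _ _ _ _ (he M.obj M.property)))
      (fun φ => ObjectProperty.hom_ext _ (TorBC.baseChangeApp_naturality A A' e φ.hom).symm)
  let i := ((adj.comp Ar).ofNatIsoLeft θ).rightAdjointUniq (Ar'.comp adj')
  exact ⟨(ObjectProperty.ι _).mapIso (i.app K)⟩

/-- `Rf_*` of an affine morphism preserves upper bounds. -/
theorem isLE_rpush_affine (f : X ⟶ Y) [IsAffineHom f] [DCoh.HasRpush f] {E : DCoh.D X} (hE : DCoh.IsQCohD E)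
    (n : ℤ) [E.IsLE n] : ((DCoh.Rpush f).obj E).IsLE n := by
  haveI := hasInjectiveResolutions_modules (X := X)
  refine (DerivedCategory.isLE_iff _ _).2 fun j hj => isZero_of_isZero_restrict _ fun y =>
    ⟨⊤, trivial, isZero_restrict_hd_rpush f hE n ⊤ 1 (fun M hM p hp => ?_) j (by omega)⟩
  obtain ⟨q, rfl⟩ : ∃ q, p = q + 1 := ⟨p - 1, by omega⟩
  exact Functor.map_isZero _ (S16953.Aux.isZero_Rpush f M hM q)

/-- `Rf_*` of an affine morphism reflects upper bounds. -/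
theorem isLE_of_rpush_affine (f : X ⟶ Y) [IsAffineHom f] [DCoh.HasRpush f] {E : DCoh.D X} (hE : DCoh.IsQCohD E)
    (n : ℤ) (h : ((DCoh.Rpush f).obj E).IsLE n) : E.IsLE n := by
  let t : Triangulated.TStructure (DCoh.D X) := DerivedCategory.TStructure.t
  obtain ⟨A, B, hA, hB, p, q, δ, hT⟩ := t.exists_triangle E n (n + 1) rfl
  haveI hA' : A.IsLE n := ⟨hA⟩
  haveI : B.IsGE (n + 1) := ⟨hB⟩
  let H := DerivedCategory.homologyFunctor X.Modules
  have hex : ∀ j, (ShortComplex.mk ((H j).map p) ((H j).map q)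
      ((Functor.map_comp _ _ _).symm.trans ((congrArg (H j).map (comp_distTriang_mor_zero₁₂ _ hT)).trans
        (Functor.map_zero _ _ _)))).Exact :=
    fun j => DerivedCategory.HomologySequence.exact₂ _ hT j
  have hqA : DCoh.IsQCohD A := fun j => by
    by_cases hj : n < j
    · exact isQCoh_of_isZero (DerivedCategory.isZero_of_isLE A n j hj)
    · haveI : Epi ((H j).map p) := (hex j).epi_f
        ((DerivedCategory.isZero_of_isGE B (n + 1) j (by omega)).eq_of_tgt _ _)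
      haveI : Mono ((H j).map p) := (DerivedCategory.HomologySequence.mono_homologyMap_mor₁_iff _ hT
        (j - 1) j (by omega)).2 ((DerivedCategory.isZero_of_isGE B (n + 1) (j - 1) (by omega)).eq_of_src _ _)
      haveI : IsIso ((H j).map p) := isIso_of_mono_of_epi _
      exact isQCoh_of_iso (asIso ((H j).map p)).symm (hE j)
  have hqB : DCoh.IsQCohD B := isQCohD_obj₃ hT hqA hE
  haveI := isLE_rpush_affine f hqA n
  haveI := isGE_rpush f B (n + 1)
  obtain ⟨c, hc⟩ := exists_rightDerived_triangle (Scheme.Modules.pushforward f) _ hT |>.2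
  have hz : IsZero ((DCoh.Rpush f).obj B) := by
    have : ((DCoh.Rpush f).obj B).IsLE n := (DerivedCategory.isLE_iff _ _).2 fun j hj =>
      (DerivedCategory.HomologySequence.exact₃ _ hc j (j + 1) rfl).isZero_of_both_zeros
        ((DerivedCategory.isZero_of_isLE ((DCoh.Rpush f).obj E) n j hj).eq_of_src _ _)
        ((DerivedCategory.isZero_of_isLE ((DCoh.Rpush f).obj A) n (j + 1) (by omega)).eq_of_tgt _ _)
    exact DerivedCategory.TStructure.t.isZero _ n (n + 1) (by omega)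
  haveI : IsIso p := (Triangle.isZero₃_iff_isIso₁ _ hT).1 (isZero_of_rpush_isZero f hqB hz)
  exact t.isLE_of_iso (asIso p) n

/-- A right adjoint of `Rf_*` turns extensions into extensions, for upper bounds. -/
theorem isLE_rightAdjoint_obj₂ {f : X ⟶ Y} [DCoh.HasRpush f] (hf : DCoh.RpushPreservesQCoh f)
    {a : DCoh.DQCoh Y ⥤ DCoh.DQCoh X} (adj : DCoh.RpushQ f hf ⊣ a) (T : Triangle (DCoh.D Y))
    (hT : T ∈ distTriang _) (h₁ : DCoh.IsQCohD T.obj₁) (h₂ : DCoh.IsQCohD T.obj₂) (h₃ : DCoh.IsQCohD T.obj₃)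
    (n : ℤ) (l₁ : (a.obj ⟨T.obj₁, h₁⟩).obj.IsLE n) (l₃ : (a.obj ⟨T.obj₃, h₃⟩).obj.IsLE n) :
    (a.obj ⟨T.obj₂, h₂⟩).obj.IsLE n := by
  let K₁ : DCoh.DQCoh Y := ⟨T.obj₁, h₁⟩
  let K₂ : DCoh.DQCoh Y := ⟨T.obj₂, h₂⟩
  let K₃ : DCoh.DQCoh Y := ⟨T.obj₃, h₃⟩
  let u : K₁ ⟶ K₂ := ObjectProperty.homMk T.mor₁
  let v : K₂ ⟶ K₃ := ObjectProperty.homMk T.mor₂
  obtain ⟨Z, k, w, hZ⟩ := distinguished_cocone_triangle₁ (a.map v).hom
  have hZq : DCoh.IsQCohD Z :=
    isQCohD_obj₁ hZ (a.obj K₂).property (a.obj K₃).property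
  let ZQ : DCoh.DQCoh X := ⟨Z, hZq⟩
  let φ : ZQ ⟶ a.obj K₂ := ObjectProperty.homMk k
  have h0 : (adj.homEquiv _ _).symm φ ≫ v = (adj.homEquiv ZQ K₃).symm (φ ≫ a.map v) :=
    (adj.homEquiv_naturality_right_symm _ _).symm
  have hφ : φ ≫ a.map v = 0 := ObjectProperty.hom_ext _ (comp_distTriang_mor_zero₁₂ _ hZ)
  haveI : (DCoh.Rpush f).Additive :=
    (exists_rightDerived_triangle (Scheme.Modules.pushforward f) _ (contractible_distinguished Z)).1
  have h0' : ((adj.homEquiv _ _).symm φ).hom ≫ T.mor₂ = 0 := by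
    rw [hφ, adj.homEquiv_counit] at h0
    refine (congrArg (fun t => t.hom) h0).trans ?_
    change (DCoh.Rpush f).map 0 ≫ (adj.counit.app K₃).hom = 0
    rw [Functor.map_zero, zero_comp]
  obtain ⟨ψ, hψ⟩ := Triangle.coyoneda_exact₂ T hT _ h0'
  let ψ' : (DCoh.RpushQ f hf).obj ZQ ⟶ K₁ := ObjectProperty.homMk ψ
  have hfac : adj.homEquiv _ _ ψ' ≫ a.map u = φ := by
    rw [← adj.homEquiv_naturality_right, show ψ' ≫ u = (adj.homEquiv _ _).symm φ from
      ObjectProperty.hom_ext _ hψ.symm, Equiv.apply_symm_apply]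
  refine (DerivedCategory.isLE_iff _ _).2 fun j hj => ?_
  let H := DerivedCategory.homologyFunctor X.Modules j
  refine (DerivedCategory.HomologySequence.exact₂ _ hZ j).isZero_of_both_zeros ?_
    ((DerivedCategory.isZero_of_isLE (a.obj K₃).obj n j hj).eq_of_tgt _ _)
  change H.map k = 0
  rw [show k = (adj.homEquiv _ _ ψ').hom ≫ (a.map u).hom from congrArg (fun t => t.hom) hfac.symm,
    Functor.map_comp,
    (DerivedCategory.isZero_of_isLE (a.obj K₁).obj n j hj).eq_of_tgt (H.map (adj.homEquiv _ _ ψ').hom) 0,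
    zero_comp]

/-- Direct images shift upper bounds boundedly. -/
theorem exists_isLE_rpush (f : X ⟶ Y) [CompactSpace X] [QuasiSeparatedSpace X] [CompactSpace Y]
    [QuasiSeparatedSpace Y] [DCoh.HasRpush f] :
    ∃ N : ℤ, ∀ (E : DCoh.D X), DCoh.IsQCohD E → ∀ n : ℤ, E.IsLE n → ((DCoh.Rpush f).obj E).IsLE (n + N) := by
  haveI : QuasiCompact f := quasiCompact_of_compactSpace f
  haveI : QuasiSeparated f := QuasiSeparated.of_quasiSeparatedSpace f
  haveI := hasInjectiveResolutions_modules (X := X)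
  obtain ⟨N, hN⟩ := exists_Rpush_bound f
  refine ⟨N, fun E hE n hn => (DerivedCategory.isLE_iff _ _).2 fun j hj => isZero_of_isZero_restrict _ fun y =>
    ⟨⊤, trivial, isZero_restrict_hd_rpush f hE n ⊤ N
      (fun M hM p hp => Functor.map_isZero _ (hN M hM p hp)) j (by omega)⟩⟩

lemma isLE_rho {U : Scheme.{u}} (j : U ⟶ X) [IsOpenImmersion j] (E : DCoh.D X) (n : ℤ) [E.IsLE n] :
    ((rho j).obj E).IsLE n :=
  (DerivedCategory.isLE_iff _ _).2 fun i hi =>
    ((Scheme.Modules.restrictFunctor j).map_isZero (DerivedCategory.isZero_of_isLE E n i hi)).of_iso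
      (restrictHDIso j E i)

variable {f : X ⟶ Y} {g : Y' ⟶ Y} {f' : X' ⟶ Y'} {g' : X' ⟶ X}

/-- The bound for objects pushed forward from an open of the base change. -/
def Bd (f' : X' ⟶ Y') [DCoh.HasRpush f'] (hf' : DCoh.RpushPreservesQCoh f')
    (a' : DCoh.DQCoh Y' ⥤ DCoh.DQCoh X') (O : Y'.Opens) : Prop :=
  ∀ (W : Scheme.{u}) (j : W ⟶ Y') [IsOpenImmersion j] [DCoh.HasRpush j], j.opensRange = O →
    ∃ d : ℤ, ∀ (K : DCoh.DQCoh Y') (F : DCoh.D W), DCoh.IsQCohD F →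
      Nonempty (K.obj ≅ (DCoh.Rpush j).obj F) → ∀ n : ℤ, F.IsLE n → (a'.obj K).obj.IsLE (n + d)

section

variable [CompactSpace Y'] [QuasiSeparatedSpace Y'] [DCoh.HasRpush f'] {hf' : DCoh.RpushPreservesQCoh f'}
  {a' : DCoh.DQCoh Y' ⥤ DCoh.DQCoh X'}

/-- Mayer-Vietoris for the bound. -/
theorem bd_sup (adj' : DCoh.RpushQ f' hf' ⊣ a') (U V : Y'.Opens) (hUc : IsCompact (U : Set Y'))
    (hVc : IsCompact (V : Set Y')) (hU : Bd f' hf' a' U)
    (hV : Bd f' hf' a' V) (hUV : Bd f' hf' a' (U ⊓ V)) : Bd f' hf' a' (U ⊔ V) := by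
  intro W j _ _ hj
  let U' := j ⁻¹ᵁ U
  let V' := j ⁻¹ᵁ V
  have htop : U' ⊔ V' = ⊤ := top_unique fun w _ => by
    have : j w ∈ U ⊔ V := hj ▸ (⟨w, rfl⟩ : j w ∈ j.opensRange)
    exact Opens.mem_sup.2 ((Opens.mem_sup.1 this).imp id id)
  have hr : ∀ O : Y'.Opens, O ≤ U ⊔ V → ((j ⁻¹ᵁ O).ι ≫ j).opensRange = O := fun O hO => by
    rw [Scheme.Hom.opensRange_comp, Scheme.Opens.opensRange_ι,
      Scheme.Hom.image_preimage_eq_opensRange_inf, hj, inf_eq_right.2 hO]
  haveI := hasRpush_scheme U'.ι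
  haveI := hasRpush_scheme V'.ι
  haveI := hasRpush_scheme (U' ⊓ V').ι
  haveI := hasRpush_scheme (U'.ι ≫ j)
  haveI := hasRpush_scheme (V'.ι ≫ j)
  haveI := hasRpush_scheme ((U' ⊓ V').ι ≫ j)
  obtain ⟨dU, hdU⟩ := hU _ (U'.ι ≫ j) (hr U le_sup_left)
  obtain ⟨dV, hdV⟩ := hV _ (V'.ι ≫ j) (hr V le_sup_right)
  obtain ⟨dW, hdW⟩ := hUV _ ((U' ⊓ V').ι ≫ j) (hr (U ⊓ V) (inf_le_left.trans le_sup_left))
  refine ⟨max (max dU dV) (dW + 1), fun K F hF ⟨eK⟩ n hn => ?_⟩
  obtain ⟨a, b, c, h⟩ := exists_mvRpush_triangle U' V' htop F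
  haveI : (DCoh.Rpush j).Additive :=
    (exists_rightDerived_triangle (Scheme.Modules.pushforward j) _ (contractible_distinguished F)).1
  obtain ⟨cU⟩ := nonempty_rpush_comp U'.ι j
  obtain ⟨cV⟩ := nonempty_rpush_comp V'.ι j
  obtain ⟨cW⟩ := nonempty_rpush_comp (U' ⊓ V').ι j
  obtain ⟨a₁, b₁, c₁, h₁⟩ := exists_map_mv_triangle (DCoh.Rpush j) (fun T hT => exists_rpush_triangle j T hT)
    a b c h eK.symm (cU.app _) (cV.app _) (cW.app _)
  let A := (DCoh.Rpush (U'.ι ≫ j)).obj ((rho U'.ι).obj F)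
  let B := (DCoh.Rpush (V'.ι ≫ j)).obj ((rho V'.ι).obj F)
  let C := (DCoh.Rpush ((U' ⊓ V').ι ≫ j)).obj ((rho (U' ⊓ V').ι).obj F)
  have hcpt : ∀ {O : Scheme.{u}} (i : O ⟶ Y') [IsOpenImmersion i], IsCompact (i.opensRange : Set Y') →
      ∀ {G : DCoh.D O} [DCoh.HasRpush i], DCoh.IsQCohD G → DCoh.IsQCohD ((DCoh.Rpush i).obj G) :=
    fun {O} i _ hc G _ hG => by
      haveI : QuasiSeparated i := inferInstance
      haveI : CompactSpace (i.opensRange : Scheme.{u}) := isCompact_iff_compactSpace.1 hc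
      haveI : CompactSpace O := (Scheme.homeoOfIso i.isoOpensRange).symm.compactSpace
      haveI : QuasiCompact i := quasiCompact_of_compactSpace i
      exact isQCohD_rpush i hG
  have hA : DCoh.IsQCohD A := hcpt (U'.ι ≫ j) (by rw [hr U le_sup_left]; exact hUc) (isQCohD_rho U'.ι hF)
  have hB : DCoh.IsQCohD B := hcpt (V'.ι ≫ j) (by rw [hr V le_sup_right]; exact hVc) (isQCohD_rho V'.ι hF)
  have hC : DCoh.IsQCohD C := hcpt ((U' ⊓ V').ι ≫ j)
    (by erw [hr (U ⊓ V) (inf_le_left.trans le_sup_left)]; exact hUc.inter_of_isOpen hVc U.2 V.2)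
    (isQCohD_rho (U' ⊓ V').ι hF)
  haveI := hn
  let m := n + max (max dU dV) (dW + 1)
  have hb := binaryBiproductTriangle_distinguished A B
  have hAB : DCoh.IsQCohD (A ⊞ B) := isQCohD_obj₂ hb hA hB
  have lA : (a'.obj ⟨A, hA⟩).obj.IsLE m := by
    haveI := hdU ⟨A, hA⟩ _ (isQCohD_rho U'.ι hF) ⟨Iso.refl _⟩ n (isLE_rho U'.ι F n)
    exact DerivedCategory.TStructure.t.isLE_of_le _ (n + dU) m (by omega)
  have lB : (a'.obj ⟨B, hB⟩).obj.IsLE m := by
    haveI := hdV ⟨B, hB⟩ _ (isQCohD_rho V'.ι hF) ⟨Iso.refl _⟩ n (isLE_rho V'.ι F n)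
    exact DerivedCategory.TStructure.t.isLE_of_le _ (n + dV) m (by omega)
  have lAB : (a'.obj ⟨A ⊞ B, hAB⟩).obj.IsLE m :=
    isLE_rightAdjoint_obj₂ hf' adj' _ hb hA hAB hB m lA lB
  have hC' := isQCohD_shift hC (-1 : ℤ)
  have lC : (a'.obj ⟨C⟦(-1 : ℤ)⟧, hC'⟩).obj.IsLE m := by
    obtain ⟨s⟩ := SerreTop.nonempty_rpush_shiftNat ((U' ⊓ V').ι ≫ j) (-1)
    haveI := isLE_rho (U' ⊓ V').ι F n
    have hs : (((rho (U' ⊓ V').ι).obj F)⟦(-1 : ℤ)⟧).IsLE (n + 1) :=
      DerivedCategory.TStructure.t.isLE_shift _ n (-1) (n + 1) (by omega)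
    haveI := hdW ⟨C⟦(-1 : ℤ)⟧, hC'⟩ _ (isQCohD_shift (isQCohD_rho (U' ⊓ V').ι hF) (-1)) ⟨(s.app _).symm⟩ (n + 1) hs
    exact DerivedCategory.TStructure.t.isLE_of_le _ (n + 1 + dW) m (by omega)
  exact isLE_rightAdjoint_obj₂ hf' adj' _ (inv_rot_of_distTriang _ h₁) hC' K.property hAB m lC lAB

end

/-- Right adjoints of base changes are bounded above. -/
theorem exists_bound_bc [CompactSpace X] [QuasiSeparatedSpace X] [CompactSpace Y] [QuasiSeparatedSpace Y]
    [CompactSpace X'] [QuasiSeparatedSpace X'] [CompactSpace Y'] [QuasiSeparatedSpace Y']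
    (hsq : IsPullback g' f' f g) (htor : TorIndepG f g) [DCoh.HasRpush f] [DCoh.HasRpush f']
    (hf : DCoh.RpushPreservesQCoh f) (hf' : DCoh.RpushPreservesQCoh f')
    {a : DCoh.DQCoh Y ⥤ DCoh.DQCoh X} {a' : DCoh.DQCoh Y' ⥤ DCoh.DQCoh X'}
    (adj : DCoh.RpushQ f hf ⊣ a) (adj' : DCoh.RpushQ f' hf' ⊣ a') {d : ℤ}
    (hd : ∀ (K : DCoh.DQCoh Y) (n : ℤ), K.obj.IsLE n → (a.obj K).obj.IsLE (n + d)) :
    ∃ d' : ℤ, ∀ (K' : DCoh.DQCoh Y') (n : ℤ), K'.obj.IsLE n → (a'.obj K').obj.IsLE (n + d') := by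
  haveI : QuasiCompact f := quasiCompact_of_compactSpace f
  haveI : QuasiSeparated f := QuasiSeparated.of_quasiSeparatedSpace f
  haveI : QuasiCompact f' := quasiCompact_of_compactSpace f'
  haveI : QuasiSeparated f' := QuasiSeparated.of_quasiSeparatedSpace f'
  haveI : QuasiCompact g := quasiCompact_of_compactSpace g
  -- affine opens inside a chart
  have hloc : ∀ (V : Y.Opens), IsAffineOpen V → ∀ (O : Y'.Opens), IsAffineOpen O → O ≤ g ⁻¹ᵁ V →
      Bd f' hf' a' O := by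
    intro V hV O hO hle W j _ _ hj
    haveI : IsAffine (j.opensRange : Scheme.{u}) := hj.symm ▸ hO
    haveI : IsAffine W := .of_isIso j.isoOpensRange.hom
    haveI : QuasiCompact j := quasiCompact_of_compactSpace j
    haveI : QuasiSeparated j := inferInstance
    haveI : IsAffine (V : Scheme.{u}) := hV
    haveI : CompactSpace (V : Scheme.{u}) := isCompact_iff_compactSpace.1 hV.isCompact
    let b : W ⟶ V := IsOpenImmersion.lift V.ι (j ≫ g) (by
      rintro _ ⟨w, rfl⟩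
      rw [Scheme.Opens.range_ι]
      exact hle (hj ▸ (⟨w, rfl⟩ : j w ∈ j.opensRange)))
    have hb : b ≫ V.ι = j ≫ g := IsOpenImmersion.lift_fac _ _ _
    let P := pullback f' j
    let j' : P ⟶ X' := pullback.fst f' j
    let q : P ⟶ W := pullback.snd f' j
    have hA : IsPullback j' q f' j := IsPullback.of_hasPullback f' j
    have hcomp : IsPullback (j' ≫ g') q f (j ≫ g) := hA.paste_horiz hsq
    let XV : Scheme.{u} := pullback f V.ι
    let i : XV ⟶ X := pullback.fst f V.ι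
    let qV : XV ⟶ (V : Scheme.{u}) := pullback.snd f V.ι
    have hB : IsPullback i qV f V.ι := IsPullback.of_hasPullback f V.ι
    let k : P ⟶ XV := pullback.lift (j' ≫ g') (q ≫ b) (by
      rw [Category.assoc, Category.assoc, hb]; exact hcomp.w)
    have hk₁ : k ≫ i = j' ≫ g' := pullback.lift_fst _ _ _
    have hk₂ : k ≫ qV = q ≫ b := pullback.lift_snd _ _ _
    have hmid : IsPullback k q qV b := IsPullback.of_right (hk₁.symm ▸ hb.symm ▸ hcomp) hk₂ hB
    haveI : IsAffineHom b := isAffineHom_of_isAffine b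
    haveI : IsAffineHom k := MorphismProperty.of_isPullback (P := @IsAffineHom) hmid.flip inferInstance
    haveI : QuasiCompact q := MorphismProperty.of_isPullback (P := @QuasiCompact) hA inferInstance
    haveI : QuasiSeparated q := MorphismProperty.of_isPullback (P := @QuasiSeparated) hA inferInstance
    haveI : CompactSpace P := QuasiCompact.compactSpace_of_compactSpace q
    haveI : QuasiSeparatedSpace P := quasiSeparatedSpace_of_quasiSeparated q
    haveI : QuasiCompact j' := quasiCompact_of_compactSpace j'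
    haveI : QuasiSeparated j' := inferInstance
    haveI : QuasiCompact V.ι := quasiCompact_of_compactSpace V.ι
    haveI : QuasiCompact i := MorphismProperty.of_isPullback (P := @QuasiCompact) hB.flip inferInstance
    haveI : QuasiSeparated i := inferInstance
    haveI := hasRpush_scheme q; haveI := hasRpush_scheme j'; haveI := hasRpush_scheme k
    haveI := hasRpush_scheme i; haveI := hasRpush_scheme (j ≫ g); haveI := hasRpush_scheme (j' ≫ g')
    haveI : QuasiCompact (j ≫ g) := inferInstance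
    haveI : QuasiSeparated (j ≫ g) := QuasiSeparated.of_quasiSeparatedSpace _
    have hq : DCoh.RpushPreservesQCoh q := fun K hK => isQCohD_rpush q hK
    have hjg : DCoh.RpushPreservesQCoh (j ≫ g) := fun K hK => isQCohD_rpush (j ≫ g) hK
    have hj' : DCoh.RpushPreservesQCoh j := fun K hK => isQCohD_rpush j hK
    obtain ⟨aW, ⟨adjW⟩⟩ := BCNat.exists_adj q hq
    obtain ⟨N₁, hN₁⟩ := exists_isLE_rpush (j ≫ g)
    obtain ⟨N₂, hN₂⟩ := exists_isLE_rpush j'
    refine ⟨N₁ + d + N₂, fun K F hF ⟨eK⟩ n hn => ?_⟩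
    let FQ : DCoh.DQCoh W := ⟨F, hF⟩
    obtain ⟨r₁⟩ := nonempty_rightAdjoint_bc hA (torIndepG_of_flat_right f' j) hf' hq hj' adj' adjW FQ
    obtain ⟨r₂⟩ := nonempty_rightAdjoint_bc hcomp (torIndepG_comp_open htor j) hf hq hjg adj adjW FQ
    haveI l₁ := hd ((DCoh.RpushQ (j ≫ g) hjg).obj FQ) _ (hN₁ F hF n hn)
    haveI l₂ : ((DCoh.Rpush (j' ≫ g')).obj (aW.obj FQ).obj).IsLE (n + N₁ + d) :=
      DerivedCategory.TStructure.t.isLE_of_iso r₂ _
    obtain ⟨c, -⟩ := exists_compCan (v := k) (g := i) hk₁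
    haveI l₃ : ((DCoh.Rpush i).obj ((DCoh.Rpush k).obj (aW.obj FQ).obj)).IsLE (n + N₁ + d) :=
      DerivedCategory.TStructure.t.isLE_of_iso (c.app (aW.obj FQ).obj).symm _
    obtain ⟨ri⟩ := nonempty_rpush_restrictD_id i
    haveI l₄ := isLE_rho i ((DCoh.Rpush i).obj ((DCoh.Rpush k).obj (aW.obj FQ).obj)) (n + N₁ + d)
    have l₅ : ((DCoh.Rpush k).obj (aW.obj FQ).obj).IsLE (n + N₁ + d) :=
      @Triangulated.TStructure.isLE_of_iso _ _ _ _ _ _ _ DerivedCategory.TStructure.t _ _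
        (ri.app ((DCoh.Rpush k).obj (aW.obj FQ).obj)) (n + N₁ + d) l₄
    have l₆ := isLE_of_rpush_affine k (aW.obj FQ).property _ l₅
    haveI l₇ := hN₂ _ (aW.obj FQ).property _ l₆
    let eQ : (DCoh.RpushQ j hj').obj FQ ≅ K :=
      (ObjectProperty.fullyFaithfulι _).preimageIso (X := (DCoh.RpushQ j hj').obj FQ) (Y := K) eK.symm
    have := DerivedCategory.TStructure.t.isLE_of_iso
      (r₁.symm ≪≫ (ObjectProperty.ι _).mapIso (a'.mapIso eQ)) (n + N₁ + d + N₂)
    rw [show n + (N₁ + d + N₂) = n + N₁ + d + N₂ by ring]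
    exact this
  -- opens inside a chart
  have hchart : ∀ (V : Y.Opens), IsAffineOpen V → ∀ O : Y'.Opens, IsCompact (O : Set Y') → O ≤ g ⁻¹ᵁ V →
      Bd f' hf' a' O := by
    intro V hV O hO
    refine qc_induction (fun O => O ≤ g ⁻¹ᵁ V → Bd f' hf' a' O) (fun U hU hle => hloc V hV U hU hle)
      (fun U W hUc hWc hU hW hUW hle => bd_sup adj' U W hUc hWc (hU (le_sup_left.trans hle))
        (hW (le_sup_right.trans hle)) (hUW (inf_le_left.trans (le_sup_left.trans hle)))) O hO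
  have hall : ∀ (s : Finset Y.affineOpens) (O : Y'.Opens), IsCompact (O : Set Y') →
      O ≤ g ⁻¹ᵁ (s.sup fun V => (V : Y.Opens)) → Bd f' hf' a' O := by
    classical
    intro s
    induction s using Finset.induction_on with
    | empty =>
      intro O hO hle
      have : O = ⊥ := le_bot_iff.1 (hle.trans (le_of_eq (by simp)))
      subst this
      exact hloc ⊥ (isAffineOpen_bot Y) ⊥ (isAffineOpen_bot Y') bot_le
    | @insert V s _ ih =>
      intro O hO hle
      rw [Finset.sup_insert, Scheme.Hom.preimage_sup] at hle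
      have hS : IsCompact ((s.sup fun V => (V : Y.Opens) : Y.Opens) : Set Y) := by
        rename_i hVs
        clear hle ih hVs
        induction s using Finset.induction_on with
        | empty => simp
        | @insert W t _ iht => rw [Finset.sup_insert, Opens.coe_sup]; exact W.2.isCompact.union iht
      let O₁ := O ⊓ g ⁻¹ᵁ (V : Y.Opens)
      let O₂ := O ⊓ g ⁻¹ᵁ (s.sup fun V => (V : Y.Opens))
      have h₁ : IsCompact (O₁ : Set Y') :=
        hO.inter_of_isOpen (g.isCompact_preimage V.2.isCompact) O.2 (g ⁻¹ᵁ (V : Y.Opens)).2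
      have h₂ : IsCompact (O₂ : Set Y') :=
        hO.inter_of_isOpen (g.isCompact_preimage hS) O.2 (g ⁻¹ᵁ _).2
      have e : O = O₁ ⊔ O₂ := by
        simp only [O₁, O₂, ← inf_sup_left]
        exact (inf_eq_left.2 hle).symm
      rw [e]
      exact bd_sup adj' O₁ O₂ h₁ h₂ (hchart V V.2 O₁ h₁ inf_le_right) (ih O₂ h₂ inf_le_right)
        (hchart V V.2 _ (h₁.inter_of_isOpen h₂ O₁.2 O₂.2) (inf_le_left.trans inf_le_right))
  obtain ⟨s, hs, hsT⟩ := isCompact_iff_finite_and_eq_biUnion_affineOpens.mp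
    (show IsCompact ((⊤ : Y.Opens) : Set Y) by simpa using isCompact_univ)
  have htop : (⊤ : Y'.Opens) ≤ g ⁻¹ᵁ (hs.toFinset.sup fun V => (V : Y.Opens)) := fun y' _ => by
    have hy : g y' ∈ (⊤ : Y.Opens) := trivial
    rw [hsT] at hy
    simp only [Opens.coe_iSup, Opens.mem_iSup] at hy
    obtain ⟨V, hV, hyV⟩ := hy
    exact (Finset.le_sup (f := fun V : Y.affineOpens => (V : Y.Opens)) (hs.mem_toFinset.2 hV)) hyV
  haveI := hasRpush_scheme (Iso.refl Y').hom
  obtain ⟨d', hd'⟩ := hall hs.toFinset ⊤ (by simpa using isCompact_univ) htop Y' (Iso.refl Y').hom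
    (Scheme.Hom.opensRange_of_isIso _)
  refine ⟨d', fun K' n hn => ?_⟩
  obtain ⟨e₁⟩ := AffineRpush.nonempty_rpush_iso_inv (Iso.refl Y') K'.obj
  obtain ⟨e₃⟩ := AffineLift.nonempty_rho_id (Iso.refl Y').inv rfl
  exact hd' K' K'.obj K'.property ⟨(e₁ ≪≫ e₃.app _).symm⟩ n hn

end Groth.Agent.KExact.RightAdjBdBC
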