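import Groth.Agent.KExact.ShriekFormula
import Groth.Agent.KRegLib.Closed
import Groth.Agent.S1509
import Mathlib.RingTheory.Localization.Away.AdjoinRoot

/-!
# Ring maps which are towers of polynomial extensions and quotients by regular elements
-/

set_option autoImplicit false
set_option linter.style.haveILetI false
set_option linter.unusedSectionVars false
set_option backward.isDefEq.respectTransparency false
set_option backward.isDefEq.respectTransparency.types false

universe u

open CategoryTheory CategoryTheory.Limits AlgebraicGeometry RingTheory.Sequence Opposite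
open scoped Groth.Agent.H23.PicMul

attribute [local instance] HasDerivedCategory.standard

namespace Groth.Agent.KExact.RingTower

open ShriekFormula Groth.Agent.H23

/-- The extension property on spectra. -/
def RExt {R B : Type u} [CommRing R] [CommRing B] (φ : R →+* B) (d : ℤ) : Prop :=
  Ext (Spec.map (CommRingCat.ofHom φ)) d

variable {R B C : Type u} [CommRing R] [CommRing B] [CommRing C]

theorem rExt_comp {φ : R →+* B} {ψ : B →+* C} {d d' e : ℤ} (hψ : RExt ψ d') (hφ : RExt φ d)
    (hft : ψ.FiniteType) (he : d + d' = e) : RExt (ψ.comp φ) e := by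
  haveI : LocallyOfFiniteType (Spec.map (CommRingCat.ofHom ψ)) :=
    (HasRingHomProperty.Spec_iff (P := @LocallyOfFiniteType)).2 hft
  unfold RExt
  rw [CommRingCat.ofHom_comp, Spec.map_comp]
  exact ext_comp _ _ hψ hφ (by omega)

theorem rExt_equiv [IsNoetherianRing R] (e : R ≃+* B) : RExt e.toRingHom 0 := by
  haveI : IsIso (CommRingCat.ofHom e.toRingHom) :=
    (e.toCommRingCatIso).isIso_hom
  exact ext_iso _

theorem rExt_congr [IsNoetherianRing B] {φ : R →+* B} {ψ : R →+* C} {d : ℤ} (hφ : RExt φ d) (e : B ≃+* C)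
    (h : e.toRingHom.comp φ = ψ) : RExt ψ d := by
  rw [← h]
  exact rExt_comp (rExt_equiv e) hφ (RingHom.FiniteType.of_surjective _ e.surjective) (by omega)

theorem rExt_poly [IsNoetherianRing R] : RExt (Polynomial.C : R →+* Polynomial R) 1 := by
  haveI : Unique CohShriek.I1.{u} := inferInstance
  refine rExt_congr (φ := (MvPolynomial.C : R →+* MvPolynomial CohShriek.I1.{u} R)) ?_
    (MvPolynomial.uniqueAlgEquiv R CohShriek.I1.{u}).toRingEquiv (RingHom.ext fun r => by simp)
  let e := AffineSpace.SpecIso CohShriek.I1.{u} (CommRingCat.of R)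
  have h := AffineSpace.SpecIso_inv_over (n := CohShriek.I1.{u}) (CommRingCat.of R)
  haveI : Smooth (𝔸(CohShriek.I1.{u}; Spec (CommRingCat.of R)) ↘ Spec (CommRingCat.of R)) :=
    S12182.smooth_affineSpace _ _
  haveI : IsNoetherian 𝔸(CohShriek.I1.{u}; Spec (CommRingCat.of R)) :=
    BCNat.isNoetherian_of_ft (𝔸(CohShriek.I1.{u}; Spec (CommRingCat.of R)) ↘ Spec (CommRingCat.of R))
  change Ext (Spec.map (CommRingCat.ofHom MvPolynomial.C)) 1
  rw [← h]
  exact ext_comp _ _ (ext_iso e.inv) ext_a1 rfl

theorem mem_span_iff_of_bijective {f : R →+* B} (hf : Function.Bijective f) (x b : R) :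
    f b ∈ Ideal.span {f x} ↔ b ∈ Ideal.span {x} := by
  simp only [Ideal.mem_span_singleton']
  exact ⟨fun ⟨a, ha⟩ => by
    obtain ⟨c, rfl⟩ := hf.2 a
    exact ⟨c, hf.1 (by rw [map_mul, ha])⟩, fun ⟨a, ha⟩ => ⟨f a, by rw [← map_mul, ha]⟩⟩

theorem rExt_quot [IsNoetherianRing R] (x : R) (hx : IsSMulRegular R x) :
    RExt (Ideal.Quotient.mk (Ideal.span {x})) (-1) := by
  let Q := R ⧸ Ideal.span {x}
  let i : Spec (CommRingCat.of Q) ⟶ Spec (CommRingCat.of R) :=
    Spec.map (CommRingCat.ofHom (Ideal.Quotient.mk (Ideal.span {x})))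
  haveI : IsClosedImmersion i := IsClosedImmersion.spec_of_surjective _ Ideal.Quotient.mk_surjective
  let X := Spec (CommRingCat.of R)
  let t : Γ(X, ⊤) := (Scheme.ΓSpecIso (CommRingCat.of R)).inv x
  let res : ∀ U : X.Opens, Γ(X, U) := fun U => X.presheaf.map (homOfLE le_top).op t
  have hbij : Function.Bijective (Scheme.ΓSpecIso (CommRingCat.of R)).inv :=
    ConcreteCategory.bijective_of_isIso _
  have htop : t ∈ nonZeroDivisors Γ(X, ⊤) := by
    refine mem_nonZeroDivisors_iff_right.2 fun a ha => ?_
    obtain ⟨b, rfl⟩ := hbij.2 a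
    rw [show t = (Scheme.ΓSpecIso (CommRingCat.of R)).inv x from rfl, ← map_mul,
      ← map_zero (Scheme.ΓSpecIso (CommRingCat.of R)).inv.hom] at ha
    have h1 : x • b = x • (0 : R) := by
      rw [smul_zero, smul_eq_mul, mul_comm]
      exact hbij.1 ha
    rw [hx h1, map_zero]
  have hres : res ⊤ = t := by
    change X.presheaf.map (homOfLE le_top).op t = t
    rw [show (homOfLE (le_top : (⊤ : X.Opens) ≤ ⊤)).op = 𝟙 _ from rfl, CategoryTheory.Functor.map_id]
    rfl
  have hker : i.ker = Scheme.IdealSheafData.ofIdealTop (Ideal.span {t}) := by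
    refine Scheme.IdealSheafData.ext_of_isAffine ?_
    rw [Scheme.IdealSheafData.ofIdealTop_ideal, Scheme.Hom.ker_apply, Ideal.map_span, Set.image_singleton]
    change RingHom.ker i.appTop.hom = Ideal.span {res ⊤}
    rw [hres]
    have hn : i.appTop = (Scheme.ΓSpecIso (CommRingCat.of R)).hom ≫
        CommRingCat.ofHom (Ideal.Quotient.mk (Ideal.span {x})) ≫ (Scheme.ΓSpecIso (CommRingCat.of Q)).inv := by
      rw [← Category.assoc, ← Scheme.ΓSpecIso_naturality, Category.assoc, Iso.hom_inv_id, Category.comp_id]
    ext a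
    obtain ⟨b, rfl⟩ := hbij.2 a
    rw [RingHom.mem_ker, hn]
    simp only [Iso.inv_hom_id_apply, CommRingCat.hom_comp, RingHom.comp_apply]
    rw [map_eq_zero_iff _ (ConcreteCategory.bijective_of_isIso _).1, CommRingCat.hom_ofHom,
      Ideal.Quotient.eq_zero_iff_mem]
    exact (mem_span_iff_of_bijective hbij x b).symm
  let I := i.ker
  have hI : BlowUp.IsEffCartierIdeal I := fun w =>
    ⟨⟨⊤, isAffineOpen_top X⟩, trivial, res ⊤, by rw [hres]; exact htop, by
      change i.ker.ideal ⟨⊤, _⟩ = _
      rw [hker, Scheme.IdealSheafData.ofIdealTop_ideal, Ideal.map_span, Set.image_singleton]⟩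
  have hO : Nonempty (ClSub.idealMod I ≅ Coh.structureModule X) := by
    refine PicMul.cl_eq_iff.1 (?_ : PicF.cl (ClSub.idealMod I) = PicF.cl (Coh.structureModule X))
    have h1 := H26.IdealCl.cl_principal I res (fun {U V} h => by
      change (X.presheaf.map (homOfLE le_top).op ≫ X.presheaf.map (homOfLE h).op) t = _
      rw [← Functor.map_comp]; rfl)
      (fun U => A1Section.nzd_of_cover t (fun w => ⟨⊤, isAffineOpen_top X, trivial, by
        change res ⊤ ∈ _
        rw [hres]; exact htop⟩) U.1)
      (fun U => by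
        change i.ker.ideal U = _
        rw [hker, Scheme.IdealSheafData.ofIdealTop_ideal, Ideal.map_span, Set.image_singleton])
    rw [h1]
    rfl
  haveI : IsIso i.toImage := inferInstance
  have hperf : MoreMor.IsPerfectMor I.subschemeι := by
    refine S1509.result _ ⟨inferInstance, fun z => ⟨⊤, isAffineOpen_top X, trivial, [t], ?_, ?_⟩⟩
    · refine (isRegular_iff _ _).2 ⟨(isWeaklyRegular_singleton_iff _ _).2 fun a b hab => ?_, ?_⟩
      · refine sub_eq_zero.1 ((mem_nonZeroDivisors_iff_right.1 htop) _ ?_)
        rw [mul_comm, mul_sub, ← smul_eq_mul, ← smul_eq_mul, sub_eq_zero]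
        exact hab
      · intro he
        rw [Ideal.smul_eq_mul, Ideal.mul_top, Ideal.ofList_singleton] at he
        haveI : Nonempty (Spec (CommRingCat.of Q)) := ⟨(inv i.toImage).base z⟩
        haveI : Nontrivial Q := (PrimeSpectrum.nonempty_iff_nontrivial (R := Q)).1 ‹_›
        refine zero_ne_one (α := Q) ?_
        symm
        rw [← map_one (Ideal.Quotient.mk (Ideal.span {x})), Ideal.Quotient.eq_zero_iff_mem,
          ← mem_span_iff_of_bijective hbij x, map_one]
        change (1 : Γ(X, ⊤)) ∈ Ideal.span {t}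
        rw [← he]
        trivial
    · change I.subschemeι.ker.ideal _ = _
      rw [Scheme.IdealSheafData.ker_subschemeι, Ideal.ofList_singleton]
      change i.ker.ideal _ = _
      rw [hker, Scheme.IdealSheafData.ofIdealTop_ideal, Ideal.map_span, Set.image_singleton]
      exact congrArg (fun a => Ideal.span {a}) hres
  haveI : IsNoetherian I.subscheme := BCNat.isNoetherian_of_ft I.subschemeι
  haveI : LocallyOfFiniteType i.toImage := inferInstance
  have h : Ext (i.toImage ≫ i.imageι) (-1) :=
    ext_comp i.toImage i.imageι (ext_iso i.toImage) (ext_div I hI hO hperf) (by omega)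
  rwa [Scheme.Hom.toImage_imageι] at h

theorem rExt_list : ∀ (rs : List R) [IsNoetherianRing R], IsWeaklyRegular R rs →
    RExt (Ideal.Quotient.mk (Ideal.ofList rs)) (-(rs.length : ℤ)) := by
  suffices H : ∀ (n : ℕ) {R : Type u} [CommRing R] [IsNoetherianRing R] (rs : List R), rs.length = n →
      IsWeaklyRegular R rs → RExt (Ideal.Quotient.mk (Ideal.ofList rs)) (-(n : ℤ)) from
    fun rs _ hr => H _ rs rfl hr
  intro n
  induction n with
  | zero =>
    intro R _ _ rs h _
    obtain rfl := List.length_eq_zero_iff.1 h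
    refine rExt_congr (rExt_equiv (RingEquiv.refl R)) (RingEquiv.ofBijective _ ⟨?_, Ideal.Quotient.mk_surjective⟩) rfl
    refine (RingHom.injective_iff_ker_eq_bot _).2 ?_
    rw [Ideal.mk_ker, Ideal.ofList_nil]
  | succ n ih =>
    intro R _ _ rs₀ h hr
    obtain ⟨r, rs, rfl⟩ := List.exists_cons_of_ne_nil (l := rs₀) (fun e => by rw [e] at h; simp at h)
    obtain ⟨hr1, hr2⟩ := (isWeaklyRegular_cons_iff' R r rs).1 hr
    let S := R ⧸ Ideal.span {r}
    have hr3 : IsWeaklyRegular S (rs.map (Ideal.Quotient.mk (Ideal.span {r}))) := by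
      refine (isWeaklyRegular_map_algebraMap_iff S S rs).2 ?_
      refine (LinearEquiv.isWeaklyRegular_congr (Submodule.quotEquivOfEq _ _ ?_) rs).1
        ((isWeaklyRegular_map_algebraMap_iff S _ rs).1 hr2)
      rw [← Submodule.ideal_span_singleton_smul, Ideal.smul_eq_mul, Ideal.mul_top]
    have h2 := ih (rs.map (Ideal.Quotient.mk (Ideal.span {r}))) (by simpa using h) hr3
    refine rExt_congr (φ := (Ideal.Quotient.mk (Ideal.ofList (rs.map (Ideal.Quotient.mk (Ideal.span {r}))))).comp
      (Ideal.Quotient.mk (Ideal.span {r}))) ?_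
      (((Ideal.quotEquivOfEq (Ideal.map_ofList _ rs).symm).trans
        (DoubleQuot.quotQuotEquivQuotSup (Ideal.span {r}) (Ideal.ofList rs))).trans
        (Ideal.quotEquivOfEq (Ideal.ofList_cons r rs).symm)) ?_
    · exact rExt_comp h2 (rExt_quot r hr1)
        (RingHom.FiniteType.of_surjective _ Ideal.Quotient.mk_surjective) (by push_cast; omega)
    · ext a
      rfl

theorem rExt_mvPoly : ∀ (n : ℕ) {R : Type u} [CommRing R] [IsNoetherianRing R],
    RExt (MvPolynomial.C : R →+* MvPolynomial (Fin n) R) n := by
  intro n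
  induction n with
  | zero =>
    intro R _ _
    exact rExt_congr (rExt_equiv (RingEquiv.refl R)) (MvPolynomial.isEmptyAlgEquiv R (Fin 0)).symm.toRingEquiv
      (RingHom.ext fun r => by simp)
  | succ n ih =>
    intro R _ _
    let e := (MvPolynomial.renameEquiv R (finSuccEquiv n)).trans (MvPolynomial.optionEquivRight R (Fin n))
    refine rExt_congr (φ := (MvPolynomial.C : Polynomial R →+* MvPolynomial (Fin n) (Polynomial R)).comp Polynomial.C)
      ?_ e.symm.toRingEquiv (RingHom.ext fun r => e.injective ?_)
    · exact rExt_comp (ih (R := Polynomial R)) rExt_poly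
        ((RingHom.finiteType_algebraMap).2 (inferInstanceAs
          (Algebra.FiniteType (Polynomial R) (MvPolynomial (Fin n) (Polynomial R))))) (by push_cast; omega)
    · simp [e]

theorem rExt_away [IsNoetherianRing R] (g : R) : RExt (algebraMap R (Localization.Away g)) 0 := by
  let q : Polynomial R := Polynomial.C g * Polynomial.X - 1
  have hq : IsSMulRegular (Polynomial R) q := by
    intro a b hab
    refine sub_eq_zero.1 ?_
    by_contra hne
    have h0 : (a - b) * q = 0 := by
      rw [mul_comm, mul_sub, ← smul_eq_mul, ← smul_eq_mul, sub_eq_zero]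
      exact hab
    have hc := congrArg (fun p : Polynomial R => p.coeff (a - b).natTrailingDegree) h0
    simp only [q, mul_sub, mul_one, Polynomial.coeff_sub, Polynomial.coeff_zero] at hc
    have : ((a - b) * (Polynomial.C g * Polynomial.X)).coeff (a - b).natTrailingDegree = 0 := by
      rw [← mul_assoc]
      cases hd : (a - b).natTrailingDegree with
      | zero => simp
      | succ m =>
        rw [Polynomial.coeff_mul_X, Polynomial.coeff_mul_C,
          Polynomial.coeff_eq_zero_of_lt_natTrailingDegree (by omega), zero_mul]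
    rw [this, zero_sub, neg_eq_zero] at hc
    exact hne (Polynomial.trailingCoeff_eq_zero.1 (by rw [Polynomial.trailingCoeff, Polynomial.coeff_sub]; exact hc))
  refine rExt_congr (φ := (Ideal.Quotient.mk (Ideal.span {q})).comp Polynomial.C)
    ?_ ((Localization.awayEquivAdjoin g).symm.toRingEquiv) (RingHom.ext fun r => ?_)
  · exact rExt_comp (rExt_quot q hq) rExt_poly
      (RingHom.FiniteType.of_surjective _ Ideal.Quotient.mk_surjective) (by omega)
  · exact (Localization.awayEquivAdjoin g).symm.commutes r

/-- Near every prime, a local complete intersection is a tower. -/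
theorem exists_rExt_of_isLCI [Algebra R B] [IsNoetherianRing R] (h : LCI.IsLCI R B) (Q : PrimeSpectrum B) :
    ∃ b : B, b ∉ Q.asIdeal ∧ ∃ d : ℤ, RExt (algebraMap R (Localization.Away b)) d := by
  obtain ⟨-, n, f, hf, hK⟩ := h
  let P := MvPolynomial (Fin n) R
  let I := RingHom.ker f.toRingHom
  let p := Q.asIdeal.comap f.toRingHom
  have hIp : I ≤ p := fun a ha => by
    rw [Ideal.mem_comap, (RingHom.mem_ker).1 ha]
    exact zero_mem _
  obtain ⟨g, hg, rs, hrs, hI⟩ := KRegLib.exists_isRegular_of_kReg I p hIp
    ((KRegLib.isKoszulRegularIdeal_iff I).1 hK p inferInstance hIp)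
  let ψ : Localization.Away g →+* Localization.Away (f.toRingHom g) := Localization.awayMap f.toRingHom g
  have hs : Function.Surjective ψ := KRegLib.away_map_surjective hf g
  have hk : RingHom.ker ψ = Ideal.ofList rs := by
    rw [hI]
    haveI : IsLocalization (Submonoid.map f.toRingHom (Submonoid.powers g)) (Localization.Away (f.toRingHom g)) := by
      rw [Submonoid.map_powers]; infer_instance
    exact IsLocalization.ker_map (Localization.Away (f.toRingHom g)) f.toRingHom (Submonoid.map_powers _ g)
  refine ⟨f g, hg, (n : ℤ) + 0 + -(rs.length : ℤ), ?_⟩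
  refine rExt_congr (φ := ((Ideal.Quotient.mk (Ideal.ofList rs)).comp (algebraMap P (Localization.Away g))).comp
    MvPolynomial.C) ?_ ((Ideal.quotEquivOfEq hk.symm).trans (RingHom.quotientKerEquivOfSurjective hs)) ?_
  · refine rExt_comp ?_ (rExt_mvPoly n) ?_ rfl
    · exact rExt_comp (rExt_list rs hrs.toIsWeaklyRegular) (rExt_away g)
        (RingHom.FiniteType.of_surjective _ Ideal.Quotient.mk_surjective) (zero_add _)
    · exact (RingHom.FiniteType.of_surjective _ Ideal.Quotient.mk_surjective).comp
        ((RingHom.finiteType_algebraMap).2 (haveI := IsLocalization.Away.finitePresentation (S := Localization.Away g) g; Algebra.FiniteType.of_finitePresentation))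
  · ext r
    change ψ (algebraMap P _ (MvPolynomial.C r)) = _
    simp only [ψ, Localization.awayMap, IsLocalization.Away.map]
    erw [IsLocalization.map_eq]
    exact ((congrArg (algebraMap B (Localization.Away (f.toRingHom g))) (f.commutes r)).trans
      (IsScalarTower.algebraMap_apply R B (Localization.Away (f g)) r).symm)

end Groth.Agent.KExact.RingTower
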