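import Groth.Agent.KExact.BCMate
import Groth.Agent.KFlatLib.Scheme.FlatBCDerived

/-!
# The canonical identifications of composite derived direct images, and their pasting
-/

set_option linter.style.haveILetI false
set_option backward.isDefEq.respectTransparency false

universe u

open CategoryTheory CategoryTheory.Limits AlgebraicGeometry

attribute [local instance] HasDerivedCategory.standard

namespace Groth.Agent.KExact.CanBC

open KFlatLib KFlatLib.FlatBC

local notation "Kh" X:max => HomotopyCategory (Scheme.Modules X) (ComplexShape.up ℤ)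
local notation "WW" X:max => HomotopyCategory.quasiIso (Scheme.Modules X) (ComplexShape.up ℤ)
local notation "qq" X:max => HomotopyCategory.quotient (Scheme.Modules X) (ComplexShape.up ℤ)

variable {A B C : Scheme.{u}} {v : A ⟶ B} {g : B ⟶ C} {k : A ⟶ C}

/-- `g_* v_* = k_*` on complexes. -/
noncomputable def compCx (hk : v ≫ g = k) (K : CochainComplex A.Modules ℤ) :
    ((Scheme.Modules.pushforward g).mapHomologicalComplex (ComplexShape.up ℤ)).obj
        (((Scheme.Modules.pushforward v).mapHomologicalComplex (ComplexShape.up ℤ)).obj K) ≅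
      ((Scheme.Modules.pushforward k).mapHomologicalComplex (ComplexShape.up ℤ)).obj K :=
  HomologicalComplex.Hom.isoOfComponents
    (fun n => (Scheme.Modules.pushforwardComp v g ≪≫ Scheme.Modules.pushforwardCongr hk).app (K.X n))
    fun i j _ => ((Scheme.Modules.pushforwardComp v g ≪≫ Scheme.Modules.pushforwardCongr hk).hom.naturality (K.d i j)).symm

/-- `g_* v_* = k_*` on homotopy categories. -/
noncomputable def compP (hk : v ≫ g = k) : pushH v ⋙ pushH g ≅ pushH k :=
  NatIso.ofComponents (fun K => (qq C).mapIso (compCx hk K.as))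
    fun {K L} a => by
      obtain ⟨a, rfl⟩ := (qq A).map_surjective a
      change (qq C).map _ ≫ (qq C).map _ = (qq C).map _ ≫ (qq C).map _
      rw [← Functor.map_comp, ← Functor.map_comp]
      exact congrArg _ (HomologicalComplex.hom_ext _ _ fun n =>
        (Scheme.Modules.pushforwardComp v g ≪≫ Scheme.Modules.pushforwardCongr hk).hom.naturality (a.f n))

variable [DCoh.HasRpush v] [DCoh.HasRpush g] [DCoh.HasRpush k]

/-- The identification `Rg_* Rv_* = Rk_*` is the canonical one. -/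
def IsCompCan (hk : v ≫ g = k) (c : DCoh.Rpush v ⋙ DCoh.Rpush g ≅ DCoh.Rpush k) : Prop :=
  ∀ M : Kh A, ((beta g).app ((pushH v).obj M) ≫ (DCoh.Rpush g).map ((beta v).app M)) ≫
      c.hom.app (DerivedCategory.Qh.obj M) =
    DerivedCategory.Qh.map ((compP hk).hom.app M) ≫ (beta k).app M

theorem exists_compCan (hk : v ≫ g = k) :
    ∃ c : DCoh.Rpush v ⋙ DCoh.Rpush g ≅ DCoh.Rpush k, IsCompCan hk c := by
  let F := pushH v ⋙ DCoh.pushKh g
  let ν : F ⟶ DerivedCategory.Qh ⋙ DCoh.Rpush v ⋙ DCoh.Rpush g :=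
    Functor.whiskerLeft (pushH v) (beta g) ≫ (Functor.associator _ _ _).inv ≫
      Functor.whiskerRight (beta v) (DCoh.Rpush g) ≫ (Functor.associator _ _ _).hom
  have a₁ : ∀ M, ν.app M = (beta g).app ((pushH v).obj M) ≫ (DCoh.Rpush g).map ((beta v).app M) :=
    fun M => by simp [ν]
  haveI : (DCoh.Rpush v ⋙ DCoh.Rpush g).IsRightDerivedFunctor ν (WW A) := by
    refine isRightDerived_of_kInjective _ _ _ fun J hJ => ?_
    haveI := hasLpull g
    haveI := isIso_beta_push (f := v) g J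
    haveI : IsIso ((beta v).app ((qq A).obj J)) := isIso_rightDerivedUnit_of_kInjective (DCoh.pushKh v) J
    rw [a₁]
    exact IsIso.comp_isIso' inferInstance inferInstance
  haveI : (DCoh.Rpush k).IsRightDerivedFunctor (beta k) (WW A) := by
    refine isRightDerived_of_kInjective _ _ _ fun J hJ => ?_
    exact isIso_rightDerivedUnit_of_kInjective (DCoh.pushKh k) J
  let τ : F ≅ DCoh.pushKh k :=
    (Functor.associator _ _ _).symm ≪≫ Functor.isoWhiskerRight (compP hk) DerivedCategory.Qh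
  refine ⟨Functor.rightDerivedNatIso _ _ ν (beta k) (WW A) τ, fun M => ?_⟩
  rw [← a₁]
  refine (Functor.rightDerivedNatTrans_app _ _ ν (beta k) (WW A) τ.hom M).trans ?_
  simp [τ]
  exact Category.id_comp _

section Square

variable {X X' S S' : Scheme.{u}} {f : X ⟶ S} {g : S' ⟶ S} {g' : X' ⟶ X} {f' : X' ⟶ S'}
  [DCoh.HasRpush f] [DCoh.HasRpush g] [DCoh.HasRpush f'] [DCoh.HasRpush g']

/-- The identification `Rf_* Rg'_* = Rg_* Rf'_*` is the canonical one. -/
def IsCan (hw : g' ≫ f = f' ≫ g) (e : DCoh.Rpush g' ⋙ DCoh.Rpush f ≅ DCoh.Rpush f' ⋙ DCoh.Rpush g) : Prop :=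
  ∀ M : Kh X', ((beta f).app ((pushH g').obj M) ≫ (DCoh.Rpush f).map ((beta g').app M)) ≫
      e.hom.app (DerivedCategory.Qh.obj M) =
    (squareH hw).hom.app M ≫ (beta g).app ((pushH f').obj M) ≫ (DCoh.Rpush g).map ((beta f').app M)

theorem exists_isCan [DCoh.HasLpull g] [DCoh.HasLpull g'] (hw : g' ≫ f = f' ≫ g) :
    ∃ e : DCoh.Rpush g' ⋙ DCoh.Rpush f ≅ DCoh.Rpush f' ⋙ DCoh.Rpush g, IsCan hw e :=
  exists_square_derived hw

/-- `f_* g'_* = g_* f'_*` on homotopy categories. -/
noncomputable def sqK (hw : g' ≫ f = f' ≫ g) (M : Kh X') :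
    (pushH f).obj ((pushH g').obj M) ≅ (pushH g).obj ((pushH f').obj M) :=
  (qq S).mapIso (squareCx hw M.as)

omit [DCoh.HasRpush f] [DCoh.HasRpush g] [DCoh.HasRpush f'] [DCoh.HasRpush g'] in
lemma squareH_app (hw : g' ≫ f = f' ≫ g) (M : Kh X') :
    (squareH hw).hom.app M = DerivedCategory.Qh.map (sqK hw M).hom := rfl

section Horizontal

variable {X'' S'' : Scheme.{u}} {v : S'' ⟶ S'} {v' : X'' ⟶ X'} {f'' : X'' ⟶ S''} {k : S'' ⟶ S} {k' : X'' ⟶ X}
  [DCoh.HasRpush v] [DCoh.HasRpush v'] [DCoh.HasRpush f''] [DCoh.HasRpush k] [DCoh.HasRpush k']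

omit [DCoh.HasRpush f] [DCoh.HasRpush g] [DCoh.HasRpush f'] [DCoh.HasRpush g'] [DCoh.HasRpush v]
  [DCoh.HasRpush v'] [DCoh.HasRpush f''] [DCoh.HasRpush k] [DCoh.HasRpush k'] in
lemma sqK_hcomp (hw₁ : g' ≫ f = f' ≫ g) (hw₂ : v' ≫ f' = f'' ≫ v) (hk : v ≫ g = k) (hk' : v' ≫ g' = k')
    (hw₃ : k' ≫ f = f'' ≫ k) (M : Kh X'') :
    (pushH f).map ((compP hk').inv.app M) ≫ (sqK hw₁ ((pushH v').obj M)).hom ≫
        (pushH g).map (sqK hw₂ M).hom ≫ (compP hk).hom.app ((pushH f'').obj M) = (sqK hw₃ M).hom := by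
  change (qq S).map (((Scheme.Modules.pushforward f).mapHomologicalComplex _).map (compCx hk' M.as).inv) ≫
      (qq S).map (squareCx hw₁ _).hom ≫
      (qq S).map (((Scheme.Modules.pushforward g).mapHomologicalComplex _).map (squareCx hw₂ M.as).hom) ≫
      (qq S).map (compCx hk _).hom = (qq S).map (squareCx hw₃ M.as).hom
  rw [← Functor.map_comp, ← Functor.map_comp, ← Functor.map_comp]
  refine congrArg _ (HomologicalComplex.hom_ext _ _ fun n => ?_)
  subst hk hk'
  ext V : 1
  simp only [compCx, squareCx, squareIso, HomologicalComplex.comp_f, HomologicalComplex.Hom.isoOfComponents_hom_f,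
    HomologicalComplex.Hom.isoOfComponents_inv_f, Functor.mapHomologicalComplex_map_f, Iso.trans_hom, Iso.trans_inv,
    NatTrans.comp_app, Iso.app_hom, Iso.app_inv, Iso.symm_hom, Scheme.Modules.Hom.comp_app]
  simp
  repeat (first | erw [Category.id_comp] | erw [Category.comp_id])
  exact ((M.as.X n).presheaf.map_comp _ _).symm.trans (congrArg _ (Subsingleton.elim _ _))

/-- Canonical identifications paste horizontally. -/
theorem isCan_hcomp {hw₁ : g' ≫ f = f' ≫ g} {e : DCoh.Rpush g' ⋙ DCoh.Rpush f ≅ DCoh.Rpush f' ⋙ DCoh.Rpush g}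
    (he : IsCan hw₁ e) {hw₂ : v' ≫ f' = f'' ≫ v}
    {ev : DCoh.Rpush v' ⋙ DCoh.Rpush f' ≅ DCoh.Rpush f'' ⋙ DCoh.Rpush v} (hev : IsCan hw₂ ev)
    {hk : v ≫ g = k} {c : DCoh.Rpush v ⋙ DCoh.Rpush g ≅ DCoh.Rpush k} (hc : IsCompCan hk c)
    {hk' : v' ≫ g' = k'} {c' : DCoh.Rpush v' ⋙ DCoh.Rpush g' ≅ DCoh.Rpush k'} (hc' : IsCompCan hk' c')
    (hw₃ : k' ≫ f = f'' ≫ k) :
    IsCan hw₃ (Functor.isoWhiskerRight c'.symm (DCoh.Rpush f) ≪≫ BCMate.hcomp e ev ≪≫
      Functor.isoWhiskerLeft (DCoh.Rpush f'') c) := by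
  intro M
  let Rf := DCoh.Rpush f
  let Rg := DCoh.Rpush g
  have h1 : (beta k').app M ≫ c'.inv.app (DerivedCategory.Qh.obj M) =
      DerivedCategory.Qh.map ((compP hk').inv.app M) ≫
        (beta g').app ((pushH v').obj M) ≫ (DCoh.Rpush g').map ((beta v').app M) := by
    rw [← cancel_mono (c'.hom.app (DerivedCategory.Qh.obj M)), Category.assoc, Category.assoc,
      Iso.inv_hom_id_app]
    erw [Category.comp_id]
    rw [hc' M, ← Category.assoc, ← Functor.map_comp,
      Iso.inv_hom_id_app, CategoryTheory.Functor.map_id]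
    exact (Category.id_comp _).symm
  have h2 : (beta f).app ((pushH k').obj M) ≫ Rf.map (DerivedCategory.Qh.map ((compP hk').inv.app M)) =
      DerivedCategory.Qh.map ((pushH f).map ((compP hk').inv.app M)) ≫
        (beta f).app ((pushH g').obj ((pushH v').obj M)) :=
    ((beta f).naturality ((compP hk').inv.app M)).symm
  have h3 : Rf.map ((DCoh.Rpush g').map ((beta v').app M)) ≫ e.hom.app _ =
      e.hom.app _ ≫ Rg.map ((DCoh.Rpush f').map ((beta v').app M)) := e.hom.naturality ((beta v').app M)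
  have h4 := he ((pushH v').obj M)
  have h5 := congrArg (fun z => Rg.map z) (hev M)
  simp only [Functor.map_comp] at h5
  have h6 : (beta g).app ((pushH f').obj ((pushH v').obj M)) ≫ Rg.map (DerivedCategory.Qh.map (sqK hw₂ M).hom) =
      DerivedCategory.Qh.map ((pushH g).map (sqK hw₂ M).hom) ≫ (beta g).app ((pushH v).obj ((pushH f'').obj M)) :=
    ((beta g).naturality (sqK hw₂ M).hom).symm
  have h7 : Rg.map ((DCoh.Rpush v).map ((beta f'').app M)) ≫
        c.hom.app ((DCoh.Rpush f'').obj (DerivedCategory.Qh.obj M)) =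
      c.hom.app _ ≫ (DCoh.Rpush k).map ((beta f'').app M) := c.hom.naturality ((beta f'').app M)
  have h8 := hc ((pushH f'').obj M)
  simp only [Category.assoc, squareH_app] at h4 h5 h8
  simp only [Iso.trans_hom, NatTrans.comp_app, Functor.isoWhiskerRight_hom, Functor.whiskerRight_app,
    Iso.symm_hom, Functor.isoWhiskerLeft_hom, Functor.whiskerLeft_app, BCMate.hcomp_app, Category.assoc,
    squareH_app]
  rw [← Rf.map_comp_assoc, h1, Rf.map_comp_assoc, Rf.map_comp_assoc, reassoc_of% h2, reassoc_of% h3,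
    reassoc_of% h4, reassoc_of% h5, reassoc_of% h6, h7]
  erw [reassoc_of% h8]
  simp only [← Functor.map_comp_assoc, sqK_hcomp hw₁ hw₂ hk hk' hw₃ M]

end Horizontal

section Vertical

variable {W W' : Scheme.{u}} {j : W ⟶ X} {j' : W' ⟶ X'} {h : W' ⟶ W} {l : W ⟶ S} {l' : W' ⟶ S'}
  [DCoh.HasRpush j] [DCoh.HasRpush j'] [DCoh.HasRpush h] [DCoh.HasRpush l] [DCoh.HasRpush l']

omit [DCoh.HasRpush f] [DCoh.HasRpush g] [DCoh.HasRpush f'] [DCoh.HasRpush g'] [DCoh.HasRpush j]
  [DCoh.HasRpush j'] [DCoh.HasRpush h] [DCoh.HasRpush l] [DCoh.HasRpush l'] in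
lemma sqK_vcomp (hw₁ : g' ≫ f = f' ≫ g) (hw₂ : h ≫ j = j' ≫ g') (hl : j ≫ f = l) (hl' : j' ≫ f' = l')
    (hw₃ : h ≫ l = l' ≫ g) (M : Kh W') :
    (compP hl).inv.app ((pushH h).obj M) ≫ (pushH f).map (sqK hw₂ M).hom ≫
        (sqK hw₁ ((pushH j').obj M)).hom ≫ (pushH g).map ((compP hl').hom.app M) = (sqK hw₃ M).hom := by
  change (qq S).map (compCx hl _).inv ≫
      (qq S).map (((Scheme.Modules.pushforward f).mapHomologicalComplex _).map (squareCx hw₂ M.as).hom) ≫
      (qq S).map (squareCx hw₁ _).hom ≫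
      (qq S).map (((Scheme.Modules.pushforward g).mapHomologicalComplex _).map (compCx hl' M.as).hom) =
      (qq S).map (squareCx hw₃ M.as).hom
  rw [← Functor.map_comp, ← Functor.map_comp, ← Functor.map_comp]
  refine congrArg _ (HomologicalComplex.hom_ext _ _ fun n => ?_)
  subst hl hl'
  ext V : 1
  simp only [compCx, squareCx, squareIso, HomologicalComplex.comp_f, HomologicalComplex.Hom.isoOfComponents_hom_f,
    HomologicalComplex.Hom.isoOfComponents_inv_f, Functor.mapHomologicalComplex_map_f, Iso.trans_hom, Iso.trans_inv,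
    NatTrans.comp_app, Iso.app_hom, Iso.app_inv, Iso.symm_hom, Scheme.Modules.Hom.comp_app]
  simp
  repeat (first | erw [Category.id_comp] | erw [Category.comp_id])
  exact ((M.as.X n).presheaf.map_comp _ _).symm.trans (congrArg _ (Subsingleton.elim _ _))

/-- Canonical identifications paste vertically. -/
theorem isCan_vcomp {hw₁ : g' ≫ f = f' ≫ g} {e : DCoh.Rpush g' ⋙ DCoh.Rpush f ≅ DCoh.Rpush f' ⋙ DCoh.Rpush g}
    (he : IsCan hw₁ e) {hw₂ : h ≫ j = j' ≫ g'}
    {ej : DCoh.Rpush h ⋙ DCoh.Rpush j ≅ DCoh.Rpush j' ⋙ DCoh.Rpush g'} (hej : IsCan hw₂ ej)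
    {hl : j ≫ f = l} {d : DCoh.Rpush j ⋙ DCoh.Rpush f ≅ DCoh.Rpush l} (hd : IsCompCan hl d)
    {hl' : j' ≫ f' = l'} {d' : DCoh.Rpush j' ⋙ DCoh.Rpush f' ≅ DCoh.Rpush l'} (hd' : IsCompCan hl' d')
    (hw₃ : h ≫ l = l' ≫ g) :
    IsCan hw₃ (Functor.isoWhiskerLeft (DCoh.Rpush h) d.symm ≪≫ BCMate.vcomp e ej ≪≫
      Functor.isoWhiskerRight d' (DCoh.Rpush g)) := by
  intro M
  let Rf := DCoh.Rpush f
  let Rg := DCoh.Rpush g
  have h1 : (DCoh.Rpush l).map ((beta h).app M) ≫ d.inv.app _ =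
      d.inv.app _ ≫ Rf.map ((DCoh.Rpush j).map ((beta h).app M)) := d.inv.naturality ((beta h).app M)
  have h2 : (beta l).app ((pushH h).obj M) ≫ d.inv.app (DerivedCategory.Qh.obj ((pushH h).obj M)) =
      DerivedCategory.Qh.map ((compP hl).inv.app ((pushH h).obj M)) ≫
        (beta f).app ((pushH j).obj ((pushH h).obj M)) ≫ Rf.map ((beta j).app ((pushH h).obj M)) := by
    rw [← cancel_mono (d.hom.app (DerivedCategory.Qh.obj ((pushH h).obj M))), Category.assoc, Category.assoc,
      Iso.inv_hom_id_app]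
    erw [Category.comp_id]
    rw [hd ((pushH h).obj M), ← Category.assoc, ← Functor.map_comp,
      Iso.inv_hom_id_app, CategoryTheory.Functor.map_id]
    exact (Category.id_comp _).symm
  have h3 := congrArg (fun z => Rf.map z) (hej M)
  simp only [Functor.map_comp] at h3
  have h4 : (beta f).app ((pushH j).obj ((pushH h).obj M)) ≫ Rf.map (DerivedCategory.Qh.map (sqK hw₂ M).hom) =
      DerivedCategory.Qh.map ((pushH f).map (sqK hw₂ M).hom) ≫
        (beta f).app ((pushH g').obj ((pushH j').obj M)) :=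
    ((beta f).naturality (sqK hw₂ M).hom).symm
  have h5 : Rf.map ((DCoh.Rpush g').map ((beta j').app M)) ≫ e.hom.app _ =
      e.hom.app _ ≫ Rg.map ((DCoh.Rpush f').map ((beta j').app M)) := e.hom.naturality ((beta j').app M)
  have h6 := he ((pushH j').obj M)
  have h7 := congrArg (fun z => Rg.map z) (hd' M)
  simp only [Functor.map_comp] at h7
  have h8 : (beta g).app ((pushH f').obj ((pushH j').obj M)) ≫
        Rg.map (DerivedCategory.Qh.map ((compP hl').hom.app M)) =
      DerivedCategory.Qh.map ((pushH g).map ((compP hl').hom.app M)) ≫ (beta g).app ((pushH l').obj M) :=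
    ((beta g).naturality ((compP hl').hom.app M)).symm
  simp only [Category.assoc, squareH_app] at h3 h6 h7
  simp only [Iso.trans_hom, NatTrans.comp_app, Functor.isoWhiskerRight_hom, Functor.whiskerRight_app,
    Iso.symm_hom, Functor.isoWhiskerLeft_hom, Functor.whiskerLeft_app, BCMate.vcomp_app, Category.assoc,
    squareH_app]
  erw [reassoc_of% h1, reassoc_of% h2, reassoc_of% h3, reassoc_of% h4, reassoc_of% h5, reassoc_of% h6,
    h7, reassoc_of% h8]
  simp only [← Functor.map_comp_assoc, sqK_vcomp hw₁ hw₂ hl hl' hw₃ M, Rg]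

end Vertical

end Square

end Groth.Agent.KExact.CanBC
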