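import Groth.Agent.KExact.Efface
import Groth.Agent.KFlatLib.Perfect.Top
import Groth.Agent.KFlatLib.Scheme.QCohDerived
import Mathlib.Algebra.Homology.HomotopyCategory.HomComplexSingle

/-!
# Realising derived maps out of finite locally free modules under the resolution property
-/

set_option linter.style.haveILetI false
set_option backward.isDefEq.respectTransparency false
set_option backward.isDefEq.respectTransparency.types false
set_option maxHeartbeats 800000

universe u

open CategoryTheory CategoryTheory.Limits AlgebraicGeometry Pretriangulated CochainComplex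
  CochainComplex.HomComplex

attribute [local instance] HasDerivedCategory.standard

namespace Groth.Agent.KExact.SPerfect

open Groth.Agent Groth.Agent.KFlatLib

variable {X : Scheme.{u}}

/-- The single complex. -/
noncomputable abbrev Sg (n : ℤ) : X.Modules ⥤ CochainComplex X.Modules ℤ :=
  CochainComplex.singleFunctor X.Modules n

/-- The single object. -/
noncomputable abbrev QS (n : ℤ) : X.Modules ⥤ DCoh.D X := DerivedCategory.singleFunctor X.Modules n

lemma isStrictlyPerfect_sg {E : X.Modules} (hE : FlatMod.IsFinLocFree E) (n : ℤ) :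
    DCoh.IsStrictlyPerfect ((Sg n).obj E) :=
  ⟨⟨n, n, fun i hi => HomologicalComplex.isZero_single_obj_X (ComplexShape.up ℤ) n _ i (by omega)⟩,
    fun i => by
      rcases eq_or_ne i n with h | h
      · subst h
        exact H23.PullPush.isFinLocFree_of_iso (HomologicalComplex.singleObjXSelf (ComplexShape.up ℤ) i _).symm hE
      · exact isFinLocFree_of_isZero (HomologicalComplex.isZero_single_obj_X (ComplexShape.up ℤ) n _ i h)⟩

lemma isQCoh_terms {P : CochainComplex X.Modules ℤ} (hP : DCoh.IsStrictlyPerfect P) (i : ℤ) :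
    Coh.IsQCoh (P.X i) := QCoh.isQCoh_of_isFinLocFree (hP.2 i)

lemma isQCohD_toD {P : CochainComplex X.Modules ℤ} (hq : ∀ i, Coh.IsQCoh (P.X i)) :
    DCoh.IsQCohD (DerivedCategory.Q.obj P) := fun i =>
  isQCoh_of_iso ((DerivedCategory.homologyFunctorFactors X.Modules i).app P).symm
    (isQCoh_homology_of_terms P hq i)

variable [CompactSpace X] [QuasiSeparatedSpace X]

/-- Maps lift along epimorphisms after a finite locally free cover. -/
theorem exists_lift (hX : PerfAux.HasResolutionProperty X) {E A B : X.Modules}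
    (hE : FlatMod.IsFinLocFree E) (hA : Coh.IsQCoh A) (hB : Coh.IsQCoh B) (p : A ⟶ B) [Epi p]
    (v : E ⟶ B) :
    ∃ (E' : X.Modules) (π : E' ⟶ E) (g : E' ⟶ A), FlatMod.IsFinLocFree E' ∧ Epi π ∧ g ≫ p = π ≫ v := by
  have hEq := QCoh.isQCoh_of_isFinLocFree hE
  let k : A ⊞ E ⟶ B := biprod.desc p (-v)
  have hk : kernel.ι k ≫ biprod.fst ≫ p = kernel.ι k ≫ biprod.snd ≫ v := by
    have hk0 : kernel.ι k ≫ (biprod.fst ≫ p + biprod.snd ≫ (-v)) = 0 :=
      (congrArg (kernel.ι k ≫ ·) biprod.desc_eq.symm).trans (kernel.condition k)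
    rw [Preadditive.comp_neg, Preadditive.comp_add, Preadditive.comp_neg, add_neg_eq_zero] at hk0
    exact hk0
  have hP : Coh.IsQCoh (kernel k) := QCoh.isQCoh_kernel (QCoh.isQCoh_X₂
    (S := ShortComplex.mk (biprod.inl : A ⟶ A ⊞ E) biprod.snd biprod.inl_snd)
    (ShortComplex.Splitting.ofHasBinaryBiproduct _ _).shortExact hA hEq) hB k
  haveI : Epi (kernel.ι k ≫ (biprod.snd : A ⊞ E ⟶ E)) := by
    have sq : IsPullback (kernel.ι k ≫ biprod.fst) (kernel.ι k ≫ biprod.snd) p v := by
      refine IsPullback.of_isLimit' ⟨by simpa only [Category.assoc] using hk⟩ (PullbackCone.IsLimit.mk _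
        (fun s => kernel.lift k (biprod.lift s.fst s.snd) ?_) ?_ ?_ ?_)
      · rw [biprod.lift_desc, Preadditive.comp_neg, s.condition, add_neg_cancel]
      · intro s; rw [kernel.lift_ι_assoc, biprod.lift_fst]
      · intro s; rw [kernel.lift_ι_assoc, biprod.lift_snd]
      · intro s m h₁ h₂
        refine (cancel_mono (kernel.ι k)).1 ?_
        rw [kernel.lift_ι]
        apply biprod.hom_ext
        · rw [Category.assoc, h₁, biprod.lift_fst]
        · rw [Category.assoc, h₂, biprod.lift_snd]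
    exact Abelian.epi_snd_of_isLimit _ _ sq.isLimit
  obtain ⟨E', π, g, hE', hπ, hg⟩ := Efface.exists_epi_factor hX hP hEq
    (QCoh.isFT_of_isFP (QCoh.isFP_of_isFinLocFree hE)) (kernel.ι k ≫ biprod.snd)
  refine ⟨E', π, g ≫ kernel.ι k ≫ biprod.fst, hE', hπ, ?_⟩
  rw [← hg]
  simp only [Category.assoc, hk]

/-- Maps into objects in lower degrees are effaced. -/
theorem exists_kill (hX : PerfAux.HasResolutionProperty X) {E : X.Modules} (hE : FlatMod.IsFinLocFree E)
    (n : ℤ) (N : DCoh.D X) (hN : DCoh.IsQCohD N) (hle : N.IsLE (n - 1)) (φ : (QS n).obj E ⟶ N) :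
    ∃ (E' : X.Modules) (π : E' ⟶ E), FlatMod.IsFinLocFree E' ∧ Epi π ∧ (QS n).map π ≫ φ = 0 := by
  let w := (DerivedCategory.singleFunctors X.Modules).shiftIso n 0 n (by omega)
  haveI := hle
  have hle' : (N⟦n⟧).IsLE (-1) := (DerivedCategory.isLE_iff _ _).2 fun j hj =>
    Window.isZero_hd_shift N n j (DerivedCategory.isZero_of_isLE N (n - 1) (n + j) (by omega))
  obtain ⟨E', π, hE', hπ, h⟩ := Efface.exists_kill hX hE (N⟦n⟧) (isQCohD_shift hN n)
    (w.inv.app E ≫ φ⟦n⟧')
  refine ⟨E', π, hE', hπ, (CategoryTheory.shiftFunctor (DCoh.D X) n).map_injective ?_⟩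
  refine (cancel_epi (w.inv.app E')).1 ?_
  rw [Functor.map_comp, Functor.map_zero, comp_zero, ← Category.assoc]
  refine (congrArg (· ≫ φ⟦n⟧') (w.inv.naturality π).symm).trans ?_
  rw [Category.assoc]
  exact h

omit [CompactSpace X] [QuasiSeparatedSpace X] in
/-- A map out of a single object is killed below its degree once it is zero on cohomology. -/
theorem exists_factor_below {E : X.Modules} {n : ℤ} {N : DCoh.D X} (δ : (QS n).obj E ⟶ N)
    (hδ : (DerivedCategory.homologyFunctor X.Modules n).map δ = 0) :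
    ∃ χ : (QS n).obj E ⟶ ((DerivedCategory.TStructure.t : Triangulated.TStructure (DCoh.D X)).truncLT n).obj N,
      χ ≫ ((DerivedCategory.TStructure.t : Triangulated.TStructure (DCoh.D X)).truncLTι n).app N = δ := by
  let t : Triangulated.TStructure (DCoh.D X) := DerivedCategory.TStructure.t
  let S := (QS n).obj E
  haveI hS : DerivedCategory.IsLE S n := inferInstance
  let Y := (t.truncGE n).obj N
  let y : N ⟶ Y := (t.truncGEπ n).app N
  haveI : t.IsGE Y n := t.isGE_truncGE_obj N _ _ le_rfl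
  have hy : δ ≫ y = 0 := by
    have hT := t.triangleLTGE_distinguished (n + 1) Y
    let Y₁ := (t.truncLT (n + 1)).obj Y
    haveI hle : DerivedCategory.IsLE Y₁ n := t.isLE_truncLT_obj Y _ _ (by omega)
    haveI : t.IsLE S n := ⟨hS.1⟩
    haveI : t.IsGE ((t.truncGE (n + 1)).obj Y) (n + 1) := t.isGE_truncGE_obj Y _ _ le_rfl
    have h0 : (δ ≫ y) ≫ (t.truncGEπ (n + 1)).app Y = 0 := t.zero _ n (n + 1) (by omega)
    obtain ⟨c, hc⟩ := Triangle.coyoneda_exact₂ _ hT (δ ≫ y) h0
    haveI : t.IsGE Y₁ n := inferInstance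
    haveI : DerivedCategory.IsGE Y₁ n := ⟨(inferInstance : t.IsGE Y₁ n).1⟩
    obtain ⟨M, ⟨eM⟩⟩ := DerivedCategory.exists_iso_singleFunctor_obj_of_isGE_of_isLE Y₁ n
    obtain ⟨f, hf⟩ := (QS n).map_surjective (c ≫ eM.hom)
    let H := DerivedCategory.homologyFunctor X.Modules n
    have hHc : H.map c = 0 := by
      have h1 : H.map (c ≫ (t.truncLTι (n + 1)).app Y) = 0 := by
        show H.map (c ≫ ((t.triangleLTGE (n + 1)).obj Y).mor₁) = 0
        rw [← hc, Functor.map_comp, hδ, zero_comp]
      haveI : Mono (H.map ((t.triangleLTGE (n + 1)).obj Y).mor₁) :=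
        (DerivedCategory.HomologySequence.mono_homologyMap_mor₁_iff _ hT (n - 1) n (by omega)).2
          ((DerivedCategory.isZero_of_isGE ((t.truncGE (n + 1)).obj Y) (n + 1) (n - 1) (by omega)).eq_of_src _ _)
      refine (cancel_mono (H.map ((t.triangleLTGE (n + 1)).obj Y).mor₁)).1 ?_
      rw [zero_comp, ← Functor.map_comp]
      exact h1
    have hf0 : f = 0 := by
      let e := DerivedCategory.singleFunctorCompHomologyFunctorIso X.Modules n
      have h2 : (QS n ⋙ H).map f = 0 := by
        show H.map ((QS n).map f) = 0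
        rw [hf, Functor.map_comp, hHc, zero_comp]
      have h3 := e.hom.naturality f
      rw [h2, zero_comp] at h3
      exact (cancel_epi (e.hom.app E)).1 (h3.symm.trans comp_zero.symm)
    rw [hf0, Functor.map_zero] at hf
    have hc0 : c = 0 := (cancel_mono eM.hom).1 (hf.symm.trans zero_comp.symm)
    rw [hc, hc0, zero_comp]
  obtain ⟨χ, hχ⟩ := Triangle.coyoneda_exact₂ _ (t.triangleLTGE_distinguished n N) δ hy
  exact ⟨χ, hχ.symm⟩

/-- Derived maps from single modules to complexes of quasi-coherent modules are chain maps after a cover. -/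
theorem exists_real (hX : PerfAux.HasResolutionProperty X) {E : X.Modules} (hE : FlatMod.IsFinLocFree E)
    (n : ℤ) (F : CochainComplex X.Modules ℤ) (hF : ∀ i, Coh.IsQCoh (F.X i))
    (ψ : (QS n).obj E ⟶ DerivedCategory.Q.obj F) :
    ∃ (E' : X.Modules) (π : E' ⟶ E) (g : (Sg n).obj E' ⟶ F),
      FlatMod.IsFinLocFree E' ∧ Epi π ∧ (QS n).map π ≫ ψ = DerivedCategory.Q.map g := by
  let H := DerivedCategory.homologyFunctor X.Modules n
  let ff := DerivedCategory.homologyFunctorFactors X.Modules n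
  let s := fun M : X.Modules => HomologicalComplex.singleObjHomologySelfIso (ComplexShape.up ℤ) n M
  let v : E ⟶ F.homology n := (s E).inv ≫ ff.inv.app ((Sg n).obj E) ≫ H.map ψ ≫ ff.hom.app F
  have hcq : Coh.IsQCoh (F.cycles n) :=
    isQCoh_of_iso ((limit.isLimit _).conePointUniqueUpToIso (F.cyclesIsKernel n (n + 1) (by simp)))
      (QCoh.isQCoh_kernel (hF n) (hF (n + 1)) (F.d n (n + 1)))
  obtain ⟨E₁, π₁, k, hE₁, hπ₁, hk⟩ := exists_lift hX hE hcq (isQCoh_homology_of_terms F hF n) (F.homologyπ n) v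
  let g : (Sg n).obj E₁ ⟶ F := HomologicalComplex.mkHomFromSingle (k ≫ F.iCycles n) (fun j _ => by
    rw [Category.assoc, HomologicalComplex.iCycles_d, comp_zero])
  have hg : (s E₁).inv ≫ HomologicalComplex.homologyMap g n = k ≫ F.homologyπ n := by
    show (HomologicalComplex.singleObjHomologySelfIso (ComplexShape.up ℤ) n E₁).inv ≫ _ = _
    rw [← HomologicalComplex.singleObjCyclesSelfIso_inv_homologyπ]
    erw [Category.assoc, HomologicalComplex.homologyπ_naturality, ← Category.assoc]
    refine congrArg (· ≫ F.homologyπ n) ((cancel_mono (F.iCycles n)).1 ?_)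
    erw [Category.assoc, HomologicalComplex.cyclesMap_i, ← Category.assoc,
      HomologicalComplex.singleObjCyclesSelfIso_inv_iCycles, HomologicalComplex.mkHomFromSingle_f,
      Iso.inv_hom_id_assoc]
  let Qg : (QS n).obj E₁ ⟶ DerivedCategory.Q.obj F := DerivedCategory.Q.map g
  let δ : (QS n).obj E₁ ⟶ DerivedCategory.Q.obj F := (QS n).map π₁ ≫ ψ - Qg
  have hδ : H.map δ = 0 := by
    show H.map ((QS n).map π₁ ≫ ψ - Qg) = 0
    rw [Functor.map_sub, sub_eq_zero, Functor.map_comp]
    refine (cancel_mono (ff.hom.app F)).1 ((cancel_epi (ff.inv.app ((Sg n).obj E₁))).1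
      ((cancel_epi (s E₁).inv).1 ?_))
    have h1 : ff.inv.app ((Sg n).obj E₁) ≫ H.map ((QS n).map π₁) =
        HomologicalComplex.homologyMap ((Sg n).map π₁) n ≫ ff.inv.app ((Sg n).obj E) :=
      (ff.inv.naturality ((Sg n).map π₁)).symm
    have h2 : (s E₁).inv ≫ HomologicalComplex.homologyMap ((Sg n).map π₁) n = π₁ ≫ (s E).inv :=
      ((HomologicalComplex.homologyFunctorSingleIso X.Modules (ComplexShape.up ℤ) n).inv.naturality π₁).symm
    have h3 : ff.inv.app ((Sg n).obj E₁) ≫ H.map (DerivedCategory.Q.map g) ≫ ff.hom.app F =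
        HomologicalComplex.homologyMap g n := by
      show ff.inv.app _ ≫ (DerivedCategory.Q ⋙ H).map g ≫ _ = _
      rw [ff.hom.naturality, Iso.inv_hom_id_app_assoc]
      rfl
    rw [h3, hg, hk, Category.assoc, reassoc_of% h1, reassoc_of% h2]
  obtain ⟨χ, hχ⟩ := exists_factor_below δ hδ
  let t : Triangulated.TStructure (DCoh.D X) := DerivedCategory.TStructure.t
  haveI hle : DerivedCategory.IsLE ((t.truncLT n).obj (DerivedCategory.Q.obj F)) (n - 1) :=
    t.isLE_truncLT_obj _ _ _ (by omega)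
  obtain ⟨E₂, π₂, hE₂, hπ₂, h2⟩ :=
    exists_kill hX hE₁ n _ (Window.isQCohD_truncLT (isQCohD_toD hF) n) hle χ
  haveI := hπ₁
  haveI := hπ₂
  refine ⟨E₂, π₂ ≫ π₁, (Sg n).map π₂ ≫ g, hE₂, epi_comp _ _, ?_⟩
  have h4 : (QS n).map π₂ ≫ δ = 0 := by rw [← hχ, ← Category.assoc, h2, zero_comp]
  simp only [δ, Preadditive.comp_sub, sub_eq_zero] at h4
  rw [Functor.map_comp, Functor.map_comp, Category.assoc, h4]
  rfl

/-- Chain maps from single modules vanishing in cohomology are null homotopic after a cover. -/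
theorem exists_null (hX : PerfAux.HasResolutionProperty X) {E : X.Modules} (hE : FlatMod.IsFinLocFree E)
    (n : ℤ) (F : CochainComplex X.Modules ℤ) (hF : ∀ i, Coh.IsQCoh (F.X i))
    (g : (Sg n).obj E ⟶ F) (hg : DerivedCategory.Q.map g = 0) :
    ∃ (E' : X.Modules) (π : E' ⟶ E), FlatMod.IsFinLocFree E' ∧ Epi π ∧
      (HomotopyCategory.quotient X.Modules (ComplexShape.up ℤ)).map ((Sg n).map π ≫ g) = 0 := by
  have hcq : Coh.IsQCoh (F.cycles n) :=
    isQCoh_of_iso ((limit.isLimit _).conePointUniqueUpToIso (F.cyclesIsKernel n (n + 1) (by simp)))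
      (QCoh.isQCoh_kernel (hF n) (hF (n + 1)) (F.d n (n + 1)))
  let f : E ⟶ F.X n := (HomologicalComplex.singleObjXSelf (ComplexShape.up ℤ) n E).inv ≫ g.f n
  have hH : HomologicalComplex.homologyMap g n = 0 := by
    let ff := DerivedCategory.homologyFunctorFactors X.Modules n
    refine (cancel_epi (ff.hom.app ((Sg n).obj E))).1 ?_
    refine ((ff.hom.naturality g).symm).trans ?_
    show (DerivedCategory.homologyFunctor X.Modules n).map (DerivedCategory.Q.map g) ≫ _ = _
    rw [hg, Functor.map_zero, zero_comp, comp_zero]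
  let k : E ⟶ F.cycles n :=
    (HomologicalComplex.singleObjCyclesSelfIso (ComplexShape.up ℤ) n E).inv ≫ HomologicalComplex.cyclesMap g n
  have hki : k ≫ F.iCycles n = f := by
    simp only [k, f, Category.assoc, HomologicalComplex.cyclesMap_i]
    erw [HomologicalComplex.singleObjCyclesSelfIso_inv_iCycles_assoc]
  have hk0 : k ≫ F.homologyπ n = 0 := by
    simp only [k, Category.assoc, ← HomologicalComplex.homologyπ_naturality, hH, comp_zero]
  let S := ShortComplex.mk (F.toCycles (n - 1) n) (F.homologyπ n) (F.toCycles_comp_homologyπ _ _)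
  have hS : S.Exact := ShortComplex.exact_of_g_is_cokernel S (F.homologyIsCokernel (n - 1) n (by simp))
  haveI : Epi (kernel.lift (F.homologyπ n) (F.toCycles (n - 1) n) (F.toCycles_comp_homologyπ _ _)) :=
    hS.epi_kernelLift
  obtain ⟨E', π, l, hE', hπ, hl⟩ := exists_lift hX hE (hF (n - 1))
    (QCoh.isQCoh_kernel hcq (isQCoh_homology_of_terms F hF n) _)
    (kernel.lift (F.homologyπ n) (F.toCycles (n - 1) n) (F.toCycles_comp_homologyπ _ _))
    (kernel.lift (F.homologyπ n) k hk0)
  refine ⟨E', π, hE', hπ, ?_⟩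
  have hld : l ≫ F.d (n - 1) n = π ≫ f := by
    have := congrArg (· ≫ kernel.ι (F.homologyπ n) ≫ F.iCycles n) hl
    simpa [hki] using this
  refine (HomotopyCategory.eq_of_homotopy _ _ ?_).trans (Functor.map_zero _ _ _)
  refine (Cochain.equivHomotopy _ _).symm ⟨Cochain.fromSingleMk l (show n + (-1) = n - 1 by omega), ?_⟩
  rw [Cochain.ofHom_zero, add_zero, Cochain.δ_fromSingleMk l _ 0 n (add_zero n), hld,
    Cochain.fromSingleMk_precomp, Cochain.ofHom_comp]
  refine congrArg (fun z => (Cochain.ofHom ((Sg n).map π)).comp z (add_zero 0)) ?_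
  refine (Cochain.fromSingleEquiv (add_zero n)).injective ?_
  rw [Cochain.fromSingleEquiv_fromSingleMk]
  show (HomologicalComplex.singleObjXSelf (ComplexShape.up ℤ) n E).inv ≫ (Cochain.ofHom g).v n n (add_zero n) = f
  rw [Cochain.ofHom_v]

end Groth.Agent.KExact.SPerfect
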