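import Groth.Agent.KExact.SPerfectFamily
import Groth.Agent.KFlatLib.Scheme.ProperFlatPC
import Mathlib.CategoryTheory.Limits.Constructions.EventuallyConstant
import Mathlib.CategoryTheory.Functor.OfSequence
import Mathlib.Algebra.Homology.HomologicalComplexLimits

/-!
# Infinite resolutions of bounded pseudo-coherent objects with controlled terms
-/

set_option linter.style.haveILetI false
set_option backward.isDefEq.respectTransparency false
set_option backward.isDefEq.respectTransparency.types false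
set_option maxHeartbeats 1600000

universe u

open CategoryTheory CategoryTheory.Limits AlgebraicGeometry Pretriangulated CochainComplex

attribute [local instance] HasDerivedCategory.standard

namespace Groth.Agent.KExact.SPerfect

open Groth.Agent Groth.Agent.KFlatLib
open scoped ZeroObject

variable {X : Scheme.{u}}

lemma isIso_inr_f {S E : CochainComplex X.Modules ℤ} (g : S ⟶ E) (i : ℤ) (h : IsZero (S.X (i + 1))) :
    IsIso ((mappingCone.inr g).f i) :=
  ⟨(mappingCone.snd g).v i i (add_zero i), by simp, by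
    have := mappingCone.id_X g i (i + 1) rfl
    rw [← this, h.eq_of_tgt ((mappingCone.fst g).1.v i (i + 1) rfl) 0, zero_comp, zero_add]⟩

/-- An approximation of `K` down to degree `n`. -/
structure Stage (Cl : X.Modules → Prop) (K : DCoh.D X) (b n : ℤ) where
  P : CochainComplex X.Modules ℤ
  φ : DerivedCategory.Q.obj P ⟶ K
  sp : DCoh.IsStrictlyPerfect P
  pc : IsPcMap n φ
  cl : ∀ i, Cl (P.X i)
  low : ∀ i, i < n → IsZero (P.X i)
  high : ∀ i, b < i → IsZero (P.X i)

variable [CompactSpace X] [QuasiSeparatedSpace X]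

theorem Stage.exists_next (hX : PerfAux.HasResolutionProperty X) {Cl : X.Modules → Prop}
    (hCl : ∀ E : X.Modules, FlatMod.IsFinLocFree E → ∃ (E' : X.Modules) (π : E' ⟶ E),
      FlatMod.IsFinLocFree E' ∧ Epi π ∧ Cl E')
    (hiso : ∀ {A B : X.Modules}, (A ≅ B) → Cl A → Cl B)
    {K : DCoh.D X} (hK : DCoh.IsQCohD K) (hpc : ∀ m, LocPC m K) {b n n' : ℤ} (hn' : n' + 1 = n)
    (hn : n ≤ b + 1) (s : Stage Cl K b n) :
    ∃ (t : Stage Cl K b n') (v : s.P ⟶ t.P), ∀ i, n ≤ i → IsIso (v.f i) := by
  obtain rfl : n' = n - 1 := by omega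
  obtain ⟨E, hE, p, c, -, hc⟩ := exists_step hX hK (hpc _) s.P s.sp s.φ s.pc
  obtain ⟨E', π, hE', hπ, hcl⟩ := hCl E hE
  let d : Cover p := ⟨E', π, hE', hπ, (Sg _).map π ≫ p, rfl⟩
  obtain ⟨⟨eE⟩, heq, hz⟩ := cone_sg_terms d.p' s.low
  exact ⟨⟨mappingCone d.p', DerivedCategory.Q.map d.μ ≫ c,
    isStrictlyPerfect_cone d.p' (isStrictlyPerfect_sg hE' _) s.sp, hc d,
    fun i => if hi : i = n - 1 then hiso (eE.symm ≪≫ eqToIso (by rw [hi])) hcl
      else hiso (heq i hi).some.symm (s.cl i),
    hz, fun i hi => (s.high i hi).of_iso (heq i (by omega)).some⟩, mappingCone.inr d.p',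
    fun i hi => isIso_inr_f d.p' i (HomologicalComplex.isZero_single_obj_X (ComplexShape.up ℤ) n E' (i + 1) (by omega))⟩

set_option linter.unusedSectionVars false in
/-- Bounded pseudo-coherent objects are bounded above complexes with controlled terms. -/
theorem exists_resolution (hX : PerfAux.HasResolutionProperty X) (Cl : X.Modules → Prop)
    (hCl : ∀ E : X.Modules, FlatMod.IsFinLocFree E → ∃ (E' : X.Modules) (π : E' ⟶ E),
      FlatMod.IsFinLocFree E' ∧ Epi π ∧ Cl E')
    (hiso : ∀ {A B : X.Modules}, (A ≅ B) → Cl A → Cl B) (hzero : ∀ {A : X.Modules}, IsZero A → Cl A)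
    {K : DCoh.D X} (hK : DCoh.IsQCohD K) {a b : ℤ} [DerivedCategory.IsGE K a]
    (hb : ∀ i, b < i → IsZero (DCoh.HD K i)) (hpc : ∀ m, LocPC m K) :
    ∃ F : CochainComplex X.Modules ℤ, (∀ i, b < i → IsZero (F.X i)) ∧ (∀ i, Cl (F.X i)) ∧
      Nonempty (DerivedCategory.Q.obj F ≅ K) := by
  have h0 : ∀ i, IsZero ((0 : CochainComplex X.Modules ℤ).X i) := fun i =>
    (HomologicalComplex.eval X.Modules (ComplexShape.up ℤ) i).map_isZero (isZero_zero _)
  let base : Stage Cl K b (b + 1 - ((0 : ℕ) : ℤ)) :=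
    ⟨0, 0, isStrictlyPerfect_zero, by simpa using isPcMap_zero hb, fun i => hzero (h0 i), fun i _ => h0 i,
      fun i _ => h0 i⟩
  choose next v hv using fun (k : ℕ) (s : Stage Cl K b (b + 1 - (k : ℤ))) =>
    Stage.exists_next hX hCl hiso hK hpc (n' := b + 1 - ((k + 1 : ℕ) : ℤ)) (by push_cast; omega) (by omega) s
  let st : ∀ k : ℕ, Stage Cl K b (b + 1 - (k : ℤ)) := fun k =>
    Nat.rec (motive := fun k => Stage Cl K b (b + 1 - (k : ℕ))) base next k
  let D : ℕ ⥤ CochainComplex X.Modules ℤ :=
    Functor.ofSequence (X := fun k => (st k).P) fun k => v k (st k)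
  have hmap : ∀ (k l : ℕ) (hkl : k ≤ l) (i : ℤ), b + 1 - k ≤ i → IsIso ((D.map (homOfLE hkl)).f i) := by
    intro k l hkl i hi
    induction l, hkl using Nat.le_induction with
    | base => rw [show homOfLE (le_refl k) = 𝟙 k from Subsingleton.elim _ _, D.map_id]; exact inferInstanceAs (IsIso (𝟙 _))
    | succ l hkl ih =>
      rw [show homOfLE (hkl.trans (Nat.le_succ l)) = homOfLE hkl ≫ homOfLE (Nat.le_succ l) from Subsingleton.elim _ _,
        D.map_comp, HomologicalComplex.comp_f]
      haveI := ih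
      haveI : IsIso ((D.map (homOfLE (Nat.le_succ l))).f i) := by
        rw [Functor.ofSequence_map_homOfLE_succ]; exact hv l (st l) i (by omega)
      infer_instance
  have hι : ∀ (k : ℕ) (i : ℤ), b + 1 - k ≤ i → IsIso ((colimit.ι D k).f i) := fun k i hi => by
    have h : (D ⋙ HomologicalComplex.eval _ _ i).IsEventuallyConstantFrom k := fun l f =>
      hmap k l (leOfHom f) i hi
    exact h.isIso_ι_of_isColimit (isColimitOfPreserves (HomologicalComplex.eval _ _ i) (colimit.isColimit D))
  have hq : ∀ (k : ℕ) (i : ℤ), b + 1 - k < i → IsIso ((DerivedCategory.homologyFunctor X.Modules i).map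
      (DerivedCategory.Q.map (colimit.ι D k))) := fun k i hi => by
    refine (NatIso.isIso_map_iff (DerivedCategory.homologyFunctorFactors X.Modules i) _).2 ?_
    show IsIso (HomologicalComplex.homologyMap (colimit.ι D k) i)
    haveI : QuasiIsoAt (colimit.ι D k) i := by
      rw [quasiIsoAt_iff' _ (i - 1) i (i + 1) (by simp) (by simp)]
      let ψ := (HomologicalComplex.shortComplexFunctor' X.Modules (ComplexShape.up ℤ) (i - 1) i (i + 1)).map
        (colimit.ι D k)
      haveI : IsIso ψ.τ₁ := hι k (i - 1) (by omega)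
      haveI : IsIso ψ.τ₂ := hι k i (by omega)
      haveI : IsIso ψ.τ₃ := hι k (i + 1) (by omega)
      exact ShortComplex.quasiIso_of_epi_of_isIso_of_mono ψ
    exact (quasiIsoAt_iff_isIso_homologyMap _ _).1 inferInstance
  refine ⟨colimit D, fun i hi => ?_, fun i => ?_, ?_⟩
  · haveI := hι 0 i (by omega)
    exact ((st 0).high i hi).of_iso (asIso ((colimit.ι D 0).f i)).symm
  · haveI := hι (b + 1 - i).toNat i (by omega)
    exact hiso (asIso ((colimit.ι D (b + 1 - i).toNat).f i)) ((st (b + 1 - i).toNat).cl i)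
  · haveI : DerivedCategory.IsGE (DerivedCategory.Q.obj (colimit D)) a := (DerivedCategory.isGE_iff _ _).2 fun i hi => by
      let k := (b + 3 - i).toNat
      haveI := hq k i (by omega)
      haveI := (st k).pc.1 i (by omega)
      exact (DerivedCategory.isZero_of_isGE K a i hi).of_iso
        ((asIso ((DerivedCategory.homologyFunctor X.Modules i).map (DerivedCategory.Q.map (colimit.ι D k)))).symm ≪≫
          asIso ((DerivedCategory.homologyFunctor X.Modules i).map (st k).φ))
    let k := (b + 3 - a).toNat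
    obtain ⟨e₁⟩ := exists_trunc_iso (st k).φ ((st k).pc.mono (show b + 1 - (k : ℤ) ≤ a - 1 by omega))
    have hk : IsPcMap (a - 1) (DerivedCategory.Q.map (colimit.ι D k)) :=
      ⟨fun i hi => hq k i (by omega), haveI := hq k (a - 1) (by omega); inferInstance⟩
    obtain ⟨e₂⟩ := exists_trunc_iso (DerivedCategory.Q.map (colimit.ι D k)) hk
    exact ⟨e₂.symm ≪≫ e₁⟩

end Groth.Agent.KExact.SPerfect
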