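import Groth.Agent.KExact.SPerfectMain
import Mathlib.Algebra.Homology.HomotopyCofiber

/-!
# Perfect objects as a localisation of strictly perfect complexes
-/

set_option linter.style.haveILetI false
set_option backward.isDefEq.respectTransparency false
set_option backward.isDefEq.respectTransparency.types false
set_option maxHeartbeats 800000

universe u

open CategoryTheory CategoryTheory.Limits AlgebraicGeometry CochainComplex

attribute [local instance] HasDerivedCategory.standard

namespace Groth.Agent.KExact.SPerfect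

open Groth.Agent Groth.Agent.KFlatLib

variable {X : Scheme.{u}}

/-- The category of strictly perfect complexes. -/
abbrev SP (X : Scheme.{u}) :=
  ObjectProperty.FullSubcategory (fun E : CochainComplex X.Modules ℤ => DCoh.IsStrictlyPerfect E)

/-- The inclusion. -/
noncomputable abbrev spι (X : Scheme.{u}) : SP X ⥤ CochainComplex X.Modules ℤ :=
  ObjectProperty.ι (fun E : CochainComplex X.Modules ℤ => DCoh.IsStrictlyPerfect E)

/-- Quasi-isomorphisms. -/
noncomputable abbrev spW (X : Scheme.{u}) : MorphismProperty (SP X) :=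
  (HomologicalComplex.quasiIso X.Modules (ComplexShape.up ℤ)).inverseImage (spι X)

lemma isStrictlyPerfect_biprod {A B : CochainComplex X.Modules ℤ} (hA : DCoh.IsStrictlyPerfect A)
    (hB : DCoh.IsStrictlyPerfect B) : DCoh.IsStrictlyPerfect (A ⊞ B) := by
  obtain ⟨⟨a, b, hab⟩, hf⟩ := hA
  obtain ⟨⟨a', b', hab'⟩, hf'⟩ := hB
  let ev := fun i => HomologicalComplex.eval X.Modules (ComplexShape.up ℤ) i
  haveI : ∀ i, PreservesBinaryBiproduct A B (ev i) := fun i => inferInstance
  refine ⟨⟨min a a', max b b', fun i hi => IsZero.of_iso ?_ ((ev i).mapBiprod A B)⟩,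
    fun i => H23.PullPush.isFinLocFree_of_iso ((ev i).mapBiprod A B).symm (isFinLocFree_biprod (hf i) (hf' i))⟩
  exact (biprod_isZero_iff _ _).2 ⟨hab i (by omega), hab' i (by omega)⟩

/-- Functors inverting quasi-isomorphisms identify homotopic maps. -/
theorem map_eq_of_homotopy {D : Type*} [Category D] (L : SP X ⥤ D) (hL : (spW X).IsInvertedBy L)
    {A B : SP X} (f g : A ⟶ B) (h : Homotopy f.hom g.hom) : L.map f = L.map g := by
  let C := A.obj.cylinder
  have hC : DCoh.IsStrictlyPerfect C :=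
    isStrictlyPerfect_cone (biprod.lift (𝟙 A.obj) (-𝟙 A.obj)) A.2 (isStrictlyPerfect_biprod A.2 A.2)
  let Co : SP X := ⟨C, hC⟩
  let π : Co ⟶ A := ObjectProperty.homMk (HomologicalComplex.cylinder.π A.obj)
  let i₀ : A ⟶ Co := ObjectProperty.homMk (HomologicalComplex.cylinder.ι₀ A.obj)
  let i₁ : A ⟶ Co := ObjectProperty.homMk (HomologicalComplex.cylinder.ι₁ A.obj)
  let d : Co ⟶ B := ObjectProperty.homMk (HomologicalComplex.cylinder.desc f.hom g.hom h)
  have hπ : spW X π :=
    (inferInstanceAs (QuasiIso (HomologicalComplex.cylinder.homotopyEquiv A.obj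
      (fun j => ⟨j - 1, by simp⟩)).hom))
  haveI := hL π hπ
  have e₀ : L.map i₀ ≫ L.map π = 𝟙 _ := by
    rw [← L.map_comp, show i₀ ≫ π = 𝟙 A from ObjectProperty.hom_ext _ (HomologicalComplex.cylinder.ι₀_π A.obj),
      L.map_id]
  have e₁ : L.map i₁ ≫ L.map π = 𝟙 _ := by
    rw [← L.map_comp, show i₁ ≫ π = 𝟙 A from ObjectProperty.hom_ext _ (HomologicalComplex.cylinder.ι₁_π A.obj),
      L.map_id]
  have hi : L.map i₀ = L.map i₁ := (cancel_mono (L.map π)).1 (e₀.trans e₁.symm)
  rw [show f = i₀ ≫ d from ObjectProperty.hom_ext _ (HomologicalComplex.cylinder.ι₀_desc f.hom g.hom h).symm,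
    show g = i₁ ≫ d from ObjectProperty.hom_ext _ (HomologicalComplex.cylinder.ι₁_desc f.hom g.hom h).symm,
    L.map_comp, L.map_comp, hi]

variable [CompactSpace X] [QuasiSeparatedSpace X]

/-- Two roofs with the same derived image become equal after inverting quasi-isomorphisms. -/
theorem exists_eq (hX : PerfAux.HasResolutionProperty X) {D : Type*} [Category D] (L : SP X ⥤ D)
    (hL : (spW X).IsInvertedBy L) {A B : SP X} (f g : A ⟶ B)
    (h : DerivedCategory.Q.map f.hom = DerivedCategory.Q.map g.hom) : L.map f = L.map g := by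
  obtain ⟨G, γ, hG, hγ, ⟨H⟩⟩ := exists_homotopy hX A.2 B.2 f.hom g.hom h
  let Go : SP X := ⟨G, hG⟩
  let γ' : Go ⟶ A := ObjectProperty.homMk γ
  haveI := hL γ' hγ
  refine (cancel_epi (L.map γ')).1 ?_
  rw [← L.map_comp, ← L.map_comp]
  exact map_eq_of_homotopy L hL _ _ H

/-- Perfect objects form the localisation of strictly perfect complexes at quasi-isomorphisms. -/
theorem isLocalization (hX : PerfAux.HasResolutionProperty X)
    (h : ∀ E : SP X, DCoh.IsPerfect ((spι X ⋙ DerivedCategory.Q).obj E)) :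
    (ObjectProperty.lift (fun K : DCoh.D X => DCoh.IsPerfect K) (spι X ⋙ DerivedCategory.Q) h).IsLocalization
      (spW X) := by
  let F := ObjectProperty.lift (fun K : DCoh.D X => DCoh.IsPerfect K) (spι X ⋙ DerivedCategory.Q) h
  have hF : (spW X).IsInvertedBy F := fun A B f hf => by
    haveI : IsIso ((ObjectProperty.ι (fun K : DCoh.D X => DCoh.IsPerfect K)).map (F.map f)) := isIso_Q_map _ hf
    exact isIso_of_reflects_iso (F := ObjectProperty.ι (fun K : DCoh.D X => DCoh.IsPerfect K)) (F.map f)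
  let G := Localization.Construction.lift F hF
  let L := (spW X).Q
  have hL : (spW X).IsInvertedBy L := (spW X).Q_inverts
  have hFm : ∀ {A B : SP X} (f : A ⟶ B), (F.map f).hom = DerivedCategory.Q.map f.hom := fun _ => rfl
  let P : MorphismProperty (spW X).Localization := fun U V φ =>
    ∃ (Gc : SP X) (s : Gc ⟶ (Localization.Construction.objEquiv (spW X)).symm U)
      (g : Gc ⟶ (Localization.Construction.objEquiv (spW X)).symm V) (_ : spW X s), L.map s ≫ φ = L.map g
  haveI : P.IsStableUnderComposition := ⟨fun {U V W} φ ψ ⟨G₁, s₁, g₁, h₁, e₁⟩ ⟨G₂, s₂, g₂, h₂, e₂⟩ => by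
    haveI : IsIso (DerivedCategory.Q.map s₂.hom) := isIso_Q_map _ h₂
    obtain ⟨R, γ, k, hR, hγ, hk⟩ := exists_roof hX G₁.2 (isQCoh_terms G₂.2) (exists_lowerBound G₂.2)
      (DerivedCategory.Q.map g₁.hom ≫ inv (DerivedCategory.Q.map s₂.hom))
    let Ro : SP X := ⟨R, hR⟩
    let γ' : Ro ⟶ G₁ := ObjectProperty.homMk γ
    let k' : Ro ⟶ G₂ := ObjectProperty.homMk k
    have he : L.map (γ' ≫ g₁) = L.map (k' ≫ s₂) := exists_eq hX L hL _ _ (by
      show DerivedCategory.Q.map (γ ≫ g₁.hom) = DerivedCategory.Q.map (k ≫ s₂.hom)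
      rw [Functor.map_comp, Functor.map_comp, ← hk, Category.assoc, Category.assoc, IsIso.inv_hom_id,
        Category.comp_id])
    refine ⟨Ro, γ' ≫ s₁, k' ≫ g₂, ?_, ?_⟩
    · haveI := hγ; haveI : QuasiIso s₁.hom := h₁
      exact quasiIso_comp γ s₁.hom
    · rw [L.map_comp, Category.assoc, ← Category.assoc (L.map s₁), e₁, ← Category.assoc, ← L.map_comp, he,
        L.map_comp, Category.assoc, e₂, ← L.map_comp]⟩
  have hP : P = ⊤ := Localization.Construction.morphismProperty_eq_top P
    (fun A B f => ⟨A, 𝟙 A, f, show QuasiIso (𝟙 A.obj) from inferInstance, by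
      rw [L.map_id]; exact Category.id_comp _⟩)
    (fun A B w hw => ⟨A, w, 𝟙 A, hw, by
      rw [L.map_id]; exact (Localization.Construction.wIso w hw).hom_inv_id⟩)
  have hG : ∀ {A B : SP X} (f : A ⟶ B), G.map (L.map f) = F.map f := fun {A B} f => by
    exact (Functor.congr_hom (Localization.Construction.fac F hF) f).trans
      ((Category.id_comp _).trans (Category.comp_id _))
  haveI : G.Faithful := ⟨fun {U V} φ φ' e => by
    obtain ⟨G₁, s₁, g₁, h₁, e₁⟩ : P φ := by rw [hP]; trivial
    obtain ⟨G₂, s₂, g₂, h₂, e₂⟩ : P φ' := by rw [hP]; trivial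
    haveI : IsIso (DerivedCategory.Q.map s₂.hom) := isIso_Q_map _ h₂
    obtain ⟨R, γ, k, hR, hγ, hk⟩ := exists_roof hX G₁.2 (isQCoh_terms G₂.2) (exists_lowerBound G₂.2)
      (DerivedCategory.Q.map s₁.hom ≫ inv (DerivedCategory.Q.map s₂.hom))
    let Ro : SP X := ⟨R, hR⟩
    let γ' : Ro ⟶ G₁ := ObjectProperty.homMk γ
    let k' : Ro ⟶ G₂ := ObjectProperty.homMk k
    have hs : DerivedCategory.Q.map γ ≫ DerivedCategory.Q.map s₁.hom =
        DerivedCategory.Q.map k ≫ DerivedCategory.Q.map s₂.hom := by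
      rw [← hk, Category.assoc, Category.assoc, IsIso.inv_hom_id, Category.comp_id]
    have hes : L.map (γ' ≫ s₁) = L.map (k' ≫ s₂) := exists_eq hX L hL _ _ (by
      show DerivedCategory.Q.map (γ ≫ s₁.hom) = DerivedCategory.Q.map (k ≫ s₂.hom)
      rw [Functor.map_comp, Functor.map_comp, hs])
    have hF' : F.map (γ' ≫ g₁) = F.map (k' ≫ g₂) := by
      rw [← hG, ← hG, L.map_comp, L.map_comp, ← e₁, ← e₂, ← Category.assoc, ← Category.assoc,
        ← L.map_comp, ← L.map_comp, hes]
      simp only [Functor.map_comp, e]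
    have heg : L.map (γ' ≫ g₁) = L.map (k' ≫ g₂) := exists_eq hX L hL _ _
      (congr(($hF').hom))
    haveI := hL s₁ h₁
    haveI := hL γ' hγ
    haveI : IsIso (L.map (γ' ≫ s₁)) := by rw [L.map_comp]; infer_instance
    refine (cancel_epi (L.map (γ' ≫ s₁))).1 ?_
    conv_rhs => rw [hes]
    rw [L.map_comp, L.map_comp, Category.assoc, Category.assoc, e₁, e₂, ← L.map_comp, ← L.map_comp, heg]⟩
  haveI : G.Full := ⟨fun {U V} ψ => by
    let A := (Localization.Construction.objEquiv (spW X)).symm U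
    let B := (Localization.Construction.objEquiv (spW X)).symm V
    let ψ₀ : F.obj A ⟶ F.obj B := ψ
    obtain ⟨R, γ, k, hR, hγ, hk⟩ := exists_roof hX A.2 (isQCoh_terms B.2) (exists_lowerBound B.2) ψ₀.hom
    let Ro : SP X := ⟨R, hR⟩
    let γ' : Ro ⟶ A := ObjectProperty.homMk γ
    let k' : Ro ⟶ B := ObjectProperty.homMk k
    haveI := hL γ' hγ
    haveI := hF γ' hγ
    refine ⟨inv (L.map γ') ≫ L.map k', ?_⟩
    rw [Functor.map_comp, Functor.map_inv, IsIso.inv_comp_eq, hG, hG]
    exact (ObjectProperty.hom_ext _ hk.symm)⟩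
  haveI : G.EssSurj := ⟨fun K => by
    obtain ⟨E, hE, ⟨e⟩⟩ := exists_rep hX ((isPerfect_iff _).1 K.2)
    exact ⟨L.obj ⟨E, hE⟩, ⟨ObjectProperty.isoMk (fun K : DCoh.D X => DCoh.IsPerfect K) e⟩⟩⟩
  exact { inverts := hF, isEquivalence := {} }

end Groth.Agent.KExact.SPerfect
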