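import Groth.Agent.KExact.SPerfect
import Groth.Agent.KFlatLib.Perfect.Amplitude
import Groth.Agent.KFlatLib.Scheme.TildePC

/-!
# Strictly perfect representatives under the resolution property
-/

set_option linter.style.haveILetI false
set_option backward.isDefEq.respectTransparency false
set_option backward.isDefEq.respectTransparency.types false
set_option maxHeartbeats 1600000

universe u

open CategoryTheory CategoryTheory.Limits AlgebraicGeometry Pretriangulated CochainComplex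

attribute [local instance] HasDerivedCategory.standard

namespace Groth.Agent.KExact.SPerfect

open Groth.Agent Groth.Agent.KFlatLib
open scoped ZeroObject

variable {X : Scheme.{u}}

/-- A refinement of an attaching map by a finite locally free cover. -/
structure Cover {E : X.Modules} {m : ℤ} {P : CochainComplex X.Modules ℤ} (p : (Sg m).obj E ⟶ P) where
  E' : X.Modules
  π : E' ⟶ E
  flf : FlatMod.IsFinLocFree E'
  epi : Epi π
  p' : (Sg m).obj E' ⟶ P
  hp : p' = (Sg m).map π ≫ p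

namespace Cover

variable {E : X.Modules} {m : ℤ} {P : CochainComplex X.Modules ℤ} {p : (Sg m).obj E ⟶ P}

/-- The comparison of cones. -/
noncomputable def μ (c : Cover p) : mappingCone c.p' ⟶ mappingCone p :=
  mappingCone.map c.p' p ((Sg m).map c.π) (𝟙 P) (by rw [Category.comp_id, c.hp])

/-- The comparison of triangles. -/
noncomputable def tri (c : Cover p) : mappingCone.triangle c.p' ⟶ mappingCone.triangle p :=
  mappingCone.triangleMap c.p' p ((Sg m).map c.π) (𝟙 P) (by rw [Category.comp_id, c.hp])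

lemma inr_μ (c : Cover p) : mappingCone.inr c.p' ≫ c.μ = mappingCone.inr p :=
  c.tri.comm₂.trans (Category.id_comp _)

lemma mor₃_μ (c : Cover p) :
    c.μ ≫ (mappingCone.triangle p).mor₃ = (mappingCone.triangle c.p').mor₃ ≫ ((Sg m).map c.π)⟦(1 : ℤ)⟧' :=
  c.tri.comm₃.symm

/-- Covers of covers. -/
noncomputable def trans (c : Cover p) (d : Cover c.p') : Cover p where
  E' := d.E'
  π := d.π ≫ c.π
  flf := d.flf
  epi := haveI := c.epi; haveI := d.epi; epi_comp _ _
  p' := d.p'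
  hp := d.hp.trans ((congrArg ((Sg m).map d.π ≫ ·) c.hp).trans
    (by rw [Functor.map_comp, Category.assoc]))

lemma trans_μ (c : Cover p) (d : Cover c.p') : (c.trans d).μ = d.μ ≫ c.μ := by
  rw [μ, μ, μ, ← mappingCone.map_comp]
  congr 1
  · exact Functor.map_comp _ _ _
  all_goals exact (Category.id_comp _).symm

end Cover

variable [CompactSpace X] [QuasiSeparatedSpace X]

omit [CompactSpace X] [QuasiSeparatedSpace X] in
lemma isPcMap_QS {E' E : X.Modules} (π : E' ⟶ E) [Epi π] (n : ℤ) : IsPcMap n ((QS n).map π) := by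
  refine ⟨fun i hi => ?_, ?_⟩
  · have hz : ∀ M : X.Modules, IsZero ((DerivedCategory.homologyFunctor X.Modules i).obj ((QS n).obj M)) :=
      fun M => DerivedCategory.isZero_of_isLE _ n i hi
    exact ⟨0, (hz E').eq_of_src _ _, (hz E).eq_of_src _ _⟩
  · let e := DerivedCategory.singleFunctorCompHomologyFunctorIso X.Modules n
    show Epi ((DerivedCategory.singleFunctor X.Modules n ⋙ DerivedCategory.homologyFunctor X.Modules n).map π)
    rw [← NatIso.naturality_2 e π]
    exact epi_comp' inferInstance (epi_comp' (inferInstanceAs (Epi π)) inferInstance)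

/-- The attaching step. -/
theorem exists_step (hX : PerfAux.HasResolutionProperty X) {K : DCoh.D X} (hK : DCoh.IsQCohD K) {m : ℤ}
    (hKpc : LocPC (m - 1) K) (P : CochainComplex X.Modules ℤ) (hP : DCoh.IsStrictlyPerfect P)
    (φ : DerivedCategory.Q.obj P ⟶ K) (hφ : IsPcMap m φ) :
    ∃ (E : X.Modules) (_ : FlatMod.IsFinLocFree E) (p : (Sg m).obj E ⟶ P)
      (c : DerivedCategory.Q.obj (mappingCone p) ⟶ K),
      DerivedCategory.Q.map (mappingCone.inr p) ≫ c = φ ∧
        ∀ d : Cover p, IsPcMap (m - 1) (DerivedCategory.Q.map d.μ ≫ c) := by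
  obtain ⟨R, a, b, hT⟩ := distinguished_cocone_triangle₁ φ
  let T : Triangle (DCoh.D X) := Triangle.mk a φ b
  let H := DerivedCategory.homologyFunctor X.Modules
  haveI hR : DerivedCategory.IsLE R m := by
    refine (DerivedCategory.isLE_iff _ _).2 fun i hi => ?_
    haveI : Epi ((H (i - 1)).map φ) := (hφ.mono (by omega : m ≤ i - 1)).2
    haveI := hφ.1 i hi
    have e1 : (H i).map a = 0 :=
      (cancel_mono ((H i).map φ)).1 (by
        rw [zero_comp, ← Functor.map_comp]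
        exact ((congrArg (H i).map (comp_distTriang_mor_zero₁₂ T hT))).trans (Functor.map_zero _ _ _))
    have e2 : DerivedCategory.HomologySequence.δ T (i - 1) i (by omega) = 0 :=
      (cancel_epi ((H (i - 1)).map φ)).1 (by
        rw [comp_zero]; exact DerivedCategory.HomologySequence.comp_δ T hT (i - 1) i (by omega))
    exact (DerivedCategory.HomologySequence.exact₁ T hT (i - 1) i (by omega)).isZero_X₂ e2 e1
  have hRq : DCoh.IsQCohD R := isQCohD_obj₁ hT (isQCohD_toD (isQCoh_terms hP)) hK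
  have hPsp : LocSP (DerivedCategory.Q.obj P) := fun x =>
    ⟨_, 𝟙 X, inferInstance, ⟨x, rfl⟩, _, isStrictlyPerfect_restrict (𝟙 X) hP, ⟨((rhoQ (𝟙 X)).app P).symm⟩⟩
  have hRpc : LocPC m R := by
    have hK' := hKpc.shift (-1)
    rw [show m - 1 - -1 = m by omega] at hK'
    exact locPC_obj₃ _ (inv_rot_of_distTriang _ (inv_rot_of_distTriang _ hT))
      ((hPsp.shift (-1)).locPC _) hK'
  let t : Triangulated.TStructure (DCoh.D X) := DerivedCategory.TStructure.t
  let Y := (t.truncGE m).obj R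
  let y : R ⟶ Y := (t.truncGEπ m).app R
  haveI : t.IsGE Y m := t.isGE_truncGE_obj R _ _ le_rfl
  haveI : t.IsLE R m := ⟨hR.1⟩
  haveI : t.IsLE Y m := inferInstance
  haveI : DerivedCategory.IsGE Y m := ⟨(inferInstance : t.IsGE Y m).1⟩
  haveI : DerivedCategory.IsLE Y m := ⟨(inferInstance : t.IsLE Y m).1⟩
  obtain ⟨M, ⟨eM⟩⟩ := DerivedCategory.exists_iso_singleFunctor_obj_of_isGE_of_isLE Y m
  haveI hy : ∀ i, m ≤ i → IsIso ((H i).map y) := fun i hi => Window.isIso_hd_map_truncGEπ R m i hi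
  haveI := hy m le_rfl
  let eH : DCoh.HD R m ≅ M := asIso ((H m).map y) ≪≫ (H m).mapIso eM ≪≫
    (DerivedCategory.singleFunctorCompHomologyFunctorIso X.Modules m).app M
  have hMq : Coh.IsQCoh M := isQCoh_of_iso eH (hRq m)
  have hMft : CohB1.IsFT M := isFT_of_iso' eH
    (isFT_top hRpc fun i hi => DerivedCategory.isZero_of_isLE R m i hi)
  obtain ⟨E₀, π₀, hE₀, hπ₀⟩ := hX M hMq hMft
  haveI := hπ₀
  let v₀ : (QS m).obj E₀ ⟶ Y := (QS m).map π₀ ≫ eM.inv
  let δ := (t.truncGEδLT m).app R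
  haveI hlt : DerivedCategory.IsLE ((t.truncLT m).obj R) (m - 1) := t.isLE_truncLT_obj _ _ _ (by omega)
  haveI hlt' : DerivedCategory.IsLE (((t.truncLT m).obj R)⟦(1 : ℤ)⟧) (m - 1) :=
    (DerivedCategory.isLE_iff _ _).2 fun j hj =>
      Window.isZero_hd_shift _ 1 j (DerivedCategory.isZero_of_isLE _ (m - 1) (1 + j) (by omega))
  obtain ⟨E₁, π₁, hE₁, hπ₁, hk⟩ := exists_kill hX hE₀ m _
    (isQCohD_shift (Window.isQCohD_truncLT hRq m) 1) hlt' (v₀ ≫ δ)
  obtain ⟨u, hu⟩ := Triangle.coyoneda_exact₃ _ (t.triangleLTGE_distinguished m R) ((QS m).map π₁ ≫ v₀)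
    ((Category.assoc _ _ _).trans hk)
  haveI := hπ₁
  have hu' : u ≫ y = (QS m).map (π₁ ≫ π₀) ≫ eM.inv := by
    rw [Functor.map_comp, Category.assoc]
    exact hu.symm
  obtain ⟨E₂, π₂, p, hE₂, hπ₂, hp⟩ := exists_real hX hE₁ m P (isQCoh_terms hP) (u ≫ a)
  haveI := hπ₂
  let u₂ := (QS m).map π₂ ≫ u
  have hu₂ : IsPcMap m u₂ := by
    refine ⟨fun i hi => ⟨0, ?_, ?_⟩, ?_⟩
    · exact (DerivedCategory.isZero_of_isLE ((QS m).obj E₂) m i hi).eq_of_src _ _
    · exact (DerivedCategory.isZero_of_isLE R m i hi).eq_of_src _ _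
    · have h : Epi ((H m).map u₂ ≫ (H m).map y) := by
        rw [← Functor.map_comp]
        have : u₂ ≫ y = (QS m).map (π₂ ≫ π₁ ≫ π₀) ≫ eM.inv := by
          simp only [u₂, Category.assoc, hu', Functor.map_comp]
        rw [this, Functor.map_comp]
        exact epi_comp' (isPcMap_QS _ m).2 inferInstance
      haveI := h
      have : (H m).map u₂ = ((H m).map u₂ ≫ (H m).map y) ≫ inv ((H m).map y) := by simp
      rw [this]
      infer_instance
  let Tp : Triangle (DCoh.D X) := DerivedCategory.Q.mapTriangle.obj (mappingCone.triangle p)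
  have hTp : Tp ∈ distTriang (DCoh.D X) := DerivedCategory.mappingCone_triangle_distinguished p
  obtain ⟨c, hc₂, hc₃⟩ := complete_distinguished_triangle_morphism Tp T hTp hT u₂ (𝟙 _) (by
    show DerivedCategory.Q.map p ≫ 𝟙 _ = u₂ ≫ a
    rw [Category.comp_id, Category.assoc, ← hp])
  refine ⟨E₂, hE₂, p, c, hc₂.trans (Category.id_comp _), fun d => ?_⟩
  haveI := d.epi
  let Φ : Tp ⟶ T := Triangle.homMk _ _ u₂ (𝟙 _) c (by
    show DerivedCategory.Q.map p ≫ 𝟙 _ = u₂ ≫ a
    rw [Category.comp_id, Category.assoc, ← hp]) hc₂ hc₃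
  refine isPcMap_hom₃ (DerivedCategory.mappingCone_triangle_distinguished d.p') hT
    (DerivedCategory.Q.mapTriangle.map d.tri ≫ Φ) ?_ ?_
  · show IsPcMap (m - 1 + 1) (DerivedCategory.Q.map ((Sg m).map d.π) ≫ u₂)
    rw [show m - 1 + 1 = m by omega]
    exact (isPcMap_QS d.π m).comp hu₂
  · show IsPcMap (m - 1) (DerivedCategory.Q.map (𝟙 P) ≫ 𝟙 _)
    rw [Category.comp_id, CategoryTheory.Functor.map_id]
    exact isPcMap_of_isIso _ _

/-- Derived maps out of the cone extending chain maps are chain maps after a cover. -/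
theorem exists_ext (hX : PerfAux.HasResolutionProperty X) {E : X.Modules} (hE : FlatMod.IsFinLocFree E)
    {m : ℤ} {P F : CochainComplex X.Modules ℤ} (p : (Sg m).obj E ⟶ P) (hF : ∀ i, Coh.IsQCoh (F.X i))
    (θ : P ⟶ F) (χ : DerivedCategory.Q.obj (mappingCone p) ⟶ DerivedCategory.Q.obj F)
    (hχ : DerivedCategory.Q.map (mappingCone.inr p) ≫ χ = DerivedCategory.Q.map θ) :
    ∃ (d : Cover p) (θ' : mappingCone d.p' ⟶ F),
      DerivedCategory.Q.map θ' = DerivedCategory.Q.map d.μ ≫ χ := by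
  let q := HomotopyCategory.quotient X.Modules (ComplexShape.up ℤ)
  have h0 : DerivedCategory.Q.map (p ≫ θ) = 0 := by
    rw [Functor.map_comp, ← hχ, ← Category.assoc]
    exact (congrArg (· ≫ χ) (comp_distTriang_mor_zero₁₂ _
      (DerivedCategory.mappingCone_triangle_distinguished p))).trans zero_comp
  obtain ⟨E₁, π₁, hE₁, hπ₁, hnull⟩ := exists_null hX hE m F hF (p ≫ θ) h0
  let d₁ : Cover p := ⟨E₁, π₁, hE₁, hπ₁, (Sg m).map π₁ ≫ p, rfl⟩
  let p₁ := d₁.p'
  obtain ⟨θh, hθh⟩ := Triangle.yoneda_exact₂ _ (HomotopyCategory.mappingCone_triangleh_distinguished p₁)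
    (q.map θ) (by
      show q.map p₁ ≫ q.map θ = 0
      rw [← Functor.map_comp]
      exact (congrArg q.map (Category.assoc _ _ _)).trans hnull)
  obtain ⟨θ₁, rfl⟩ : ∃ θ₁ : mappingCone p₁ ⟶ F, q.map θ₁ = θh := q.map_surjective θh
  have hθ₁ : DerivedCategory.Q.map (mappingCone.inr p₁) ≫ DerivedCategory.Q.map θ₁ = DerivedCategory.Q.map θ := by
    rw [← Functor.map_comp]
    exact congrArg DerivedCategory.Qh.map ((q.map_comp _ _).trans hθh.symm)
  let δ₁ : mappingCone p₁ ⟶ ((Sg m).obj E₁)⟦(1 : ℤ)⟧ := (mappingCone.triangle p₁).mor₃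
  let Qμ : DerivedCategory.Q.obj (mappingCone p₁) ⟶ DerivedCategory.Q.obj (mappingCone p) := DerivedCategory.Q.map d₁.μ
  let s := (CochainComplex.singleFunctors X.Modules).shiftIso 1 (m - 1) m (by omega)
  obtain ⟨ψ, hψ⟩ : ∃ ψ : DerivedCategory.Q.obj (((Sg m).obj E₁)⟦(1 : ℤ)⟧) ⟶ DerivedCategory.Q.obj F,
      Qμ ≫ χ - DerivedCategory.Q.map θ₁ = DerivedCategory.Q.map δ₁ ≫ ψ := by
    obtain ⟨ψ₀, hψ₀⟩ := Triangle.yoneda_exact₃ _ (DerivedCategory.mappingCone_triangle_distinguished p₁)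
      (Qμ ≫ χ - DerivedCategory.Q.map θ₁) (by
      show DerivedCategory.Q.map (mappingCone.inr p₁) ≫ _ = 0
      rw [Preadditive.comp_sub, sub_eq_zero, hθ₁, ← Category.assoc, ← Functor.map_comp,
        show mappingCone.inr p₁ ≫ d₁.μ = _ from d₁.inr_μ, hχ])
    exact ⟨(DerivedCategory.Q.commShiftIso (1 : ℤ)).hom.app _ ≫ ψ₀,
      hψ₀.trans (Category.assoc _ _ _)⟩
  obtain ⟨E₂, π₂, g, hE₂, hπ₂, hg⟩ := exists_real hX hE₁ (m - 1) F hF
    (DerivedCategory.Q.map (s.inv.app E₁) ≫ ψ)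
  let d₂ : Cover p₁ := ⟨E₂, π₂, hE₂, hπ₂, (Sg m).map π₂ ≫ p₁, rfl⟩
  let δ₂ : mappingCone d₂.p' ⟶ ((Sg m).obj E₂)⟦(1 : ℤ)⟧ := (mappingCone.triangle d₂.p').mor₃
  let μ₂ : mappingCone d₂.p' ⟶ mappingCone p₁ := d₂.μ
  refine ⟨d₁.trans d₂, μ₂ ≫ θ₁ + δ₂ ≫ s.hom.app E₂ ≫ g, ?_⟩
  have h1 : DerivedCategory.Q.map μ₂ ≫ (Qμ ≫ χ - DerivedCategory.Q.map θ₁) =
      DerivedCategory.Q.map (δ₂ ≫ s.hom.app E₂ ≫ g) := by
    rw [hψ, ← Category.assoc, ← Functor.map_comp, show μ₂ ≫ δ₁ = δ₂ ≫ ((Sg m).map π₂)⟦(1 : ℤ)⟧' from d₂.mor₃_μ]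
    simp only [Functor.map_comp, Category.assoc]
    refine congrArg (DerivedCategory.Q.map δ₂ ≫ ·) ?_
    rw [← hg]
    show DerivedCategory.Q.map (((Sg m).map π₂)⟦(1 : ℤ)⟧') ≫ ψ =
      DerivedCategory.Q.map (s.hom.app E₂) ≫ DerivedCategory.Q.map ((Sg (m - 1)).map π₂) ≫
        DerivedCategory.Q.map (s.inv.app E₁) ≫ ψ
    rw [← Category.assoc, ← Category.assoc, ← Functor.map_comp, ← Functor.map_comp]
    have hn := s.hom.naturality π₂
    rw [← hn, Category.assoc, Iso.hom_inv_id_app, Category.comp_id]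
    rfl
  rw [Cover.trans_μ, Functor.map_add, ← h1, Preadditive.comp_sub, Functor.map_comp]
  rw [add_sub_cancel]
  exact ((congrArg (· ≫ χ) (DerivedCategory.Q.map_comp d₂.μ d₁.μ)).trans (Category.assoc _ _ _)).symm

omit [CompactSpace X] [QuasiSeparatedSpace X] in
lemma isStrictlyPerfect_zero : DCoh.IsStrictlyPerfect (0 : CochainComplex X.Modules ℤ) :=
  ⟨⟨0, 0, fun i _ => (HomologicalComplex.eval X.Modules (ComplexShape.up ℤ) i).map_isZero (isZero_zero _)⟩,
    fun i => isFinLocFree_of_isZero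
      ((HomologicalComplex.eval X.Modules (ComplexShape.up ℤ) i).map_isZero (isZero_zero _))⟩

omit [CompactSpace X] [QuasiSeparatedSpace X] in
lemma isPcMap_zero {K : DCoh.D X} {b : ℤ} (hK : ∀ i, b < i → IsZero (DCoh.HD K i)) :
    IsPcMap (b + 1) (0 : DerivedCategory.Q.obj (0 : CochainComplex X.Modules ℤ) ⟶ K) := by
  have hz : ∀ i, IsZero ((DerivedCategory.homologyFunctor X.Modules i).obj
      (DerivedCategory.Q.obj (0 : CochainComplex X.Modules ℤ))) := fun i =>
    (DerivedCategory.homologyFunctor X.Modules i).map_isZero (DerivedCategory.Q.map_isZero (isZero_zero _))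
  exact ⟨fun i hi => ⟨0, (hz i).eq_of_src _ _, (hK i (by omega)).eq_of_src _ _⟩,
    (hK (b + 1) (by omega)).epi _⟩

/-- Approximations by strictly perfect complexes. -/
theorem exists_approx (hX : PerfAux.HasResolutionProperty X) {K : DCoh.D X} (hK : DCoh.IsQCohD K) {b : ℤ}
    (hb : ∀ i, b < i → IsZero (DCoh.HD K i)) (hpc : ∀ m, LocPC m K) (n : ℕ) :
    ∃ (P : CochainComplex X.Modules ℤ) (φ : DerivedCategory.Q.obj P ⟶ K),
      DCoh.IsStrictlyPerfect P ∧ IsPcMap (b + 1 - n) φ := by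
  induction n with
  | zero => exact ⟨0, 0, isStrictlyPerfect_zero, by simpa using isPcMap_zero hb⟩
  | succ n ih =>
    obtain ⟨P, φ, hP, hφ⟩ := ih
    obtain ⟨E, hE, p, c, -, hc⟩ := exists_step hX hK (hpc _) P hP φ hφ
    let d : Cover p := ⟨E, 𝟙 E, hE, inferInstance, p, by rw [CategoryTheory.Functor.map_id, Category.id_comp]⟩
    refine ⟨mappingCone p, DerivedCategory.Q.map d.μ ≫ c,
      isStrictlyPerfect_cone p (isStrictlyPerfect_sg hE _) hP, ?_⟩
    rw [show b + 1 - ((n + 1 : ℕ) : ℤ) = b + 1 - n - 1 by push_cast; omega]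
    exact hc d

/-- Roof approximations by strictly perfect complexes. -/
theorem exists_approx_roof (hX : PerfAux.HasResolutionProperty X) {G F : CochainComplex X.Modules ℤ}
    (hG : DCoh.IsStrictlyPerfect G) (hF : ∀ i, Coh.IsQCoh (F.X i)) {b : ℤ}
    (hb : ∀ i, b < i → IsZero (G.X i)) (φ₀ : DerivedCategory.Q.obj G ⟶ DerivedCategory.Q.obj F) (n : ℕ) :
    ∃ (P : CochainComplex X.Modules ℤ) (γ : P ⟶ G) (h : P ⟶ F), DCoh.IsStrictlyPerfect P ∧
      IsPcMap (b + 1 - n) (DerivedCategory.Q.map γ) ∧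
      DerivedCategory.Q.map γ ≫ φ₀ = DerivedCategory.Q.map h := by
  have hGq := isQCohD_toD (isQCoh_terms hG)
  have hGpc : ∀ m, LocPC m (DerivedCategory.Q.obj G) := fun m => LocSP.locPC (fun x =>
    ⟨_, 𝟙 X, inferInstance, ⟨x, rfl⟩, _, isStrictlyPerfect_restrict (𝟙 X) hG, ⟨((rhoQ (𝟙 X)).app G).symm⟩⟩) m
  induction n with
  | zero =>
    refine ⟨0, 0, 0, isStrictlyPerfect_zero, ?_, by rw [Functor.map_zero, Functor.map_zero, zero_comp]⟩
    rw [Functor.map_zero]
    simpa using isPcMap_zero (K := DerivedCategory.Q.obj G) (fun i hi =>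
      (ShortComplex.isZero_homology_of_isZero_X₂ _ (hb i hi)).of_iso
        ((DerivedCategory.homologyFunctorFactors X.Modules i).app G))
  | succ n ih =>
    obtain ⟨P, γ, h, hP, hγ, hγh⟩ := ih
    obtain ⟨E, hE, p, c, hc, hpc⟩ := exists_step hX hGq (hGpc _) P hP _ hγ
    obtain ⟨d₁, γ₁, hγ₁⟩ := exists_ext hX hE p (isQCoh_terms hG) γ c hc
    obtain ⟨d₂, h₂, hh₂⟩ := exists_ext hX d₁.flf d₁.p' hF h (DerivedCategory.Q.map d₁.μ ≫ c ≫ φ₀) (by
      rw [← Category.assoc, ← Functor.map_comp, d₁.inr_μ, ← Category.assoc, hc, hγh])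
    refine ⟨mappingCone d₂.p', d₂.μ ≫ γ₁, h₂, isStrictlyPerfect_cone _ (isStrictlyPerfect_sg d₂.flf _) hP, ?_, ?_⟩
    · rw [show b + 1 - ((n + 1 : ℕ) : ℤ) = b + 1 - n - 1 by push_cast; omega, Functor.map_comp, hγ₁,
        ← Category.assoc, ← Functor.map_comp, ← Cover.trans_μ]
      exact hpc (d₁.trans d₂)
    · rw [hh₂, Functor.map_comp, hγ₁]
      simp only [Category.assoc]

/-- Roofs of strictly perfect complexes. -/
theorem exists_roof (hX : PerfAux.HasResolutionProperty X) {G F : CochainComplex X.Modules ℤ}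
    (hG : DCoh.IsStrictlyPerfect G) (hF : ∀ i, Coh.IsQCoh (F.X i)) (hFb : ∃ a, ∀ i, i < a → IsZero (F.X i))
    (φ₀ : DerivedCategory.Q.obj G ⟶ DerivedCategory.Q.obj F) :
    ∃ (G' : CochainComplex X.Modules ℤ) (γ : G' ⟶ G) (h : G' ⟶ F), DCoh.IsStrictlyPerfect G' ∧ QuasiIso γ ∧
      DerivedCategory.Q.map γ ≫ φ₀ = DerivedCategory.Q.map h := by
  obtain ⟨a₁, b, hG'⟩ := hG.1
  obtain ⟨a₂, hF'⟩ := hFb
  let a := min (min a₁ a₂) b
  obtain ⟨P, γ, h, hP, hγ, hγh⟩ := exists_approx_roof hX hG hF (fun i hi => hG' i (Or.inr hi))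
    φ₀ (b + 2 - a).toNat
  rw [show b + 1 - ((b + 2 - a).toNat : ℤ) = a - 1 by omega] at hγ
  haveI hGs : G.IsStrictlyGE a := (CochainComplex.isStrictlyGE_iff _ _).2 fun i hi => hG' i (Or.inl (by omega))
  haveI hFs : F.IsStrictlyGE a := (CochainComplex.isStrictlyGE_iff _ _).2 fun i hi => hF' i (by omega)
  haveI hq : QuasiIso (CochainComplex.truncGEMap γ a) :=
    (CochainComplex.quasiIso_truncGEMap_iff γ a).2 fun i hi =>
      (quasiIsoAt_iff_isIso_homologyMap γ i).2
        ((NatIso.isIso_map_iff (DerivedCategory.homologyFunctorFactors X.Modules i) γ).1 (hγ.1 i (by omega)))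
  let γ' := CochainComplex.truncGEMap γ a ≫ inv (G.πTruncGE a)
  let h' := CochainComplex.truncGEMap h a ≫ inv (F.πTruncGE a)
  have e1 : P.πTruncGE a ≫ γ' = γ := by
    rw [← Category.assoc, IsIso.comp_inv_eq]; exact CochainComplex.πTruncGE_naturality γ a
  have e2 : P.πTruncGE a ≫ h' = h := by
    rw [← Category.assoc, IsIso.comp_inv_eq]; exact CochainComplex.πTruncGE_naturality h a
  haveI hγ' : QuasiIso γ' := quasiIso_comp _ _
  haveI : IsIso (DerivedCategory.Q.map γ') := isIso_Q_map _ hγ'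
  have hπ : IsPcMap (a - 1) (DerivedCategory.Q.map (P.πTruncGE a)) := by
    have h1 : DerivedCategory.Q.map (P.πTruncGE a) =
        DerivedCategory.Q.map γ ≫ inv (DerivedCategory.Q.map γ') := by
      rw [IsIso.eq_comp_inv, ← Functor.map_comp, e1]
    rw [h1]
    exact hγ.comp (isPcMap_of_isIso _ _)
  refine ⟨P.truncGE a, γ', h', ⟨?_, ?_⟩, hγ', ?_⟩
  · obtain ⟨c₁, c₂, hc⟩ := hP.1
    refine ⟨a, max a c₂, ?_⟩
    rintro i (hi | hi)
    · exact (P.truncGE a).isZero_of_isStrictlyGE a i hi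
    · exact (hc i (Or.inr (by omega))).of_iso (P.truncGEXIso a i (by omega))
  · obtain ⟨c₁, c₂, hc⟩ := hP.1
    have hz' : DCoh.VanishesOutside (P.truncGE a) a (max a c₂) := by
      rintro i (hi | hi)
      · exact (P.truncGE a).isZero_of_isStrictlyGE a i hi
      · exact (hc i (Or.inr (by omega))).of_iso (P.truncGEXIso a i (by omega))
    have hflat' : ∀ i, a < i → FlatMod.IsFlat ((P.truncGE a).X i) := fun i hi =>
      IsFlat.of_iso (P.truncGEXIso a i hi).symm (isFlat_of_isFinLocFree (hP.2 i))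
    have hbot : FlatMod.IsFlat ((P.truncGE a).X a) := isFlat_lowest hz' hflat' @fun M _ =>
      (torAmplitude_of_flatAmplitude ⟨G, (fun i hi => hG' i (hi.imp (fun h => by omega) id) :
        DCoh.VanishesOutside G a b), fun i => isFlat_of_isFinLocFree (hG.2 i),
        ⟨(asIso (DerivedCategory.Q.map γ')).symm⟩⟩ M (a - 1) (Or.inl (by omega)))
    let ec₀ := IsColimit.coconePointUniqueUpToIso (cokernelIsCokernel (P.d (a - 1) a))
      (P.opcyclesIsCokernel (a - 1) a (by simp))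
    let ec : cokernel (P.d (a - 1) a) ≅ (P.truncGE a).X a := ec₀ ≪≫ (P.truncGEXIsoOpcycles a).symm
    intro i
    rcases lt_trichotomy i a with hi | hi | hi
    · exact isFinLocFree_of_isZero ((P.truncGE a).isZero_of_isStrictlyGE a i hi)
    · subst hi
      exact H23.PullPush.isFinLocFree_of_iso ec
        (isFinLocFree_cokernel _ (hP.2 _) (hP.2 _) (IsFlat.of_iso ec.symm hbot))
    · exact H23.PullPush.isFinLocFree_of_iso (P.truncGEXIso a i hi).symm (hP.2 i)
  · have h0 : DerivedCategory.Q.map (P.πTruncGE a) ≫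
        (DerivedCategory.Q.map γ' ≫ φ₀ - DerivedCategory.Q.map h') = 0 := by
      rw [Preadditive.comp_sub, ← Category.assoc, ← Functor.map_comp, ← Functor.map_comp, e1, e2, hγh, sub_self]
    obtain ⟨c, hc⟩ := Triangle.yoneda_exact₂ _
      (DerivedCategory.mappingCone_triangle_distinguished (P.πTruncGE a)) _ h0
    let t : Triangulated.TStructure (DCoh.D X) := DerivedCategory.TStructure.t
    haveI hCle : DerivedCategory.IsLE (DerivedCategory.Q.obj (mappingCone (P.πTruncGE a))) (a - 2) :=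
      (DerivedCategory.isLE_iff _ _).2 fun i hi =>
        ((isPcMap_iff_cone (a - 1) _).1 hπ i (by omega)).of_iso
          ((DerivedCategory.homologyFunctorFactors X.Modules i).app _)
    haveI hFge : DerivedCategory.IsGE (DerivedCategory.Q.obj F) a := inferInstance
    haveI : t.IsLE (DerivedCategory.Q.mapTriangle.obj (mappingCone.triangle (P.πTruncGE a))).obj₃ (a - 2) := ⟨hCle.1⟩
    haveI : t.IsGE (DerivedCategory.Q.obj F) a := ⟨hFge.1⟩
    have hc0 : c = 0 := t.zero c (a - 2) a (by omega)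
    rw [hc0, comp_zero] at hc
    exact sub_eq_zero.1 hc

end Groth.Agent.KExact.SPerfect
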