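import Groth.Agent.KExact.BidualUnit
import Groth.Agent.KFlatLib.Ring.DualizingPair
import Mathlib.Algebra.Homology.DerivedCategory.DerivabilityStructureInjectives

/-!
# The unit of `iHom(J, J)` for a complex with scalar endomorphisms and no higher self-extensions
-/

set_option autoImplicit false
set_option linter.style.haveILetI false
set_option linter.unusedSectionVars false
set_option backward.isDefEq.respectTransparency false
set_option backward.isDefEq.respectTransparency.types false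

universe u

open CategoryTheory CategoryTheory.Limits AlgebraicGeometry MonoidalCategory

attribute [local instance] HasDerivedCategory.standard

namespace Groth.Agent.KExact.SelfHom

open KFlatLib TildeTensor AffineRHom Bidual

/-- Scalar endomorphisms and no self-maps of nonzero degree. -/
structure SelfHom (A : Type u) [CommRing A] (ω : Dual.D A) : Prop where
  toEnd_bijective : Function.Bijective (fun a : A => a • 𝟙 ω)
  ext_self_subsingleton : ∀ i : ℤ, i ≠ 0 → Subsingleton (ω ⟶ ω⟦i⟧)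

/-- `RHom(ω, ω) = A`. -/
theorem SelfHom.nonempty_RHom_iso {A : Type u} [CommRing A] [DTen.HasLTen A] [DTen.HasRHom A] {ω : Dual.D A} (h : SelfHom A ω) :
    Nonempty ((DTen.RHomR A ω).obj ω ≅ DTen.unit A) := by
  let X := (DTen.RHomR A ω).obj ω
  have hz : ∀ n : ℤ, n ≠ 0 → IsZero ((DerivedCategory.homologyFunctor (ModuleCat.{u} A) n).obj X) := fun n hn => by
    obtain ⟨e⟩ := exists_hdRHomLEquiv ω ω n
    haveI : Subsingleton (ω⟦-n⟧ ⟶ ω) :=
      @Equiv.subsingleton _ _ ((shiftEquiv' (Dual.D A) (-n) n (by omega)).toAdjunction.homEquiv ω ω)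
        (h.ext_self_subsingleton n hn)
    exact @ModuleCat.isZero_of_subsingleton _ _ _ e.injective.subsingleton
  haveI : X.IsLE 0 := (DerivedCategory.isLE_iff _ _).2 fun i hi => hz i (by omega)
  haveI : X.IsGE 0 := (DerivedCategory.isGE_iff _ _).2 fun i hi => hz i (by omega)
  obtain ⟨e₁⟩ := H9Misc.nonempty_iso_single_homology 0 X
  obtain ⟨e₂⟩ := exists_hdRHomLEquiv ω ω 0
  let c : A →ₗ[A] (ω ⟶ ω) :=
    { toFun := fun a => a • 𝟙 ω
      map_add' := fun a b => add_smul a b _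
      map_smul' := fun a b => mul_smul a b _ }
  let s : (ω⟦-(0 : ℤ)⟧ ⟶ ω) ≃ₗ[A] (ω ⟶ ω) :=
    Linear.homCongr A (eqToIso (by rw [neg_zero]) ≪≫ (shiftFunctorZero (Dual.D A) ℤ).app ω) (Iso.refl ω)
  let e₃ : Dual.HD A X 0 ≃ₗ[A] A :=
    e₂.trans (s.trans (LinearEquiv.ofBijective c h.toEnd_bijective).symm)
  exact ⟨e₁ ≪≫ (DerivedCategory.singleFunctor (ModuleCat.{u} A) 0).mapIso e₃.toModuleIso ≪≫
    (DerivedCategory.singleFunctorIsoCompQ (ModuleCat.{u} A) 0).app (ModuleCat.of A A)⟩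

/-- A scalar which is a split monomorphism is a unit. -/
theorem SelfHom.isUnit {R : Type u} [CommRing R] {ω : Dual.D R} (hω : SelfHom R ω) (a : R)
    [IsSplitMono (a • 𝟙 ω)] : IsUnit a := by
  obtain ⟨b, hb⟩ := hω.toEnd_bijective.2 (retraction (a • 𝟙 ω))
  have h : (a • 𝟙 ω) ≫ retraction (a • 𝟙 ω) = 𝟙 ω := IsSplitMono.id _
  simp only at hb
  rw [← hb, Linear.smul_comp, Category.id_comp, smul_smul] at h
  exact .of_mul_eq_one b (hω.toEnd_bijective.1 (h.trans (one_smul R (𝟙 ω)).symm))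

variable {R : CommRingCat.{u}} [PreservesFiniteLimits (tilde.functor R)]

/-- `RSheafHom(K^~, L^~) = RHom(K, L)^~`. -/
theorem nonempty_RSheafHom_tilde_iso' [IsNoetherianRing R] (K : DRing.Cx R)
    (hK : ∀ i : ℤ, Module.Finite R (Dual.HD R (DRing.toD K) i)) [DRing.HasRHomCx K]
    (L : Dual.D R) (a N : ℤ) [L.IsGE a] [(DRing.toD K).IsLE N] (E : CochainComplex (Spec R).Modules ℤ)
    (eE : DCoh.toD (Spec R) E ≅ (DCoh.tildeD R).obj (DRing.toD K))
    [DCoh.HasLTensorCx E] [DCoh.HasRSheafHom E] :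
    Nonempty ((DCoh.RSheafHom E).obj ((DCoh.tildeD R).obj L) ≅
      (DCoh.tildeD R).obj ((DRing.RHomCx K).obj L)) := by
  haveI : IsNoetherian (Spec R) := inferInstance
  haveI : (tilde.functor R).Additive := tilde_additive _
  let t := (tilde.functor R).mapHomologicalComplex (ComplexShape.up ℤ)
  obtain ⟨L₀, hL₀, ⟨eL₀⟩⟩ := DerivedCategory.exists_iso_Q_obj_of_isGE L a
  obtain ⟨Mi, hMi, ι₀, hι₀⟩ := CochainComplex.Plus.exists_quasiIso_injective (⟨L₀, ⟨a, hL₀⟩⟩ : CochainComplex.Plus (ModuleCat.{u} R)) a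
  let J : DRing.Cx R := ((InjectiveObject.ι (ModuleCat.{u} R)).mapHomologicalComplex (ComplexShape.up ℤ)).obj Mi.obj
  have hinj : ∀ n, Module.Injective R (J.X n) := fun n =>
    haveI : Injective (J.X n) := (Mi.obj.X n).2
    (Module.injective_iff_injective_object R (J.X n)).2 inferInstance
  haveI : IsIso (DerivedCategory.Q.map ι₀.hom) :=
    (DerivedCategory.isIso_Q_map_iff_quasiIso _ _).2 hι₀
  let eJ : DerivedCategory.Q.obj J ≅ L := (eL₀ ≪≫ asIso (DerivedCategory.Q.map ι₀.hom)).symm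
  haveI := hMi
  let I : CochainComplex (Spec R).Modules ℤ := t.obj J
  haveI : ∀ n, Injective (I.X n) := fun n =>
    H9Misc.TildeInjective.injective_tilde (J.X n) (hinj n)
  haveI : I.IsStrictlyGE a := (CochainComplex.isStrictlyGE_iff _ a).2 fun n hn =>
    (tilde.functor R).map_isZero ((InjectiveObject.ι (ModuleCat.{u} R)).map_isZero (Mi.obj.isZero_of_isStrictlyGE a n hn))
  haveI : I.IsKInjective := CochainComplex.isKInjective_of_injective I a
  haveI : ∀ n, Injective ((gammaCx.obj I).X n) := fun n =>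
    Injective.injective_of_adjoint (tilde.adjunction (R := R)) (I.X n)
  let eI : (DCoh.tildeD R).obj L ≅ DerivedCategory.Q.obj I :=
    (DCoh.tildeD R).mapIso eJ.symm ≪≫ tildeQ J
  let P := (ringCover R).P.obj K
  let π : P ⟶ K := (ringCover R).ψ.app K
  haveI : QuasiIso π := (ringCover R).quasiIso_ψ K
  haveI : IsIso (DerivedCategory.Q.map π) :=
    (DerivedCategory.isIso_Q_map_iff_quasiIso _ _).2 inferInstance
  have hP : DCoh.IsKFlat (t.obj P) := isKFlat_tilde P (kFlat_ringRes K)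
  let eP : DerivedCategory.Q.obj (t.obj P) ≅ DerivedCategory.Q.obj E :=
    (tildeQ P).symm ≪≫ (DCoh.tildeD R).mapIso (asIso (DerivedCategory.Q.map π)) ≪≫ eE.symm
  have hcoh : DCoh.IsCohD (DCoh.toD (Spec R) E) := isCohD_of_iso eE.symm fun i =>
    isCoh_of_iso ((mapDCHomologyIso (tilde.functor R) i).app (DRing.toD K)).symm
      ((isCoh_tilde_iff _).2 (hK i))
  have hI : DCoh.IsQCohD (DerivedCategory.Q.obj I) := isQCohD_of_iso eI (isQCohD_tildeD R L)
  let A := (iHom (t.obj P)).obj I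
  obtain ⟨e₁⟩ := nonempty_RSheafHom_iso E I
  obtain ⟨e₂⟩ := nonempty_iHom_iso_of_iso eP I
  haveI : A.IsKInjective := isKInjective_iHom hP I
  have hA : DCoh.IsQCohD (DerivedCategory.Q.obj A) := by
    refine isQCohD_of_iso (e₁ ≪≫ e₂.symm) fun i => ?_
    haveI : (DerivedCategory.Q.obj I).IsGE a := inferInstance
    have hN : ∀ k, N < k → IsZero (DCoh.HD (DCoh.toD (Spec R) E) k) := fun k hk =>
      ((tilde.functor R).map_isZero (DerivedCategory.isZero_of_isLE (DRing.toD K) N k hk)).of_iso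
        ((DerivedCategory.homologyFunctor _ k).mapIso eE ≪≫ (mapDCHomologyIso (tilde.functor R) k).app _)
    exact isQCoh_HD_RSheafHom E (DerivedCategory.Q.obj I) hI a i
      ((isPseudoCoherentD_iff _ _).2 (locPC_of_coh (isCohD_isQCohD hcoh) (fun k _ => hcoh k) N hN))
  haveI := isIso_counitQ A hA
  obtain ⟨eΓ⟩ := nonempty_iso_of_tildeD (M := DerivedCategory.Q.obj (gammaCx.obj I)) (N := L)
    ((@asIso _ _ _ _ (counitQ I) (isIso_counitQ I hI)) ≪≫ eI.symm)
  haveI := isKInjective_gamma I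
  haveI := H9Misc.DRingHomCx.quasiIso_homCxPre_of_isKInjective π (gammaCx.obj I)
  haveI : IsIso (DerivedCategory.Q.map (H9Misc.DRingHomCx.homCxPre π (gammaCx.obj I))) :=
    (DerivedCategory.isIso_Q_map_iff_quasiIso _ _).2 inferInstance
  let r : (DRing.RHomCx K).obj L ≅ DerivedCategory.Q.obj (gammaCx.obj A) :=
    (DRing.RHomCx K).mapIso eΓ.symm ≪≫ (H9Misc.DRingHomCx.isoOfKInjective K (gammaCx.obj I)).symm ≪≫
      asIso (DerivedCategory.Q.map (H9Misc.DRingHomCx.homCxPre π (gammaCx.obj I))) ≪≫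
      DerivedCategory.Q.mapIso ((gammaIHomIso P).app I).symm
  exact ⟨(DCoh.RSheafHom E).mapIso eI ≪≫ e₁ ≪≫ e₂.symm ≪≫ (asIso (counitQ A)).symm ≪≫
    (DCoh.tildeD R).mapIso r.symm⟩

variable [IsNoetherianRing R]

set_option maxHeartbeats 1000000 in
/-- The unit of `iHom(J, J)` is a quasi-isomorphism if it becomes a split monomorphism after
tensoring with `J`. -/
theorem quasiIso_unit' {ω : Dual.D R} (hfinω : ∀ i, Module.Finite R (Dual.HD R ω i)) (a b : ℤ) [ω.IsGE a]
    [ω.IsLE b] (hω : SelfHom R ω)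
    (J : CochainComplex (Spec R).Modules ℤ) [J.IsKInjective] [∀ n, Injective (J.X n)]
    (eJ : DerivedCategory.Q.obj J ≅ (DCoh.tildeD R).obj ω)
    {H : CochainComplex (Spec R).Modules ℤ}
    (t : (HomologicalComplex.single (Spec R).Modules (ComplexShape.up ℤ) 0).obj
      (Coh.structureModule (Spec R)) ⟶ H)
    (eH : DerivedCategory.Q.obj H ≅ DerivedCategory.Q.obj ((iHom J).obj J))
    (hsplit : IsSplitMono ((Inner.tenX DCoh.tensorBi J).map t)) : QuasiIso t := by
  haveI := hasLTen (R : Type u)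
  haveI := hasRHom (A := (R : Type u))
  haveI : (tilde.functor R).Additive := tilde_additive _
  let T : CochainComplex (ModuleCat.{u} R) ℤ ⥤ CochainComplex (Spec R).Modules ℤ :=
    (tilde.functor R).mapHomologicalComplex (ComplexShape.up ℤ)
  let R₀ := (HomologicalComplex.single (ModuleCat.{u} R) (ComplexShape.up ℤ) 0).obj (ModuleCat.of R R)
  let P₀ := DerivedCategory.Q.objPreimage ω
  let P' := (ringCover R).P.obj P₀
  haveI := (ringCover R).quasiIso_ψ P₀
  haveI : IsIso (DerivedCategory.Q.map ((ringCover R).ψ.app P₀)) :=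
    (DerivedCategory.isIso_Q_map_iff_quasiIso _ _).2 inferInstance
  let eω : DerivedCategory.Q.obj P' ≅ ω :=
    asIso (DerivedCategory.Q.map ((ringCover R).ψ.app P₀)) ≪≫ DerivedCategory.Q.objObjPreimageIso ω
  let P : CochainComplex (Spec R).Modules ℤ := T.obj P'
  have hP : DCoh.IsKFlat P := isKFlat_tilde P' (kFlat_ringRes P₀)
  let eP : DerivedCategory.Q.obj P ≅ DerivedCategory.Q.obj J :=
    (tildeQ P').symm ≪≫ (DCoh.tildeD R).mapIso eω ≪≫ eJ.symm
  obtain ⟨ψ, hψ⟩ := exists_Q_map eP.hom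
  haveI : QuasiIso ψ :=
    (DerivedCategory.isIso_Q_map_iff_quasiIso _ _).1 (hψ ▸ inferInstance)
  -- `iHom(J, J)` is `A^~`
  haveI := hasLTensorCx P
  haveI := hasRSheafHom_of_isKFlat P hP
  haveI := H9Misc.DRingHomCx.hasRHomCx P'
  have hfin : ∀ i : ℤ, Module.Finite R (Dual.HD R (DRing.toD P') i) := fun i =>
    haveI := hfinω i
    Module.Finite.equiv ((DerivedCategory.homologyFunctor _ i).mapIso eω.symm).toLinearEquiv
  haveI : (DRing.toD P').IsLE b := DerivedCategory.TStructure.t.isLE_of_iso eω.symm b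
  obtain ⟨e₁⟩ := nonempty_RSheafHom_tilde_iso' P' hfin ω a b P (tildeQ P').symm
  obtain ⟨e₂⟩ := nonempty_RHomCx_iso P' ω
  obtain ⟨e₃⟩ := hω.nonempty_RHom_iso
  obtain ⟨e₄⟩ := nonempty_RSheafHom_iso P J
  haveI := quasiIso_iHomMap ψ J
  haveI := isIso_Q_map ((iHomMap ψ).app J) inferInstance
  let s : DerivedCategory.Q.obj H ≅ DerivedCategory.Q.obj (T.obj R₀) :=
    eH ≪≫ asIso (DerivedCategory.Q.map ((iHomMap ψ).app J)) ≪≫ e₄.symm ≪≫
      (DCoh.RSheafHom P).mapIso eJ ≪≫ e₁ ≪≫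
      (DCoh.tildeD R).mapIso (e₂ ≪≫ ((DTen.RHom R).mapIso eω.symm.op).app ω ≪≫ e₃) ≪≫ tildeQ R₀
  -- the map, read on `A[0]^~`
  let O := (HomologicalComplex.single (Spec R).Modules (ComplexShape.up ℤ) 0).obj
    (Coh.structureModule (Spec R))
  let ρ : T.obj R₀ ≅ O :=
    (HomologicalComplex.singleMapHomologicalComplex (tilde.functor R) _ 0).app _ ≪≫
      (HomologicalComplex.single _ _ 0).mapIso tildeSelf
  let ρQ := DerivedCategory.Q.mapIso ρ
  obtain ⟨f, hf⟩ := (tildeD_map_bijective _ _).2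
    ((tildeQ R₀).hom ≫ ρQ.hom ≫ DerivedCategory.Q.map t ≫ s.hom ≫ (tildeQ R₀).inv)
  obtain ⟨r, rfl⟩ := exists_smul_eq f
  have hmid : DerivedCategory.Q.map (T.map (r • 𝟙 R₀)) = ρQ.hom ≫ DerivedCategory.Q.map t ≫ s.hom := by
    have h := tildeQ_naturality (r • 𝟙 R₀)
    rw [hf] at h
    simp only [Category.assoc, Iso.inv_hom_id, Category.comp_id, cancel_epi] at h
    exact h.symm
  -- after tensoring
  let F := Inner.tenX DCoh.tensorBi P
  haveI := fun N => isIso_LTensorCx_counit_of_isKFlat_right P hP N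
  let cP := (DCoh.tensorCxQ P).totalLeftDerivedCounit DerivedCategory.Q (qisX (Spec R))
  have hFt : IsSplitMono (DerivedCategory.Q.map (F.map t)) := by
    obtain ⟨u⟩ := DualConn.nonempty_unitTensorIso (Spec R)
    haveI : QuasiIso ((DCoh.tensorCx.obj O).map ψ) :=
      (quasiIso_iff_of_arrow_mk_iso ψ _ (((Functor.mapArrowFunctor _ _).mapIso u).app (Arrow.mk ψ)).symm).1
        inferInstance
    haveI : IsIso (DerivedCategory.Q.map ((DCoh.tensorCx.obj O).map ψ)) := isIso_Q_map _ inferInstance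
    haveI := hsplit
    haveI h' : IsSplitMono (DerivedCategory.Q.map ((Inner.tenX DCoh.tensorBi J).map t)) := inferInstance
    refine isSplitMono_left _ (DerivedCategory.Q.map ((DCoh.tensorCx.obj H).map ψ)) ?_
    have w : F.map t ≫ (DCoh.tensorCx.obj H).map ψ =
        (DCoh.tensorCx.obj O).map ψ ≫ (Inner.tenX DCoh.tensorBi J).map t :=
      ((DCoh.tensorCx.map t).naturality ψ).symm
    rw [← Functor.map_comp, w, Functor.map_comp]
    exact IsSplitMono.mk' ⟨@retraction _ _ _ _ _ h' ≫ inv (DerivedCategory.Q.map ((DCoh.tensorCx.obj O).map ψ)), by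
      rw [Category.assoc, ← Category.assoc _ (@retraction _ _ _ _ _ h'), @IsSplitMono.id _ _ _ _ _ h']
      exact (congrArg (_ ≫ ·) (Category.id_comp _)).trans (IsIso.hom_inv_id _)⟩
  haveI := NatIso.isIso_of_isIso_app cP
  let α : DerivedCategory.Q ⋙ DCoh.LTensorCx P ≅ DCoh.tensorCxQ P := asIso cP
  have hr : IsSplitMono (DerivedCategory.Q.map (F.map (T.map (r • 𝟙 R₀)))) := by
    haveI : IsSplitMono ((DCoh.LTensorCx P).map (DerivedCategory.Q.map t)) :=
      isSplitMono_natIso α.symm t hFt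
    haveI h : IsSplitMono ((DCoh.LTensorCx P).map (DerivedCategory.Q.map (T.map (r • 𝟙 R₀)))) := by
      rw [hmid, Functor.map_comp, Functor.map_comp]
      infer_instance
    exact isSplitMono_natIso α (T.map (r • 𝟙 R₀)) h
  let Z := (tenCx P').obj R₀
  have hZ : IsSplitMono (r • 𝟙 (DerivedCategory.Q.obj Z)) := by
    have h₁ : IsSplitMono (DerivedCategory.Q.map (T.map ((tenCx P').map (r • 𝟙 R₀)))) :=
      isSplitMono_natIso (Functor.isoWhiskerRight (tildeTenIso P') DerivedCategory.Q) (r • 𝟙 R₀) hr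
    have hm : IsSplitMono ((DCoh.tildeD R).map (DerivedCategory.Q.map ((tenCx P').map (r • 𝟙 R₀)))) :=
      isSplitMono_natIso (tilde.functor R).mapDerivedCategoryFactors.symm _ h₁
    rw [tenCx_map_smul, CategoryTheory.Functor.map_id, Functor.map_smul,
      CategoryTheory.Functor.map_id] at hm
    obtain ⟨z, hz⟩ := (tildeD_map_bijective _ _).2 (@retraction _ _ _ _ _ hm)
    refine IsSplitMono.mk' ⟨z, (tildeD_map_bijective _ _).1 ?_⟩
    rw [Functor.map_comp, hz, @IsSplitMono.id _ _ _ _ _ hm, CategoryTheory.Functor.map_id]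
  obtain ⟨eZ⟩ : Nonempty (DerivedCategory.Q.obj Z ≅ ω) := by
    obtain ⟨u⟩ := DualConn.nonempty_unitTensorIso (Spec R)
    refine nonempty_iso_of_tildeD ?_
    let i₁ : T.obj Z ≅ F.obj (T.obj R₀) := ((tildeTenIso P').app R₀).symm
    let i₂ : F.obj O ≅ P := u.app P
    exact tildeQ Z ≪≫ DerivedCategory.Q.mapIso (i₁ ≪≫ F.mapIso ρ ≪≫ i₂) ≪≫
      (tildeQ P').symm ≪≫ (DCoh.tildeD R).mapIso eω
  haveI : IsSplitMono (r • 𝟙 ω) :=
    @isSplitMono_of_comp_eq _ _ _ _ _ _ eZ eZ _ _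
      (by rw [Linear.smul_comp, Linear.comp_smul, Category.id_comp, Category.comp_id]) hZ
  have hu := hω.isUnit r
  -- conclusion
  haveI : IsIso (r • 𝟙 R₀) := ⟨hu.unit.inv • 𝟙 R₀, by simp [smul_smul], by simp [smul_smul]⟩
  haveI : IsIso (ρQ.hom ≫ DerivedCategory.Q.map t ≫ s.hom) := by rw [← hmid]; infer_instance
  haveI : IsIso (DerivedCategory.Q.map t ≫ s.hom) := IsIso.of_isIso_comp_left ρQ.hom _
  exact (DerivedCategory.isIso_Q_map_iff_quasiIso _ _).1 (IsIso.of_isIso_comp_right _ s.hom)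

end Groth.Agent.KExact.SelfHom
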