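import Groth.Agent.KExact.ShriekHom
import Groth.Agent.KExact.BidualSch
import Groth.Agent.KExact.DualShriek
import Groth.Agent.KExact.PerfectTensorShriek
import Groth.Agent.KFlatLib.Scheme.RightAdjBound
import Groth.Agent.KFlatLib.Scheme.RpushFF
import Groth.Agent.KExact.A1Shriek
import Groth.Agent.S1823
import Groth.Agent.S0910

/-!
# `f^! M = RHom(Lf^* RHom(M, K), f^! K)`
-/

set_option autoImplicit false
set_option linter.style.haveILetI false
set_option linter.unusedSectionVars false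
set_option backward.isDefEq.respectTransparency false
set_option backward.isDefEq.respectTransparency.types false
set_option maxHeartbeats 1000000

universe u

open CategoryTheory CategoryTheory.Limits AlgebraicGeometry

attribute [local instance] HasDerivedCategory.standard

namespace Groth.Agent.KExact.ShriekBidual

open KFlatLib

variable {X Y : Scheme.{u}}

/-- The dual of a bounded below coherent object is bounded above. -/
theorem exists_isLE_dual [IsNoetherian Y] {K : DCoh.D Y} (hK : Dual2.IsDualizingSch Y K)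
    (L : CochainComplex Y.Modules ℤ) (hL : DCoh.IsCohD (DCoh.toD Y L)) (c : ℤ) [(DCoh.toD Y L).IsGE c]
    [DCoh.HasLTensorCx L] [DCoh.HasRSheafHom L] : ∃ d : ℤ, ((DCoh.RSheafHom L).obj K).IsLE d := by
  classical
  obtain ⟨J, hJ, hinj, ⟨eK⟩⟩ := exists_kInjective_rep K
  haveI := hJ
  haveI := hinj
  obtain ⟨eL⟩ := nonempty_RSheafHom_iso L J
  let eLK : (DCoh.RSheafHom L).obj K ≅ DerivedCategory.Q.obj ((iHom L).obj J) :=
    (DCoh.RSheafHom L).mapIso eK ≪≫ eL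
  have h : ∀ x : Y, ∃ (R : CommRingCat.{u}) (j : Spec R ⟶ Y) (_ : IsOpenImmersion j) (d : ℤ),
      x ∈ j.opensRange ∧ ∀ i, d < i →
        IsZero ((DCoh.HD ((DCoh.RSheafHom L).obj K) i).restrict j) := fun x => by
    obtain ⟨R, j, hj, hx⟩ := Bidual.exists_chart x
    haveI := hj
    obtain ⟨ω, hω, ⟨eJ⟩⟩ := Bidual.exists_local_dualizing hK eK j
    haveI := hω.isNoetherianRing
    obtain ⟨a, b, I, hI, hge, hle, ⟨eI⟩⟩ := Bidual.exists_boundedOn hK eK j
    haveI := hI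
    haveI := hge
    haveI := hle
    let J' : CochainComplex (Spec R).Modules ℤ := (rCx j).obj J
    let L' : CochainComplex (Spec R).Modules ℤ := (rCx j).obj L
    haveI : J'.IsKInjective := isKInjective_rCx j J
    haveI : ∀ n, Injective (J'.X n) := injective_rCx j J
    let P := (kRes (Spec R)).obj L'
    haveI := hasLTensorCx P
    haveI := hasRSheafHom_of_isKFlat P (isKFlat_kRes L')
    let eP : DCoh.toD (Spec R) P ≅ DerivedCategory.Q.obj L' := (resQIso (Spec R)).app L'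
    have hP : DCoh.IsCohD (DCoh.toD (Spec R) P) := fun k =>
      isCoh_of_iso ((DerivedCategory.homologyFunctor _ k).mapIso (eP ≪≫ ((rhoQ j).app L).symm) ≪≫
        restrictHDIso j _ k).symm (isCoh_restrict j (hL k))
    haveI : (DCoh.toD (Spec R) P).IsGE c := (DerivedCategory.isGE_iff _ _).2 fun k hk =>
      ((Scheme.Modules.restrictFunctor j).map_isZero (DerivedCategory.isZero_of_isGE (DCoh.toD Y L) c k hk)).of_iso
        ((DerivedCategory.homologyFunctor _ k).mapIso (eP ≪≫ ((rhoQ j).app L).symm) ≪≫ restrictHDIso j _ k)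
    haveI : (tilde.functor R).Additive := tilde_additive _
    have hK' : DCoh.IsCohD (DerivedCategory.Q.obj J') := fun k =>
      isCoh_of_iso ((DerivedCategory.homologyFunctor _ k).mapIso eJ ≪≫
        (mapDCHomologyIso (tilde.functor R) k).app ω).symm ((isCoh_tilde_iff _).2 (hω.finite_cohomology k))
    have hz := (rhom_coherent_bounded I hI a b _ eI.symm hK' P hP).2.1 c inferInstance
    obtain ⟨e₁⟩ := nonempty_rho_iHom j L J
    obtain ⟨e₂⟩ := nonempty_iHom_iso_of_iso eP J'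
    obtain ⟨e₃⟩ := nonempty_RSheafHom_iso P J'
    exact ⟨R, j, hj, b - c, hx, fun i hi => (hz i hi).of_iso ((restrictHDIso j _ i).symm ≪≫
      (DerivedCategory.homologyFunctor _ i).mapIso ((rho j).mapIso eLK ≪≫ e₁ ≪≫ e₂.symm ≪≫ e₃.symm))⟩
  choose R j hj d hx hd using h
  obtain ⟨t, ht⟩ := isCompact_univ.elim_finite_subcover (fun x => ((j x).opensRange : Set Y))
    (fun x => (j x).opensRange.2) (fun x _ => Set.mem_iUnion.2 ⟨x, hx x⟩)
  obtain ⟨n, hn⟩ := Finset.exists_le (t.image d)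
  refine ⟨n, (DerivedCategory.isLE_iff _ _).2 fun k hk => ExtCodim.isZero_of_restrict _ fun y => ?_⟩
  obtain ⟨x, hxt, hyx⟩ := Set.mem_iUnion₂.1 (ht (Set.mem_univ y))
  exact ⟨_, j x, hj x, hyx, hd x k (lt_of_le_of_lt (hn _ (Finset.mem_image_of_mem d hxt)) hk)⟩

/-- `f^! M = RHom(Lf^* RHom(M, K), f^! K)`. -/
theorem nonempty_shriek_bidual [IsNoetherian Y] {Xb : Scheme.{u}} [CompactSpace Xb] [QuasiSeparatedSpace Xb]
    (j : X ⟶ Xb) [IsOpenImmersion j] (fb : Xb ⟶ Y) [DCoh.HasRpush fb] (hf : DCoh.RpushPreservesQCoh fb)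
    (a : DCoh.DQCoh Y ⥤ DCoh.DQCoh Xb) (adj : DCoh.RpushQ fb hf ⊣ a)
    (f : X ⟶ Y) (hjf : j ≫ fb = f) [DCoh.HasLpull f]
    (K : DCoh.DQCoh Y) (c₀ : ℤ) [K.obj.IsGE c₀] (hKd : Dual2.IsDualizingSch Y K.obj)
    (M : DCoh.DQCoh Y) (c₁ : ℤ) [M.obj.IsGE c₁] (hMc : DCoh.IsCohD M.obj)
    (M' : CochainComplex Y.Modules ℤ) (eM' : DCoh.toD Y M' ≅ M.obj) [DCoh.HasLTensorCx M'] [DCoh.HasRSheafHom M']
    (N' : CochainComplex X.Modules ℤ) (eN' : DCoh.toD X N' ≅ (DCoh.Lpull f).obj ((DCoh.RSheafHom M').obj K.obj))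
    [DCoh.HasLTensorCx N'] [DCoh.HasRSheafHom N'] :
    Nonempty ((rho j).obj (a.obj M).obj ≅ (DCoh.RSheafHom N').obj ((rho j).obj (a.obj K).obj)) := by
  haveI : QuasiCompact fb := quasiCompact_of_compactSpace fb
  haveI : QuasiSeparated fb := QuasiSeparated.of_quasiSeparatedSpace fb
  haveI := hasLpull fb
  haveI := hasLpull j
  haveI : ∀ (U : Scheme.{u}) (j : U ⟶ Y) [IsOpenImmersion j],
      PreservesFiniteLimits (Scheme.Modules.restrictFunctor j) := fun U j _ => inferInstance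
  haveI : ∀ (R : CommRingCat.{u}), PreservesFiniteLimits (tilde.functor R) := fun R => QCoh.tilde_preservesFiniteLimits
  have hL : DCoh.IsCohD (DCoh.toD Y M') := fun k =>
    isCoh_of_iso ((DerivedCategory.homologyFunctor _ k).mapIso eM'.symm) (hMc k)
  haveI : (DCoh.toD Y M').IsGE c₁ := DerivedCategory.TStructure.t.isGE_of_iso eM'.symm c₁
  obtain ⟨hcoh, hbid⟩ := S1823.result Y K.obj hKd M' hL
  obtain ⟨d, hd⟩ := exists_isLE_dual hKd M' hL c₁
  obtain ⟨P, ⟨eP⟩⟩ : ∃ P : CochainComplex Y.Modules ℤ, Nonempty (DCoh.toD Y P ≅ (DCoh.RSheafHom M').obj K.obj) :=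
    ⟨_, ⟨DerivedCategory.Q.objObjPreimageIso _⟩⟩
  haveI := hasLTensorCx P
  haveI := PerfShriek.hasRSheafHom P
  obtain ⟨eB⟩ := hbid P ⟨eP⟩
  have hPc : DCoh.IsCohD ((DCoh.RSheafHom M').obj K.obj) := hcoh
  have hpc : ∀ m : ℤ, DCoh.IsPseudoCoherentD m (DCoh.toD Y P) := fun m =>
    (isPseudoCoherentD_iff _ _).2 ((locPC_of_coh (isCohD_isQCohD hPc) (fun k _ => hPc k) d
      (haveI := hd; fun k hk => DerivedCategory.isZero_of_isLE _ d k hk)).of_iso eP.symm)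
  have hPq : DCoh.IsQCohD (DCoh.toD Y P) := isQCohD_of_iso eP.symm (isCohD_isQCohD hPc)
  have hq : DCoh.IsQCohD ((DCoh.RSheafHom P).obj K.obj) :=
    isQCohD_of_iso (eB ≪≫ eM').symm M.property
  obtain ⟨P', ⟨eP'⟩⟩ : ∃ P' : CochainComplex Xb.Modules ℤ, Nonempty (DCoh.toD Xb P' ≅
      (DCoh.Lpull fb).obj (DCoh.toD Y P)) := ⟨_, ⟨DerivedCategory.Q.objObjPreimageIso _⟩⟩
  haveI := hasLTensorCx P'
  haveI := PerfShriek.hasRSheafHom P'
  obtain ⟨N₀, hN₀⟩ := exists_rightAdjoint_bound fb hf a adj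
  haveI : (a.obj K).obj.IsGE (c₀ - 1 - N₀ + 1) := (DerivedCategory.isGE_iff _ _).2 fun i hi =>
    hN₀ K (c₀ - 1) (fun k hk => DerivedCategory.isZero_of_isGE K.obj c₀ k (by omega)) i (by omega)
  have hq' : DCoh.IsQCohD ((DCoh.RSheafHom P').obj (a.obj K).obj) :=
    isQCohD_RSheafHom_of_pseudoCoherent P' (fun m => by
      have := S0910.result fb m _ (hpc m)
      exact (isPseudoCoherentD_iff _ _).2 (((isPseudoCoherentD_iff _ _).1 this).of_iso eP'.symm))
      _ (a.obj K).property (c₀ - 1 - N₀ + 1)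
  obtain ⟨r⟩ := ShriekHom.nonempty_rightAdjoint_RSheafHom fb hf a adj P hPq K hq P' ⟨eP'⟩ hq'
  let m : M ≅ ⟨(DCoh.RSheafHom P).obj K.obj, hq⟩ := ObjectProperty.isoMk _ (eB ≪≫ eM').symm
  -- restrict to `X`
  obtain ⟨I, hI, hIi, ⟨eI⟩⟩ := exists_kInjective_rep (a.obj K).obj
  obtain ⟨e₀⟩ := nonempty_RSheafHom_iso P' I
  obtain ⟨e₁⟩ := nonempty_rho_iHom j P' I
  obtain ⟨c⟩ := A1Shriek.nonempty_lpull_comp' j fb f hjf
  obtain ⟨ρ⟩ := nonempty_rho_iso_lpull j
  let eN : DerivedCategory.Q.obj ((rCx j).obj P') ≅ DCoh.toD X N' :=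
    ((rhoQ j).app P').symm ≪≫ (rho j).mapIso eP' ≪≫ ρ.app _ ≪≫ c.app _ ≪≫ (DCoh.Lpull f).mapIso eP ≪≫ eN'.symm
  haveI : ((rCx j).obj I).IsKInjective := isKInjective_rCx j I
  haveI : ∀ n, Injective (((rCx j).obj I).X n) := injective_rCx j I
  obtain ⟨e₂⟩ := nonempty_iHom_iso_of_iso eN ((rCx j).obj I)
  obtain ⟨e₃⟩ := nonempty_RSheafHom_iso N' ((rCx j).obj I)
  exact ⟨(rho j).mapIso ((ObjectProperty.ι _).mapIso (a.mapIso m) ≪≫ r ≪≫ (DCoh.RSheafHom P').mapIso eI ≪≫ e₀) ≪≫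
    e₁ ≪≫ e₂ ≪≫ e₃.symm ≪≫ (DCoh.RSheafHom N').mapIso ((rho j).mapIso eI ≪≫ (rhoQ j).app I).symm⟩

end Groth.Agent.KExact.ShriekBidual
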