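import Groth.Agent.KExact.CohShriek
import Groth.Agent.KFlatLib.Scheme.TriNatTrans

/-!
# A formula for the twisted inverse image of towers of simple morphisms
-/

set_option autoImplicit false
set_option linter.style.haveILetI false
set_option linter.unusedSectionVars false
set_option backward.isDefEq.respectTransparency false
set_option backward.isDefEq.respectTransparency.types false

universe u

open CategoryTheory CategoryTheory.Limits AlgebraicGeometry Pretriangulated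

attribute [local instance] HasDerivedCategory.standard

namespace Groth.Agent.KExact.ShriekFormula

open KFlatLib KFlatLib.BCLoc KFlatLib.SecPoint BCNat BCComp A1Shriek

variable {X Y Z : Scheme.{u}}

/-- `Lf^*` commutes with shifts. -/
theorem nonempty_lpull_shift (f : X ⟶ Y) [DCoh.HasLpull f] (d : ℤ) :
    Nonempty (shiftFunctor (DCoh.D Y) d ⋙ DCoh.Lpull f ≅ DCoh.Lpull f ⋙ shiftFunctor (DCoh.D X) d) := by
  haveI := hasRpush_scheme f
  haveI := TriCat.qh_isLeftAdjoint_of_exists_resolution (A := X.Modules) exists_kInjective_res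
  let adjQ := Adjunction.ofIsLeftAdjoint (DerivedCategory.Qh (C := X.Modules))
  let ρ := (DerivedCategory.Qh (C := X.Modules)).rightAdjoint
  let W := HomotopyCategory.quasiIso X.Modules (ComplexShape.up ℤ)
  haveI : (ρ ⋙ DCoh.pushKh f).IsRightDerivedFunctor
      (Functor.whiskerRight adjQ.unit (DCoh.pushKh f)) W :=
    TriCat.isRightDerivedFunctor_of_adjunction adjQ W (DCoh.pushKh f)
  let e : ρ ⋙ DCoh.pushKh f ≅ DCoh.Rpush f :=
    Functor.rightDerivedUnique _ _ (Functor.whiskerRight adjQ.unit (DCoh.pushKh f))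
      ((DCoh.pushKh f).totalRightDerivedUnit DerivedCategory.Qh W) W
  letI := adjQ.rightAdjointCommShift ℤ
  let A : DCoh.Lpull f ⊣ ρ ⋙ DCoh.pushKh f :=
    (nonempty_lpull_rpush_adj f).some.ofNatIsoRight e.symm
  letI := A.leftAdjointCommShift ℤ
  exact ⟨(DCoh.Lpull f).commShiftIso d⟩

/-- The formula `f^! ≅ Lf^*[d]` on bounded below objects. -/
def Fml (f : X ⟶ Y) (d : ℤ) : Prop :=
  ∀ (Xb : Scheme.{u}) (j : X ⟶ Xb) (φ : Xb ⟶ Y) (_ : IsOpenImmersion j) (_ : IsProper φ) (_ : j ≫ φ = f)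
    [DCoh.HasRpush φ] (hφ : DCoh.RpushPreservesQCoh φ) (a : DCoh.DQCoh Y ⥤ DCoh.DQCoh Xb)
    (_ : DCoh.RpushQ φ hφ ⊣ a) [DCoh.HasLpull f],
    Nonempty (Dual3.bddι Y ⋙ a ⋙ ObjectProperty.ι _ ⋙ rho j ≅
      Dual3.bddι Y ⋙ ObjectProperty.ι _ ⋙ DCoh.Lpull f ⋙ shiftFunctor (DCoh.D X) d)

theorem fml_etale (f : X ⟶ Y) [Etale f] [IsSeparated f] [QuasiCompact f] [IsNoetherian Y] : Fml f 0 := by
  intro Xb j φ hj hp hfac _ hφ a adj _
  haveI := hj
  haveI := hp
  haveI : IsNoetherian X := isNoetherian_of_ft f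
  obtain ⟨E⟩ := nonempty_etale f j φ hfac adj
  exact ⟨Functor.isoWhiskerRight E (ObjectProperty.ι _) ≪≫
    Functor.isoWhiskerLeft (Dual3.bddι Y ⋙ ObjectProperty.ι _)
      ((lpullPullIso f).symm ≪≫ (Functor.rightUnitor _).symm ≪≫
        Functor.isoWhiskerLeft (DCoh.Lpull f) (shiftFunctorZero (DCoh.D X) ℤ).symm)⟩

theorem fml_a1 {n : Type u} [Unique n] [IsNoetherian Y] : Fml (𝔸(n; Y) ↘ Y) 1 := by
  intro Xb j φ hj hp hfac _ hφ a adj _
  haveI := hj
  haveI := hp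
  exact A1Shriek.nonempty_iso j φ hfac adj

theorem fml_div [IsNoetherian Y] (I : Y.IdealSheafData) (hI : BlowUp.IsEffCartierIdeal I)
    (hO : Nonempty (ClSub.idealMod I ≅ Coh.structureModule Y)) (hperf : MoreMor.IsPerfectMor I.subschemeι) :
    Fml I.subschemeι (-1) := by
  intro Xb j φ hj hp hfac _ hφ a adj _
  haveI := hj
  haveI := hp
  haveI : IsNoetherian I.subscheme := isNoetherian_of_ft I.subschemeι
  haveI := hasRpush_scheme I.subschemeι
  have hi : DCoh.RpushPreservesQCoh I.subschemeι := fun K hK => isQCohD_rpush _ hK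
  obtain ⟨ai, ⟨adji⟩⟩ := exists_adj I.subschemeι hi
  obtain ⟨D⟩ := CartierShriek.nonempty_shriek_iso I hI hO hperf adji
  obtain ⟨Ind⟩ := nonempty_indep j φ (𝟙 _) I.subschemeι (by rw [hfac, Category.id_comp]) adj adji
  obtain ⟨i1⟩ := nonempty_rQ_id (𝟙 I.subscheme) rfl
  exact ⟨Functor.isoWhiskerRight
    (Ind ≪≫ Functor.isoWhiskerLeft (Dual3.bddι Y ⋙ ai) i1) (ObjectProperty.ι _) ≪≫ D⟩

/-- `p` may be appended at the base of a morphism satisfying the formula. -/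
def Ext (p : Y ⟶ Z) (d : ℤ) : Prop :=
  ∀ (X : Scheme.{u}) (g : X ⟶ Y) (_ : LocallyOfFiniteType g) (d' : ℤ), Fml g d' → Fml (g ≫ p) (d' + d)

set_option maxHeartbeats 800000 in
theorem ext_of_fml [IsNoetherian Y] [IsNoetherian Z] (p : Y ⟶ Z) {P : Scheme.{u}} (k : Y ⟶ P)
    [IsOpenImmersion k] (ψ : P ⟶ Z) [IsProper ψ] (hkψ : k ≫ ψ = p) {d : ℤ} (h : Fml p d) : Ext p d := by
  intro X g hg d' hd' Xb l θ hl hθp hfac _ hθ c adjθ _
  haveI := hl
  haveI := hθp
  haveI := hg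
  haveI : IsNoetherian Xb := isNoetherian_of_ft θ
  haveI : IsNoetherian X := isNoetherian_of_ft l
  haveI : IsNoetherian P := isNoetherian_of_ft ψ
  haveI : IsSeparated p := by rw [← hkψ]; infer_instance
  haveI : LocallyOfFiniteType p := by rw [← hkψ]; infer_instance
  haveI : QuasiCompact p := by rw [← hkψ]; infer_instance
  obtain ⟨Xb', j', φ', hj', -, hφ', hfac'⟩ := S1243.result p g l θ hfac
  haveI := hasRpush_scheme φ'
  haveI := hasRpush_scheme ψ
  have hφ'q : DCoh.RpushPreservesQCoh φ' := fun K hK => isQCohD_rpush φ' hK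
  have hψq : DCoh.RpushPreservesQCoh ψ := fun K hK => isQCohD_rpush ψ hK
  haveI : IsNoetherian Xb' := isNoetherian_of_ft φ'
  obtain ⟨a', ⟨adja⟩⟩ := exists_adj φ' hφ'q
  obtain ⟨b, ⟨adjb⟩⟩ := exists_adj ψ hψq
  obtain ⟨e⟩ := nonempty_comp j' φ' k ψ l θ
    (by rw [hkψ, ← Category.assoc, hfac', hfac]) adja adjb adjθ
  haveI := hasLpull g
  haveI := hasLpull p
  obtain ⟨Eg⟩ := hd' Xb' j' φ' hj' hφ' hfac' hφ'q a' adja
  obtain ⟨Ep⟩ := h P k ψ inferInstance inferInstance hkψ hψq b adjb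
  obtain ⟨sh⟩ := nonempty_lpull_shift g d
  obtain ⟨cmp⟩ := nonempty_lpull_comp' g p (g ≫ p) rfl
  let G : (Dual3.IsBddBelowQ Z).FullSubcategory ⥤ (Dual3.IsBddBelowQ Y).FullSubcategory :=
    ObjectProperty.lift _ (Dual3.bddι Z ⋙ b ⋙ rQ k) fun K =>
      isBddBelowQ_rQ k _ (isBddBelowQ_a ψ adjb _ K.property)
  let P₀ := Dual3.bddι Z ⋙ ObjectProperty.ι (DCoh.IsQCohD (X := Z))
  exact ⟨Functor.isoWhiskerRight e (ObjectProperty.ι _) ≪≫ Functor.isoWhiskerLeft G Eg ≪≫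
    Functor.isoWhiskerRight Ep (DCoh.Lpull g ⋙ shiftFunctor (DCoh.D X) d') ≪≫
    Functor.isoWhiskerLeft (P₀ ⋙ DCoh.Lpull p) (Functor.isoWhiskerRight sh (shiftFunctor (DCoh.D X) d')) ≪≫
    Functor.isoWhiskerLeft (P₀ ⋙ DCoh.Lpull p ⋙ DCoh.Lpull g)
      (shiftFunctorAdd' (DCoh.D X) d d' (d' + d) (by omega)).symm ≪≫
    Functor.isoWhiskerLeft P₀ (Functor.isoWhiskerRight cmp (shiftFunctor (DCoh.D X) (d' + d)))⟩

theorem ext_comp {W : Scheme.{u}} (q : W ⟶ Y) [LocallyOfFiniteType q] (p : Y ⟶ Z) {d d' e : ℤ}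
    (hq : Ext q d) (hp : Ext p d') (he : d + d' = e) : Ext (q ≫ p) e := by
  intro X g hg n hn
  haveI := hg
  have h := hp X (g ≫ q) inferInstance _ (hq X g hg n hn)
  rw [Category.assoc] at h
  rwa [← he, ← add_assoc]

theorem ext_iso (e : Y ⟶ Z) [IsIso e] [IsNoetherian Z] : Ext e 0 := by
  haveI : IsNoetherian Y := isNoetherian_of_ft e
  exact ext_of_fml e (𝟙 Y) e (Category.id_comp e) (fml_etale e)

theorem fml_of_ext [IsNoetherian Y] [IsNoetherian Z] {p : Y ⟶ Z} {d : ℤ} (h : Ext p d) : Fml p d := by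
  have := h Y (𝟙 Y) inferInstance 0 (fml_etale (𝟙 Y))
  rwa [Category.id_comp, zero_add] at this

theorem ext_a1 [IsNoetherian Y] [IsAffine Y] : Ext (𝔸(CohShriek.I1.{u}; Y) ↘ Y) 1 := by
  obtain ⟨P, k, ψ, hk, hψ, hkψ⟩ := CohShriek.exists_compactification_A1 Y
  haveI := hk
  haveI := hψ
  haveI : Smooth (𝔸(CohShriek.I1.{u}; Y) ↘ Y) := S12182.smooth_affineSpace CohShriek.I1.{u} Y
  haveI : IsNoetherian 𝔸(CohShriek.I1.{u}; Y) := isNoetherian_of_ft (𝔸(CohShriek.I1.{u}; Y) ↘ Y)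
  exact ext_of_fml _ k ψ hkψ fml_a1

theorem ext_div [IsNoetherian Y] (I : Y.IdealSheafData) (hI : BlowUp.IsEffCartierIdeal I)
    (hO : Nonempty (ClSub.idealMod I ≅ Coh.structureModule Y)) (hperf : MoreMor.IsPerfectMor I.subschemeι) :
    Ext I.subschemeι (-1) := by
  haveI : IsNoetherian I.subscheme := isNoetherian_of_ft I.subschemeι
  exact ext_of_fml _ (𝟙 _) I.subschemeι (Category.id_comp _) (fml_div I hI hO hperf)

end Groth.Agent.KExact.ShriekFormula
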