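import Groth.Agent.KExact.Exact

/-!
# One-sided exactness of `G ↦ H^p(R ⊗ G)`
-/

set_option autoImplicit false
set_option linter.style.haveILetI false
set_option backward.isDefEq.respectTransparency false
set_option backward.isDefEq.respectTransparency.types false

universe u

open CategoryTheory CategoryTheory.Limits AlgebraicGeometry

attribute [local instance] HasDerivedCategory.standard

namespace Groth.Agent.KExact

variable {X : Scheme.{u}} (R : CochainComplex X.Modules ℤ) (hR : ∀ n, FlatMod.IsFlat (R.X n)) (p : ℤ)

include hR

theorem preservesFiniteLimits_psi (h : FlatMod.IsFlat (R.opcycles p)) :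
    PreservesFiniteLimits (psi R p) :=
  ((Functor.preservesFiniteLimits_tfae (psi R p)).out 0 3).1 fun S hS => by
    haveI := hS.mono_f
    exact ⟨(shortExact_tenR R hR hS).homology_exact₂ p, mono_psi_of_isFlat R (hR _) h S.f⟩

theorem preservesFiniteColimits_psi (h : FlatMod.IsFlat (R.opcycles (p + 1))) :
    PreservesFiniteColimits (psi R p) :=
  ((Functor.preservesFiniteColimits_tfae (psi R p)).out 0 3).1 fun S hS => by
    haveI := hS.mono_f
    exact ⟨(shortExact_tenR R hR hS).homology_exact₂ p,
      (epi_psi_iff_mono R hR hS p).2 (mono_psi_of_isFlat R (hR _) h S.f)⟩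

end Groth.Agent.KExact
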