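import Groth.Agent.KExact.Transfer
import Groth.Agent.KExact.Sided
import Groth.Agent.KExact.FreeAt
import Groth.Agent.DRingSided.Basic
import Mathlib.Algebra.Homology.ShortComplex.PreservesHomology

/-!
# Spreading out one-sided exactness of `G ↦ H^p(R ⊗ G)` from a stalk
-/

set_option autoImplicit false
set_option linter.style.haveILetI false
set_option backward.isDefEq.respectTransparency false
set_option backward.isDefEq.respectTransparency.types false

universe v v' u u'

open CategoryTheory CategoryTheory.Limits AlgebraicGeometry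

attribute [local instance] HasDerivedCategory.standard

namespace Groth.Agent.KExact

open KFlatLib

/-- Exact functors commute with maps on homology. -/
lemma mono_map_homologyMap_iff {C : Type u} [Category.{v} C] [Abelian C] {D : Type u'}
    [Category.{v'} D] [Abelian D] (F : C ⥤ D) [F.Additive] [PreservesFiniteLimits F]
    [PreservesFiniteColimits F] {K L : CochainComplex C ℤ} (φ : K ⟶ L) (p : ℤ) :
    Mono (F.map (HomologicalComplex.homologyMap φ p)) ↔
      Mono (HomologicalComplex.homologyMap ((F.mapHomologicalComplex (ComplexShape.up ℤ)).map φ) p) :=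
  (MorphismProperty.monomorphisms D).arrow_mk_iso_iff
    (((Functor.mapArrowFunctor _ _).mapIso (ShortComplex.homologyFunctorIso F).symm).app
      (Arrow.mk ((HomologicalComplex.shortComplexFunctor C (ComplexShape.up ℤ) p).map φ)))

variable {X : Scheme.{u}}

/-- Tensoring with a module flat at `x` preserves monomorphisms at `x`. -/
lemma mono_stalk_tensor (M : X.Modules) (x : X)
    (hM : Module.Flat (X.presheaf.stalk x) ((DerSch.stalkFunctor X x).obj M : Type u))
    {G G' : X.Modules} (g : G ⟶ G') [Mono g] :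
    Mono ((DerSch.stalkFunctor X x).map ((DCoh.tensorBi.obj M).map g)) := by
  refine ((MorphismProperty.monomorphisms _).arrow_mk_iso_iff
    (((Functor.mapArrowFunctor _ _).mapIso (stalkTensorLeftIso M x)).app (Arrow.mk g))).2 ?_
  change Mono ((MonoidalCategory.tensorLeft ((DerSch.stalkFunctor X x).obj M)).map
    ((DerSch.stalkFunctor X x).map g))
  exact (ModuleCat.mono_iff_injective _).2 (hM.lTensor_preserves_injective_linearMap _
    ((ModuleCat.mono_iff_injective _).1 inferInstance))

/-- At a point where `R^(p+1)` is flat, `H^p(R ⊗ -)` preserves a mono iff the opcycles do. -/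
lemma mono_stalk_psi_iff (R : CochainComplex X.Modules ℤ) (p : ℤ) (x : X)
    (hR : Module.Flat (X.presheaf.stalk x) ((DerSch.stalkFunctor X x).obj (R.X (p + 1)) : Type u))
    {G G' : X.Modules} (g : G ⟶ G') [Mono g] :
    Mono ((DerSch.stalkFunctor X x).map ((psi R p).map g)) ↔
      Mono ((DerSch.stalkFunctor X x).map ((DCoh.tensorBi.obj (R.opcycles p)).map g)) := by
  let S := DerSch.stalkFunctor X x
  let τ := Functor.whiskerRight ((DCoh.tensorBi (X := X)).flip.map g) S
  haveI : ∀ H : X.Modules, PreservesFiniteColimits ((DCoh.tensorBi (X := X)).flip.obj H ⋙ S) :=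
    fun H => comp_preservesFiniteColimits _ _
  haveI : Mono (τ.app (R.X (p + 1))) := mono_stalk_tensor _ x hR g
  refine Iff.trans ?_ (mono_homologyMap_iff τ R p)
  exact mono_map_homologyMap_iff S
    ((NatTrans.mapHomologicalComplex ((DCoh.tensorBi (X := X)).flip.map g) (ComplexShape.up ℤ)).app R) p

/-- Preserving monomorphisms at `x` forces opcycles flat at `x`. -/
theorem flat_stalk_opcycles_of_mono (R : CochainComplex X.Modules ℤ) (p : ℤ) (x : X)
    (hR : Module.Flat (X.presheaf.stalk x) ((DerSch.stalkFunctor X x).obj (R.X (p + 1)) : Type u))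
    (h : ∀ (G G' : X.Modules) (g : G ⟶ G'), Mono g →
      Mono ((DerSch.stalkFunctor X x).map ((psi R p).map g))) :
    Module.Flat (X.presheaf.stalk x) ((DerSch.stalkFunctor X x).obj (R.opcycles p) : Type u) := by
  rw [Module.Flat.iff_lTensor_injective]
  intro I hI
  obtain ⟨n, v, hv⟩ := Submodule.fg_iff_exists_fin_generating_family.1 hI
  obtain ⟨G, G', g, hg, -, e, hrange⟩ := exists_test_mono x v
  haveI := hg
  have hC := (mono_stalk_psi_iff R p x hR g).1 (h G G' g hg)
  have hs : Mono ((DerSch.stalkFunctor X x ⋙ MonoidalCategory.tensorLeft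
      ((DerSch.stalkFunctor X x).obj (R.opcycles p))).map g) :=
    ((MorphismProperty.monomorphisms _).arrow_mk_iso_iff
      (((Functor.mapArrowFunctor _ _).mapIso (stalkTensorLeftIso (R.opcycles p) x)).app (Arrow.mk g))).1 hC
  let l : ((DerSch.stalkFunctor X x).obj G : Type u) →ₗ[X.presheaf.stalk x] X.presheaf.stalk x :=
    e.toLinearMap ∘ₗ ((DerSch.stalkFunctor X x).map g).hom
  have hl : Function.Injective l :=
    e.injective.comp ((ModuleCat.mono_iff_injective _).1 inferInstance)
  have hl' : Function.Injective (LinearMap.lTensor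
      ((DerSch.stalkFunctor X x).obj (R.opcycles p) : Type u) l) := by
    rw [LinearMap.lTensor_comp]
    exact (e.lTensor _).injective.comp ((ModuleCat.mono_iff_injective _).1 hs)
  have hI' : LinearMap.range l = I := hrange.trans hv
  let q : I ≃ₗ[X.presheaf.stalk x] ((DerSch.stalkFunctor X x).obj G : Type u) :=
    (LinearEquiv.ofEq _ _ hI'.symm).trans (LinearEquiv.ofInjective l hl).symm
  have hq' : I.subtype = l ∘ₗ q.toLinearMap := LinearMap.ext fun i => by
    have := congrArg Subtype.val ((LinearEquiv.ofInjective l hl).apply_symm_apply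
      (LinearEquiv.ofEq _ _ hI'.symm i))
    exact this.symm
  rw [hq', LinearMap.lTensor_comp]
  exact hl'.comp (q.lTensor _).injective

/-- Flatness of opcycles at a point passes to open restrictions. -/
lemma flat_stalk_opcycles_restrict {U : Scheme.{u}} (j : U ⟶ X) [IsOpenImmersion j]
    (R : CochainComplex X.Modules ℤ) (p : ℤ) (u : U)
    (h : Module.Flat (X.presheaf.stalk (j.base u))
      ((DerSch.stalkFunctor X (j.base u)).obj (R.opcycles p) : Type u)) :
    Module.Flat (U.presheaf.stalk u)
      ((DerSch.stalkFunctor U u).obj (((rCx j).obj R).opcycles p) : Type u) := by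
  obtain ⟨φ, hφ, -⟩ := exists_map_opcycles (Scheme.Modules.restrictFunctor j) R p
  letI := (j.stalkMap u).hom.toAlgebra
  haveI := h
  let e := ((stalkPullbackIso j u).app (R.opcycles p))
  haveI : Module.Flat (U.presheaf.stalk u)
      ((DerSch.stalkFunctor U u).obj ((Scheme.Modules.pullback j).obj (R.opcycles p)) : Type u) :=
    (Module.Flat.equiv_iff e.toLinearEquiv).2
      (Module.Flat.baseChange (X.presheaf.stalk (j.base u)) (U.presheaf.stalk u)
        ((DerSch.stalkFunctor X (j.base u)).obj (R.opcycles p) : Type u))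
  exact Module.Flat.of_linearEquiv
    ((DerSch.stalkFunctor U u).mapIso
      (((Scheme.Modules.restrictFunctorIsoPullback j).app _).symm ≪≫ asIso φ)).toLinearEquiv.symm

/-- If the opcycles of a flat K-flat model of a `(p-1)`-pseudo-coherent object are flat at `x`, then
`H^p(R ⊗ -)` is left exact near `x`. -/
theorem exists_nhd_preservesFiniteLimits (E : DCoh.D X) (p : ℤ) (hE : LocPC (p - 1) E)
    (R : CochainComplex X.Modules ℤ) (hRK : DCoh.IsKFlat R) (hR : ∀ n, FlatMod.IsFlat (R.X n))
    (eR : DerivedCategory.Q.obj R ≅ E) (x : X)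
    (hp : Module.Flat (X.presheaf.stalk x) ((DerSch.stalkFunctor X x).obj (R.opcycles p) : Type u)) :
    ∃ V : X.Opens, x ∈ V ∧ PreservesFiniteLimits (psi ((rCx V.ι).obj R) p) := by
  obtain ⟨U, j, _, ⟨u, rfl⟩, P, n, e, α, hPK, hα⟩ := exists_betti_data E hE x
  let RU := (rCx j).obj R
  let c₀ : (rho j).obj E ≅ DerivedCategory.Q.obj RU := (rho j).mapIso eR.symm ≪≫ (rhoQ j).app R
  obtain ⟨iso⟩ := nonempty_psi_iso_of_isPcMap hPK (isKFlat_restrict j hRK) (α ≫ c₀.hom)
    (by simpa using hα.comp_iso (𝟙 _) c₀.hom) p (by omega)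
  have hPf : ∀ i, FlatMod.IsFlat (P.X i) := fun i =>
    KFlatLib.IsFlat.of_iso (e i).symm (isFlat_freeMod (n i))
  have hRU := flat_stalk_opcycles_restrict j R p u hp
  have hP : Module.Flat (U.presheaf.stalk u) ((DerSch.stalkFunctor U u).obj (P.opcycles p) : Type u) := by
    refine flat_stalk_opcycles_of_mono P p u (hPf _ u) fun G G' g hg => ?_
    haveI := hg
    refine ((MorphismProperty.monomorphisms _).arrow_mk_iso_iff
      (((Functor.mapArrowFunctor _ _).mapIso (Functor.isoWhiskerRight iso (DerSch.stalkFunctor U u))).app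
        (Arrow.mk g))).2 ?_
    exact (mono_stalk_psi_iff RU p u (isFlat_restrict_X j R hR _ u) g).2 (mono_stalk_tensor _ u hRU g)
  let d := (e (p - 1)).inv ≫ P.d (p - 1) p ≫ (e p).hom
  let ec : cokernel d ≅ P.opcycles p :=
    cokernel.mapIso d (P.d (p - 1) p) (e (p - 1)).symm (e p).symm (by simp [d]) ≪≫ cokerOpIso P p
  obtain ⟨W, r, hu, ⟨f⟩⟩ := exists_free_of_flat_at d u
    (haveI := hP; Module.Flat.of_linearEquiv ((DerSch.stalkFunctor U u).mapIso ec).toLinearEquiv)
  let q := rangeHom (W.ι ≫ j)
  let k := q ≫ W.ι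
  have hk : k ≫ j = (W.ι ≫ j).opensRange.ι := by
    simp only [k, q, Category.assoc]
    exact rangeHom_fac (W.ι ≫ j)
  refine ⟨(W.ι ≫ j).opensRange, ⟨⟨u, hu⟩, rfl⟩, ?_⟩
  haveI : IsOpenImmersion q := by
    dsimp only [q, rangeHom]
    infer_instance
  haveI : IsOpenImmersion k := inferInstance
  let PV := (rCx k).obj P
  let RV := (rCx (W.ι ≫ j).opensRange.ι).obj R
  let cV : (rho (W.ι ≫ j).opensRange.ι).obj E ≅ DerivedCategory.Q.obj RV :=
    (rho (W.ι ≫ j).opensRange.ι).mapIso eR.symm ≪≫ (rhoQ (W.ι ≫ j).opensRange.ι).app R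
  have hαV : IsPcMap (p - 1) (((rhoQ k).app P).inv ≫ (rho k).map α ≫
      ((rhoComp k j _ hk E) ≪≫ cV).hom) := (hα.map_exact _).comp_iso _ _
  obtain ⟨isoV⟩ := nonempty_psi_iso_of_isPcMap (isKFlat_restrict k hPK)
    (isKFlat_restrict _ hRK) _ hαV p (by omega)
  have hflat : FlatMod.IsFlat (PV.opcycles p) := by
    obtain ⟨φ, hφ, -⟩ := exists_map_opcycles (Scheme.Modules.restrictFunctor k) P p
    exact KFlatLib.IsFlat.of_iso
      ((Scheme.Modules.pullback q).mapIso (f.symm ≪≫ (Scheme.Modules.restrictFunctor W.ι).mapIso ec) ≪≫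
        ((Scheme.Modules.restrictFunctorIsoPullback q).app _).symm ≪≫
        ((Scheme.Modules.restrictFunctorComp q W.ι).app _).symm ≪≫ asIso φ)
      (isFlat_pullback q (isFlat_freeMod r))
  haveI := preservesFiniteLimits_psi PV (isFlat_restrict_X k P hPf) p hflat
  exact preservesFiniteLimits_of_natIso isoV

/-- A bounded above flat model and its stalk. -/
theorem exists_flat_model (F : CochainComplex X.Modules ℤ) (e : ℤ) [(DCoh.toD X F).IsLE e] (x : X) :
    ∃ (R : CochainComplex X.Modules ℤ) (q : R ⟶ F), QuasiIso q ∧ DCoh.IsKFlat R ∧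
      (∀ n, FlatMod.IsFlat (R.X n)) ∧
      H9Misc.DRingLTensor.IsKF
        (((DerSch.stalkFunctor X x).mapHomologicalComplex (ComplexShape.up ℤ)).obj R) := by
  haveI : F.IsLE e := (DerivedCategory.isLE_Q_obj_iff F e).1 (by assumption)
  obtain ⟨R, q, hq, hflat, hz⟩ := (flatCover X).exists_bounded_resolution F e
    fun i hi => HomologicalComplex.ExactAt.isZero_homology (CochainComplex.exactAt_of_isLE F e i hi)
  haveI : R.IsStrictlyLE e := (CochainComplex.isStrictlyLE_iff R e).2 fun i hi => hz i hi
  exact ⟨R, q, hq, isKFlat_of_isStrictlyLE R e hflat, hflat,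
    KFlatLib.kFlat_of_termwiseFlat (b := e) (fun n => hflat n x)
      (fun n hn => (DerSch.stalkFunctor X x).map_isZero (hz n hn))⟩

end Groth.Agent.KExact
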