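import Groth.Agent.KFlatLib.Perfect.Spread
import Groth.Agent.KFlatLib.Perfect.Amplitude
import Groth.Agent.KFlatLib.Perfect.Corollaries
import Groth.Agent.KFlatLib.Perfect.BettiCor
import Groth.Agent.KFlatLib.Perfect.LocFreeLocus
import Groth.Agent.KFlatLib.Scheme.AffineHomotopy
import Groth.Agent.KFlatLib.Scheme.PullCx
import Groth.Agent.KFlatLib.Scheme.EvalPerfect

/-!
# Spreading maps of complexes and vanishing of cohomology from a stalk
-/

set_option autoImplicit false
set_option linter.style.haveILetI false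
set_option backward.isDefEq.respectTransparency false
set_option backward.isDefEq.respectTransparency.types false

universe u

open CategoryTheory CategoryTheory.Limits AlgebraicGeometry

attribute [local instance] HasDerivedCategory.standard

namespace Groth.Agent.KExact

open KFlatLib

variable {X : Scheme.{u}}

lemma stalkAt_resHom {W W' : X.Opens} (h : W' ≤ W) {x : X} (hx' : x ∈ W') {M N : X.Modules}
    (φ : M.restrict W.ι ⟶ N.restrict W.ι) : stalkAt hx' (resHom h φ) = stalkAt (h hx') φ := by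
  let η := unitW W N
  let f := unitW W M ≫ (Scheme.Modules.pushforward W.ι).map φ
  let c := (Scheme.Modules.restrictAdjunction W.ι).counit.app (N.restrict W.ι)
  have hφ : φ = (Scheme.Modules.restrictFunctor W.ι).map f ≫ c :=
    (((Scheme.Modules.restrictAdjunction W.ι).homEquiv _ _).symm_apply_apply φ).symm.trans
      ((Scheme.Modules.restrictAdjunction W.ι).homEquiv_counit ..)
  haveI := isIso_stalk_unitW (h hx') N
  haveI hc : IsIso c := by infer_instance
  let c' : ((Scheme.Modules.pushforward W.ι).obj (N.restrict W.ι)).restrict W.ι ⟶ N.restrict W.ι := c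
  have hη : (DerSch.stalkFunctor X x).map η ≫ stalkAt hx' (resHom h c') = 𝟙 _ := by
    rw [← stalkAt_map hx' η, ← stalkAt_comp, ← resHom_map h η, ← resHom_comp,
      show (Scheme.Modules.restrictFunctor W.ι).map η ≫ c' = 𝟙 _ from
        (Scheme.Modules.restrictAdjunction W.ι).left_triangle_components N, resHom_id, stalkAt_id]
  have hinv : stalkAt hx' (resHom h c') = inv ((DerSch.stalkFunctor X x).map η) :=
    (IsIso.inv_eq_of_hom_inv_id hη).symm
  calc stalkAt hx' (resHom h φ)
      = stalkAt hx' (resHom h ((Scheme.Modules.restrictFunctor W.ι).map f ≫ c')) :=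
        congrArg (fun t => stalkAt hx' (resHom h t)) hφ
    _ = (DerSch.stalkFunctor X x).map f ≫ inv ((DerSch.stalkFunctor X x).map η) := by
        rw [resHom_comp, resHom_map, stalkAt_comp, stalkAt_map, hinv]
    _ = stalkAt (h hx') φ := rfl

/-- Maps out of a free stalk spread out. -/
lemma exists_hom_of_stalk {M N : X.Modules} {n : ℕ} (e : M ≅ FlatMod.freeMod X n) (x : X)
    (φ : (DerSch.stalkFunctor X x).obj M ⟶ (DerSch.stalkFunctor X x).obj N) :
    ∃ U : X.Opens, x ∈ U ∧ ∀ (W : X.Opens) (hx : x ∈ W), W ≤ U →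
      ∃ g : M.restrict W.ι ⟶ N.restrict W.ι, stalkAt hx g = φ := by
  obtain ⟨U, hU, h⟩ := exists_of_germs N x fun i => φ ((DerSch.stalkFunctor X x).map e.inv (eGerm x i))
  refine ⟨U, hU, fun W hx hW => ?_⟩
  obtain ⟨g, hg⟩ := h W hx hW
  refine ⟨(Scheme.Modules.restrictFunctor W.ι).map e.hom ≫ g, ?_⟩
  have hg' : stalkAt hx g = (DerSch.stalkFunctor X x).map e.inv ≫ φ := free_stalk_ext hg
  rw [stalkAt_comp, stalkAt_map, hg', ← Category.assoc, ← Functor.map_comp, e.hom_inv_id,
    CategoryTheory.Functor.map_id, Category.id_comp]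

/-- A map out of a free module killed at a point is zero nearby. -/
lemma exists_resHom_zero {M N : X.Modules} {n : ℕ} (e : M ≅ FlatMod.freeMod X n) {W : X.Opens}
    {x : X} (hx : x ∈ W) (g : M.restrict W.ι ⟶ N.restrict W.ι) (hg : stalkAt hx g = 0) :
    ∃ U : X.Opens, x ∈ U ∧ ∀ (W' : X.Opens) (h : W' ≤ W), W' ≤ U → resHom h g = 0 := by
  let R := Scheme.Modules.restrictFunctor W.ι
  obtain ⟨U, hU, h⟩ := exists_resHom_eq_zero (R.map e.inv ≫ g) hx
    (by rw [stalkAt_comp, hg, comp_zero])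
  refine ⟨U, hU, fun W' hW' hle => ?_⟩
  have hg' : g = R.map e.hom ≫ R.map e.inv ≫ g := by
    rw [← R.map_comp_assoc, e.hom_inv_id, CategoryTheory.Functor.map_id, Category.id_comp]
  rw [hg', resHom_comp, h W' hW' hle, comp_zero]

/-- Finitely many neighbourhoods of a point. -/
lemma exists_nhd_forall {ι : Type*} (s : Finset ι) (x : X) (p : ι → X.Opens → Prop)
    (h : ∀ i ∈ s, ∃ U : X.Opens, x ∈ U ∧ ∀ W ≤ U, x ∈ W → p i W) :
    ∃ U : X.Opens, x ∈ U ∧ ∀ W ≤ U, x ∈ W → ∀ i ∈ s, p i W := by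
  classical
  induction s using Finset.induction with
  | empty => exact ⟨⊤, trivial, fun _ _ _ _ h => absurd h (by simp)⟩
  | @insert a s ha ih =>
    obtain ⟨U, hU, hU'⟩ := h a (Finset.mem_insert_self a s)
    obtain ⟨V, hV, hV'⟩ := ih fun i hi => h i (Finset.mem_insert_of_mem hi)
    refine ⟨U ⊓ V, ⟨hU, hV⟩, fun W hW hx i hi => ?_⟩
    rcases Finset.mem_insert.1 hi with rfl | hi
    · exact hU' W (hW.trans inf_le_left) hx
    · exact hV' W (hW.trans inf_le_right) hx i hi

/-- A map of complexes at a stalk spreads out when the source is bounded and free. -/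
theorem exists_nhd_chainMap {P F : CochainComplex X.Modules ℤ} {a b : ℤ}
    (hP : DCoh.VanishesOutside P a b)
    (hfree : ∀ i, ∃ n : ℕ, Nonempty (P.X i ≅ FlatMod.freeMod X n)) (x : X)
    (φ : (stalkCx x).obj P ⟶ (stalkCx x).obj F) :
    ∃ (W : X.Opens) (hx : x ∈ W) (Φ : (rCx W.ι).obj P ⟶ (rCx W.ι).obj F),
      ∀ i, stalkAt hx (Φ.f i) = φ.f i := by
  choose n e using hfree
  obtain ⟨U, hU, hg⟩ := exists_nhd_forall (Finset.Icc a b) x
    (fun i W => ∀ hx : x ∈ W, ∃ g : (P.X i).restrict W.ι ⟶ (F.X i).restrict W.ι, stalkAt hx g = φ.f i)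
    fun i _ => by
      obtain ⟨U, hU, h⟩ := exists_hom_of_stalk (e i).some x (φ.f i)
      exact ⟨U, hU, fun W hW _ hx => h W hx hW⟩
  have hg' : ∀ i, ∃ g : (P.X i).restrict U.ι ⟶ (F.X i).restrict U.ι, stalkAt hU g = φ.f i := fun i => by
    by_cases hi : i ∈ Finset.Icc a b
    · exact hg U le_rfl hU i hi hU
    · rw [Finset.mem_Icc] at hi
      exact ⟨0, ((DerSch.stalkFunctor X x).map_isZero (hP i (by omega))).eq_of_src _ _⟩
  choose g hg₀ using hg'
  let R := Scheme.Modules.restrictFunctor U.ι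
  obtain ⟨V, hV, hcomm⟩ := exists_nhd_forall (Finset.Icc a b) x
    (fun i W => ∀ h : W ≤ U, resHom h (g i ≫ R.map (F.d i (i + 1)) -
      R.map (P.d i (i + 1)) ≫ g (i + 1)) = 0) fun i _ => by
      obtain ⟨V, hV, h⟩ := exists_resHom_zero (e i).some hU
        (g i ≫ R.map (F.d i (i + 1)) - R.map (P.d i (i + 1)) ≫ g (i + 1)) (by
          rw [stalkAt_sub, stalkAt_comp, stalkAt_comp, stalkAt_map, stalkAt_map, hg₀, hg₀, sub_eq_zero]
          exact φ.comm i (i + 1))
      exact ⟨V, hV, fun W hW _ h' => h W h' hW⟩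
  refine ⟨U ⊓ V, ⟨hU, hV⟩, ⟨fun i => resHom inf_le_left (g i), fun i j hij => ?_⟩,
    fun i => (stalkAt_resHom _ _ _).trans (hg₀ i)⟩
  obtain rfl : i + 1 = j := hij
  change resHom _ (g i) ≫ (Scheme.Modules.restrictFunctor _).map (F.d i (i + 1)) =
    (Scheme.Modules.restrictFunctor _).map (P.d i (i + 1)) ≫ resHom _ (g (i + 1))
  by_cases hi : i ∈ Finset.Icc a b
  · have h := hcomm (U ⊓ V) inf_le_right ⟨hU, hV⟩ i hi inf_le_left
    rw [resHom_sub, resHom_comp, resHom_comp, resHom_map, resHom_map, sub_eq_zero] at h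
    exact h
  · rw [Finset.mem_Icc] at hi
    exact ((Scheme.Modules.restrictFunctor _).map_isZero (hP i (by omega))).eq_of_src _ _

/-- Stalks of a restriction. -/
lemma isZero_stalk_restrict {U : Scheme.{u}} (j : U ⟶ X) [IsOpenImmersion j] {M : X.Modules} (u' : U)
    (h : IsZero ((DerSch.stalkFunctor X (j.base u')).obj M)) :
    IsZero ((DerSch.stalkFunctor U u').obj (M.restrict j)) := by
  haveI := ModuleCat.subsingleton_of_isZero h
  let e := ((Scheme.Modules.restrictStalkNatIso j u').app M).addCommGroupIsoToAddEquiv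
  haveI : Subsingleton ((DerSch.stalkFunctor U u').obj (M.restrict j) : Type u) :=
    e.toEquiv.injective.subsingleton (β := ((DerSch.stalkFunctor X (j.base u')).obj M : Type u))
  exact ModuleCat.isZero_of_subsingleton _

/-- A finite type module with zero stalk vanishes nearby. -/
lemma exists_nhd_isZero_of_isFT {M : X.Modules} (hM : CohB1.IsFT M) (x : X)
    (h : IsZero ((DerSch.stalkFunctor X x).obj M)) :
    ∃ (U : Scheme.{u}) (j : U ⟶ X) (_ : IsOpenImmersion j), x ∈ Set.range j.base ∧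
      IsZero (M.restrict j) := by
  obtain ⟨W, n, p, hx, hp⟩ := exists_epi_free_of_isFT hM x
  haveI := hp
  have hz := isZero_stalk_restrict W.ι ⟨x, hx⟩ (M := M) h
  obtain ⟨V, hV, hzero⟩ := exists_restrict_eq_zero p ⟨x, hx⟩ fun i =>
    (ModuleCat.subsingleton_of_isZero hz).elim _ _
  haveI : Epi ((Scheme.Modules.restrictFunctor V.ι).map p) := inferInstance
  have hz' : IsZero ((M.restrict W.ι).restrict V.ι) := IsZero.of_epi_eq_zero _ (hzero V le_rfl)
  exact ⟨V, V.ι ≫ W.ι, inferInstance, ⟨⟨⟨x, hx⟩, hV⟩, rfl⟩,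
    hz'.of_iso (restrict₂Iso V.ι W.ι _ rfl M).symm⟩

/-- A pseudo-coherent complex without cohomology at `x` in degrees `≥ m` has none nearby. -/
theorem exists_nhd_isZero_homology : ∀ (k : ℕ) (X : Scheme.{u}) (C : CochainComplex X.Modules ℤ)
    (m : ℤ) (x : X), LocPC m (DCoh.toD X C) → (∀ i, m + k ≤ i → IsZero (C.homology i)) →
    (∀ i, m ≤ i → IsZero ((DerSch.stalkFunctor X x).obj (C.homology i))) →
    ∃ (U : Scheme.{u}) (j : U ⟶ X) (_ : IsOpenImmersion j), x ∈ Set.range j.base ∧
      ∀ i, m ≤ i → IsZero (((rCx j).obj C).homology i)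
  | 0, X, C, m, x, _, hb, _ => ⟨X, 𝟙 X, inferInstance, ⟨x, rfl⟩, fun i hi =>
      ((Scheme.Modules.restrictFunctor (𝟙 X)).map_isZero (hb i (by simpa using hi))).of_iso
        ((C.sc i).mapHomologyIso (Scheme.Modules.restrictFunctor (𝟙 X)))⟩
  | k + 1, X, C, m, x, hpc, hb, hx => by
    have hHD : ∀ i, DCoh.HD (DCoh.toD X C) i ≅ C.homology i := fun i =>
      (DerivedCategory.homologyFunctorFactors X.Modules i).app C
    have hft : CohB1.IsFT (DCoh.HD (DCoh.toD X C) (m + k)) := isFT_top (hpc.mono (by omega))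
      fun i hi => (hb i (by push_cast; omega)).of_iso (hHD i)
    obtain ⟨U, j, _, ⟨v, rfl⟩, hz⟩ := exists_nhd_isZero_of_isFT hft x
      ((hx (m + k) (by omega)).of_iso ((DerSch.stalkFunctor X x).mapIso (hHD _)))
    have hH : ∀ i, ((rCx j).obj C).homology i ≅ (C.homology i).restrict j := fun i =>
      (C.sc i).mapHomologyIso (Scheme.Modules.restrictFunctor j)
    obtain ⟨V, l, _, ⟨w, hw⟩, hzero⟩ := exists_nhd_isZero_homology k U ((rCx j).obj C) m v
      ((hpc.restrict j).of_iso ((rhoQ j).app C))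
      (fun i hi => by
        rcases eq_or_lt_of_le hi with rfl | hi'
        · exact hz.of_iso (hH _ ≪≫ (Scheme.Modules.restrictFunctor j).mapIso (hHD _).symm)
        · exact ((Scheme.Modules.restrictFunctor j).map_isZero
            (hb i (by push_cast; omega))).of_iso (hH i))
      (fun i hi => (isZero_stalk_restrict j v (hx i hi)).of_iso
        ((DerSch.stalkFunctor U v).mapIso (hH i)))
    refine ⟨V, l ≫ j, inferInstance, ⟨w, by rw [← hw]; rfl⟩, fun i hi => (hzero i hi).of_iso ?_⟩
    exact (HomologicalComplex.homologyFunctor V.Modules _ i).mapIso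
      ((NatIso.mapHomologicalComplex (Scheme.Modules.restrictFunctorComp l j)
        (ComplexShape.up ℤ)).app C)

/-- Strictly perfect complexes are locally strictly perfect. -/
lemma locSP_of_isStrictlyPerfect {P : CochainComplex X.Modules ℤ} (hP : DCoh.IsStrictlyPerfect P) :
    LocSP (DCoh.toD X P) := fun x =>
  ⟨X, 𝟙 X, inferInstance, ⟨x, rfl⟩, _, isStrictlyPerfect_restrict (𝟙 X) hP, ⟨((rhoQ (𝟙 X)).app P).symm⟩⟩

/-- A bounded free model is pseudo-coherent in every degree. -/
lemma isStrictlyPerfect_of_free {P : CochainComplex X.Modules ℤ} {a b : ℤ}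
    (hP : DCoh.VanishesOutside P a b)
    (hfree : ∀ i, ∃ n : ℕ, Nonempty (P.X i ≅ FlatMod.freeMod X n)) : DCoh.IsStrictlyPerfect P := by
  refine ⟨⟨a, b, hP⟩, fun i => ?_⟩
  obtain ⟨n, ⟨e⟩⟩ := hfree i
  exact H23.PullPush.isFinLocFree_of_iso e.symm (isFinLocFree_freeMod _)

/-- An approximation at a stalk spreads out to an approximation nearby. -/
theorem exists_nhd_pcMap {P F : CochainComplex X.Modules ℤ} {a b m d : ℤ}
    (hP : DCoh.VanishesOutside P a b)
    (hfree : ∀ i, ∃ n : ℕ, Nonempty (P.X i ≅ FlatMod.freeMod X n))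
    (hF : LocPC m (DCoh.toD X F)) (hFd : ∀ i, d < i → IsZero (F.homology i)) (x : X)
    (φ : (stalkCx x).obj P ⟶ (stalkCx x).obj F) (hφ : IsPcMap m (DerivedCategory.Q.map φ)) :
    ∃ (U : Scheme.{u}) (j : U ⟶ X) (_ : IsOpenImmersion j), x ∈ Set.range j.base ∧
      ∃ α : DerivedCategory.Q.obj ((rCx j).obj P) ⟶ DerivedCategory.Q.obj ((rCx j).obj F),
        IsPcMap m α := by
  obtain ⟨W, hxW, Φ, hΦ⟩ := exists_nhd_chainMap hP hfree x φ
  let R := Scheme.Modules.restrictFunctor W.ι
  let T := Scheme.Modules.pushforward W.ι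
  let adj := Scheme.Modules.restrictAdjunction W.ι
  let w : W := ⟨x, hxW⟩
  let G : CochainComplex X.Modules ℤ := (T.mapHomologicalComplex (ComplexShape.up ℤ)).obj ((rCx W.ι).obj F)
  let η : F ⟶ G := { f := fun i => unitW W (F.X i), comm' := fun i j _ => (adj.unit.naturality (F.d i j)).symm }
  let Φ' : P ⟶ G :=
    { f := fun i => unitW W (P.X i) ≫ T.map (Φ.f i)
      comm' := fun i j _ => by
        change (_ ≫ T.map _) ≫ T.map (R.map (F.d i j)) = P.d i j ≫ _ ≫ T.map _
        rw [Category.assoc, ← T.map_comp,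
          show Φ.f i ≫ R.map (F.d i j) = R.map (P.d i j) ≫ Φ.f j from Φ.comm i j, T.map_comp,
          ← Category.assoc, ← Category.assoc]
        exact congrArg (· ≫ T.map (Φ.f j)) (adj.unit.naturality (P.d i j)).symm }
  let S := DerSch.stalkFunctor X x
  have hst : (stalkCx x).map Φ' = φ ≫ (stalkCx x).map η := by
    ext i : 1
    change S.map _ = φ.f i ≫ S.map _
    rw [← hΦ i, stalkAt_spec]
  haveI : ∀ i, IsIso (((stalkCx x).map η).f i) := fun i => isIso_stalk_unitW hxW (F.X i)
  haveI : IsIso ((stalkCx x).map η) := HomologicalComplex.Hom.isIso_of_components _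
  have hpcS : IsPcMap m (DerivedCategory.Q.map ((stalkCx x).map Φ')) := by
    rw [hst, Functor.map_comp]
    exact hφ.comp (isPcMap_of_isIso _ _)
  haveI : S.Additive := inferInstance
  have hx : ∀ i, m ≤ i → IsZero (S.obj ((CochainComplex.mappingCone Φ').homology i)) := fun i hi =>
    (((isPcMap_iff_cone m _).1 hpcS i hi).of_iso
      ((HomologicalComplex.homologyFunctor _ _ i).mapIso
        (CochainComplex.mappingCone.mapHomologicalComplexIso Φ' S))).of_iso
      ((CochainComplex.mappingCone Φ').sc i |>.mapHomologyIso S).symm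
  let c : (rCx W.ι).obj G ⟶ (rCx W.ι).obj F :=
    { f := fun i => adj.counit.app _, comm' := fun i j _ => (adj.counit.naturality _).symm }
  haveI : ∀ i, IsIso (c.f i) := fun i => by
    change IsIso (adj.counit.app _)
    infer_instance
  haveI : IsIso c := HomologicalComplex.Hom.isIso_of_components _
  let Φ₁ := (rCx W.ι).map Φ'
  let C := CochainComplex.mappingCone Φ₁
  have hHG : ∀ l, d < l → IsZero (((rCx W.ι).obj G).homology l) := fun l hl =>
    ((R.map_isZero (hFd l hl)).of_iso ((F.sc l).mapHomologyIso R)).of_iso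
      ((HomologicalComplex.homologyFunctor _ _ l).mapIso (asIso c))
  have hsp := isStrictlyPerfect_restrict W.ι (isStrictlyPerfect_of_free hP hfree)
  have hpcC : LocPC m (DCoh.toD (W : Scheme.{u}) C) :=
    locPC_obj₃ (DerivedCategory.Q.mapTriangle.obj (CochainComplex.mappingCone.triangle Φ₁))
      ((DerivedCategory.mem_distTriang_iff _).2 ⟨_, _, Φ₁, ⟨Iso.refl _⟩⟩)
      ((locSP_of_isStrictlyPerfect hsp).locPC _)
      ((hF.restrict W.ι).of_iso ((rhoQ W.ι).app F ≪≫ (DerivedCategory.Q.mapIso (asIso c)).symm))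
  let B := max (max b d) m
  have hbC : ∀ i, m + ((B + 1 - m).toNat : ℤ) ≤ i → IsZero (C.homology i) := fun i hi =>
    (isPcMap_iff_cone (B + 1) Φ₁).1 (isPcMap_of_homologyMap _ _
      (fun l hl => ⟨0, (ShortComplex.isZero_homology_of_isZero_X₂ _
          (R.map_isZero (hP l (Or.inr (by omega))))).eq_of_src _ _,
        (hHG l (by omega)).eq_of_src _ _⟩)
      ⟨fun g h _ => (hHG (B + 1) (by omega)).eq_of_src g h⟩) i (by omega)
  let eC : (rCx W.ι).obj (CochainComplex.mappingCone Φ') ≅ C :=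
    CochainComplex.mappingCone.mapHomologicalComplexIso Φ' R
  obtain ⟨V, l, _, ⟨v, hv⟩, hz⟩ := exists_nhd_isZero_homology _ W C m w hpcC hbC fun i hi =>
    (isZero_stalk_restrict W.ι w (hx i hi)).of_iso ((DerSch.stalkFunctor _ w).mapIso
      (((HomologicalComplex.homologyFunctor _ _ i).mapIso eC).symm ≪≫
        ((CochainComplex.mappingCone Φ').sc i).mapHomologyIso R))
  refine ⟨V, l ≫ W.ι, inferInstance, ⟨v, by
    change W.ι.base (l.base v) = x
    rw [hv]
    rfl⟩, ?_⟩
  have hl : IsPcMap m (DerivedCategory.Q.map ((rCx l).map Φ₁)) := (isPcMap_iff_cone m _).2 fun i hi =>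
    (hz i hi).of_iso ((HomologicalComplex.homologyFunctor _ _ i).mapIso
      (CochainComplex.mappingCone.mapHomologicalComplexIso Φ₁ (Scheme.Modules.restrictFunctor l)).symm)
  let σ := NatIso.mapHomologicalComplex (Scheme.Modules.restrictFunctorComp l W.ι) (ComplexShape.up ℤ)
  exact ⟨_, hl.comp_iso (DerivedCategory.Q.map (σ.hom.app P))
    (DerivedCategory.Q.map ((rCx l).map c ≫ σ.inv.app F))⟩

/-- Two complexes without cohomology below `a` approximated by one complex are isomorphic. -/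
theorem exists_truncGE_iso {C : Type*} [Category C] [Abelian C]
    {P G : CochainComplex C ℤ} {a : ℤ} (β : DerivedCategory.Q.obj P ⟶ DerivedCategory.Q.obj G)
    (hβ : IsPcMap (a - 1) β) (hG : ∀ i, i < a → IsZero (G.homology i)) :
    Nonempty (DerivedCategory.Q.obj (P.truncGE a) ≅ DerivedCategory.Q.obj G) := by
  obtain ⟨G', g, s, hs, hfac⟩ := DerivedCategory.left_fac β
  haveI := hs
  let H := DerivedCategory.homologyFunctor C
  have hg : IsPcMap (a - 1) (DerivedCategory.Q.map g) := by
    have : DerivedCategory.Q.map g = β ≫ DerivedCategory.Q.map s := by simp [hfac]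
    exact this ▸ hβ.comp (isPcMap_of_isIso _ _)
  have hgiso : ∀ i, a ≤ i → IsIso (HomologicalComplex.homologyMap g i) := fun i hi =>
    (NatIso.isIso_map_iff (DerivedCategory.homologyFunctorFactors C i) g).1 (hg.1 i (by omega))
  haveI : CochainComplex.IsGE G' a := (CochainComplex.isGE_iff G' a).2 fun i hi =>
    (HomologicalComplex.exactAt_iff_isZero_homology _ _).2
      ((hG i hi).of_iso (((DerivedCategory.homologyFunctorFactors _ i).app G').symm ≪≫
        (H i).mapIso (asIso (DerivedCategory.Q.map s)).symm ≪≫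
        (DerivedCategory.homologyFunctorFactors _ i).app G))
  haveI hq : QuasiIso (CochainComplex.truncGEMap g a) :=
    (CochainComplex.quasiIso_truncGEMap_iff g a).2 fun i hi =>
      (quasiIsoAt_iff_isIso_homologyMap g i).2 (hgiso i hi)
  exact ⟨@asIso _ _ _ _ (DerivedCategory.Q.map (CochainComplex.truncGEMap g a)) inferInstance ≪≫
    (asIso (DerivedCategory.Q.map (G'.πTruncGE a))).symm ≪≫ (asIso (DerivedCategory.Q.map s)).symm⟩

end Groth.Agent.KExact
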