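import Groth.Agent.KFlatLib.Scheme.Tilde
import Groth.Agent.KFlatLib.Scheme.TildeD
import Groth.Agent.KFlatLib.Scheme.DualizingCharts
import Groth.Agent.KFlatLib.Scheme.CohD
import Groth.Agent.KFlatLib.Scheme.Exact
import Groth.Agent.KFlatLib.Scheme.Pullback
import Groth.Agent.KFlatLib.Ring.DualizingDescent
import Groth.Agent.H9Misc.StalkInjective
import Groth.Agent.KExact.DualizingS2

/-!
# Dualizing objects from their stalks
-/

set_option autoImplicit false
set_option linter.style.haveILetI false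
set_option backward.isDefEq.respectTransparency false
set_option backward.isDefEq.respectTransparency.types false

universe w v u

open CategoryTheory CategoryTheory.Limits AlgebraicGeometry

attribute [local instance] HasDerivedCategory.standard

namespace Groth.Agent.KExact

open KFlatLib

/-- Maps from a single object into a bounded complex of injectives vanish outside its range. -/
theorem subsingleton_hom_single_injective {C : Type u} [Category.{v} C] [Abelian C] [HasDerivedCategory.{w} C]
    {E : CochainComplex C ℤ} {a b : ℤ} (hz : ∀ k, (k < a ∨ b < k) → IsZero (E.X k))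
    (hE : ∀ n, Injective (E.X n)) (X : C) (i : ℤ) (hi : i < a ∨ b < i) :
    Subsingleton ((DerivedCategory.singleFunctor C 0).obj X ⟶ (DerivedCategory.Q.obj E)⟦i⟧) := by
  haveI : CochainComplex.IsStrictlyGE (E⟦i⟧) (a - i) :=
    (CochainComplex.isStrictlyGE_iff _ _).2 fun k hk => hz (k + i) (Or.inl (by omega))
  haveI : ∀ n, Injective ((E⟦i⟧).X n) := fun n => hE (n + i)
  haveI : (E⟦i⟧).IsKInjective := CochainComplex.isKInjective_of_injective _ (a - i)
  let L : CochainComplex C ℤ := (CochainComplex.singleFunctor C 0).obj X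
  let es := (DerivedCategory.singleFunctorIsoCompQ C 0).app X
  let eE := (DerivedCategory.Q.commShiftIso i).app E
  suffices ∀ f : DerivedCategory.Q.obj L ⟶ DerivedCategory.Q.obj (E⟦i⟧), f = 0 from
    ⟨fun f g => by
      rw [← cancel_epi es.inv, ← cancel_mono eE.inv, this ((es.inv ≫ f) ≫ eE.inv),
        this ((es.inv ≫ g) ≫ eE.inv)]⟩
  intro f
  let q := DerivedCategory.quotientCompQhIso C
  obtain ⟨g, hg⟩ := (CochainComplex.IsKInjective.Qh_map_bijective
    ((HomotopyCategory.quotient _ _).obj L) (E⟦i⟧)).2 (q.hom.app L ≫ f ≫ q.inv.app (E⟦i⟧))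
  obtain ⟨ψ, rfl⟩ := (HomotopyCategory.quotient _ _).map_surjective g
  have hψ : ψ = 0 := HomologicalComplex.hom_ext _ _ fun k => by
    by_cases hk : k = 0
    · subst hk
      exact (hz (0 + i) (by omega)).eq_of_tgt _ _
    · exact (HomologicalComplex.isZero_single_obj_X (ComplexShape.up ℤ) 0 X k hk).eq_of_src _ _
  rw [hψ, Functor.map_zero, Functor.map_zero] at hg
  rw [← cancel_epi (q.hom.app L), comp_zero, ← cancel_mono (q.inv.app (E⟦i⟧)), zero_comp, Category.assoc]
  exact hg.symm

/-- The complex of stalks over the identity is the complex of stalks. -/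
theorem nonempty_stalkCxOver_id_iso {X : Scheme.{u}} (x : X) (I : CochainComplex X.Modules ℤ) :
    Nonempty ((DerSch.stalkCxOver (𝟙 X) x).obj I ≅
      ((DerSch.stalkFunctor X x).mapHomologicalComplex (ComplexShape.up ℤ)).obj I) :=
  ⟨(NatIso.mapHomologicalComplex
    (Functor.isoWhiskerLeft (DerSch.stalkFunctor X x)
        (ModuleCat.restrictScalarsId' ((𝟙 X : X ⟶ X).stalkMap x).hom (by rw [Scheme.Hom.stalkMap_id]; rfl)) ≪≫
      Functor.rightUnitor _) (ComplexShape.up ℤ)).app I⟩

/-- A bounded complex of injectives with coherent cohomology and dualizing stalks is dualizing. -/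
theorem isDualizingSch_of_stalks {X : Scheme.{u}} [IsLocallyNoetherian X]
    [∀ (U : Scheme.{u}) (j : U ⟶ X) [IsOpenImmersion j], PreservesFiniteLimits (Scheme.Modules.restrictFunctor j)]
    [∀ (R : CommRingCat.{u}), PreservesFiniteLimits (tilde.functor R)]
    (I : CochainComplex X.Modules ℤ) (hIinj : ∀ i : ℤ, Injective (I.X i)) {a b : ℤ}
    (hz : ∀ i : ℤ, (i < a ∨ b < i) → IsZero (I.X i))
    (hcoh : ∀ i : ℤ, Coh.IsCoh (DCoh.HD (DCoh.toD X I) i))
    (hst : ∀ x : X, Dual.IsDualizing (X.presheaf.stalk x)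
      (DRing.toD (((DerSch.stalkFunctor X x).mapHomologicalComplex (ComplexShape.up ℤ)).obj I))) :
    Dual2.IsDualizingSch X (DCoh.toD X I) := by
  intro A _ j _
  haveI : (tilde.functor (CommRingCat.of A)).Additive := tilde_additive _
  haveI : PreservesFiniteColimits (tilde.functor (CommRingCat.of A)) := QCoh.tilde_preservesFiniteColimits
  haveI : IsLocallyNoetherian (Spec (CommRingCat.of A)) := isLocallyNoetherian_of_isOpenImmersion j
  haveI : IsNoetherianRing A := (isLocallyNoetherian_Spec (R := CommRingCat.of A)).1 inferInstance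
  obtain ⟨ω, ⟨e⟩⟩ := exists_tildeD_iso (R := CommRingCat.of A)
    (isQCohD_rho j (show DCoh.IsQCohD (DCoh.toD X I) from fun i => (hcoh i).1))
  let T := tilde.functor (CommRingCat.of A)
  let J := ((Scheme.Modules.restrictFunctor j).mapHomologicalComplex (ComplexShape.up ℤ)).obj I
  let eJ : (DCoh.tildeD (CommRingCat.of A)).obj ω ≅ DerivedCategory.Q.obj J :=
    e ≪≫ (Scheme.Modules.restrictFunctor j).mapDerivedCategoryFactors.app I
  have hJz : ∀ k, (k < a ∨ b < k) → IsZero (J.X k) := fun k hk => Functor.map_isZero (Scheme.Modules.restrictFunctor j) (hz k hk)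
  have hJinj : ∀ n, Injective (J.X n) := fun n => by
    haveI := hIinj n
    exact H9Misc.StalkInjective.injective_restrict j (I.X n)
  refine ⟨ω, ?_, ⟨e.symm⟩⟩
  have hH : ∀ k, Nonempty ((DCoh.HD (DCoh.toD X I) k).restrict j ≅
      tilde (R := CommRingCat.of A) ((DerivedCategory.homologyFunctor (ModuleCat.{u} A) k).obj ω)) :=
    fun k => exists_restrict_hd_iso j e.symm k
  have hfin : ∀ k : ℤ, Module.Finite A (Dual.HD A ω k) := fun k => by
    obtain ⟨eH⟩ := hH k
    exact (isCoh_tilde_iff _).1 (KFlatLib.isCoh_of_iso eH (KFlatLib.isCoh_restrict j (hcoh k)))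
  have hzero : ∀ k, (k < a ∨ b < k) → IsZero ((DerivedCategory.homologyFunctor (ModuleCat.{u} A) k).obj ω) := fun k hk => by
    have h1 : IsZero ((DerivedCategory.homologyFunctor _ k).obj (DerivedCategory.Q.obj J)) :=
      IsZero.of_iso (show IsZero (J.homology k) from
        ShortComplex.isZero_homology_of_isZero_X₂ _ (hJz k hk)) ((DerivedCategory.homologyFunctorFactors _ k).app J)
    have h2 := h1.of_iso (((mapDCHomologyIso T k).app ω).symm ≪≫ (DerivedCategory.homologyFunctor _ k).mapIso eJ)
    exact (IsZero.iff_id_eq_zero _).2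
      ((tilde.fullyFaithfulFunctor (R := CommRingCat.of A)).map_injective (h2.eq_of_src _ _))
  haveI : ω.IsGE a := (DerivedCategory.isGE_iff _ _).2 fun k hk => hzero k (Or.inl hk)
  haveI : ω.IsLE b := (DerivedCategory.isLE_iff _ _).2 fun k hk => hzero k (Or.inr hk)
  let S : {m : Ideal A // m.IsMaximal} → Type u := fun m => ((Spec (CommRingCat.of A)).presheaf.stalk ⟨m.1, m.2.isPrime⟩ : CommRingCat.{u})
  letI : ∀ m, CommRing (S m) := fun m => inferInstanceAs (CommRing ((Spec (CommRingCat.of A)).presheaf.stalk ⟨m.1, m.2.isPrime⟩ : CommRingCat.{u}))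
  letI : ∀ m, Algebra A (S m) := fun m => (toStalkHom (R := CommRingCat.of A) ⟨m.1, m.2.isPrime⟩).toAlgebra
  haveI : ∀ m : {m : Ideal A // m.IsMaximal}, m.1.IsPrime := fun m => m.2.isPrime
  haveI hl : ∀ m : {m : Ideal A // m.IsMaximal}, IsLocalization.AtPrime (S m) m.1 := fun m =>
    StructureSheaf.IsLocalization.to_stalk (CommRingCat.of A) ⟨m.1, m.2.isPrime⟩
  haveI : ∀ m, Module.Flat A (S m) := fun m => IsLocalization.flat (S m) m.1.primeCompl
  haveI : ∀ m, DTen.HasLBase (algebraMap A (S m)) := fun m => hasLBase _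
  refine isDualizing_of_family (B := S) (fun m hm => ⟨⟨m, hm⟩, ?_⟩) a b hfin ⟨a, b, fun M _ _ i hi => ?_⟩ fun m => ?_
  · haveI : IsLocalization m.primeCompl (S ⟨m, hm⟩) := hl ⟨m, hm⟩
    exact (IsLocalization.map_algebraMap_ne_top_iff_disjoint m.primeCompl _ m).2
      (Set.disjoint_left.2 fun x hx hx' => hx hx')
  · let F := DCoh.tildeD (CommRingCat.of A)
    have hsub := subsingleton_hom_single_injective hJz hJinj (T.obj (ModuleCat.of A M)) i hi
    refine ⟨fun f g => (tildeD_map_bijective (R := CommRingCat.of A) (Dual.inD A M) (ω⟦i⟧)).1 ?_⟩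
    let eS := (T.mapDerivedCategorySingleFunctor 0).app (ModuleCat.of A M)
    let eT := (F.commShiftIso i).app ω ≪≫ (shiftFunctor _ i).mapIso eJ
    rw [← cancel_epi eS.inv, ← cancel_mono eT.hom]
    exact hsub.elim _ _
  · let p : Spec (CommRingCat.of A) := ⟨m.1, m.2.isPrime⟩
    let ψ := (j.stalkMap p).hom
    let SX := DerSch.stalkFunctor X (j.base p)
    let SP := DerSch.stalkFunctor (Spec (CommRingCat.of A)) p
    letI := ψ.toAlgebra
    have hsurj : Function.Surjective ψ := (ConcreteCategory.bijective_of_isIso (j.stalkMap p)).2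
    haveI : Module.Flat (X.presheaf.stalk (j.base p)) (S m) :=
      RingHom.flat_algebraMap_iff.1 (RingHom.Flat.of_bijective (ConcreteCategory.bijective_of_isIso (j.stalkMap p)))
    haveI := hasLBase ψ
    haveI : IsNoetherianRing (S m) := IsLocalization.isNoetherianRing m.1.primeCompl (S m) inferInstance
    have hd := isDualizing_LBase (B := S m) (hst (j.base p))
      fun n _ => ⟨n.comap ψ, Ideal.map_comap_of_surjective ψ hsurj n⟩
    let K₀ := DerivedCategory.Q.objPreimage ω
    let eK : DerivedCategory.Q.obj K₀ ≅ ω := DerivedCategory.Q.objObjPreimageIso ω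
    let SI := (SX.mapHomologicalComplex (ComplexShape.up ℤ)).obj I
    let θ := (Scheme.Modules.restrictFunctorIsoPullback j)
    let ζ : Scheme.Modules.restrictFunctor j ⋙ SP ≅ SX ⋙ ModuleCat.extendScalars.{u, u, u} ψ :=
      Functor.isoWhiskerRight θ SP ≪≫ stalkPullbackIso j p
    obtain ⟨_, ⟨l1⟩⟩ := exists_LBase_map_iso (B := S m) (DerivedCategory.Q.obj SI)
    obtain ⟨_, ⟨l2⟩⟩ := exists_LBase_map_iso (A := A) (B := S m) (DerivedCategory.Q.obj K₀)
    exact isDualizing_of_iso (l1 ≪≫ (ModuleCat.extendScalars.{u, u, u} ψ).mapDerivedCategoryFactors.app SI ≪≫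
      DerivedCategory.Q.mapIso (((Functor.mapHomologicalComplexCompIso ζ.symm (ComplexShape.up ℤ)).app I) ≪≫
        ((Functor.mapHomologicalComplexCompIso (Iso.refl (Scheme.Modules.restrictFunctor j ⋙ SP)) (ComplexShape.up ℤ)).app I).symm) ≪≫
      (SP.mapDerivedCategoryFactors.app J).symm ≪≫ SP.mapDerivedCategory.mapIso
        (eJ.symm ≪≫ (DCoh.tildeD (CommRingCat.of A)).mapIso eK.symm ≪≫ T.mapDerivedCategoryFactors.app K₀) ≪≫
      SP.mapDerivedCategoryFactors.app _ ≪≫
      DerivedCategory.Q.mapIso ((Functor.mapHomologicalComplexCompIso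
        (stalkTildeIso (R := CommRingCat.of A) p) (ComplexShape.up ℤ)).app K₀) ≪≫
      ((ModuleCat.extendScalars.{u, u, u} (algebraMap A (S m))).mapDerivedCategoryFactors.app K₀).symm ≪≫
      l2.symm ≪≫ (DTen.LBase (algebraMap A (S m))).mapIso eK) hd

end Groth.Agent.KExact
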