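import Groth.Agent.KExact.TorBCGlobal

/-!
# The base change map on complexes, and its behaviour under composition of squares
-/

set_option linter.style.haveILetI false
set_option backward.isDefEq.respectTransparency false

universe u

open CategoryTheory CategoryTheory.Limits AlgebraicGeometry

attribute [local instance] HasDerivedCategory.standard

namespace Groth.Agent.KExact.TensorBC

open KFlatLib KFlatLib.FlatBC CanBC

local notation "Kh" X:max => HomotopyCategory (Scheme.Modules X) (ComplexShape.up ℤ)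
local notation "qq" X:max => HomotopyCategory.quotient (Scheme.Modules X) (ComplexShape.up ℤ)

variable {X X' S S' : Scheme.{u}}

/-- `K ⟶ Rg'_* g'^* K`. -/
noncomputable def psi (g' : X' ⟶ X) [DCoh.HasRpush g'] (K : Kh X) :
    DerivedCategory.Qh.obj K ⟶ (DCoh.Rpush g').obj (DerivedCategory.Qh.obj ((pullH g').obj K)) :=
  DerivedCategory.Qh.map ((adjH g').unit.app K) ≫ (beta g').app ((pullH g').obj K)

lemma psi_naturality (g' : X' ⟶ X) [DCoh.HasRpush g'] {K L : Kh X} (i : K ⟶ L) :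
    DerivedCategory.Qh.map i ≫ psi g' L =
      psi g' K ≫ (DCoh.Rpush g').map (DerivedCategory.Qh.map ((pullH g').map i)) := by
  have h : i ≫ (adjH g').unit.app L = (adjH g').unit.app K ≫ (pushH g').map ((pullH g').map i) :=
    (adjH g').unit.naturality i
  have h' : DerivedCategory.Qh.map ((pushH g').map ((pullH g').map i)) ≫ (beta g').app ((pullH g').obj L) =
      (beta g').app ((pullH g').obj K) ≫ (DCoh.Rpush g').map (DerivedCategory.Qh.map ((pullH g').map i)) :=
    (beta g').naturality ((pullH g').map i)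
  simp only [psi, Category.assoc]
  rw [← Functor.map_comp_assoc, h, Functor.map_comp_assoc, h']

lemma psi_eq (g' : X' ⟶ X) [DCoh.HasRpush g'] [DCoh.HasLpull g'] {A' : DCoh.Lpull g' ⊣ DCoh.Rpush g'}
    (hA' : ∀ K : Kh X, A'.unit.app (DerivedCategory.Qh.obj K) ≫ (DCoh.Rpush g').map ((alpha g').app K) =
      DerivedCategory.Qh.map ((adjH g').unit.app K) ≫ (beta g').app ((pullH g').obj K)) (K : Kh X) :
    psi g' K = A'.unit.app (DerivedCategory.Qh.obj K) ≫ (DCoh.Rpush g').map ((alpha g').app K) := (hA' K).symm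

section Square

variable {f : X ⟶ S} {g : S' ⟶ S} {g' : X' ⟶ X} {f' : X' ⟶ S'}
  [DCoh.HasRpush f] [DCoh.HasRpush g] [DCoh.HasRpush f'] [DCoh.HasRpush g']
  {L : DCoh.D S ⥤ DCoh.D S'} (A : L ⊣ DCoh.Rpush g)
  (e : DCoh.Rpush g' ⋙ DCoh.Rpush f ≅ DCoh.Rpush f' ⋙ DCoh.Rpush g)

/-- The base change map on a complex. -/
noncomputable def lam (K : Kh X) :
    L.obj ((DCoh.Rpush f).obj (DerivedCategory.Qh.obj K)) ⟶
      (DCoh.Rpush f').obj (DerivedCategory.Qh.obj ((pullH g').obj K)) :=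
  (A.homEquiv _ _).symm ((DCoh.Rpush f).map (psi g' K) ≫ e.hom.app _)

lemma homEquiv_lam (K : Kh X) :
    A.homEquiv _ _ (lam A e K) = (DCoh.Rpush f).map (psi g' K) ≫ e.hom.app _ :=
  Equiv.apply_symm_apply _ _

theorem lam_naturality {K M : Kh X} (i : K ⟶ M) :
    L.map ((DCoh.Rpush f).map (DerivedCategory.Qh.map i)) ≫ lam A e M =
      lam A e K ≫ (DCoh.Rpush f').map (DerivedCategory.Qh.map ((pullH g').map i)) := by
  refine (A.homEquiv _ _).injective ?_
  rw [A.homEquiv_naturality_left, A.homEquiv_naturality_right, homEquiv_lam, homEquiv_lam]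
  rw [← (DCoh.Rpush f).map_comp_assoc, psi_naturality, (DCoh.Rpush f).map_comp_assoc, Category.assoc]
  exact congrArg ((DCoh.Rpush f).map (psi g' K) ≫ ·)
    (e.hom.naturality (DerivedCategory.Qh.map ((pullH g').map i)))

theorem isIso_lam_of_iso {K M : Kh X} (i : K ≅ M) (h : IsIso (lam A e K)) : IsIso (lam A e M) := by
  haveI : IsIso (L.map ((DCoh.Rpush f).map (DerivedCategory.Qh.map i.hom)) ≫ lam A e M) := by
    rw [lam_naturality]
    haveI := h
    infer_instance
  exact IsIso.of_isIso_comp_left (L.map ((DCoh.Rpush f).map (DerivedCategory.Qh.map i.hom))) _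

/-- Invertibility does not depend on the adjunction. -/
theorem isIso_lam_iff {L₂ : DCoh.D S ⥤ DCoh.D S'} (B : L₂ ⊣ DCoh.Rpush g) (K : Kh X) :
    IsIso (lam A e K) ↔ IsIso (lam B e K) := by
  let σ := A.leftAdjointUniq B
  have h : lam A e K = σ.hom.app _ ≫ lam B e K := by
    refine (A.homEquiv _ _).injective ?_
    rw [homEquiv_lam, A.homEquiv_unit, Functor.map_comp, ← Category.assoc,
      Adjunction.unit_leftAdjointUniq_hom_app, ← B.homEquiv_unit, homEquiv_lam]
  rw [h]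
  exact ⟨fun hi => IsIso.of_isIso_comp_left (σ.hom.app _) _, fun hi => inferInstance⟩

/-- The base change map on a complex through the base change map of objects. -/
theorem lam_eq [DCoh.HasLpull g'] {A' : DCoh.Lpull g' ⊣ DCoh.Rpush g'}
    (hA' : ∀ K : Kh X, A'.unit.app (DerivedCategory.Qh.obj K) ≫ (DCoh.Rpush g').map ((alpha g').app K) =
      DerivedCategory.Qh.map ((adjH g').unit.app K) ≫ (beta g').app ((pullH g').obj K)) (K : Kh X) :
    lam A e K = BCMate.bc A A' e (DerivedCategory.Qh.obj K) ≫ (DCoh.Rpush f').map ((alpha g').app K) := by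
  refine (A.homEquiv _ _).injective ?_
  rw [homEquiv_lam, A.homEquiv_naturality_right, BCMate.homEquiv_bc, psi_eq g' hA',
    (DCoh.Rpush f).map_comp, Category.assoc, Category.assoc]
  exact congrArg ((DCoh.Rpush f).map (A'.unit.app (DerivedCategory.Qh.obj K)) ≫ ·)
    (e.hom.naturality ((alpha g').app K))

end Square

section Compose

variable {A₀ B₀ C₀ : Scheme.{u}} {v : A₀ ⟶ B₀} {g : B₀ ⟶ C₀} {k : A₀ ⟶ C₀} (hk : v ≫ g = k)

/-- `k^* = v^* g^*` on homotopy categories. -/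
noncomputable def pullComp : pullH k ≅ pullH g ⋙ pullH v :=
  (adjH k).leftAdjointUniq (((adjH g).comp (adjH v)).ofNatIsoRight (compP hk))

lemma unit_pullComp (K : Kh C₀) :
    (adjH k).unit.app K ≫ (pushH k).map ((pullComp hk).hom.app K) =
      ((adjH g).unit.app K ≫ (pushH g).map ((adjH v).unit.app ((pullH g).obj K))) ≫
        (compP hk).hom.app ((pullH v).obj ((pullH g).obj K)) := by
  erw [Adjunction.unit_leftAdjointUniq_hom_app]
  simp [Adjunction.ofNatIsoRight, Adjunction.comp_unit_app]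

variable [DCoh.HasRpush v] [DCoh.HasRpush g] [DCoh.HasRpush k]
  {c : DCoh.Rpush v ⋙ DCoh.Rpush g ≅ DCoh.Rpush k} (hc : IsCompCan hk c)

include hc in
/-- `psi` of a composition. -/
theorem psi_comp (K : Kh C₀) :
    psi g K ≫ (DCoh.Rpush g).map (psi v ((pullH g).obj K)) ≫ c.hom.app _ =
      psi k K ≫ (DCoh.Rpush k).map (DerivedCategory.Qh.map ((pullComp hk).hom.app K)) := by
  let K₁ := (pullH g).obj K
  let K₂ := (pullH v).obj K₁
  have h1 : (beta g).app K₁ ≫ (DCoh.Rpush g).map (DerivedCategory.Qh.map ((adjH v).unit.app K₁)) =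
      DerivedCategory.Qh.map ((pushH g).map ((adjH v).unit.app K₁)) ≫ (beta g).app ((pushH v).obj K₂) :=
    ((beta g).naturality ((adjH v).unit.app K₁)).symm
  have h2 := hc K₂
  rw [Category.assoc] at h2
  have h3 : (beta k).app ((pullH k).obj K) ≫
        (DCoh.Rpush k).map (DerivedCategory.Qh.map ((pullComp hk).hom.app K)) =
      DerivedCategory.Qh.map ((pushH k).map ((pullComp hk).hom.app K)) ≫ (beta k).app K₂ :=
    ((beta k).naturality ((pullComp hk).hom.app K)).symm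
  simp only [psi, Functor.map_comp, Category.assoc]
  erw [reassoc_of% h1, h2, h3]
  rw [← Functor.map_comp_assoc, ← Functor.map_comp_assoc, ← Functor.map_comp_assoc, unit_pullComp]

end Compose

section Horizontal

variable {X'' S'' : Scheme.{u}} {f : X ⟶ S} {g : S' ⟶ S} {g' : X' ⟶ X} {f' : X' ⟶ S'}
  {v : S'' ⟶ S'} {v' : X'' ⟶ X'} {f'' : X'' ⟶ S''} {k : S'' ⟶ S} {k' : X'' ⟶ X}
  [DCoh.HasRpush f] [DCoh.HasRpush g] [DCoh.HasRpush f'] [DCoh.HasRpush g'] [DCoh.HasRpush v]
  [DCoh.HasRpush v'] [DCoh.HasRpush f''] [DCoh.HasRpush k] [DCoh.HasRpush k']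

/-- The base change map on a complex for a horizontal composite. -/
theorem isIso_lam_hcomp (hw₂ : v' ≫ f' = f'' ≫ v)
    (hk : v ≫ g = k) (hk' : v' ≫ g' = k') (hw₃ : k' ≫ f = f'' ≫ k) {hw₁ : g' ≫ f = f' ≫ g}
    {e : DCoh.Rpush g' ⋙ DCoh.Rpush f ≅ DCoh.Rpush f' ⋙ DCoh.Rpush g} (he : IsCan hw₁ e)
    {ev : DCoh.Rpush v' ⋙ DCoh.Rpush f' ≅ DCoh.Rpush f'' ⋙ DCoh.Rpush v} (hev : IsCan hw₂ ev)
    {Lg : DCoh.D S ⥤ DCoh.D S'} (A : Lg ⊣ DCoh.Rpush g) {Lv : DCoh.D S' ⥤ DCoh.D S''} (Av : Lv ⊣ DCoh.Rpush v)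
    {Lk : DCoh.D S ⥤ DCoh.D S''} (B : Lk ⊣ DCoh.Rpush k)
    (e₂ : DCoh.Rpush k' ⋙ DCoh.Rpush f ≅ DCoh.Rpush f'' ⋙ DCoh.Rpush k) (he₂ : IsCan hw₃ e₂)
    (K : Kh X) (hv : IsIso (lam Av ev ((pullH g').obj K))) :
    IsIso (Lv.map (lam A e K)) ↔ IsIso (lam B e₂ K) := by
  obtain ⟨c, hc⟩ := exists_compCan hk
  obtain ⟨c', hc'⟩ := exists_compCan hk'
  rw [TorBCGen.isCan_unique he₂ (isCan_hcomp he hev hc hc' hw₃)]
  let e₃ := Functor.isoWhiskerRight c'.symm (DCoh.Rpush f) ≪≫ BCMate.hcomp e ev ≪≫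
    Functor.isoWhiskerLeft (DCoh.Rpush f'') c
  rw [isIso_lam_iff B e₃ ((A.comp Av).ofNatIsoRight c) K]
  let B' := (A.comp Av).ofNatIsoRight c
  let P := (pullComp hk').app K
  have key : lam B' e₃ K ≫ (DCoh.Rpush f'').map (DerivedCategory.Qh.map P.hom) =
      Lv.map (lam A e K) ≫ lam Av ev ((pullH g').obj K) := by
    refine (B'.homEquiv _ _).injective ?_
    rw [B'.homEquiv_naturality_right, homEquiv_lam]
    have hB : ∀ (x : Lv.obj (Lg.obj ((DCoh.Rpush f).obj (DerivedCategory.Qh.obj K))) ⟶ _),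
        B'.homEquiv _ ((DCoh.Rpush f'').obj (DerivedCategory.Qh.obj ((pullH v').obj ((pullH g').obj K)))) x =
        A.homEquiv _ _ (Av.homEquiv _ _ x) ≫ c.hom.app _ := fun x => by
      rw [(A.comp Av).homEquiv_ofNatIsoRight_apply c x, A.comp_homEquiv Av]
      rfl
    erw [hB]
    rw [Av.homEquiv_naturality_left, A.homEquiv_naturality_right, homEquiv_lam, homEquiv_lam]
    have n1 : e.hom.app (DerivedCategory.Qh.obj ((pullH g').obj K)) ≫
          (DCoh.Rpush g).map ((DCoh.Rpush f').map (psi v' ((pullH g').obj K))) =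
        (DCoh.Rpush f).map ((DCoh.Rpush g').map (psi v' ((pullH g').obj K))) ≫ e.hom.app _ :=
      (e.hom.naturality (psi v' ((pullH g').obj K))).symm
    have n2 : e₃.hom.app _ ≫ (DCoh.Rpush k).map ((DCoh.Rpush f'').map (DerivedCategory.Qh.map P.hom)) =
        (DCoh.Rpush f).map ((DCoh.Rpush k').map (DerivedCategory.Qh.map P.hom)) ≫ e₃.hom.app _ :=
      (e₃.hom.naturality (DerivedCategory.Qh.map P.hom)).symm
    have hp : psi k' K ≫ (DCoh.Rpush k').map (DerivedCategory.Qh.map P.hom) ≫ c'.inv.app _ =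
        psi g' K ≫ (DCoh.Rpush g').map (psi v' ((pullH g').obj K)) := by
      simp only [P, Iso.app_hom]
      rw [← reassoc_of% (psi_comp hk' hc' K)]
      erw [Iso.hom_inv_id_app, Category.comp_id]
    simp only [Functor.map_comp, Category.assoc]
    erw [n2, reassoc_of% n1]
    simp only [e₃, Iso.trans_hom, NatTrans.comp_app, Functor.isoWhiskerRight_hom, Functor.whiskerRight_app,
      Iso.symm_hom, Functor.isoWhiskerLeft_hom, Functor.whiskerLeft_app, BCMate.hcomp_app, Category.assoc]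
    rw [← Functor.map_comp_assoc, ← Functor.map_comp_assoc, ← Functor.map_comp_assoc]
    rw [Category.assoc, hp]
    rfl
  haveI := hv
  constructor
  · intro h
    haveI : IsIso (lam B' e₃ K ≫ (DCoh.Rpush f'').map (DerivedCategory.Qh.map P.hom)) := by
      rw [key]; exact IsIso.comp_isIso' h hv
    exact IsIso.of_isIso_comp_right _ ((DCoh.Rpush f'').map (DerivedCategory.Qh.map P.hom))
  · intro h
    haveI : IsIso (Lv.map (lam A e K) ≫ lam Av ev ((pullH g').obj K)) := by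
      rw [← key]; exact IsIso.comp_isIso' h inferInstance
    exact IsIso.of_isIso_comp_right _ (lam Av ev ((pullH g').obj K))

end Horizontal

section Vertical

variable {W W' : Scheme.{u}} {f : X ⟶ S} {g : S' ⟶ S} {g' : X' ⟶ X} {f' : X' ⟶ S'}
  {j : W ⟶ X} {j' : W' ⟶ X'} {hs : W' ⟶ W} {l : W ⟶ S} {l' : W' ⟶ S'}
  [DCoh.HasRpush f] [DCoh.HasRpush g] [DCoh.HasRpush f'] [DCoh.HasRpush g'] [DCoh.HasRpush j]
  [DCoh.HasRpush j'] [DCoh.HasRpush hs] [DCoh.HasRpush l] [DCoh.HasRpush l']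

omit [DCoh.HasRpush f] [DCoh.HasRpush g] [DCoh.HasRpush f'] [DCoh.HasRpush g'] [DCoh.HasRpush j]
  [DCoh.HasRpush j'] [DCoh.HasRpush hs] [DCoh.HasRpush l] [DCoh.HasRpush l'] in
lemma compP_comp_inv {k : W' ⟶ X} (h₁ : hs ≫ j = k) (h₂ : j' ≫ g' = k) (M : Kh W') :
    (compP h₁).hom.app M ≫ (compP h₂).inv.app M = (sqK (f := j) (g := g') (f' := j') (g' := hs)
      (h₁.trans h₂.symm) M).hom := by
  change (qq X).map _ ≫ (qq X).map _ = (qq X).map _
  rw [← Functor.map_comp]
  refine congrArg _ (HomologicalComplex.hom_ext _ _ fun n => ?_)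
  subst h₁
  ext V : 1
  simp only [compCx, squareCx, squareIso, HomologicalComplex.comp_f, HomologicalComplex.Hom.isoOfComponents_hom_f,
    HomologicalComplex.Hom.isoOfComponents_inv_f, Iso.trans_hom, Iso.trans_inv,
    NatTrans.comp_app, Iso.app_hom, Iso.app_inv, Iso.symm_hom, Scheme.Modules.Hom.comp_app]
  simp

/-- The square identification from the two composites. -/
theorem isCan_of_compCan {k : W' ⟶ X} [DCoh.HasRpush k] {h₁ : hs ≫ j = k} {h₂ : j' ≫ g' = k}
    {c₁ : DCoh.Rpush hs ⋙ DCoh.Rpush j ≅ DCoh.Rpush k} (hc₁ : IsCompCan h₁ c₁)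
    {c₂ : DCoh.Rpush j' ⋙ DCoh.Rpush g' ≅ DCoh.Rpush k} (hc₂ : IsCompCan h₂ c₂) :
    IsCan (f := j) (g := g') (f' := j') (g' := hs) (h₁.trans h₂.symm) (c₁ ≪≫ c₂.symm) := by
  intro M
  have h2 : (beta k).app M ≫ c₂.inv.app (DerivedCategory.Qh.obj M) =
      DerivedCategory.Qh.map ((compP h₂).inv.app M) ≫
        (beta g').app ((pushH j').obj M) ≫ (DCoh.Rpush g').map ((beta j').app M) := by
    rw [← cancel_mono (c₂.hom.app (DerivedCategory.Qh.obj M)), Category.assoc, Category.assoc,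
      Iso.inv_hom_id_app]
    erw [Category.comp_id]
    rw [hc₂ M, ← Category.assoc, ← Functor.map_comp,
      Iso.inv_hom_id_app, CategoryTheory.Functor.map_id]
    exact (Category.id_comp _).symm
  simp only [Iso.trans_hom, NatTrans.comp_app, Iso.symm_hom]
  rw [← Category.assoc, hc₁ M, Category.assoc, h2, ← Functor.map_comp_assoc, compP_comp_inv h₁ h₂ M]
  rfl

/-- The base change map on a complex for a vertical composite. -/
theorem isIso_lam_vcomp {hw₁ : g' ≫ f = f' ≫ g}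
    {e : DCoh.Rpush g' ⋙ DCoh.Rpush f ≅ DCoh.Rpush f' ⋙ DCoh.Rpush g} (he : IsCan hw₁ e)
    (hw₂ : hs ≫ j = j' ≫ g') (hl : j ≫ f = l) (hl' : j' ≫ f' = l') (hw₃ : hs ≫ l = l' ≫ g)
    {el : DCoh.Rpush hs ⋙ DCoh.Rpush l ≅ DCoh.Rpush l' ⋙ DCoh.Rpush g} (hel : IsCan hw₃ el)
    {Lg : DCoh.D S ⥤ DCoh.D S'} (A : Lg ⊣ DCoh.Rpush g) (K : Kh X)
    (hj : IsIso (psi j K)) (hj' : IsIso (psi j' ((pullH g').obj K)))
    (h : IsIso (lam A el ((pullH j).obj K))) : IsIso (lam A e K) := by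
  let k := hs ≫ j
  haveI := hasRpush_scheme k
  obtain ⟨c₁, hc₁⟩ := exists_compCan (v := hs) (g := j) (k := k) rfl
  obtain ⟨c₂, hc₂⟩ := exists_compCan (v := j') (g := g') (k := k) hw₂.symm
  obtain ⟨d, hd⟩ := exists_compCan hl
  obtain ⟨d', hd'⟩ := exists_compCan hl'
  have hej := isCan_of_compCan hc₁ hc₂
  rw [TorBCGen.isCan_unique hel (isCan_vcomp he hej hd hd' hw₃)] at h
  let ej := c₁ ≪≫ c₂.symm
  let el' := Functor.isoWhiskerLeft (DCoh.Rpush hs) d.symm ≪≫ BCMate.vcomp e ej ≪≫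
    Functor.isoWhiskerRight d' (DCoh.Rpush g)
  let P : (pullH hs).obj ((pullH j).obj K) ≅ (pullH j').obj ((pullH g').obj K) :=
    ((pullComp (v := hs) (g := j) (k := k) rfl).app K).symm ≪≫ (pullComp (v := j') (g := g') (k := k) hw₂.symm).app K
  have hp : psi j K ≫ (DCoh.Rpush j).map (psi hs ((pullH j).obj K)) ≫ ej.hom.app _ ≫
      (DCoh.Rpush g').map ((DCoh.Rpush j').map (DerivedCategory.Qh.map P.hom)) =
      psi g' K ≫ (DCoh.Rpush g').map (psi j' ((pullH g').obj K)) := by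
    have n : c₂.inv.app _ ≫ (DCoh.Rpush g').map ((DCoh.Rpush j').map (DerivedCategory.Qh.map P.hom)) =
        (DCoh.Rpush k).map (DerivedCategory.Qh.map P.hom) ≫ c₂.inv.app _ :=
      (c₂.inv.naturality (DerivedCategory.Qh.map P.hom)).symm
    simp only [ej, Iso.trans_hom, NatTrans.comp_app, Iso.symm_hom, Category.assoc]
    erw [n, reassoc_of% (psi_comp (v := hs) (g := j) (k := k) rfl hc₁ K)]
    rw [← Functor.map_comp_assoc, ← Functor.map_comp]
    simp only [P, Iso.trans_hom, Iso.symm_hom, Iso.app_inv, Iso.app_hom, Iso.hom_inv_id_app_assoc]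
    rw [← reassoc_of% (psi_comp hw₂.symm hc₂ K)]
    erw [Iso.hom_inv_id_app, Category.comp_id]
  have key : lam A e K ≫ (DCoh.Rpush f').map (psi j' ((pullH g').obj K)) ≫ d'.hom.app _ =
      Lg.map ((DCoh.Rpush f).map (psi j K) ≫ d.hom.app _) ≫ lam A el' ((pullH j).obj K) ≫
        (DCoh.Rpush l').map (DerivedCategory.Qh.map P.hom) := by
    refine (A.homEquiv _ _).injective ?_
    rw [A.homEquiv_naturality_right, A.homEquiv_naturality_left, A.homEquiv_naturality_right, homEquiv_lam,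
      homEquiv_lam]
    have n1 : e.hom.app (DerivedCategory.Qh.obj ((pullH g').obj K)) ≫
          (DCoh.Rpush g).map ((DCoh.Rpush f').map (psi j' ((pullH g').obj K))) =
        (DCoh.Rpush f).map ((DCoh.Rpush g').map (psi j' ((pullH g').obj K))) ≫ e.hom.app _ :=
      (e.hom.naturality (psi j' ((pullH g').obj K))).symm
    have n2 : el'.hom.app _ ≫ (DCoh.Rpush g).map ((DCoh.Rpush l').map (DerivedCategory.Qh.map P.hom)) =
        (DCoh.Rpush l).map ((DCoh.Rpush hs).map (DerivedCategory.Qh.map P.hom)) ≫ el'.hom.app _ :=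
      (el'.hom.naturality (DerivedCategory.Qh.map P.hom)).symm
    have n3 : ∀ {M N : DCoh.D W} (x : M ⟶ N), d.hom.app M ≫ (DCoh.Rpush l).map x =
        (DCoh.Rpush f).map ((DCoh.Rpush j).map x) ≫ d.hom.app N := fun x => (d.hom.naturality x).symm
    have n4 : (DCoh.Rpush j).map ((DCoh.Rpush hs).map (DerivedCategory.Qh.map P.hom)) ≫ ej.hom.app _ =
        ej.hom.app _ ≫ (DCoh.Rpush g').map ((DCoh.Rpush j').map (DerivedCategory.Qh.map P.hom)) :=
      ej.hom.naturality (DerivedCategory.Qh.map P.hom)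
    simp only [Functor.map_comp, Category.assoc]
    erw [n2, reassoc_of% n1, reassoc_of% (n3 (psi hs ((pullH j).obj K))),
      reassoc_of% (n3 ((DCoh.Rpush hs).map (DerivedCategory.Qh.map P.hom)))]
    simp only [el', Iso.trans_hom, NatTrans.comp_app, Functor.isoWhiskerRight_hom, Functor.whiskerRight_app,
      Iso.symm_hom, Functor.isoWhiskerLeft_hom, Functor.whiskerLeft_app, BCMate.vcomp_app, Category.assoc,
      Iso.hom_inv_id_app_assoc]
    rw [← Functor.map_comp_assoc (DCoh.Rpush f), ← Functor.map_comp_assoc (DCoh.Rpush f),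
      ← Functor.map_comp_assoc (DCoh.Rpush f), ← Functor.map_comp_assoc (DCoh.Rpush f)]
    simp only [Category.assoc]
    rw [n4, hp]
  haveI := hj
  haveI := hj'
  haveI : IsIso (lam A el' ((pullH j).obj K)) := h
  haveI : IsIso (lam A e K ≫ (DCoh.Rpush f').map (psi j' ((pullH g').obj K)) ≫ d'.hom.app _) := by
    rw [key]; infer_instance
  exact IsIso.of_isIso_comp_right _ ((DCoh.Rpush f').map (psi j' ((pullH g').obj K)) ≫ d'.hom.app _)

end Vertical

end Groth.Agent.KExact.TensorBC
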