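import Groth.Agent.KExact.TensorBC
import Groth.Agent.KFlatLib.Scheme.TorBCTensorMap
import Groth.Agent.KFlatLib.Scheme.ProjFormula
import Groth.Agent.KFlatLib.Scheme.RpushFF
import Groth.Agent.KFlatLib.Scheme.TriNatShift
import Groth.Agent.Lib.DerivedBC
import Mathlib.CategoryTheory.Monad.Adjunction

/-!
# Base change for derived tensor products with a module flat over the base
-/

set_option linter.style.haveILetI false
set_option backward.isDefEq.respectTransparency false

universe u

open CategoryTheory CategoryTheory.Limits AlgebraicGeometry Pretriangulated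

attribute [local instance] HasDerivedCategory.standard

namespace Groth.Agent.KExact.TensorBC

open KFlatLib KFlatLib.FlatBC KFlatLib.SecPoint CanBC
open KFlatLib.TorBC (exists_natTrans_of_counit)

local notation "Kh" X:max => HomotopyCategory (Scheme.Modules X) (ComplexShape.up ℤ)
local notation "qq" X:max => HomotopyCategory.quotient (Scheme.Modules X) (ComplexShape.up ℤ)

variable {X X' S S' : Scheme.{u}}

/-- `C ⊗ G` on the homotopy category. -/
noncomputable abbrev tK (G : X.Modules) (C : CochainComplex X.Modules ℤ) : Kh X :=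
  (qq X).obj ((tensorModCx G).obj C)

/-- Pulling `C ⊗ G` back. -/
noncomputable def pullTK (v : X' ⟶ X) (G : X.Modules) (C : CochainComplex X.Modules ℤ) :
    (pullH v).obj (tK G C) ≅ tK ((Scheme.Modules.pullback v).obj G) ((pullCx v).obj C) :=
  (qq X').mapIso ((TorBC.pullTensorModCxIso v G).app C).symm

/-- The value of `- ⊗^L G` on a K-flat complex. -/
noncomputable def ltIso (G : X.Modules) [DCoh.HasLTensorMod G] {C : CochainComplex X.Modules ℤ}
    (hC : DCoh.IsKFlat C) :
    (DCoh.LTensorMod G).obj (DerivedCategory.Q.obj C) ≅ DerivedCategory.Qh.obj (tK G C) :=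
  @asIso _ _ _ _ ((ltensorModComparison G).app C) (isIso_ltensorModComparison G hC) ≪≫
    ((DerivedCategory.quotientCompQhIso X.Modules).app _).symm

/-- The pullback of `C ⊗ G` computes `Lv^*C ⊗^L v^*G`. -/
noncomputable def pullLtIso (v : X' ⟶ X) [DCoh.HasLpull v] (G : X.Modules)
    [DCoh.HasLTensorMod ((Scheme.Modules.pullback v).obj G)] {C : CochainComplex X.Modules ℤ}
    (hC : DCoh.IsKFlat C) :
    DerivedCategory.Qh.obj ((pullH v).obj (tK G C)) ≅
      (DCoh.LTensorMod ((Scheme.Modules.pullback v).obj G)).obj ((DCoh.Lpull v).obj (DerivedCategory.Q.obj C)) :=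
  DerivedCategory.Qh.mapIso (pullTK v G C) ≪≫ (ltIso _ (isKFlat_pullback v hC)).symm ≪≫
    (DCoh.LTensorMod _).mapIso (lpullIso v hC).symm

lemma isQCohD_tK (G : X.Modules) (hG : Coh.IsQCoh G) {C : CochainComplex X.Modules ℤ} (hC : DCoh.IsKFlat C)
    (hq : DCoh.IsQCohD (DerivedCategory.Q.obj C)) : DCoh.IsQCohD (DerivedCategory.Qh.obj (tK G C)) := by
  haveI := hasLTensorMod G
  exact isQCohD_of_iso (ltIso G hC) (Lib.DerivedBC.isQCohD_ltensorMod hG hq)

lemma isQCohD_pullCx (v : X' ⟶ X) {C : CochainComplex X.Modules ℤ} (hC : DCoh.IsKFlat C)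
    (hq : DCoh.IsQCohD (DerivedCategory.Q.obj C)) : DCoh.IsQCohD (DerivedCategory.Q.obj ((pullCx v).obj C)) := by
  haveI := hasLpull v
  exact isQCohD_of_iso (lpullIso v hC) (isQCohD_lpull v hq)

/-- The base change map is invertible on `C ⊗ G`, for all K-flat `C` with quasi-coherent cohomology. -/
def Good (g' : X' ⟶ X) (f' : X' ⟶ S') (f : X ⟶ S) (g : S' ⟶ S) (G : X.Modules) : Prop :=
  ∀ [DCoh.HasRpush f] [DCoh.HasRpush g] [DCoh.HasRpush f'] [DCoh.HasRpush g'] [DCoh.HasLpull g]
    (hw : g' ≫ f = f' ≫ g) (e : DCoh.Rpush g' ⋙ DCoh.Rpush f ≅ DCoh.Rpush f' ⋙ DCoh.Rpush g), IsCan hw e →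
    ∀ (A : DCoh.Lpull g ⊣ DCoh.Rpush g) (C : CochainComplex X.Modules ℤ), DCoh.IsKFlat C →
      DCoh.IsQCohD (DerivedCategory.Q.obj C) → IsIso (lam A e (tK G C))

section Tau

variable {f : X ⟶ S} {g : S' ⟶ S} {g' : X' ⟶ X} {f' : X' ⟶ S'}
  [DCoh.HasRpush f] [DCoh.HasRpush g] [DCoh.HasRpush f'] [DCoh.HasRpush g'] [DCoh.HasLpull g] [DCoh.HasLpull g']

/-- The natural base change map. -/
theorem exists_tau (hw : g' ≫ f = f' ≫ g) (G : X.Modules) [DCoh.HasLTensorMod G]
    [DCoh.HasLTensorMod ((Scheme.Modules.pullback g').obj G)]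
    (e : DCoh.Rpush g' ⋙ DCoh.Rpush f ≅ DCoh.Rpush f' ⋙ DCoh.Rpush g) (A : DCoh.Lpull g ⊣ DCoh.Rpush g) :
    ∃ τ : (DCoh.LTensorMod G ⋙ DCoh.Rpush f) ⋙ DCoh.Lpull g ⟶
        (DCoh.Lpull g' ⋙ DCoh.LTensorMod ((Scheme.Modules.pullback g').obj G)) ⋙ DCoh.Rpush f',
      ∀ C, DCoh.IsKFlat C → (IsIso (τ.app (DerivedCategory.Q.obj C)) ↔ IsIso (lam A e (tK G C))) := by
  obtain ⟨A', hA'⟩ := exists_adj g'
  let θ := BCMate.bcTrans A A' e
  obtain ⟨φ, hφ⟩ := TorBC.exists_pull_tensor_map g' G
  let τ : (DCoh.LTensorMod G ⋙ DCoh.Rpush f) ⋙ DCoh.Lpull g ⟶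
      (DCoh.Lpull g' ⋙ DCoh.LTensorMod ((Scheme.Modules.pullback g').obj G)) ⋙ DCoh.Rpush f' :=
    Functor.whiskerLeft (DCoh.LTensorMod G) θ ≫ Functor.whiskerRight φ (DCoh.Rpush f')
  refine ⟨τ, fun C hC => ?_⟩
  obtain ⟨c, hc⟩ := hφ C hC
  let T := (tensorModCx G).obj C
  let q := (DerivedCategory.quotientCompQhIso X.Modules).inv.app T
  let r := (quotientMapIso (Scheme.Modules.pullback g')).hom.app T
  have nat : (DCoh.Lpull g).map ((DCoh.Rpush f).map q) ≫ θ.app (DerivedCategory.Qh.obj ((qq X).obj T)) =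
      θ.app (DerivedCategory.Q.obj T) ≫ (DCoh.Rpush f').map ((DCoh.Lpull g').map q) := θ.naturality q
  have nat' : (DCoh.Lpull g).map ((DCoh.Rpush f).map ((ltensorModComparison G).app C)) ≫
      θ.app (DerivedCategory.Q.obj T) =
      θ.app ((DCoh.LTensorMod G).obj (DerivedCategory.Q.obj C)) ≫
        (DCoh.Rpush f').map ((DCoh.Lpull g').map ((ltensorModComparison G).app C)) :=
    θ.naturality ((ltensorModComparison G).app C)
  have hl : lam A e (tK G C) =
      θ.app (DerivedCategory.Qh.obj ((qq X).obj T)) ≫ (DCoh.Rpush f').map ((alpha g').app ((qq X).obj T)) :=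
    lam_eq A e hA' _
  have hlp : (lpullComparison g').app T = (DCoh.Lpull g').map q ≫ (alpha g').app ((qq X).obj T) ≫ r := by
    simp only [q, r, lpullComparison, NatTrans.comp_app, Functor.whiskerLeft_app, Functor.whiskerRight_app,
      Functor.associator_hom_app, Category.id_comp]
  have ex : τ.app (DerivedCategory.Q.obj C) ≫ (DCoh.Rpush f').map c.hom =
      (DCoh.Lpull g).map ((DCoh.Rpush f).map ((ltensorModComparison G).app C)) ≫
        (DCoh.Lpull g).map ((DCoh.Rpush f).map q) ≫ lam A e (tK G C) ≫ (DCoh.Rpush f').map r := by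
    change (θ.app _ ≫ (DCoh.Rpush f').map (φ.app _)) ≫ (DCoh.Rpush f').map c.hom = _
    rw [Category.assoc, ← Functor.map_comp, hc, hlp, hl]
    simp only [Functor.map_comp, Category.assoc]
    rw [← reassoc_of% nat', ← reassoc_of% nat]
  haveI := isIso_ltensorModComparison G hC
  constructor
  · intro h
    have h2 : IsIso (τ.app (DerivedCategory.Q.obj C) ≫ (DCoh.Rpush f').map c.hom) := IsIso.comp_isIso' h inferInstance
    rw [ex] at h2
    have h3 := @IsIso.of_isIso_comp_left _ _ _ _ _ _ _ inferInstance h2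
    have h4 := @IsIso.of_isIso_comp_left _ _ _ _ _ _ _ inferInstance h3
    exact @IsIso.of_isIso_comp_right _ _ _ _ _ _ _ inferInstance h4
  · intro h
    haveI : IsIso (τ.app (DerivedCategory.Q.obj C) ≫ (DCoh.Rpush f').map c.hom) := by
      rw [ex]; infer_instance
    exact IsIso.of_isIso_comp_right _ ((DCoh.Rpush f').map c.hom)

end Tau

/-- `- ⊗^L G` is a left adjoint. -/
theorem isLeftAdjoint_ltensorMod (G : X.Modules) [DCoh.HasLTensorMod G] :
    (DCoh.LTensorMod G).IsLeftAdjoint := by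
  let F := (HomologicalComplex.single X.Modules (ComplexShape.up ℤ) 0).obj G
  let P := (kRes X).obj F
  haveI := (flatCover X).quasiIso_ψ F
  haveI := hasLTensorCx P
  haveI := hasRSheafHom_of_isKFlat P (isKFlat_kRes F)
  let μ : DCoh.tensorCx.flip.obj P ⟶ tensorModCx G :=
    DCoh.tensorCx.flip.map ((flatCover X).ψ.app F) ≫ (singleIso (DCoh.tensorBi (X := X)) G).hom
  let c : DerivedCategory.Q ⋙ DCoh.LTensorCx P ⟶ tensorModCx G ⋙ DerivedCategory.Q :=
    (DCoh.tensorCxQ P).totalLeftDerivedCounit DerivedCategory.Q (qisX X) ≫ Functor.whiskerRight μ DerivedCategory.Q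
  have hc : ∀ C, DCoh.IsKFlat C → IsIso (c.app C) := fun C hC => by
    haveI := isIso_LTensorCx_counit P hC
    haveI : QuasiIso ((DCoh.tensorCx.obj C).map ((flatCover X).ψ.app F)) :=
      KFlat.quasiIso_map' (tensorBiFlipIso X) hC _
    haveI := isIso_Q_map ((DCoh.tensorCx.obj C).map ((flatCover X).ψ.app F)) inferInstance
    haveI : IsIso (DerivedCategory.Q.map (μ.app C)) := by
      have h : DerivedCategory.Q.map (μ.app C) = DerivedCategory.Q.map ((DCoh.tensorCx.obj C).map ((flatCover X).ψ.app F)) ≫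
          DerivedCategory.Q.map ((singleIso (DCoh.tensorBi (X := X)) G).hom.app C) := Functor.map_comp _ _ _
      rw [h]; infer_instance
    exact IsIso.comp_isIso' inferInstance ‹IsIso (DerivedCategory.Q.map (μ.app C))›
  obtain ⟨φ, hφ⟩ := exists_natTrans_of_counit DerivedCategory.Q (qisX X) (kRes X) (flatCover X).ψ
    (fun K => (flatCover X).quasiIso_ψ K) (ltensorModComparison G) c (fun K => hc _ (isKFlat_kRes K))
  haveI : ∀ E, IsIso (φ.app E) := fun E => by
    let R := (kRes X).obj (DerivedCategory.Q.objPreimage E)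
    let r : DerivedCategory.Q.obj R ≅ E := (resQIso X).app _ ≪≫ DerivedCategory.Q.objObjPreimageIso E
    refine (NatTrans.isIso_app_iff_of_iso φ r).1 ?_
    haveI := isIso_ltensorModComparison G (isKFlat_kRes (DerivedCategory.Q.objPreimage E))
    haveI := hc R (isKFlat_kRes _)
    haveI : IsIso (φ.app (DerivedCategory.Q.obj R) ≫ c.app R) := by rw [hφ]; infer_instance
    exact IsIso.of_isIso_comp_right _ (c.app R)
  haveI := NatIso.isIso_of_isIso_app φ
  exact Functor.isLeftAdjoint_of_iso (asIso φ).symm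

variable {f : X ⟶ S} {g : S' ⟶ S} {g' : X' ⟶ X} {f' : X' ⟶ S'}

/-- Separated morphisms of an affine base. -/
theorem good_separated [IsAffine S] [IsAffine S'] (h : IsPullback g' f' f g) [IsSeparated f] [QuasiCompact f]
    (G : X.Modules) (hG : Coh.IsQCoh G) (hflat : FlatMod.IsFlatOver f G) : Good g' f' f g G := by
  intro _ _ _ _ _ hw e he A C₁ hC₁ hq
  haveI := hasLpull g'
  haveI := hasLTensorMod G
  let G' := (Scheme.Modules.pullback g').obj G
  haveI := hasLTensorMod G'
  haveI : CompactSpace X := QuasiCompact.compactSpace_of_compactSpace f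
  haveI : QuasiSeparatedSpace X := quasiSeparatedSpace_of_quasiSeparated f
  haveI : QuasiCompact f' := MorphismProperty.of_isPullback (P := @QuasiCompact) h inferInstance
  haveI : IsSeparated f' := MorphismProperty.of_isPullback (P := @IsSeparated) h inferInstance
  obtain ⟨τ, hτ⟩ := exists_tau hw G e A
  let Φ := (DCoh.LTensorMod G ⋙ DCoh.Rpush f) ⋙ DCoh.Lpull g
  let Ψ := (DCoh.Lpull g' ⋙ DCoh.LTensorMod G') ⋙ DCoh.Rpush f'
  let Q := TriNat.good τ
  haveI : Q.IsTriangulated := TriNat.isTriangulated_good τ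
    (TriNat.presTri_comp (TriNat.presTri_comp (TriNat.presTri_ltensorMod G) (TriNat.presTri_rpush f))
      (TriNat.presTri_lpull g))
    (TriNat.presTri_comp (TriNat.presTri_comp (TriNat.presTri_lpull g') (TriNat.presTri_ltensorMod G'))
      (TriNat.presTri_rpush f'))
  suffices hQ : ∀ E, DCoh.IsQCohD E → Q E from (hτ C₁ hC₁).1
    ((NatTrans.isIso_app_iff_of_iso τ ((shiftFunctorZero (DCoh.D X) ℤ).app (DerivedCategory.Q.obj C₁))).1
      (hQ _ hq 0))
  intro E hE
  obtain ⟨A₀, hA₀⟩ := exists_adj g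
  obtain ⟨A', hA'⟩ := exists_adj g'
  obtain ⟨adj'⟩ := nonempty_lpull_rpush_adj g'
  refine prop_of_affine_rpush Q (fun C₀ j _ _ F hF => ?_) E hE
  let W := Spec C₀
  haveI : IsAffineHom (j ≫ f) := isAffineHom_of_isAffine _
  haveI : IsAffineHom j :=
    MorphismProperty.of_postcomp (W := @IsAffineHom) (W' := @IsSeparated) j f inferInstance inferInstance
  -- the test objects
  have test : ∀ n : ℤ, IsIso (τ.app ((DerivedCategory.singleFunctor X.Modules n).obj
      ((Scheme.Modules.pushforward j).obj (Coh.structureModule W)))) := fun n => by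
    let V := j.opensRange
    let M := (Scheme.Modules.pushforward j).obj (Coh.structureModule W)
    let C := (HomologicalComplex.single X.Modules (ComplexShape.up ℤ) n).obj M
    let N := (DCoh.tensorRightMod G).obj M
    have hC : DCoh.IsKFlat C := by
      haveI : CochainComplex.IsStrictlyLE C n := (CochainComplex.isStrictlyLE_iff _ n).2
        fun i hi => HomologicalComplex.isZero_single_obj_X (ComplexShape.up ℤ) n _ i (by omega)
      exact isKFlat_of_isStrictlyLE C n (isFlat_single n (TorBC.isFlat_pushforward_structure j))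
    let H := (Scheme.Modules.pullback j).obj G
    have hH : Coh.IsQCoh H := QCoh.isQCoh_pullback j hG
    obtain ⟨eN⟩ := nonempty_push_pull_iso j (TorBC.isFlat_pushforward_structure j) hG
    let eN' : N ≅ (Scheme.Modules.pushforward j).obj H := eN
    have hN : Coh.IsQCoh N := isQCoh_of_iso eN'.symm (QCoh.isQCoh_pushforward j hH)
    have hb : ∀ O : X.Opens, Function.Bijective (QCoh.rs N (inf_le_left : O ⊓ V ≤ O)) := fun O => by
      have e₀ : j ⁻¹ᵁ (O ⊓ V) = j ⁻¹ᵁ O := by
        ext x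
        exact ⟨fun hx => hx.1, fun hx => ⟨hx, ⟨x, rfl⟩⟩⟩
      have key : ∀ x, eN'.hom.app (O ⊓ V) (QCoh.rs _ (inf_le_left : O ⊓ V ≤ O) x) =
          QCoh.rs _ inf_le_left (eN'.hom.app O x) := fun x => QCoh.app_rs eN'.hom _ x
      refine (Function.Bijective.of_comp_iff'
        (ConcreteCategory.bijective_of_isIso (eN'.hom.app (O ⊓ V))) _).1 ?_
      rw [show (eN'.hom.app (O ⊓ V) : _ → _) ∘ QCoh.rs _ (inf_le_left : O ⊓ V ≤ O) = _ from funext key]
      exact (show Function.Bijective (QCoh.rs ((Scheme.Modules.pushforward j).obj H) (inf_le_left : O ⊓ V ≤ O)) from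
        TorBC.bijective_rs_of_eq H e₀).comp (ConcreteCategory.bijective_of_isIso (eN'.hom.app O))
    have hNf : FlatMod.IsFlat ((Scheme.Modules.pushforward f).obj N) := by
      have hfl : FlatMod.IsFlatOver (j ≫ f) H := fun x =>
        RelTor.flatOverAt_of_iso ((Scheme.Modules.restrictFunctorIsoPullback j).app G)
          ((RelTor.flatOverAt_restrict_iff j f G x).1 (hflat (j.base x)))
      exact IsFlat.of_iso ((Scheme.Modules.pushforward f).mapIso eN' ≪≫
        (Scheme.Modules.pushforwardComp j f).app H).symm (TorBC.isFlat_pushforward_of_flatOver (j ≫ f) hH hfl)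
    refine (NatTrans.isIso_app_iff_of_iso τ ((DerivedCategory.singleFunctorIsoCompQ X.Modules n).app M)).2 ?_
    refine (hτ C hC).2 (isIso_lam_of_iso A e ((qq X).mapIso
      ((HomologicalComplex.singleMapHomologicalComplex (DCoh.tensorRightMod G) (ComplexShape.up ℤ) n).app M)).symm ?_)
    rw [isIso_lam_iff A e A₀, lam_eq A₀ e hA']
    exact TorBC.isIso_baseChangeApp_comp_single h hA₀ hA' e he hN V (isAffineOpen_opensRange j) hb hNf n
  haveI : PreservesFiniteLimits (tilde.functor C₀) := QCoh.tilde_preservesFiniteLimits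
  haveI : PreservesFiniteColimits (tilde.functor C₀) := QCoh.tilde_preservesFiniteColimits
  haveI : (tilde.functor C₀).Additive := tilde_additive _
  let T := DCoh.tildeD C₀
  let L := T ⋙ DCoh.Rpush j
  obtain ⟨M, ⟨eM⟩⟩ := exists_tildeD_iso hF
  suffices hall : ∀ M, Q (L.obj M) from Q.prop_of_iso ((DCoh.Rpush j).mapIso eM) (hall M)
  intro M
  let Pr : ObjectProperty (DerivedCategory (ModuleCat.{u} C₀)) := fun N => Q (L.obj N)
  haveI : Pr.IsClosedUnderIsomorphisms := ⟨fun i h => Q.prop_of_iso (L.mapIso i) h⟩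
  refine derived_induction Pr (fun T' hT h₁ h₂ => ?_) (fun J K hK => ?_) (fun n => ?_) M
  · obtain ⟨c, hc⟩ := TriNat.presTri_rpush j _ (T.map_distinguished T' hT)
    exact ObjectProperty.ext_of_isTriangulatedClosed₃ Q _ hc h₁ h₂
  · haveI : HasColimitsOfShape (Discrete J) (DCoh.D X) := TriCat.hasColimitsOfShape_derivedCategory
    haveI : HasColimitsOfShape (Discrete J) (DCoh.D X') := TriCat.hasColimitsOfShape_derivedCategory
    haveI : HasColimitsOfShape (Discrete J) (DCoh.D (Spec C₀)) := TriCat.hasColimitsOfShape_derivedCategory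
    haveI : HasColimitsOfShape (Discrete J) (DCoh.D S) := TriCat.hasColimitsOfShape_derivedCategory
    haveI : HasColimitsOfShape (Discrete J) (DCoh.D S') := TriCat.hasColimitsOfShape_derivedCategory
    let tC := (tilde.functor C₀).mapHomologicalComplex (ComplexShape.up ℤ)
    let eT := (tilde.functor C₀).mapDerivedCategoryFactors
    haveI : PreservesColimitsOfShape (Discrete J) tC := by
      haveI : (tilde.functor C₀).IsLeftAdjoint := inferInstance
      exact ⟨fun {K} => ⟨fun {c} hc => ⟨HomologicalComplex.isColimitOfEval _ _ fun m =>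
        isColimitOfPreserves (HomologicalComplex.eval _ (ComplexShape.up ℤ) m ⋙ tilde.functor C₀) hc⟩⟩⟩
    haveI := preservesColimit_Q fun k => tC.obj (K k)
    let D : J → DCoh.D (Spec C₀) := fun k => DerivedCategory.Q.obj (tC.obj (K k))
    have hD : ∀ k, DCoh.IsQCohD (D k) := fun k => isQCohD_of_iso (eT.app (K k)) (isQCohD_tildeD C₀ _)
    haveI : IsIso (sigmaComparison (DCoh.Rpush j) D) := isIso_sigmaDesc_rpush j D hD
    let Z : J → DCoh.D X := fun k => (DCoh.Rpush j).obj (D k)
    have hZ : ∀ k, Q (Z k) := fun k => Q.prop_of_iso ((DCoh.Rpush j).mapIso (eT.app (K k))) (hK k)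
    have hZq : ∀ k, DCoh.IsQCohD (Z k) := fun k => isQCohD_rpush j (hD k)
    refine Q.prop_of_iso ((DCoh.Rpush j).mapIso (eT.app (∐ K) ≪≫ DerivedCategory.Q.mapIso
      (PreservesCoproduct.iso tC K) ≪≫ PreservesCoproduct.iso DerivedCategory.Q _) ≪≫
      (asIso (sigmaComparison (DCoh.Rpush j) D)).symm).symm ?_
    intro k
    let Zk : J → DCoh.D X := fun i => (Z i)⟦k⟧
    refine (NatTrans.isIso_app_iff_of_iso τ (PreservesCoproduct.iso (shiftFunctor (DCoh.D X) k) Z)).2 ?_
    have hZk : ∀ i, DCoh.IsQCohD (Zk i) := fun i => isQCohD_shift (hZq i) k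
    haveI := isLeftAdjoint_ltensorMod G
    haveI := isLeftAdjoint_ltensorMod G'
    haveI : PreservesColimit (Discrete.functor Zk) Φ := by
      let Y : J → DCoh.D X := fun i => (DCoh.LTensorMod G).obj (Zk i)
      haveI : IsIso (sigmaComparison (DCoh.Rpush f) Y) :=
        isIso_sigmaDesc_rpush f Y fun i => Lib.DerivedBC.isQCohD_ltensorMod hG (hZk i)
      haveI := PreservesCoproduct.of_iso_comparison (DCoh.Rpush f) Y
      haveI : PreservesColimit (Discrete.functor Zk ⋙ DCoh.LTensorMod G) (DCoh.Rpush f) :=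
        preservesColimit_of_iso_diagram _ (Discrete.natIso fun i => Iso.refl (Y i.as) :
          Discrete.functor Y ≅ Discrete.functor Zk ⋙ DCoh.LTensorMod G)
      haveI : PreservesColimitsOfShape (Discrete J) (DCoh.Lpull g) := A.leftAdjoint_preservesColimits.preservesColimitsOfShape
      infer_instance
    haveI : PreservesColimit (Discrete.functor Zk) Ψ := by
      haveI : PreservesColimitsOfShape (Discrete J) (DCoh.Lpull g') := adj'.leftAdjoint_preservesColimits.preservesColimitsOfShape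
      haveI : PreservesColimitsOfShape (Discrete J) (DCoh.Lpull g' ⋙ DCoh.LTensorMod G') := inferInstance
      let Y : J → DCoh.D X' := fun i => (DCoh.Lpull g' ⋙ DCoh.LTensorMod G').obj (Zk i)
      haveI : IsIso (sigmaComparison (DCoh.Rpush f') Y) :=
        isIso_sigmaDesc_rpush f' Y fun i =>
          Lib.DerivedBC.isQCohD_ltensorMod (QCoh.isQCoh_pullback g' hG) (isQCohD_lpull g' (hZk i))
      haveI := PreservesCoproduct.of_iso_comparison (DCoh.Rpush f') Y
      haveI : PreservesColimit (Discrete.functor Zk ⋙ (DCoh.Lpull g' ⋙ DCoh.LTensorMod G')) (DCoh.Rpush f') :=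
        preservesColimit_of_iso_diagram _ (Discrete.natIso fun i => Iso.refl (Y i.as) :
          Discrete.functor Y ≅ Discrete.functor Zk ⋙ (DCoh.Lpull g' ⋙ DCoh.LTensorMod G'))
      infer_instance
    exact TorBCGen.isIso_app_sigma τ Zk fun i => hZ i k
  · let O := Coh.structureModule (Spec C₀)
    obtain ⟨eI⟩ := AffineRpush.nonempty_rpush_inD j O QCoh.isQCoh_structureModule
    have hO : Q (DCoh.inD X ((Scheme.Modules.pushforward j).obj O)) := fun k =>
      (NatTrans.isIso_app_iff_of_iso τ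
        (((DerivedCategory.singleFunctors X.Modules).shiftIso k (-k) 0 (by omega)).app _)).2 (test (-k))
    obtain ⟨es⟩ := nonempty_rpush_shift j (DCoh.inD (Spec C₀) O) (-n)
    refine Q.prop_of_iso ?_ (Q.le_shift (-n) _ (Q.prop_of_iso eI.symm hO))
    exact es.symm ≪≫ (DCoh.Rpush j).mapIso
      (((DerivedCategory.singleFunctors (Spec C₀).Modules).shiftIso (-n) n 0 (by omega)).app O ≪≫
        (DerivedCategory.singleFunctor (Spec C₀).Modules n).mapIso tildeSelf.symm ≪≫
        (((tilde.functor C₀).mapDerivedCategorySingleFunctor n).app (ModuleCat.of C₀ C₀)).symm ≪≫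
        T.mapIso ((DerivedCategory.singleFunctorIsoCompQ (ModuleCat.{u} C₀) n).app (ModuleCat.of C₀ C₀)))

/-- `psi` is invertible on objects pushed forward from the open. -/
theorem isIso_psi_of_rpush {W : Scheme.{u}} (j : W ⟶ X) [IsOpenImmersion j] [DCoh.HasRpush j] (K : Kh X)
    (F : DCoh.D W) (e : DerivedCategory.Qh.obj K ≅ (DCoh.Rpush j).obj F) : IsIso (psi j K) := by
  haveI := hasLpull j
  obtain ⟨A', hA'⟩ := exists_adj j
  rw [psi_eq j hA']
  haveI := isIso_alpha_of_flat (f := j) K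
  obtain ⟨i⟩ := nonempty_rho_iso_lpull j
  obtain ⟨k⟩ := nonempty_rpush_restrictD_id j
  haveI := A'.isIso_counit_of_iso (Functor.isoWhiskerLeft (DCoh.Rpush j) i.symm ≪≫ k)
  haveI : IsIso (A'.unit.app ((DCoh.Rpush j).obj F)) :=
    IsIso.of_isIso_fac_right (hh := IsIso.id _) (A'.right_triangle_components F)
  haveI : IsIso (A'.unit.app (DerivedCategory.Qh.obj K)) :=
    (NatTrans.isIso_app_iff_of_iso A'.unit e).2 inferInstance
  infer_instance

/-- Tensor products with direct images from an open are direct images. -/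
theorem exists_ltensor_rpush {W : Scheme.{u}} (j : W ⟶ X) [QuasiCompact j] [QuasiSeparated j] [DCoh.HasRpush j]
    (G : X.Modules) (hG : Coh.IsQCoh G) [DCoh.HasLTensorMod G] (F : DCoh.D W) (hF : DCoh.IsQCohD F) :
    ∃ F', Nonempty ((DCoh.LTensorMod G).obj ((DCoh.Rpush j).obj F) ≅ (DCoh.Rpush j).obj F') := by
  haveI := hasLpull j
  let K := (HomologicalComplex.single X.Modules (ComplexShape.up ℤ) 0).obj G
  haveI := hasLTensorCx K
  let M := DerivedCategory.Q.objPreimage ((DCoh.Lpull j).obj (DerivedCategory.Q.obj K))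
  haveI := hasLTensorCx M
  have hK : DCoh.IsQCohD (DCoh.toD X K) :=
    isQCohD_of_iso ((DerivedCategory.singleFunctorIsoCompQ X.Modules 0).app G) (isQCohD_inD_of_isQCoh hG)
  obtain ⟨c⟩ := nonempty_ltensorMod_ltensorCx G ((DCoh.Rpush j).obj F)
  obtain ⟨p⟩ := nonempty_projection_DQCoh j F hF K hK M ⟨DerivedCategory.Q.objObjPreimageIso _⟩
  exact ⟨_, ⟨c ≪≫ p⟩⟩

/-- Affine bases. -/
theorem good_affine [IsAffine S] [IsAffine S'] (h : IsPullback g' f' f g) [QuasiCompact f] [QuasiSeparated f]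
    (G : X.Modules) (hG : Coh.IsQCoh G) (hflat : FlatMod.IsFlatOver f G) : Good g' f' f g G := by
  intro _ _ _ _ _ hw e he A C₁ hC₁ hq
  haveI := hasLpull g'
  haveI := hasLTensorMod G
  let G' := (Scheme.Modules.pullback g').obj G
  haveI := hasLTensorMod G'
  haveI : CompactSpace X := QuasiCompact.compactSpace_of_compactSpace f
  haveI : QuasiSeparatedSpace X := quasiSeparatedSpace_of_quasiSeparated f
  obtain ⟨τ, hτ⟩ := exists_tau hw G e A
  haveI : (TriNat.good τ).IsTriangulated := TriNat.isTriangulated_good τ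
    (TriNat.presTri_comp (TriNat.presTri_comp (TriNat.presTri_ltensorMod G) (TriNat.presTri_rpush f))
      (TriNat.presTri_lpull g))
    (TriNat.presTri_comp (TriNat.presTri_comp (TriNat.presTri_lpull g') (TriNat.presTri_ltensorMod G'))
      (TriNat.presTri_rpush f'))
  suffices hQ : TriNat.good τ (DerivedCategory.Q.obj C₁) from (hτ C₁ hC₁).1
    ((NatTrans.isIso_app_iff_of_iso τ ((shiftFunctorZero (DCoh.D X) ℤ).app (DerivedCategory.Q.obj C₁))).1
      (hQ 0))
  refine prop_of_affine_rpush (TriNat.good τ) (fun C₀ j _ _ F hF n => ?_) _ hq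
  let W' := pullback j g'
  let hs : W' ⟶ Spec C₀ := pullback.fst j g'
  let j' : W' ⟶ X' := pullback.snd j g'
  have hsqj : IsPullback hs j' j g' := IsPullback.of_hasPullback j g'
  have hsql : IsPullback hs (j' ≫ f') (j ≫ f) g := hsqj.paste_vert h
  haveI := hasRpush_scheme hs; haveI := hasRpush_scheme j'
  haveI := hasRpush_scheme (j ≫ f); haveI := hasRpush_scheme (j' ≫ f')
  haveI := hasLpull hs; haveI := hasLpull j
  haveI : QuasiCompact j' := MorphismProperty.of_isPullback (P := @QuasiCompact) hsqj inferInstance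
  haveI : QuasiSeparated j' := MorphismProperty.of_isPullback (P := @QuasiSeparated) hsqj inferInstance
  haveI : IsOpenImmersion j' := MorphismProperty.of_isPullback (P := @IsOpenImmersion) hsqj inferInstance
  obtain ⟨es⟩ := nonempty_rpush_shift j F n
  let Gs := F⟦n⟧
  have hGs : DCoh.IsQCohD Gs := isQCohD_shift hF n
  refine (NatTrans.isIso_app_iff_of_iso τ es).1 ?_
  let C := (kRes X).obj (DerivedCategory.Q.objPreimage ((DCoh.Rpush j).obj Gs))
  let eC : DerivedCategory.Q.obj C ≅ (DCoh.Rpush j).obj Gs :=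
    (resQIso X).app _ ≪≫ DerivedCategory.Q.objObjPreimageIso _
  have hC : DCoh.IsKFlat C := isKFlat_kRes _
  have hCq : DCoh.IsQCohD (DerivedCategory.Q.obj C) := isQCohD_of_iso eC.symm (isQCohD_rpush j hGs)
  refine (NatTrans.isIso_app_iff_of_iso τ eC).1 ((hτ C hC).2 ?_)
  obtain ⟨el, hel⟩ := exists_isCan hsql.w
  have hfl : FlatMod.IsFlatOver (j ≫ f) ((Scheme.Modules.pullback j).obj G) := fun x =>
    RelTor.flatOverAt_of_iso ((Scheme.Modules.restrictFunctorIsoPullback j).app G)
      ((RelTor.flatOverAt_restrict_iff j f G x).1 (hflat (j.base x)))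
  have hlam := good_separated hsql _ (QCoh.isQCoh_pullback j hG) hfl hsql.w el hel A ((pullCx j).obj C)
    (isKFlat_pullback j hC) (isQCohD_pullCx j hC hCq)
  refine isIso_lam_vcomp he hsqj.w rfl rfl hsql.w hel A (tK G C) ?_ ?_
    (isIso_lam_of_iso A el (pullTK j G C).symm hlam)
  · obtain ⟨F', ⟨eF'⟩⟩ := exists_ltensor_rpush j G hG Gs hGs
    exact isIso_psi_of_rpush j _ F' ((ltIso G hC).symm ≪≫ (DCoh.LTensorMod G).mapIso eC ≪≫ eF')
  · obtain ⟨ej, hej⟩ := exists_isCan hsqj.w
    obtain ⟨Bj⟩ := nonempty_lpull_rpush_adj g'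
    obtain ⟨Bh⟩ := nonempty_lpull_rpush_adj hs
    haveI := TorBCGen.holds_separated hsqj (TorBCGen.torIndepG_of_flat j g') hsqj.w ej hej Bj Bh Gs hGs
    obtain ⟨F', ⟨eF'⟩⟩ := exists_ltensor_rpush j' G' (QCoh.isQCoh_pullback g' hG) ((DCoh.Lpull hs).obj Gs)
      (isQCohD_lpull hs hGs)
    exact isIso_psi_of_rpush j' _ F' (pullLtIso g' G hC ≪≫ (DCoh.LTensorMod G').mapIso
      ((DCoh.Lpull g').mapIso eC ≪≫ asIso (BCMate.bc Bj Bh ej Gs)) ≪≫ eF')

/-- Base change for the tensor product with a module flat over the base. -/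
theorem good (h : IsPullback g' f' f g) [QuasiCompact f] [QuasiSeparated f]
    (G : X.Modules) (hG : Coh.IsQCoh G) (hflat : FlatMod.IsFlatOver f G) : Good g' f' f g G := by
  intro _ _ _ _ _ hw e he A C hC hq
  haveI : QuasiCompact f' := MorphismProperty.of_isPullback (P := @QuasiCompact) h inferInstance
  haveI : QuasiSeparated f' := MorphismProperty.of_isPullback (P := @QuasiSeparated) h inferInstance
  refine KFlatLib.BCLoc.isIso_of_cover _ fun s' => ?_
  obtain ⟨U, hU, hsU, -⟩ := exists_isAffineOpen_mem_and_subset (x := g s') (U := ⊤) trivial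
  obtain ⟨U', hU', hs', hle⟩ := exists_isAffineOpen_mem_and_subset (x := s') (U := g ⁻¹ᵁ U) hsU
  refine ⟨U', hs', ?_⟩
  let φ := g.appLE U U' hle
  let u := hU.fromSpec
  let v := hU'.fromSpec
  have hφ : Spec.map φ ≫ u = v ≫ g := IsAffineOpen.SpecMap_appLE_fromSpec g hU hU' hle
  let Y := pullback f' v
  let v' : Y ⟶ X' := pullback.fst f' v
  let f'' : Y ⟶ Spec Γ(S', U') := pullback.snd f' v
  have hsq₂ : IsPullback v' f'' f' v := IsPullback.of_hasPullback f' v
  have hcomp : IsPullback (v' ≫ g') f'' f (v ≫ g) := hsq₂.paste_horiz h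
  let u' := pullback.fst f u
  let p := pullback.snd f u
  have hu : IsPullback u' p f u := IsPullback.of_hasPullback f u
  let r : Y ⟶ pullback f u :=
    pullback.lift (v' ≫ g') (f'' ≫ Spec.map φ)
    (hcomp.w.trans ((congrArg (f'' ≫ ·) hφ.symm).trans (Category.assoc _ _ _).symm))
  have hr₁ : r ≫ u' = v' ≫ g' := pullback.lift_fst _ _ _
  have hr₂ : r ≫ p = f'' ≫ Spec.map φ := pullback.lift_snd _ _ _
  have hmid : IsPullback r f'' p (Spec.map φ) :=
    IsPullback.of_right (hr₁.symm ▸ hφ.symm ▸ hcomp) hr₂ hu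
  let k := v ≫ g
  let k' := v' ≫ g'
  haveI := hasRpush_scheme v; haveI := hasRpush_scheme v'; haveI := hasRpush_scheme f''
  haveI := hasRpush_scheme k; haveI := hasRpush_scheme k'
  haveI := hasRpush_scheme u; haveI := hasRpush_scheme u'
  haveI := hasRpush_scheme p; haveI := hasRpush_scheme r
  haveI := hasRpush_scheme (Spec.map φ)
  haveI := hasLpull v; haveI := hasLpull v'; haveI := hasLpull k; haveI := hasLpull k'
  haveI := hasLpull u; haveI := hasLpull u'; haveI := hasLpull (Spec.map φ); haveI := hasLpull g'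
  haveI : Flat v' := MorphismProperty.of_isPullback (P := @Flat) hsq₂.flip inferInstance
  haveI : Flat u' := MorphismProperty.of_isPullback (P := @Flat) hu.flip inferInstance
  haveI : IsOpenImmersion u' := MorphismProperty.of_isPullback (P := @IsOpenImmersion) hu.flip inferInstance
  have hw₃ : k' ≫ f = f'' ≫ k := hcomp.w
  obtain ⟨e₂, he₂⟩ := exists_isCan (f := f) (g := k) (g' := k') (f' := f'') hw₃
  obtain ⟨ev, hev⟩ := exists_isCan hsq₂.w
  obtain ⟨eu, heu⟩ := exists_isCan hu.w
  haveI := hasLpull r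
  obtain ⟨eφ, heφ⟩ := exists_isCan hmid.w
  obtain ⟨B⟩ := nonempty_lpull_rpush_adj k
  obtain ⟨Au⟩ := nonempty_lpull_rpush_adj u
  obtain ⟨Aφ⟩ := nonempty_lpull_rpush_adj (Spec.map φ)
  obtain ⟨Av, hAv⟩ := exists_adj v
  obtain ⟨Av', hAv'⟩ := exists_adj v'
  obtain ⟨Au', hAu'⟩ := exists_adj u'
  haveI := hasLTensorMod G
  haveI := hasLTensorMod ((Scheme.Modules.pullback g').obj G)
  have hv : IsIso (lam Av ev ((pullH g').obj (tK G C))) := by
    rw [lam_eq Av ev hAv']
    haveI := isIso_alpha_of_flat (f := v') ((pullH g').obj (tK G C))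
    haveI := TorBCGen.isIso_bc_flat hsq₂ ev hev Av Av' (DerivedCategory.Qh.obj ((pullH g').obj (tK G C)))
      (isQCohD_of_iso (pullLtIso g' G hC).symm
        (Lib.DerivedBC.isQCohD_ltensorMod (QCoh.isQCoh_pullback g' hG) (isQCohD_lpull g' hq)))
    infer_instance
  have hlu : IsIso (lam Au eu (tK G C)) := by
    rw [lam_eq Au eu hAu']
    haveI := isIso_alpha_of_flat (f := u') (tK G C)
    haveI := TorBCGen.isIso_bc_flat hu eu heu Au Au' (DerivedCategory.Qh.obj (tK G C)) (isQCohD_tK G hG hC hq)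
    infer_instance
  haveI : QuasiCompact p := MorphismProperty.pullback_snd (P := @QuasiCompact) _ _ ‹_›
  haveI : QuasiSeparated p := MorphismProperty.pullback_snd (P := @QuasiSeparated) _ _ ‹_›
  have hfl : FlatMod.IsFlatOver p ((Scheme.Modules.pullback u').obj G) := fun x => by
    have h1 := RelTor.flatOverAt_of_iso ((Scheme.Modules.restrictFunctorIsoPullback u').app G)
      ((RelTor.flatOverAt_restrict_iff u' f G x).1 (hflat (u'.base x)))
    rw [hu.w] at h1
    exact (RelTor.flatOverAt_comp_iff p u _ x).2 h1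
  have hlφ : IsIso (lam Aφ eφ ((pullH u').obj (tK G C))) :=
    isIso_lam_of_iso Aφ eφ (pullTK u' G C).symm
      (good_affine hmid _ (QCoh.isQCoh_pullback u' hG) hfl hmid.w eφ heφ Aφ ((pullCx u').obj C)
        (isKFlat_pullback u' hC) (isQCohD_pullCx u' hC hq))
  have h2 : IsIso (lam B e₂ (tK G C)) := by
    haveI := hlu
    exact (isIso_lam_hcomp hmid.w hφ hr₁ hw₃ heu heφ Au Aφ B e₂ he₂ (tK G C) hlφ).1 inferInstance
  haveI hrho : IsIso ((rho v).map (lam A e (tK G C))) := TorBCGen.isIso_rho_of_lpull v _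
    ((isIso_lam_hcomp hsq₂.w rfl rfl hw₃ he hev A Av B e₂ he₂ (tK G C) hv).2 h2)
  obtain ⟨rr⟩ := AffineLift.nonempty_rhoCompNat hU'.isoSpec.hom v U'.ι hU'.isoSpec_hom_fromSpec
  exact (NatIso.isIso_map_iff rr _).1 (inferInstanceAs
    (IsIso ((rho hU'.isoSpec.hom).map ((rho v).map (lam A e (tK G C))))))

/-- Base change for derived tensor products with a module flat over the base. -/
theorem nonempty_iso (h : IsPullback g' f' f g) [QuasiCompact f] [QuasiSeparated f]
    (E : DCoh.D X) (hE : DCoh.IsQCohD E) (G : X.Modules) (hG : Coh.IsQCoh G) (hflat : FlatMod.IsFlatOver f G)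
    [DCoh.HasLTensorMod G] [DCoh.HasRpush f] [DCoh.HasLpull g] [DCoh.HasLpull g'] [DCoh.HasRpush f']
    [DCoh.HasLTensorMod ((Scheme.Modules.pullback g').obj G)] :
    Nonempty ((DCoh.Lpull g).obj ((DCoh.Rpush f).obj ((DCoh.LTensorMod G).obj E)) ≅
      (DCoh.Rpush f').obj ((DCoh.LTensorMod ((Scheme.Modules.pullback g').obj G)).obj ((DCoh.Lpull g').obj E))) := by
  haveI := hasRpush_scheme g
  haveI := hasRpush_scheme g'
  obtain ⟨A⟩ := nonempty_lpull_rpush_adj g
  obtain ⟨e, he⟩ := exists_isCan h.w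
  let C := (kRes X).obj (DerivedCategory.Q.objPreimage E)
  let eC : DerivedCategory.Q.obj C ≅ E := (resQIso X).app _ ≪≫ DerivedCategory.Q.objObjPreimageIso _
  have hC : DCoh.IsKFlat C := isKFlat_kRes _
  haveI := good h G hG hflat h.w e he A C hC (isQCohD_of_iso eC.symm hE)
  exact ⟨(DCoh.Rpush f ⋙ DCoh.Lpull g).mapIso ((DCoh.LTensorMod G).mapIso eC.symm ≪≫ ltIso G hC) ≪≫
    asIso (lam A e (tK G C)) ≪≫ (DCoh.Rpush f').mapIso (pullLtIso g' G hC ≪≫
      (DCoh.LTensorMod _).mapIso ((DCoh.Lpull g').mapIso eC))⟩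

end Groth.Agent.KExact.TensorBC
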