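import Groth.Agent.RelPC17.Closed
import Groth.Agent.KFlatLib.Scheme.TensorPCTest
import Groth.Agent.KFlatLib.Scheme.TensorOver
import Mathlib.Algebra.Homology.BifunctorShift

/-!
# Direct images of tensor products with pseudo-coherent objects along closed immersions
-/

set_option autoImplicit false
set_option linter.style.haveILetI false
set_option backward.isDefEq.respectTransparency false
set_option backward.isDefEq.respectTransparency.types false

universe u

open CategoryTheory CategoryTheory.Limits AlgebraicGeometry CategoryTheory.Pretriangulated TopologicalSpace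

attribute [local instance] HasDerivedCategory.standard

namespace Groth.Agent.KExact

open KFlatLib RelPC17

variable {P Q : Scheme.{u}}

/-- The objects whose tensor product with `C` has `m`-pseudo-coherent direct image along `j`. -/
def TenPC (j : P ⟶ Q) [IsClosedImmersion j] (C : CochainComplex P.Modules ℤ) [DCoh.HasLTensorCx C] (m : ℤ) :
    ObjectProperty (DCoh.D P) := fun E => LocPC m ((pD j).obj ((DCoh.LTensorCx C).obj E))

variable (j : P ⟶ Q) [IsClosedImmersion j] (C : CochainComplex P.Modules ℤ) [DCoh.HasLTensorCx C]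

instance (m : ℤ) : (TenPC j C m).IsClosedUnderIsomorphisms :=
  ⟨fun e h => LocPC.of_iso ((pD j).mapIso ((DCoh.LTensorCx C).mapIso e)) h⟩

/-- Closure under extensions. -/
theorem tenPC_ext (m : ℤ) (T : Triangle (DCoh.D P)) (hT : T ∈ distTriang _) (h₁ : TenPC j C m T.obj₁)
    (h₃ : TenPC j C m T.obj₃) : TenPC j C m T.obj₂ := by
  obtain ⟨T', hT', ⟨e₁⟩, ⟨e₂⟩, ⟨e₃⟩⟩ :=
    TensorTest.exists_ltensor_triangle C T.invRotate (inv_rot_of_distTriang _ hT)
  refine ((locPC_two_of_three m _ ((pD j).map_distinguished _ hT')).2.1 ?_ ?_).of_iso ((pD j).mapIso e₂)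
  · exact LocPC.of_iso ((pD j).mapIso e₁.symm) h₁
  · exact LocPC.of_iso ((pD j).mapIso (e₃ ≪≫ (DCoh.LTensorCx C).mapIso
      ((shiftFunctorCompIsoId (DCoh.D P) (-1 : ℤ) 1 (by omega)).app T.obj₃)).symm) h₃

/-- Tensoring with a flat module in one degree. -/
theorem nonempty_ltensor_single (N : P.Modules) (hN : FlatMod.IsFlat N) (k : ℤ) :
    Nonempty ((DCoh.LTensorCx C).obj
        (DerivedCategory.Q.obj ((HomologicalComplex.single P.Modules (ComplexShape.up ℤ) k).obj N)) ≅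
      (DerivedCategory.Q.obj (((DCoh.tensorBi.flip.obj N).mapHomologicalComplex (ComplexShape.up ℤ)).obj C))⟦-k⟧) := by
  let S₀ := (HomologicalComplex.single P.Modules (ComplexShape.up ℤ) 0).obj N
  let R := S₀⟦-k⟧
  haveI : CochainComplex.IsStrictlyLE S₀ 0 := (CochainComplex.isStrictlyLE_iff S₀ 0).2 fun i hi =>
    HomologicalComplex.isZero_single_obj_X (ComplexShape.up ℤ) 0 N i (by omega)
  have hS : DCoh.IsKFlat S₀ := isKFlat_of_isStrictlyLE S₀ 0 fun n => by
    rcases eq_or_ne n 0 with rfl | hn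
    · exact IsFlat.of_iso (HomologicalComplex.singleObjXSelf (ComplexShape.up ℤ) 0 N).symm hN
    · exact IsFlat.of_isZero (HomologicalComplex.isZero_single_obj_X (ComplexShape.up ℤ) 0 N n hn)
  have hR : DCoh.IsKFlat R := KFlat.shift (T := DCoh.tensorBi) hS (-k)
  let eR : (HomologicalComplex.single P.Modules (ComplexShape.up ℤ) k).obj N ≅ R :=
    (((CochainComplex.singleFunctors P.Modules).shiftIso (-k) k 0 (by omega)).app N).symm
  exact ⟨(DCoh.LTensorCx C).mapIso (DerivedCategory.Q.mapIso eR) ≪≫ ltensorCxIso C hR ≪≫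
    DerivedCategory.Q.mapIso ((symmIso (tensorBiFlipIso P) C).app R) ≪≫
    DerivedCategory.Q.mapIso (CochainComplex.mapBifunctorShift₂Iso C S₀ DCoh.tensorBi (-k) ≪≫
      (shiftFunctor (CochainComplex P.Modules ℤ) (-k)).mapIso ((singleIso DCoh.tensorBi N).app C)) ≪≫
    (DerivedCategory.Q.commShiftIso (-k)).app _⟩

/-- Free modules. -/
theorem tenPC_free (c : ℤ) (hC : LocPC c ((pD j).obj (DerivedCategory.Q.obj C))) :
    ∀ n : ℕ, TenPC j C c (DCoh.inD P (FlatMod.freeMod P n)) := by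
  have key : ∀ N : P.Modules, FlatMod.IsFlat N →
      LocPC c ((pD j).obj (DerivedCategory.Q.obj
        (((DCoh.tensorBi.flip.obj N).mapHomologicalComplex (ComplexShape.up ℤ)).obj C))) →
      TenPC j C c (DCoh.inD P N) := fun N hN h => by
    obtain ⟨e⟩ := nonempty_ltensor_single C N hN 0
    exact h.of_iso ((pD j).mapIso (((DCoh.LTensorCx C).mapIso
      ((DerivedCategory.singleFunctorIsoCompQ P.Modules 0).app N)) ≪≫ e ≪≫
      (shiftFunctorZero' (DCoh.D P) (-0 : ℤ) (by omega)).app _).symm)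
  intro n
  induction n with
  | zero =>
    have hz : IsZero (FlatMod.freeMod P 0) := by
      rw [IsZero.iff_id_eq_zero]
      exact Sigma.hom_ext _ _ fun k => k.elim0
    refine key _ (IsFlat.of_isZero hz) (locPC_isZero ((pD j).map_isZero (isZero_Q_of_isZero_X _ fun i => ?_)))
    exact (DCoh.tensorBi.obj (C.X i)).map_isZero hz
  | succ n ih =>
    let e₁ : FlatMod.freeMod P 1 ≅ Coh.structureModule P :=
      { hom := Sigma.desc fun _ => 𝟙 _
        inv := Sigma.ι (fun _ : Fin 1 => Coh.structureModule P) 0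
        hom_inv_id := Sigma.hom_ext _ _ fun k => by
          rw [Subsingleton.elim k 0]; simp
        inv_hom_id := by simp }
    have h1 : TenPC j C c (DCoh.inD P (FlatMod.freeMod P 1)) := by
      refine key _ (isFlat_of_isFinLocFree (isFinLocFree_freeMod 1)) (hC.of_iso ((pD j).mapIso
        (DerivedCategory.Q.mapIso ?_)))
      exact ((Functor.mapHomologicalComplexIdIso P.Modules (ComplexShape.up ℤ)).app C).symm ≪≫
        (NatIso.mapHomologicalComplex (DCoh.tensorBi.flip.mapIso e₁ ≪≫ tensorStructureIso P).symm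
          (ComplexShape.up ℤ)).app C
    haveI := preservesBinaryBiproducts_of_preservesBinaryCoproducts
      (DerivedCategory.singleFunctor P.Modules 0)
    exact (TenPC j C c).prop_of_iso (((DerivedCategory.singleFunctor P.Modules 0).mapBiprod _ _).symm ≪≫
      (DerivedCategory.singleFunctor P.Modules 0).mapIso (biprodFreeIso n 1))
      (tenPC_ext j C c _ (binaryBiproductTriangle_distinguished _ _) ih h1)

/-- Bounded complexes of free modules below a degree. -/
theorem tenPC_of_free_terms (c : ℤ) (hC : LocPC c ((pD j).obj (DerivedCategory.Q.obj C)))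
    (S : CochainComplex P.Modules ℤ) (a b : ℤ) (hz : ∀ i, i < a ∨ b < i → IsZero (S.X i))
    (hfree : ∀ i, a ≤ i → i ≤ b → ∃ n : ℕ, Nonempty (S.X i ≅ FlatMod.freeMod P n)) :
    TenPC j C (c + b) (DerivedCategory.Q.obj S) := by
  refine prop_of_terms (TenPC j C (c + b)) (fun T hT => tenPC_ext j C _ T hT)
    (fun Y hY => ?_) (b + 1 - a).toNat S a (fun i hi => hz i (by omega)) fun i hi hi' => ?_
  · have hz : IsZero (FlatMod.freeMod P 0) := by
      rw [IsZero.iff_id_eq_zero]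
      exact Sigma.hom_ext _ _ fun k => k.elim0
    have hzz : IsZero (DerivedCategory.Q.obj ((HomologicalComplex.single P.Modules (ComplexShape.up ℤ) 0).obj
        (FlatMod.freeMod P 0))) := DerivedCategory.Q.map_isZero (Functor.map_isZero _ hz)
    obtain ⟨e⟩ := nonempty_ltensor_single C _ (IsFlat.of_isZero hz) 0
    refine (TenPC j C _).prop_of_iso (hzz.iso hY) (locPC_isZero ((pD j).map_isZero (IsZero.of_iso ?_ e)))
    exact Functor.map_isZero _ (isZero_Q_of_isZero_X _ fun i => (DCoh.tensorBi.obj (C.X i)).map_isZero hz)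
  · obtain ⟨n, ⟨en⟩⟩ := hfree i hi (by omega)
    obtain ⟨e⟩ := nonempty_ltensor_single C (FlatMod.freeMod P n) (isFlat_of_isFinLocFree (isFinLocFree_freeMod n)) i
    obtain ⟨e0⟩ := nonempty_ltensor_single C (FlatMod.freeMod P n) (isFlat_of_isFinLocFree (isFinLocFree_freeMod n)) 0
    refine (TenPC j C _).prop_of_iso (DerivedCategory.Q.mapIso
      ((HomologicalComplex.single P.Modules (ComplexShape.up ℤ) i).mapIso en.symm)) ?_
    have h0 := ((tenPC_free j C c hC n).of_iso ((pD j).mapIso ((DCoh.LTensorCx C).mapIso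
      ((DerivedCategory.singleFunctorIsoCompQ P.Modules 0).app _) ≪≫ e0 ≪≫
        (shiftFunctorZero' (DCoh.D P) (-0 : ℤ) (by omega)).app _))).shift (-i)
    exact ((h0.mono (by omega : c - -i ≤ c + b)).of_iso
      (((pD j).commShiftIso (-i)).app _).symm).of_iso ((pD j).mapIso e.symm)

/-- Locally finite locally free terms are free near a point. -/
theorem exists_common_free {U : Scheme.{u}} (S : CochainComplex U.Modules ℤ)
    (hf : ∀ i, FlatMod.IsFinLocFree (S.X i)) (u : U) (s : Finset ℤ) :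
    ∃ W : U.Opens, u ∈ W ∧ ∀ i ∈ s, ∃ n : ℕ, Nonempty ((S.X i).restrict W.ι ≅ FlatMod.freeMod W n) := by
  induction s using Finset.induction_on with
  | empty => exact ⟨⊤, trivial, fun i hi => absurd hi (Finset.notMem_empty i)⟩
  | insert i s _ ih =>
    obtain ⟨W, hW, h⟩ := ih
    obtain ⟨V, n, hV, ⟨e⟩⟩ := hf i u
    refine ⟨W ⊓ V, ⟨hW, hV⟩, fun k hk => ?_⟩
    rcases Finset.mem_insert.1 hk with rfl | hk
    · exact ⟨n, ⟨restrictFreeIso inf_le_right e⟩⟩
    · obtain ⟨n', ⟨e'⟩⟩ := h k hk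
      exact ⟨n', ⟨restrictFreeIso inf_le_left e'⟩⟩

/-- Pseudo-coherent tensor factors. -/
theorem locPC_pD_ltensor (hK : DCoh.IsKFlat C) (c d a b : ℤ) (hab : a ≤ b)
    (hC : LocPC c ((pD j).obj (DerivedCategory.Q.obj C))) (hd : (DCoh.toD P C).IsLE d) {G : DCoh.D P}
    (hG : LocPC a G) (hb : ∀ i, b < i → IsZero (DCoh.HD G i)) :
    LocPC (max (a + d) (b + c)) ((pD j).obj ((DCoh.LTensorCx C).obj G)) := by
  refine LocPC.of_local fun p => ?_
  by_cases hp : p ∈ Set.range j
  swap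
  · exact locPC_rho_compl j hp _ _
  obtain ⟨z, rfl⟩ := hp
  obtain ⟨U, jU, _, hz, S₀, α₀, hS₀, hα₀⟩ := hG z
  obtain ⟨u, rfl⟩ := hz
  obtain ⟨⟨a₀, e₀, hae⟩, hf₀⟩ := hS₀
  have hhom : ∀ i, b < i → IsZero (S₀.homology i) := fun i hi => by
    haveI := hα₀.1 i (by omega)
    exact ((Functor.map_isZero (Scheme.Modules.restrictFunctor jU) (hb i hi)).of_iso
      (hdRhoIso jU G i)).of_iso (((DerivedCategory.homologyFunctorFactors _ i).app S₀).symm ≪≫
        asIso ((DerivedCategory.homologyFunctor _ i).map α₀))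
  obtain ⟨S, hS, hSb, -, ⟨eS⟩⟩ := exists_cutoff b (e₀ - b).toNat S₀ ⟨⟨a₀, e₀, hae⟩, hf₀⟩
    (fun i hi => hae i (Or.inr (by omega))) hhom
  obtain ⟨⟨a₁, b₁, hab₁⟩, hf⟩ := id hS
  obtain ⟨W₀, hu, hfree⟩ := exists_common_free S hf u (Finset.Icc a₁ b)
  let jW := W₀.ι ≫ jU
  obtain ⟨O, β, _, hβ, hO⟩ := exists_open_square j jW
  refine ⟨_, O.ι, inferInstance, ⟨⟨j (jU u), hO _ ⟨⟨u, hu⟩, rfl⟩⟩, rfl⟩, ?_⟩
  let V := j ⁻¹ᵁ O
  let C' := (pullCx V.ι).obj C
  haveI := hasLTensorCx C'
  have hC' : LocPC c ((pD (j ∣_ O)).obj (DerivedCategory.Q.obj C')) :=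
    (hC.restrict O.ι).of_iso (rhoPDOpen j O _ ≪≫ (pD (j ∣_ O)).mapIso ((rhoQ V.ι).app C ≪≫
      DerivedCategory.Q.mapIso ((restrictPullCxIso V.ι).app C)))
  have hd' : (DCoh.toD (V : Scheme.{u}) C').IsLE d := by
    refine (DerivedCategory.isLE_iff _ _).2 fun i hi => ?_
    exact ((Functor.map_isZero (Scheme.Modules.restrictFunctor V.ι)
      ((DerivedCategory.isLE_iff _ _).1 hd i hi)).of_iso (hdRhoIso V.ι (DCoh.toD P C) i)).of_iso
      ((DerivedCategory.homologyFunctor _ i).mapIso ((rhoQ V.ι).app C ≪≫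
        DerivedCategory.Q.mapIso ((restrictPullCxIso V.ι).app C))).symm
  let γ := β ≫ W₀.ι
  have hγ : γ ≫ jU = V.ι := by rw [Category.assoc]; exact hβ
  let S' := (rCx γ).obj S
  let α' : DerivedCategory.Q.obj S' ⟶ (rho V.ι).obj G :=
    ((rhoQ γ).app S).inv ≫ (rho γ).map (eS.hom ≫ α₀) ≫ (rhoComp γ jU _ hγ G).hom
  have hα' : IsPcMap a α' :=
    (((isPcMap_of_isIso a eS.hom).comp hα₀).map_exact _).comp_iso _ _
  have hfree' : ∀ i, a₁ ≤ i → i ≤ b → ∃ n : ℕ, Nonempty (S'.X i ≅ FlatMod.freeMod (V : Scheme.{u}) n) :=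
    fun i hi hi' => by
      obtain ⟨n, ⟨e⟩⟩ := hfree i (Finset.mem_Icc.2 ⟨hi, hi'⟩)
      exact ⟨n, ⟨(Scheme.Modules.restrictFunctorComp β W₀.ι).app (S.X i) ≪≫
        (Scheme.Modules.restrictFunctor β).mapIso e ≪≫
        (Scheme.Modules.restrictFunctorIsoPullback β).app _ ≪≫ pullFreeIso _ n⟩⟩
  have hzS : ∀ i, i < a₁ ∨ b < i → IsZero (S'.X i) := fun i hi =>
    (Scheme.Modules.restrictFunctor γ).map_isZero (hi.elim (fun h => hab₁ i (Or.inl h)) (hSb i))
  have h₁ : LocPC (max (a + d) (b + c)) ((pD (j ∣_ O)).obj ((DCoh.LTensorCx C').obj (DerivedCategory.Q.obj S'))) :=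
    LocPC.mono (tenPC_of_free_terms (j ∣_ O) C' c hC' S' a₁ b hzS hfree') (by omega)
  obtain ⟨Z, g, δ, hT⟩ := distinguished_cocone_triangle α'
  have h₃ : LocPC (max (a + d) (b + c)) ((pD (j ∣_ O)).obj ((DCoh.LTensorCx C').obj Z)) :=
    locPC_of_isZero _ _ fun i hi => (isZero_HD_pD_iff (j ∣_ O) _ i).2
      (TensorTest.isZero_hd_ltensor_of_isLE C' d hd' Z (a - 1)
        (fun k hk => Approx.isZero_cone_of_isPcMap _ hT hα' k (by omega)) i (by omega))
  have h₂ : TenPC (j ∣_ O) C' (max (a + d) (b + c)) ((rho V.ι).obj G) :=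
    tenPC_ext (j ∣_ O) C' _ _ hT h₁ h₃
  let R := repK ((rho V.ι).obj G)
  obtain ⟨l⟩ := nonempty_rho_ltensorCx V.ι C hK G R (isKFlat_repK _) (repKIso _)
  exact LocPC.of_iso ((pD (j ∣_ O)).mapIso ((DCoh.LTensorCx C').mapIso (repKIso _).symm ≪≫
    ltensorCxIso C' (isKFlat_repK _) ≪≫ l.symm) ≪≫ (rhoPDOpen j O _).symm) h₂

end Groth.Agent.KExact
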