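import Groth.Agent.KFlatLib.Scheme.TildeD
import Groth.Agent.KFlatLib.Scheme.ProjCx
import Groth.Agent.KFlatLib.Scheme.InnerHom
import Groth.Agent.KFlatLib.TotalMapNat
import Groth.Agent.QCoh.TensorSections

/-!
# `~` commutes with tensor products of complexes
-/

set_option autoImplicit false
set_option linter.style.haveILetI false
set_option backward.isDefEq.respectTransparency false
set_option backward.isDefEq.respectTransparency.types false

universe u

open CategoryTheory CategoryTheory.Limits AlgebraicGeometry MonoidalCategory Opposite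
open scoped TensorProduct

attribute [local instance] HasDerivedCategory.standard

namespace Groth.Agent.KExact.TildeTensor

open KFlatLib

variable {R : CommRingCat.{u}}

instance (M' N' : (Spec R).Modules) : TensorProduct.CompatibleSMul R Γ(Spec R, ⊤) Γ(M', ⊤) Γ(N', ⊤) := by
  refine ⟨fun g m n => ?_⟩
  obtain ⟨r, rfl⟩ : ∃ r, algebraMap R Γ(Spec R, ⊤) r = g := by
    refine ⟨(Scheme.ΓSpecIso R).hom g, ?_⟩
    change ((Spec R).presheaf.map (⊤ : (Spec R).Opens).leTop.op) ((Scheme.ΓSpecIso R).inv ((Scheme.ΓSpecIso R).hom g)) = g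
    rw [Subsingleton.elim (⊤ : (Spec R).Opens).leTop (𝟙 _), op_id, CategoryTheory.Functor.map_id]
    exact congr($((Scheme.ΓSpecIso R).hom_inv_id) g)
  rw [algebraMap_smul, algebraMap_smul, TensorProduct.smul_tmul]

variable (M N : ModuleCat.{u} R)

/-- Simple tensors of global sections. -/
noncomputable def secEquiv :
    M ⊗[R] N ≃ₗ[R] moduleSpecΓFunctor.obj ((DCoh.tensorBi.obj (tilde M)).obj (tilde N)) :=
  let e1 : M ≃ₗ[R] Γ(tilde M, ⊤) := (tilde.isoTop M).toLinearEquiv
  let e2 : N ≃ₗ[R] Γ(tilde N, ⊤) := (tilde.isoTop N).toLinearEquiv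
  let e3 : Γ(tilde M, ⊤) ⊗[R] Γ(tilde N, ⊤) ≃ₗ[R] Γ(tilde M, ⊤) ⊗[Γ(Spec R, ⊤)] Γ(tilde N, ⊤) :=
    TensorProduct.equivOfCompatibleSMul Γ(Spec R, ⊤) R R Γ(tilde M, ⊤) Γ(tilde N, ⊤)
  let e4 : Γ(tilde M, ⊤) ⊗[Γ(Spec R, ⊤)] Γ(tilde N, ⊤) ≃ₗ[R] Γ((DCoh.tensorBi.obj (tilde M)).obj (tilde N), ⊤) :=
    (LinearEquiv.ofBijective _ (QCoh.bijective_tmLin (inferInstance : Coh.IsQCoh (tilde M))
      (inferInstance : Coh.IsQCoh (tilde N)) (isAffineOpen_top (Spec R)))).restrictScalars R
  ((TensorProduct.congr e1 e2).trans e3).trans e4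

/-- `secEquiv`, as a morphism. -/
noncomputable def secTensor :
    M ⊗ N ⟶ moduleSpecΓFunctor.obj ((DCoh.tensorBi.obj (tilde M)).obj (tilde N)) :=
  (secEquiv M N).toModuleIso.hom

/-- `secTensor`, read through the functor `~`. -/
noncomputable abbrev secT :
    M ⊗ N ⟶ moduleSpecΓFunctor.obj ((DCoh.tensorBi.obj ((tilde.functor R).obj M)).obj ((tilde.functor R).obj N)) :=
  secTensor M N

lemma secTensor_tmul (m : M) (n : N) :
    (secTensor M N).hom (m ⊗ₜ[R] n) =
      QCoh.tmS (tilde M) (tilde N) ((tilde.isoTop M).hom m) ((tilde.isoTop N).hom n) :=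
  rfl

lemma bijective_secTensor : Function.Bijective (secTensor M N).hom :=
  (secEquiv M N).bijective

/-- `(M ⊗ N)^~ ⟶ M^~ ⊗ N^~`. -/
noncomputable def tildeTensorHom :
    (tilde.functor R).obj (M ⊗ N) ⟶ (DCoh.tensorBi.obj ((tilde.functor R).obj M)).obj ((tilde.functor R).obj N) :=
  (tilde.adjunction.homEquiv (M ⊗ N) _).symm (secT M N)

instance isIso_tildeTensorHom : IsIso (tildeTensorHom M N) := by
  haveI : IsIso (secTensor M N) := (ConcreteCategory.isIso_iff_bijective _).2 (bijective_secTensor M N)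
  have hq : Coh.IsQCoh ((DCoh.tensorBi.obj (tilde M)).obj (tilde N)) :=
    KFlatLib.isQCoh_tensor inferInstance inferInstance
  haveI := (isQuasicoherent_iff_isIso_fromTildeΓ _).1 hq
  rw [tildeTensorHom, Adjunction.homEquiv_counit]
  exact IsIso.comp_isIso' (inferInstanceAs (IsIso ((tilde.functor R).map (secTensor M N)))) (by assumption)

lemma isoTop_naturality {M M' : ModuleCat.{u} R} (φ : M ⟶ M') (m : M) :
    (tilde.isoTop M').hom (φ m) = (DCoh.toP.map (tilde.map φ)).app (op ⊤) ((tilde.isoTop M).hom m) :=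
  (congr($(tilde.toOpen_map_app φ ⊤) m)).symm

lemma secTensor_naturality_left {M M' : ModuleCat.{u} R} (φ : M ⟶ M') (N : ModuleCat.{u} R) :
    secT M N ≫ moduleSpecΓFunctor.map ((DCoh.tensorBi.map ((tilde.functor R).map φ)).app _) =
      (φ ▷ N) ≫ secT M' N := by
  refine ModuleCat.MonoidalCategory.tensor_ext fun m n => ?_
  change (DCoh.toP.map ((DCoh.tensorBi.map (tilde.map φ)).app (tilde N))).app (op ⊤) ((secTensor M N).hom (m ⊗ₜ n)) =
    (secTensor M' N).hom (φ m ⊗ₜ n)
  rw [secTensor_tmul, secTensor_tmul, isoTop_naturality]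
  exact tmSh_naturality_left (tilde.map φ) (tilde N) _ _

lemma secTensor_naturality_right (M : ModuleCat.{u} R) {N N' : ModuleCat.{u} R} (φ : N ⟶ N') :
    secT M N ≫ moduleSpecΓFunctor.map ((DCoh.tensorBi.obj _).map ((tilde.functor R).map φ)) =
      (M ◁ φ) ≫ secT M N' := by
  refine ModuleCat.MonoidalCategory.tensor_ext fun m n => ?_
  change (DCoh.toP.map ((DCoh.tensorBi.obj (tilde M)).map (tilde.map φ))).app (op ⊤) ((secTensor M N).hom (m ⊗ₜ n)) =
    (secTensor M N').hom (m ⊗ₜ φ n)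
  rw [secTensor_tmul, secTensor_tmul, isoTop_naturality]
  exact tmSh_naturality_right (tilde M) (tilde.map φ) _ _

/-- `(M ⊗ N)^~ ≅ M^~ ⊗ N^~`, natural in both variables. -/
noncomputable def tildeTensorBiIso (R : CommRingCat.{u}) :
    curriedTensor (ModuleCat.{u} R) ⋙ (Functor.whiskeringRight _ _ _).obj (tilde.functor R) ≅
      tilde.functor R ⋙ DCoh.tensorBi ⋙ (Functor.whiskeringLeft _ _ _).obj (tilde.functor R) :=
  NatIso.ofComponents
    (fun M => NatIso.ofComponents (fun N => asIso (tildeTensorHom M N)) fun {N N'} φ => by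
      change (tilde.functor R).map (M ◁ φ) ≫ tildeTensorHom M N' =
        tildeTensorHom M N ≫ (DCoh.tensorBi.obj ((tilde.functor R).obj M)).map ((tilde.functor R).map φ)
      rw [tildeTensorHom, tildeTensorHom, ← Adjunction.homEquiv_naturality_left_symm,
        ← Adjunction.homEquiv_naturality_right_symm, secTensor_naturality_right])
    fun {M M'} φ => by
      ext N : 2
      change (tilde.functor R).map (φ ▷ N) ≫ tildeTensorHom M' N =
        tildeTensorHom M N ≫ (DCoh.tensorBi.map ((tilde.functor R).map φ)).app _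
      rw [tildeTensorHom, tildeTensorHom, ← Adjunction.homEquiv_naturality_left_symm,
        ← Adjunction.homEquiv_naturality_right_symm, secTensor_naturality_left]

end Groth.Agent.KExact.TildeTensor
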