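import Groth.Agent.KFlatLib.Ring.BaseChangeTor
import Groth.Agent.KFlatLib.Scheme.TildePull
import Groth.Agent.KFlatLib.Scheme.FlatBCDerived

/-!
# Derived pullback of a Tor-independent module is computed termwise
-/

set_option linter.style.haveILetI false
set_option backward.isDefEq.respectTransparency false

universe u

open CategoryTheory CategoryTheory.Limits AlgebraicGeometry MonoidalCategory

attribute [local instance] HasDerivedCategory.standard

namespace Groth.Agent.KExact.TorSingle

open KFlatLib KFlatLib.FlatBC

local notation "qq" X:max => HomotopyCategory.quotient (Scheme.Modules X) (ComplexShape.up ℤ)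

/-- `L(Spec φ)^*` of `N^~` in a single degree is `(Spec φ)^*` termwise when `Tor_p(N, B) = 0` for `p > 0`. -/
theorem isIso_alpha_tilde_single {A B : Type u} [CommRing A] [CommRing B] [Algebra A B]
    [DCoh.HasLpull (Spec.map (CommRingCat.ofHom (algebraMap A B)))] (N : ModuleCat.{u} A)
    (htor : ∀ p : ℕ, 1 ≤ p → IsZero (((CategoryTheory.Tor (ModuleCat.{u} A) p).obj N).obj (ModuleCat.of A B)))
    (k : ℤ) :
    IsIso ((alpha (Spec.map (CommRingCat.ofHom (algebraMap A B)))).app
      ((qq (Spec (CommRingCat.of A))).obj ((HomologicalComplex.single _ (ComplexShape.up ℤ) k).obj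
        ((tilde.functor (CommRingCat.of A)).obj N)))) := by
  let φ := algebraMap A B
  let g := CommRingCat.ofHom φ
  let f := Spec.map g
  let RA := CommRingCat.of A
  let RB := CommRingCat.of B
  haveI : PreservesFiniteLimits (tilde.functor RA) := QCoh.tilde_preservesFiniteLimits
  haveI : PreservesFiniteLimits (tilde.functor RB) := QCoh.tilde_preservesFiniteLimits
  haveI : (tilde.functor RA).Additive := tilde_additive _
  haveI : (tilde.functor RB).Additive := tilde_additive _
  haveI : PreservesFiniteColimits (tilde.functor RA) := QCoh.tilde_preservesFiniteColimits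
  haveI : PreservesFiniteColimits (tilde.functor RB) := QCoh.tilde_preservesFiniteColimits
  let tA : CochainComplex (ModuleCat.{u} A) ℤ ⥤ CochainComplex (Spec RA).Modules ℤ :=
    (tilde.functor RA).mapHomologicalComplex (ComplexShape.up ℤ)
  let tB : CochainComplex (ModuleCat.{u} B) ℤ ⥤ CochainComplex (Spec RB).Modules ℤ :=
    (tilde.functor RB).mapHomologicalComplex (ComplexShape.up ℤ)
  let e₃ : extC φ ⋙ tB ≅ tA ⋙ pullCx f := NatIso.ofComponents
    (fun K => HomologicalComplex.Hom.isoOfComponents
      (fun n => ((QCoh.tildePullbackIso g).symm.app (K.X n)))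
      (fun i j _ => ((QCoh.tildePullbackIso g).inv.naturality (K.d i j)).symm))
    (fun a => by ext n : 1; exact (QCoh.tildePullbackIso g).inv.naturality (a.f n))
  let P := ProjectiveResolution.of N
  let S₀ := (CochainComplex.singleFunctor (ModuleCat.{u} A) 0).obj N
  let s : P.cochainComplex⟦-k⟧ ⟶ S₀⟦-k⟧ := P.π'⟦-k⟧'
  haveI : QuasiIso s := inferInstance
  have hflat : DRing.TermwiseFlat (P.cochainComplex⟦-k⟧) := fun i => by
    have hP : Projective (P.cochainComplex.X (i + -k)) := inferInstance
    haveI : Module.Projective A (P.cochainComplex.X (i + -k)) := (IsProjective.iff_projective _).2 hP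
    exact Module.Flat.of_projective (R := A) (M := P.cochainComplex.X (i + -k))
  have hKF : KFlat (curriedTensor (ModuleCat.{u} A)) (P.cochainComplex⟦-k⟧) :=
    kFlat_of_termwiseFlat hflat (b := k) fun i hi =>
      CochainComplex.isZero_of_isStrictlyLE P.cochainComplex 0 (i + -k) (by omega)
  haveI hα : IsIso ((alpha f).app ((qq (Spec RA)).obj (tA.obj (P.cochainComplex⟦-k⟧)))) :=
    isIso_Lpull_counit f (isKFlat_tilde (R := RA) _ hKF)
  have hq₀ : QuasiIso ((extC φ).map P.π') := by
    haveI : PreservesFiniteColimits (ModuleCat.extendScalars.{u, u, u} φ) := by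
      haveI : (ModuleCat.extendScalars.{u, u, u} φ).IsLeftAdjoint :=
        (ModuleCat.extendRestrictScalarsAdj φ).isLeftAdjoint
      infer_instance
    haveI : (ModuleCat.extendScalars.{u, u, u} φ).Additive :=
      (ModuleCat.extendRestrictScalarsAdj φ).left_adjoint_additive
    exact quasiIso_map_π' (ModuleCat.extendScalars.{u, u, u} φ) P fun n hn =>
      exactAt_extendScalars P n (htor n hn)
  haveI : QuasiIso ((extC φ).map s) := by
    let c := (extC φ).commShiftIso (-k)
    haveI := hq₀
    have hc := c.hom.naturality P.π'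
    haveI : QuasiIso ((extC φ).map s ≫ c.hom.app S₀) := by
      erw [hc]
      haveI := hq₀
      haveI : QuasiIso ((extC φ ⋙ shiftFunctor _ (-k)).map P.π') :=
        inferInstanceAs (QuasiIso (((extC φ).map P.π')⟦-k⟧'))
      infer_instance
    exact quasiIso_of_comp_right _ (c.hom.app S₀)
  haveI : QuasiIso ((pullCx f).map (tA.map s)) := by
    have h : (pullCx f).map (tA.map s) = e₃.inv.app _ ≫ tB.map ((extC φ).map s) ≫ e₃.hom.app _ := by
      have := e₃.hom.naturality s
      simp only [Functor.comp_map] at this
      rw [this, Iso.inv_hom_id_app_assoc]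
    rw [h]
    infer_instance
  haveI : IsIso (DerivedCategory.Qh.map ((pullH f).map ((qq (Spec RA)).map (tA.map s)))) :=
    Localization.inverts DerivedCategory.Qh (HomotopyCategory.quasiIso (Spec RB).Modules (ComplexShape.up ℤ)) _
      ((HomotopyCategory.quotient_map_mem_quasiIso_iff ((pullCx f).map (tA.map s))).2
        (show QuasiIso ((pullCx f).map (tA.map s)) from inferInstance))
  haveI : IsIso (DerivedCategory.Qh.map ((qq (Spec RA)).map (tA.map s))) :=
    Localization.inverts DerivedCategory.Qh (HomotopyCategory.quasiIso (Spec RA).Modules (ComplexShape.up ℤ)) _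
      ((HomotopyCategory.quotient_map_mem_quasiIso_iff (tA.map s)).2 (show QuasiIso (tA.map s) from inferInstance))
  haveI : IsIso ((alpha f).app ((qq (Spec RA)).obj (tA.obj (S₀⟦-k⟧)))) := by
    have h := (alpha f).naturality ((qq (Spec RA)).map (tA.map s))
    haveI : IsIso ((DCoh.Lpull f).map (DerivedCategory.Qh.map ((qq (Spec RA)).map (tA.map s))) ≫
        (alpha f).app ((qq (Spec RA)).obj (tA.obj (S₀⟦-k⟧)))) := by
      refine (congrArg IsIso h).mpr ?_
      exact IsIso.comp_isIso' hα (show IsIso (DerivedCategory.Qh.map ((pullH f).map ((qq (Spec RA)).map (tA.map s)))) from inferInstance)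
    exact IsIso.of_isIso_comp_left ((DCoh.Lpull f).map (DerivedCategory.Qh.map ((qq (Spec RA)).map (tA.map s)))) _
  let e' : S₀⟦-k⟧ ≅ (HomologicalComplex.single (ModuleCat.{u} A) (ComplexShape.up ℤ) k).obj N :=
    ((CochainComplex.singleFunctors (ModuleCat.{u} A)).shiftIso (-k) k 0 (by omega)).app N
  exact (NatTrans.isIso_app_iff_of_iso (alpha f) ((qq (Spec RA)).mapIso (tA.mapIso e' ≪≫
    (HomologicalComplex.singleMapHomologicalComplex (tilde.functor RA) (ComplexShape.up ℤ) k).app N))).1 inferInstance

end Groth.Agent.KExact.TorSingle
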