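import Groth.Agent.KExact.RpushCompCan
import Groth.Agent.KExact.TorSingle
import Groth.Agent.KExact.QCohDevissageRpush
import Groth.Agent.KFlatLib.Scheme.TorBC

/-!
# Tor-independent base change over affine bases, for separated morphisms
-/

set_option linter.style.haveILetI false
set_option backward.isDefEq.respectTransparency false
set_option backward.isDefEq.respectTransparency.types false

universe u

open CategoryTheory CategoryTheory.Limits AlgebraicGeometry Pretriangulated

attribute [local instance] HasDerivedCategory.standard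

namespace Groth.Agent.KExact.TorBCGen

open KFlatLib KFlatLib.FlatBC

local notation "qq" X:max => HomotopyCategory.quotient (Scheme.Modules X) (ComplexShape.up ℤ)

variable {X X' : Scheme.{u}} {A B : Type u} [CommRing A] [CommRing B] [Algebra A B]

/-- The base of an affine base change. -/
noncomputable abbrev baseMap (A B : Type u) [CommRing A] [CommRing B] [Algebra A B] :
    Spec (CommRingCat.of B) ⟶ Spec (CommRingCat.of A) :=
  Spec.map (CommRingCat.ofHom (algebraMap A B))

/-- `Tor_p^A(O(V), B) = 0` for `p > 0` and all affine opens `V` of `X`. -/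
def TorIndep (f : X ⟶ Spec (CommRingCat.of A)) (B : Type u) [CommRing B] [Algebra A B] : Prop :=
  ∀ (C : CommRingCat.{u}) (j : Spec C ⟶ X) [IsOpenImmersion j] (ψ : CommRingCat.of A ⟶ C), j ≫ f = Spec.map ψ →
    ∀ p : ℕ, 1 ≤ p → IsZero (((CategoryTheory.Tor (ModuleCat.{u} A) p).obj
      ((ModuleCat.restrictScalars.{u} ψ.hom).obj (ModuleCat.of C C))).obj (ModuleCat.of A B))

variable {f : X ⟶ Spec (CommRingCat.of A)} {g' : X' ⟶ X} {f' : X' ⟶ Spec (CommRingCat.of B)}
  [DCoh.HasRpush f] [DCoh.HasRpush f'] [DCoh.HasRpush g'] [DCoh.HasLpull g']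
  [DCoh.HasRpush (baseMap A B)] [DCoh.HasLpull (baseMap A B)]

/-- The base change map is invertible on direct images of affine opens. -/
theorem isIso_bc_single (h : IsPullback g' f' f (baseMap A B)) [IsSeparated f] [QuasiCompact f] (htor : TorIndep f B)
    (e : DCoh.Rpush g' ⋙ DCoh.Rpush f ≅ DCoh.Rpush f' ⋙ DCoh.Rpush (baseMap A B)) (he : CanBC.IsCan h.w e)
    (adj : DCoh.Lpull (baseMap A B) ⊣ DCoh.Rpush (baseMap A B)) (adj' : DCoh.Lpull g' ⊣ DCoh.Rpush g')
    (C₀ : CommRingCat.{u}) (j : Spec C₀ ⟶ X) [IsOpenImmersion j] (n : ℤ) :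
    IsIso (BCMate.bc adj adj' e ((DerivedCategory.singleFunctor X.Modules n).obj
      ((Scheme.Modules.pushforward j).obj (Coh.structureModule (Spec C₀))))) := by
  let g := baseMap A B
  let W := Spec C₀
  obtain ⟨A₁, hA⟩ := exists_adj g
  obtain ⟨A₁', hA'⟩ := exists_adj g'
  refine (BCMate.isIso_bc_iff adj adj' e A₁ A₁' _).2 ?_
  let V := j.opensRange
  have hV : IsAffineOpen V := isAffineOpen_opensRange j
  haveI : IsAffine (V : Scheme.{u}) := hV
  haveI : IsAffineHom g' := MorphismProperty.of_isPullback (P := @IsAffineHom) h.flip inferInstance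
  haveI hj : IsAffineHom j := by
    haveI : IsAffineHom (j ≫ f) := isAffineHom_of_isAffine _
    exact MorphismProperty.of_postcomp (W := @IsAffineHom) (W' := @IsSeparated) j f inferInstance inferInstance
  haveI : IsAffineHom V.ι := by
    haveI : IsAffineHom (V.ι ≫ f) := isAffineHom_of_isAffine _
    exact MorphismProperty.of_postcomp (W := @IsAffineHom) (W' := @IsSeparated) V.ι f inferInstance inferInstance
  let M := (Scheme.Modules.pushforward j).obj (Coh.structureModule W)
  let C := (HomologicalComplex.single X.Modules (ComplexShape.up ℤ) n).obj M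
  have hM : Coh.IsQCoh M := QCoh.isQCoh_pushforward j QCoh.isQCoh_structureModule
  have hMf : FlatMod.IsFlat M := TorBC.isFlat_pushforward_structure j
  have hb : ∀ O : X.Opens, Function.Bijective (QCoh.rs M (inf_le_left : O ⊓ V ≤ O)) := fun O => by
    have e : j ⁻¹ᵁ (O ⊓ V) = j ⁻¹ᵁ O := by
      ext x
      exact ⟨fun hx => hx.1, fun hx => ⟨hx, ⟨x, rfl⟩⟩⟩
    exact TorBC.bijective_rs_of_eq (Coh.structureModule W) e
  let sIso := (HomologicalComplex.singleMapHomologicalComplex (Scheme.Modules.pushforward f)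
    (ComplexShape.up ℤ) n).app M
  have a₁ : IsIso ((alpha g').app ((qq X).obj C)) := by
    haveI : CochainComplex.IsStrictlyLE C n := (CochainComplex.isStrictlyLE_iff _ n).2
      fun i hi => HomologicalComplex.isZero_single_obj_X (ComplexShape.up ℤ) n _ i (by omega)
    exact isIso_Lpull_counit g' (isKFlat_of_isStrictlyLE C n (isFlat_single n hMf))
  have a₂ : IsIso ((alpha g).app ((pushH f).obj ((qq X).obj C))) := by
    obtain ⟨ψ, hψ⟩ : ∃ ψ : CommRingCat.of A ⟶ C₀, j ≫ f = Spec.map ψ :=
      ⟨Spec.preimage (j ≫ f), (Spec.map_preimage _).symm⟩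
    haveI := TorSingle.isIso_alpha_tilde_single (B := B)
      ((ModuleCat.restrictScalars.{u} ψ.hom).obj (ModuleCat.of C₀ C₀)) (htor C₀ j ψ hψ) n
    let eM : (tilde.functor (CommRingCat.of A)).obj
        ((ModuleCat.restrictScalars.{u} ψ.hom).obj (ModuleCat.of C₀ C₀)) ≅
        (Scheme.Modules.pushforward f).obj M :=
      ((pushTildeIso ψ).app _).symm ≪≫ (Scheme.Modules.pushforward (Spec.map ψ)).mapIso tildeSelf ≪≫
        (Scheme.Modules.pushforwardCongr hψ.symm).app _ ≪≫ ((Scheme.Modules.pushforwardComp j f).app _).symm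
    exact (NatTrans.isIso_app_iff_of_iso (alpha g) ((qq (Spec (CommRingCat.of A))).mapIso
      ((HomologicalComplex.single _ (ComplexShape.up ℤ) n).mapIso eM ≪≫ sIso.symm))).1 inferInstance
  have b₁ : IsIso ((beta f).app ((qq X).obj C)) := by
    haveI : IsAffineHom (j ≫ f) := isAffineHom_of_isAffine _
    let D := (HomologicalComplex.single W.Modules (ComplexShape.up ℤ) n).obj (Coh.structureModule W)
    refine (NatTrans.isIso_app_iff_of_iso (beta f) ((qq X).mapIso
      ((HomologicalComplex.singleMapHomologicalComplex (Scheme.Modules.pushforward j)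
        (ComplexShape.up ℤ) n).app (Coh.structureModule W)))).1 (TorBC.isIso_beta_pushH j f D fun k => ?_)
    by_cases hk : k = n
    · subst hk
      exact isQCoh_of_iso (HomologicalComplex.singleObjXSelf (ComplexShape.up ℤ) k _).symm
        QCoh.isQCoh_structureModule
    · exact isQCoh_of_isZero (HomologicalComplex.isZero_single_obj_X _ _ _ _ hk)
  have b₂ : IsIso ((beta f').app ((qq X').obj ((pullCx g').obj C))) := by
    let H := (Scheme.Modules.pullback g').obj M
    let V' := g' ⁻¹ᵁ V
    haveI := TorBC.isIso_pushUnit_pullback h hM V hb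
    haveI : IsAffine (V' : Scheme.{u}) := hV.preimage g'
    haveI : IsAffineHom (V'.ι ≫ f') := isAffineHom_of_isAffine _
    haveI : IsAffineHom V'.ι :=
      MorphismProperty.of_isPullback (P := @IsAffineHom) (isPullback_morphismRestrict g' V) inferInstance
    let H₀ := (Scheme.Modules.restrictFunctor V'.ι).obj H
    let D := (HomologicalComplex.single (V' : Scheme.{u}).Modules (ComplexShape.up ℤ) n).obj H₀
    let eC : ((Scheme.Modules.pushforward V'.ι).mapHomologicalComplex (ComplexShape.up ℤ)).obj D ≅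
        (pullCx g').obj C :=
      (HomologicalComplex.singleMapHomologicalComplex (Scheme.Modules.pushforward V'.ι) _ n).app H₀ ≪≫
        (HomologicalComplex.single X'.Modules _ n).mapIso (asIso ((pushUnit V').app H)).symm ≪≫
        ((HomologicalComplex.singleMapHomologicalComplex (Scheme.Modules.pullback g') _ n).app M).symm
    refine (NatTrans.isIso_app_iff_of_iso (beta f') ((qq X').mapIso eC)).1
      (TorBC.isIso_beta_pushH V'.ι f' D fun k => ?_)
    by_cases hk : k = n
    · subst hk
      exact isQCoh_of_iso (HomologicalComplex.singleObjXSelf (ComplexShape.up ℤ) k _).symm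
        (QCoh.isQCoh_restrict V'.ι (QCoh.isQCoh_pullback g' hM))
    · exact isQCoh_of_isZero (HomologicalComplex.isZero_single_obj_X _ _ _ _ hk)
  have hbc : ∀ k, IsIso (TorBC.bcMod h.w (C.X k)) := fun k => by
    by_cases hk : k = n
    · subst hk
      let e := HomologicalComplex.singleObjXSelf (ComplexShape.up ℤ) k M
      refine TorBC.isIso_bcMod h (isQCoh_of_iso e.symm hM) V hV fun O => ?_
      have key : ∀ x, e.hom.app (O ⊓ V) (QCoh.rs _ (inf_le_left : O ⊓ V ≤ O) x) =
          QCoh.rs M inf_le_left (e.hom.app O x) := fun x => QCoh.app_rs e.hom _ x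
      refine (Function.Bijective.of_comp_iff'
        (ConcreteCategory.bijective_of_isIso (e.hom.app (O ⊓ V))) _).1 ?_
      rw [show (e.hom.app (O ⊓ V) : _ → _) ∘ QCoh.rs _ (inf_le_left : O ⊓ V ≤ O) = _ from funext key]
      exact (hb O).comp (ConcreteCategory.bijective_of_isIso (e.hom.app O))
    · have hz : IsZero (C.X k) := HomologicalComplex.isZero_single_obj_X _ _ _ _ hk
      exact ⟨0, ((Scheme.Modules.pullback g).map_isZero ((Scheme.Modules.pushforward f).map_isZero hz)).eq_of_src _ _,
        ((Scheme.Modules.pushforward f').map_isZero ((Scheme.Modules.pullback g').map_isZero hz)).eq_of_src _ _⟩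
  exact (NatTrans.isIso_app_iff_of_iso (BCMate.bcTrans A₁ A₁' e)
    ((DerivedCategory.quotientCompQhIso X.Modules).app C ≪≫
      ((DerivedCategory.singleFunctorIsoCompQ X.Modules n).app M).symm)).1
    (TorBC.isIso_baseChangeApp_of_termwise hA hA' h.w e he C a₁ a₂ b₁ b₂ hbc)

omit [DCoh.HasRpush (baseMap A B)] in
lemma isIso_app_sigma {Y : Scheme.{u}} {Z : Scheme.{u}} {Φ Ψ : DCoh.D Y ⥤ DCoh.D Z} (τ : Φ ⟶ Ψ) {J : Type u}
    (K : J → DCoh.D Y) [HasCoproduct K] [PreservesColimit (Discrete.functor K) Φ]
    [PreservesColimit (Discrete.functor K) Ψ] (hK : ∀ i, IsIso (τ.app (K i))) : IsIso (τ.app (∐ K)) := by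
  let hA := isColimitOfPreserves Φ (coproductIsCoproduct K)
  let hB := isColimitOfPreserves Ψ (coproductIsCoproduct K)
  let ε : Discrete.functor K ⋙ Φ ≅ Discrete.functor K ⋙ Ψ :=
    Discrete.natIso fun j => @asIso _ _ _ _ (τ.app (K j.as)) (hK j.as)
  have : τ.app (∐ K) = (hA.coconePointsIsoOfNatIso hB ε).hom := by
    refine hA.hom_ext fun j => ?_
    rw [IsColimit.comp_coconePointsIsoOfNatIso_hom]
    exact τ.naturality (Sigma.ι K j.as)
  rw [this]
  infer_instance

/-- Tor-independent base change over affine bases, for separated morphisms. -/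
theorem isIso_bc_affine (h : IsPullback g' f' f (baseMap A B)) [IsSeparated f] [QuasiCompact f]
    (htor : TorIndep f B)
    (e : DCoh.Rpush g' ⋙ DCoh.Rpush f ≅ DCoh.Rpush f' ⋙ DCoh.Rpush (baseMap A B)) (he : CanBC.IsCan h.w e)
    (adj : DCoh.Lpull (baseMap A B) ⊣ DCoh.Rpush (baseMap A B)) (adj' : DCoh.Lpull g' ⊣ DCoh.Rpush g')
    (E : DCoh.D X) (hE : DCoh.IsQCohD E) : IsIso (BCMate.bc adj adj' e E) := by
  let g := baseMap A B
  haveI : CompactSpace X := QuasiCompact.compactSpace_of_compactSpace f
  haveI : QuasiSeparatedSpace X := quasiSeparatedSpace_of_quasiSeparated f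
  haveI : QuasiCompact f' := MorphismProperty.of_isPullback (P := @QuasiCompact) h inferInstance
  haveI : IsSeparated f' := MorphismProperty.of_isPullback (P := @IsSeparated) h inferInstance
  let Φ := DCoh.Rpush f ⋙ DCoh.Lpull g
  let Ψ := DCoh.Lpull g' ⋙ DCoh.Rpush f'
  let τ : Φ ⟶ Ψ := BCMate.bcTrans adj adj' e
  let Q := TriNat.good τ
  haveI : Q.IsTriangulated := TriNat.isTriangulated_good τ
    (TriNat.presTri_comp (TriNat.presTri_rpush f) (TriNat.presTri_lpull g))
    (TriNat.presTri_comp (TriNat.presTri_lpull g') (TriNat.presTri_rpush f'))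
  suffices hQ : Q E from
    (NatTrans.isIso_app_iff_of_iso τ ((shiftFunctorZero (DCoh.D X) ℤ).app E)).1 (hQ 0)
  refine prop_of_affine_rpush Q (fun C₀ j _ _ F hF => ?_) E hE
  haveI : IsAffineHom j := by
    haveI : IsAffineHom (j ≫ f) := isAffineHom_of_isAffine _
    exact MorphismProperty.of_postcomp (W := @IsAffineHom) (W' := @IsSeparated) j f inferInstance inferInstance
  haveI : PreservesFiniteLimits (tilde.functor C₀) := QCoh.tilde_preservesFiniteLimits
  haveI : PreservesFiniteColimits (tilde.functor C₀) := QCoh.tilde_preservesFiniteColimits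
  haveI : (tilde.functor C₀).Additive := tilde_additive _
  let T := DCoh.tildeD C₀
  let L := T ⋙ DCoh.Rpush j
  obtain ⟨M, ⟨eM⟩⟩ := exists_tildeD_iso hF
  suffices hall : ∀ M, Q (L.obj M) from Q.prop_of_iso ((DCoh.Rpush j).mapIso eM) (hall M)
  intro M
  let Pr : ObjectProperty (DerivedCategory (ModuleCat.{u} C₀)) := fun N => Q (L.obj N)
  haveI : Pr.IsClosedUnderIsomorphisms := ⟨fun i h => Q.prop_of_iso (L.mapIso i) h⟩
  refine derived_induction Pr (fun T' hT h₁ h₂ => ?_) (fun J K hK => ?_) (fun n => ?_) M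
  · obtain ⟨c, hc⟩ := TriNat.presTri_rpush j _ (T.map_distinguished T' hT)
    exact ObjectProperty.ext_of_isTriangulatedClosed₃ Q _ hc h₁ h₂
  · haveI : HasColimitsOfShape (Discrete J) (DCoh.D X) := TriCat.hasColimitsOfShape_derivedCategory
    haveI : HasColimitsOfShape (Discrete J) (DCoh.D X') := TriCat.hasColimitsOfShape_derivedCategory
    haveI : HasColimitsOfShape (Discrete J) (DCoh.D (Spec C₀)) := TriCat.hasColimitsOfShape_derivedCategory
    haveI : HasColimitsOfShape (Discrete J) (DCoh.D (Spec (CommRingCat.of A))) :=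
      TriCat.hasColimitsOfShape_derivedCategory
    haveI : HasColimitsOfShape (Discrete J) (DCoh.D (Spec (CommRingCat.of B))) :=
      TriCat.hasColimitsOfShape_derivedCategory
    let tC := (tilde.functor C₀).mapHomologicalComplex (ComplexShape.up ℤ)
    let eT := (tilde.functor C₀).mapDerivedCategoryFactors
    haveI : PreservesColimitsOfShape (Discrete J) tC := by
      haveI : (tilde.functor C₀).IsLeftAdjoint := inferInstance
      exact ⟨fun {K} => ⟨fun {c} hc => ⟨HomologicalComplex.isColimitOfEval _ _ fun m =>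
        isColimitOfPreserves (HomologicalComplex.eval _ (ComplexShape.up ℤ) m ⋙ tilde.functor C₀) hc⟩⟩⟩
    haveI := preservesColimit_Q fun k => tC.obj (K k)
    let D : J → DCoh.D (Spec C₀) := fun k => DerivedCategory.Q.obj (tC.obj (K k))
    have hD : ∀ k, DCoh.IsQCohD (D k) := fun k => isQCohD_of_iso (eT.app (K k)) (isQCohD_tildeD C₀ _)
    haveI : IsIso (sigmaComparison (DCoh.Rpush j) D) := isIso_sigmaDesc_rpush j D hD
    let Z : J → DCoh.D X := fun k => (DCoh.Rpush j).obj (D k)
    have hZ : ∀ k, Q (Z k) := fun k => Q.prop_of_iso ((DCoh.Rpush j).mapIso (eT.app (K k))) (hK k)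
    have hZq : ∀ k, DCoh.IsQCohD (Z k) := fun k => isQCohD_rpush j (hD k)
    refine Q.prop_of_iso ((DCoh.Rpush j).mapIso (eT.app (∐ K) ≪≫ DerivedCategory.Q.mapIso
      (PreservesCoproduct.iso tC K) ≪≫ PreservesCoproduct.iso DerivedCategory.Q _) ≪≫
      (asIso (sigmaComparison (DCoh.Rpush j) D)).symm).symm ?_
    intro k
    let Zk : J → DCoh.D X := fun i => (Z i)⟦k⟧
    refine (NatTrans.isIso_app_iff_of_iso τ (PreservesCoproduct.iso (shiftFunctor (DCoh.D X) k) Z)).2 ?_
    have hZk : ∀ i, DCoh.IsQCohD (Zk i) := fun i => isQCohD_shift (hZq i) k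
    haveI : PreservesColimit (Discrete.functor Zk) Φ := by
      haveI : IsIso (sigmaComparison (DCoh.Rpush f) Zk) := isIso_sigmaDesc_rpush f Zk hZk
      haveI := PreservesCoproduct.of_iso_comparison (DCoh.Rpush f) Zk
      haveI : PreservesColimitsOfShape (Discrete J) (DCoh.Lpull g) := adj.leftAdjoint_preservesColimits.preservesColimitsOfShape
      infer_instance
    haveI : PreservesColimit (Discrete.functor Zk) Ψ := by
      haveI : PreservesColimitsOfShape (Discrete J) (DCoh.Lpull g') := adj'.leftAdjoint_preservesColimits.preservesColimitsOfShape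
      let Y : J → DCoh.D X' := fun i => (DCoh.Lpull g').obj (Zk i)
      haveI : IsIso (sigmaComparison (DCoh.Rpush f') Y) :=
        isIso_sigmaDesc_rpush f' Y fun i => isQCohD_lpull g' (hZk i)
      haveI := PreservesCoproduct.of_iso_comparison (DCoh.Rpush f') Y
      haveI : PreservesColimit (Discrete.functor Zk ⋙ DCoh.Lpull g') (DCoh.Rpush f') :=
        preservesColimit_of_iso_diagram _ (Discrete.natIso fun i => Iso.refl (Y i.as) :
          Discrete.functor Y ≅ Discrete.functor Zk ⋙ DCoh.Lpull g')
      infer_instance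
    exact isIso_app_sigma τ Zk fun i => hZ i k
  · let O := Coh.structureModule (Spec C₀)
    obtain ⟨eI⟩ := AffineRpush.nonempty_rpush_inD j O QCoh.isQCoh_structureModule
    let M₀ := (DerivedCategory.singleFunctor (ModuleCat.{u} C₀) n).obj (ModuleCat.of C₀ C₀)
    have hO : Q (DCoh.inD X ((Scheme.Modules.pushforward j).obj O)) := fun k => by
      have := isIso_bc_single h htor e he adj adj' C₀ j (-k)
      exact (NatTrans.isIso_app_iff_of_iso τ
        (((DerivedCategory.singleFunctors X.Modules).shiftIso k (-k) 0 (by omega)).app _)).2 this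
    obtain ⟨es⟩ := nonempty_rpush_shift j (DCoh.inD (Spec C₀) O) (-n)
    refine Q.prop_of_iso ?_ (Q.le_shift (-n) _ (Q.prop_of_iso eI.symm hO))
    exact es.symm ≪≫ (DCoh.Rpush j).mapIso
      (((DerivedCategory.singleFunctors (Spec C₀).Modules).shiftIso (-n) n 0 (by omega)).app O ≪≫
        (DerivedCategory.singleFunctor (Spec C₀).Modules n).mapIso tildeSelf.symm ≪≫
        (((tilde.functor C₀).mapDerivedCategorySingleFunctor n).app (ModuleCat.of C₀ C₀)).symm ≪≫
        T.mapIso ((DerivedCategory.singleFunctorIsoCompQ (ModuleCat.{u} C₀) n).app (ModuleCat.of C₀ C₀)))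

end Groth.Agent.KExact.TorBCGen
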