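import Groth.Agent.KExact.TorIndepHtor
import Groth.Agent.KFlatLib.Scheme.BCMapData

/-!
# Tor-independent base change on `D_QCoh`
-/

set_option linter.style.haveILetI false
set_option backward.isDefEq.respectTransparency false

universe u

open CategoryTheory CategoryTheory.Limits AlgebraicGeometry

attribute [local instance] HasDerivedCategory.standard

namespace Groth.Agent.KExact.TorBCData

open KFlatLib

variable {X Y X' Y' : Scheme.{u}} {f : X ⟶ Y} {g : Y' ⟶ Y} {f' : X' ⟶ Y'} {g' : X' ⟶ X}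
variable [DCoh.HasRpush f] [DCoh.HasRpush f'] [DCoh.HasRpush g] [DCoh.HasRpush g']
variable {hf : DCoh.RpushPreservesQCoh f} {hf' : DCoh.RpushPreservesQCoh f'}
variable {hg : DCoh.RpushPreservesQCoh g} {hg' : DCoh.RpushPreservesQCoh g'}
variable [DCoh.HasLpull g] [DCoh.HasLpull g'] {hLg : Dual3.LpullPreservesQCoh g}
  {hLg' : Dual3.LpullPreservesQCoh g'}
variable (adjg : Dual3.LpullQ g hLg ⊣ DCoh.RpushQ g hg) (adjg' : Dual3.LpullQ g' hLg' ⊣ DCoh.RpushQ g' hg')

variable (hf hf') in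
/-- Tor-independent base change for `D_QCoh`. -/
theorem exists_e_tor (hsq : IsPullback g' f' f g) [QuasiCompact f] [QuasiSeparated f]
    (htor : TorBCGen.TorIndepG f g) :
    ∃ e : DCoh.RpushQ g' hg' ⋙ DCoh.RpushQ f hf ≅ DCoh.RpushQ f' hf' ⋙ DCoh.RpushQ g hg,
      ∀ K, IsIso (Dual3.bcPush e adjg adjg' K) := by
  obtain ⟨A⟩ := nonempty_lpull_rpush_adj g
  obtain ⟨A'⟩ := nonempty_lpull_rpush_adj g'
  obtain ⟨e₀, -, he₀⟩ := TorBCGen.exists_isIso_baseChangeApp hsq htor A A'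
  let ι := fun (Z : Scheme.{u}) => ObjectProperty.ι (DCoh.IsQCohD (X := Z))
  let ff := fun (Z : Scheme.{u}) => ObjectProperty.fullyFaithfulι (DCoh.IsQCohD (X := Z))
  let Ar : Dual3.LpullQ g hLg ⊣ DCoh.RpushQ g hg :=
    A.restrictFullyFaithful (ff Y) (ff Y') (Iso.refl _) (Iso.refl _)
  let Ar' : Dual3.LpullQ g' hLg' ⊣ DCoh.RpushQ g' hg' :=
    A'.restrictFullyFaithful (ff X) (ff X') (Iso.refl _) (Iso.refl _)
  let eQ : DCoh.RpushQ g' hg' ⋙ DCoh.RpushQ f hf ≅ DCoh.RpushQ f' hf' ⋙ DCoh.RpushQ g hg :=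
    NatIso.ofComponents (fun M => (ff Y).preimageIso
        (X := (DCoh.RpushQ g' hg' ⋙ DCoh.RpushQ f hf).obj M)
        (Y := (DCoh.RpushQ f' hf' ⋙ DCoh.RpushQ g hg).obj M) (e₀.app M.obj))
      (fun φ => ObjectProperty.hom_ext _ (e₀.hom.naturality φ.hom))
  let σ := Ar.rightAdjointUniq adjg
  let σ' := Ar'.rightAdjointUniq adjg'
  let e := Functor.isoWhiskerRight σ'.symm (DCoh.RpushQ f hf) ≪≫ eQ ≪≫
    Functor.isoWhiskerLeft (DCoh.RpushQ f' hf') σ
  refine ⟨e, fun K => ?_⟩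
  let L' := (Dual3.LpullQ g' hLg').obj K
  let x : (DCoh.RpushQ f hf).obj K ⟶ (DCoh.RpushQ g hg).obj ((DCoh.RpushQ f' hf').obj L') :=
    (DCoh.RpushQ f hf).map (Ar'.unit.app K) ≫ eQ.hom.app L'
  have hx : (DCoh.RpushQ f hf).map (adjg'.unit.app K) ≫ e.hom.app L' =
      x ≫ σ.hom.app ((DCoh.RpushQ f' hf').obj L') := by
    rw [show adjg'.unit.app K = Ar'.unit.app K ≫ σ'.hom.app L' from
      (Adjunction.unit_rightAdjointUniq_hom_app Ar' adjg' K).symm]
    change (DCoh.RpushQ f hf).map _ ≫ ((DCoh.RpushQ f hf).map (σ'.inv.app L') ≫ eQ.hom.app L' ≫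
      σ.hom.app ((DCoh.RpushQ f' hf').obj L')) = _
    rw [← Functor.map_comp_assoc, Category.assoc, σ'.hom_inv_id_app]
    erw [Category.comp_id]
    exact (Category.assoc _ _ _).symm
  have hbc : Dual3.bcPush e adjg adjg' K = (Ar.homEquiv _ _).symm x := by
    refine (adjg.homEquiv _ _).injective ?_
    rw [Dual3.bcPush, Equiv.apply_symm_apply, FlatBC.homEquiv_rightAdjointUniq Ar adjg,
      Equiv.apply_symm_apply]
    exact hx
  have hh : ((Ar.homEquiv _ _).symm x).hom = DCoh.baseChangeApp A A' e₀ K.obj := by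
    have hc := A.map_restrictFullyFaithful_counit_app (ff Y) (ff Y')
      (L := Dual3.LpullQ g hLg) (R := DCoh.RpushQ g hg) (Iso.refl _) (Iso.refl _)
      ((DCoh.RpushQ f' hf').obj L')
    have hu := A'.map_restrictFullyFaithful_unit_app (ff X) (ff X')
      (L := Dual3.LpullQ g' hLg') (R := DCoh.RpushQ g' hg') (Iso.refl _) (Iso.refl _) K
    change (Ar.counit.app ((DCoh.RpushQ f' hf').obj L')).hom = _ at hc
    change (Ar'.unit.app K).hom = _ at hu
    rw [Ar.homEquiv_counit]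
    change (DCoh.Lpull g).map ((DCoh.Rpush f).map (Ar'.unit.app K).hom ≫ e₀.hom.app L'.obj) ≫
      (Ar.counit.app ((DCoh.RpushQ f' hf').obj L')).hom = _
    rw [hc, hu, DCoh.baseChangeApp, A.homEquiv_counit]
    simp
    rfl
  rw [hbc]
  haveI := he₀ K.obj K.property
  haveI : IsIso ((ι Y').map ((Ar.homEquiv _ _).symm x)) := by
    change IsIso ((Ar.homEquiv _ _).symm x).hom
    rw [hh]; infer_instance
  exact isIso_of_reflects_iso _ (ι Y')

end Groth.Agent.KExact.TorBCData
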