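import Groth.Agent.KExact.RpushCompCan

/-!
# Flat base change for the canonical identification
-/

set_option linter.style.haveILetI false
set_option backward.isDefEq.respectTransparency false

universe u

open CategoryTheory CategoryTheory.Limits AlgebraicGeometry

attribute [local instance] HasDerivedCategory.standard

namespace Groth.Agent.KExact.TorBCGen

open KFlatLib KFlatLib.FlatBC

local notation "Kh" X:max => HomotopyCategory (Scheme.Modules X) (ComplexShape.up ℤ)
local notation "qq" X:max => HomotopyCategory.quotient (Scheme.Modules X) (ComplexShape.up ℤ)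
local notation "WW" X:max => HomotopyCategory.quasiIso (Scheme.Modules X) (ComplexShape.up ℤ)

variable {X X' S S' : Scheme.{u}} {f : X ⟶ S} {g : S' ⟶ S} {g' : X' ⟶ X} {f' : X' ⟶ S'}
  [DCoh.HasRpush f] [DCoh.HasRpush g] [DCoh.HasLpull g] [DCoh.HasRpush f'] [DCoh.HasRpush g']
  [DCoh.HasLpull g']

/-- Flat base change for the canonical identification. -/
theorem isIso_bc_flat (h : IsPullback g' f' f g) [QuasiCompact f] [QuasiSeparated f] [Flat g]
    (e : DCoh.Rpush g' ⋙ DCoh.Rpush f ≅ DCoh.Rpush f' ⋙ DCoh.Rpush g) (he₀ : CanBC.IsCan h.w e)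
    (adjg : DCoh.Lpull g ⊣ DCoh.Rpush g) (adjg' : DCoh.Lpull g' ⊣ DCoh.Rpush g')
    (E : DCoh.D X) (hE : DCoh.IsQCohD E) : IsIso (BCMate.bc adjg adjg' e E) := by
  haveI : Flat g' := MorphismProperty.of_isPullback (P := @Flat) h.flip inferInstance
  obtain ⟨A, hA⟩ := exists_adj g
  obtain ⟨A', hA'⟩ := exists_adj g'
  refine (BCMate.isIso_bc_iff adjg adjg' e A A' E).2 ?_
  change IsIso (DCoh.baseChangeApp A A' e E)
  have hnat : ∀ {E₁ E₂ : DCoh.D X} (i : E₁ ⟶ E₂),
      DCoh.baseChangeApp A A' e E₁ ≫ (DCoh.Rpush f').map ((DCoh.Lpull g').map i) =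
        (DCoh.Lpull g).map ((DCoh.Rpush f).map i) ≫ DCoh.baseChangeApp A A' e E₂ := by
    intro E₁ E₂ i
    dsimp only [DCoh.baseChangeApp]
    rw [← Adjunction.homEquiv_naturality_right_symm, ← Adjunction.homEquiv_naturality_left_symm]
    refine congrArg _ ?_
    rw [Category.assoc]
    erw [← e.hom.naturality ((DCoh.Lpull g').map i)]
    rw [← Category.assoc, ← Category.assoc]
    refine congrArg (· ≫ e.hom.app ((DCoh.Lpull g').obj E₂)) ?_
    erw [← Functor.map_comp, ← Functor.map_comp]
    exact congrArg _ (A'.unit.naturality i).symm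
  obtain ⟨I, hI, hIinj, ⟨i⟩⟩ := exists_injective_rep E
  suffices hmain : IsIso (DCoh.baseChangeApp A A' e (DerivedCategory.Qh.obj ((qq X).obj I))) by
    haveI := hmain
    haveI : IsIso ((DCoh.Lpull g).map ((DCoh.Rpush f).map i.hom) ≫ DCoh.baseChangeApp A A' e E) := by
      rw [← hnat i.hom]
      exact IsIso.comp_isIso' inferInstance inferInstance
    exact IsIso.of_isIso_comp_left ((DCoh.Lpull g).map ((DCoh.Rpush f).map i.hom)) _
  haveI := hI
  haveI := hIinj
  obtain ⟨J, s, hJ, hs, -, hJinj⟩ := TriCat.exists_kInjective_resolution'.{u} ((pullCx g').obj I)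
  haveI := hJ
  haveI := hJinj
  haveI := hs
  let P := DerivedCategory.Qh.obj ((qq X).obj I)
  let G := fun {W W' : Scheme.{u}} (u : W ⟶ W') =>
    (Scheme.Modules.pushforward u).mapHomologicalComplex (ComplexShape.up ℤ)
  let η : I ⟶ (G g').obj ((pullCx g').obj I) :=
    { f := fun n => (Scheme.Modules.pullbackPushforwardAdjunction g').unit.app (I.X n)
      comm' := fun i j _ => ((Scheme.Modules.pullbackPushforwardAdjunction g').unit.naturality (I.d i j)).symm }
  let m : I ⟶ (G g').obj J := η ≫ (G g').map s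
  let c : (G f).obj I ⟶ (G g).obj ((G f').obj J) := (G f).map m ≫ (squareCx h.w J).hom
  let χ := transposeCx c
  have hm : (adjH g').homEquiv ((qq X).obj I) ((qq X').obj J) ((qq X').map s) = (qq X).map m := by
    rw [Adjunction.homEquiv_unit]
    exact ((qq X).map_comp η ((G g').map s)).symm
  have hχ : QuasiIso χ := by
    refine quasiIso_bc h I J s ?_ χ ?_
    · exact isQCohD_of_iso (i.symm ≪≫ (DerivedCategory.quotientCompQhIso X.Modules).app I) hE
    · intro n V W₀ hle hle' x
      let adj := Scheme.Modules.pullbackPushforwardAdjunction g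
      have e₁ : adj.unit.app ((Scheme.Modules.pushforward f).obj (I.X n)) ≫
          (Scheme.Modules.pushforward g).map (χ.f n) = c.f n :=
        (adj.homEquiv_unit ..).symm.trans ((adj.homEquiv _ _).apply_symm_apply (c.f n))
      unfold QCoh.pullSec
      refine (QCoh.app_rs (χ.f n) hle _).trans ?_
      refine (congrArg (QCoh.rs _ hle) (congr(($e₁).app V x))).trans ?_
      change QCoh.rs (J.X n) (f'.preimage_mono hle) (((squareIso h.w).hom.app (J.X n)).app V
        ((s.f n).app (g' ⁻¹ᵁ (f ⁻¹ᵁ V))
          (((Scheme.Modules.pullbackPushforwardAdjunction g').unit.app (I.X n)).app (f ⁻¹ᵁ V) x))) = _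
      rw [app_eq]
      refine Eq.trans ?_ (QCoh.app_rs (s.f n) hle' _).symm
      exact QCoh.map_map _ _ _
  haveI : IsIso (DerivedCategory.Qh.map ((qq X').map s)) :=
    Localization.inverts DerivedCategory.Qh (WW X') _
      ((HomotopyCategory.quotient_map_mem_quasiIso_iff s).2 hs)
  haveI : IsIso (DerivedCategory.Qh.map ((qq S').map χ)) :=
    Localization.inverts DerivedCategory.Qh (WW S') _
      ((HomotopyCategory.quotient_map_mem_quasiIso_iff χ).2 hχ)
  haveI := isIso_alpha_of_flat (f := g') ((qq X).obj I)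
  haveI := isIso_alpha_of_flat (f := g) ((qq S).obj ((G f).obj I))
  haveI : IsIso ((beta f).app ((qq X).obj I)) := isIso_rightDerivedUnit_of_kInjective (DCoh.pushKh f) I
  haveI : IsIso ((beta f').app ((qq X').obj J)) := isIso_rightDerivedUnit_of_kInjective (DCoh.pushKh f') J
  let i' : (DCoh.Lpull g').obj P ⟶ DerivedCategory.Qh.obj ((qq X').obj J) :=
    (alpha g').app ((qq X).obj I) ≫ DerivedCategory.Qh.map ((qq X').map s)
  haveI : IsIso i' := IsIso.comp_isIso' inferInstance inferInstance
  let qI := (qq X).obj I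
  let qJ := (qq X').obj J
  have hu : A'.homEquiv P _ i' = DerivedCategory.Qh.map ((qq X).map m) ≫ (beta g').app qJ :=
    (homEquiv_alpha hA' ((qq X').map s)).trans (congrArg (fun z => DerivedCategory.Qh.map z ≫ (beta g').app qJ) hm)
  let θ := DCoh.baseChangeApp A A' e P
  have key : (DCoh.Lpull g).map ((beta f).app qI) ≫ θ ≫ (DCoh.Rpush f').map i' =
      (alpha g).app ((qq S).obj ((G f).obj I)) ≫ DerivedCategory.Qh.map ((qq S').map χ) ≫
        (beta f').app qJ := by
    dsimp only [θ, DCoh.baseChangeApp]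
    rw [← Adjunction.homEquiv_naturality_right_symm]
    erw [← Adjunction.homEquiv_naturality_left_symm]
    rw [Equiv.symm_apply_eq, ← Category.assoc ((alpha g).app _)]
    erw [A.homEquiv_naturality_right]
    erw [homEquiv_alpha hA, homEquiv_transposeCx]
    erw [Category.assoc, e.hom.naturality i' |>.symm]
    erw [← Functor.map_comp_assoc, ← A'.homEquiv_unit, hu]
    erw [Functor.map_comp]
    simp only [Category.assoc]
    erw [← (beta f).naturality_assoc ((qq X).map m), ← Category.assoc ((beta f).app _)]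
    have h0 := he₀ qJ
    erw [h0]
    rw [← Category.assoc, ← Category.assoc]
    conv_rhs => rw [← Category.assoc]
    refine congrArg (· ≫ _) ?_
    refine congrArg (· ≫ (beta g).app ((pushH f').obj qJ)) ?_
    exact (DerivedCategory.Qh.map_comp _ _).symm.trans
      (congrArg DerivedCategory.Qh.map ((qq S).map_comp ((G f).map m) (squareCx h.w J).hom).symm)
  haveI : IsIso ((DCoh.Lpull g).map ((beta f).app qI) ≫ θ ≫ (DCoh.Rpush f').map i') := by
    rw [key]
    exact IsIso.comp_isIso' inferInstance (IsIso.comp_isIso' inferInstance inferInstance)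
  haveI : IsIso (θ ≫ (DCoh.Rpush f').map i') :=
    IsIso.of_isIso_comp_left ((DCoh.Lpull g).map ((beta f).app qI)) _
  exact IsIso.of_isIso_comp_right θ ((DCoh.Rpush f').map i')

end Groth.Agent.KExact.TorBCGen
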