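import Groth.Agent.KExact.TorBCAffine
import Groth.Agent.KExact.TorBCFlat
import Groth.Agent.KFlatLib.Scheme.BCMapIso
import Groth.Agent.TorBridge.LES
import Groth.Agent.H9Misc.TorBalance

/-!
# Tor-independent base change of derived direct images
-/

set_option linter.style.haveILetI false
set_option backward.isDefEq.respectTransparency false
set_option backward.isDefEq.respectTransparency.types false

universe u

open CategoryTheory CategoryTheory.Limits AlgebraicGeometry Pretriangulated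

attribute [local instance] HasDerivedCategory.standard

namespace Groth.Agent.KExact.TorBCGen

open KFlatLib KFlatLib.FlatBC KFlatLib.SecPoint CanBC

variable {X X' S S' : Scheme.{u}}

/-- Tor independence of `f` and `g`, tested on all affine opens. -/
def TorIndepG (f : X ⟶ S) (g : S' ⟶ S) : Prop :=
  ∀ (U : S.Opens) (hU : IsAffineOpen U) (U' : S'.Opens) (_ : IsAffineOpen U') (hle : U' ≤ g ⁻¹ᵁ U)
    (C : CommRingCat.{u}) (ψ : Γ(S, U) ⟶ C) (j : Spec C ⟶ X) [IsOpenImmersion j],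
    Spec.map ψ ≫ hU.fromSpec = j ≫ f → ∀ p : ℕ, 1 ≤ p →
    letI := (g.appLE U U' hle).hom.toAlgebra
    IsZero (((CategoryTheory.Tor (ModuleCat.{u} Γ(S, U)) p).obj
      ((ModuleCat.restrictScalars.{u} ψ.hom).obj (ModuleCat.of C C))).obj (ModuleCat.of Γ(S, U) Γ(S', U')))

theorem torIndepG_of_flat (f : X ⟶ S) [Flat f] (g : S' ⟶ S) : TorIndepG f g := by
  intro U hU U' _ hle C ψ j _ hψ p hp
  let A := Γ(S, U)
  let B := Γ(S', U')
  let u := hU.fromSpec
  letI := (g.appLE U U' hle).hom.toAlgebra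
  letI := ψ.hom.toAlgebra
  haveI : Flat (Spec.map ψ ≫ u) := hψ ▸ inferInstance
  haveI : Flat (Spec.map ψ) :=
    MorphismProperty.of_postcomp (W := @Flat) (W' := @IsOpenImmersion) (Spec.map ψ) u inferInstance inferInstance
  have hfl : ψ.hom.Flat := (HasRingHomProperty.Spec_iff (P := @Flat)).1 inferInstance
  haveI : Module.Flat A C := hfl
  let e : (ModuleCat.restrictScalars.{u} ψ.hom).obj (ModuleCat.of C C) ≅ ModuleCat.of A C :=
    LinearEquiv.toModuleIso (LinearEquiv.ofBijective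
    ({ toFun := fun x => x
       map_add' := fun _ _ => rfl
       map_smul' := fun r (x : C) => (Algebra.smul_def r x).symm } :
      ((ModuleCat.restrictScalars.{u} ψ.hom).obj (ModuleCat.of C C) : Type u) →ₗ[A] C) Function.bijective_id)
  obtain ⟨i, rfl⟩ : ∃ i, p = i + 1 := ⟨p - 1, by omega⟩
  exact (TorBridge.isZero_tor_succ_of_flat (ModuleCat.of A C) (ModuleCat.of A B) i).of_iso
    (((CategoryTheory.Tor (ModuleCat.{u} A) (i + 1)).mapIso e).app _)

theorem torIndepG_of_flat_right (f : X ⟶ S) (g : S' ⟶ S) [Flat g] : TorIndepG f g := by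
  intro U hU U' hU' hle C ψ j _ _ p hp
  letI := (g.appLE U U' hle).hom.toAlgebra
  haveI : Module.Flat Γ(S, U) Γ(S', U') := Flat.flat_appLE g hU hU' hle
  obtain ⟨i, rfl⟩ : ∃ i, p = i + 1 := ⟨p - 1, by omega⟩
  exact (TorBridge.isZero_tor_succ_of_flat (ModuleCat.of Γ(S, U) Γ(S', U')) _ i).of_iso
    (H9Misc.TorBalance.torSymm _ _ (i + 1))

/-- Base change holds for a square, for every canonical identification. -/
def Holds (g' : X' ⟶ X) (f' : X' ⟶ S') (f : X ⟶ S) (g : S' ⟶ S) : Prop :=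
  ∀ [DCoh.HasRpush f] [DCoh.HasRpush g] [DCoh.HasRpush f'] [DCoh.HasRpush g'] [DCoh.HasLpull g]
    [DCoh.HasLpull g'] (hw : g' ≫ f = f' ≫ g)
    (e : DCoh.Rpush g' ⋙ DCoh.Rpush f ≅ DCoh.Rpush f' ⋙ DCoh.Rpush g), IsCan hw e →
    ∀ (adj : DCoh.Lpull g ⊣ DCoh.Rpush g) (adj' : DCoh.Lpull g' ⊣ DCoh.Rpush g') (E : DCoh.D X),
      DCoh.IsQCohD E → IsIso (BCMate.bc adj adj' e E)

theorem holds_flat {g' : X' ⟶ X} {f' : X' ⟶ S'} {f : X ⟶ S} {g : S' ⟶ S} (h : IsPullback g' f' f g)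
    [QuasiCompact f] [QuasiSeparated f] [Flat g] : Holds g' f' f g := by
  intro _ _ _ _ _ _ _ e he adj adj' E hE
  exact isIso_bc_flat h e he adj adj' E hE

/-- The canonical identification is unique. -/
theorem isCan_unique {f : X ⟶ S} {g : S' ⟶ S} {g' : X' ⟶ X} {f' : X' ⟶ S'} [DCoh.HasRpush f] [DCoh.HasRpush g]
    [DCoh.HasRpush f'] [DCoh.HasRpush g'] {hw : g' ≫ f = f' ≫ g}
    {e e' : DCoh.Rpush g' ⋙ DCoh.Rpush f ≅ DCoh.Rpush f' ⋙ DCoh.Rpush g} (he : IsCan hw e)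
    (he' : IsCan hw e') : e = e' := by
  refine Iso.ext (NatTrans.ext (funext fun M => ?_))
  let qX' := HomotopyCategory.quotient X'.Modules (ComplexShape.up ℤ)
  obtain ⟨J, s, hJ, hs⟩ := exists_kInjective_res (DerivedCategory.Q.objPreimage M)
  haveI := hJ
  let eM : DerivedCategory.Qh.obj (qX'.obj J) ≅ M :=
    (DerivedCategory.quotientCompQhIso X'.Modules).app J ≪≫
      (asIso (DerivedCategory.Q.map s)).symm ≪≫ DerivedCategory.Q.objObjPreimageIso M
  haveI := hasLpull f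
  haveI := isIso_beta_push (f := g') f J
  haveI : IsIso ((beta g').app (qX'.obj J)) := isIso_rightDerivedUnit_of_kInjective (DCoh.pushKh g') J
  let b := (beta f).app ((pushH g').obj (qX'.obj J)) ≫ (DCoh.Rpush f).map ((beta g').app (qX'.obj J))
  haveI : IsIso b := IsIso.comp_isIso' inferInstance inferInstance
  have hJe : e.hom.app (DerivedCategory.Qh.obj (qX'.obj J)) = e'.hom.app (DerivedCategory.Qh.obj (qX'.obj J)) :=
    (cancel_epi b).1 ((he _).trans (he' _).symm)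
  rw [← cancel_epi ((DCoh.Rpush g' ⋙ DCoh.Rpush f).map eM.hom), e.hom.naturality, e'.hom.naturality, hJe]

/-- Horizontal composition of squares. -/
theorem exists_hcomp {f : X ⟶ S} {g : S' ⟶ S} {g' : X' ⟶ X} {f' : X' ⟶ S'} {X'' S'' : Scheme.{u}}
    {v : S'' ⟶ S'} {v' : X'' ⟶ X'} {f'' : X'' ⟶ S''} {k : S'' ⟶ S} {k' : X'' ⟶ X}
    [DCoh.HasRpush f] [DCoh.HasRpush g] [DCoh.HasRpush f'] [DCoh.HasRpush g'] [DCoh.HasRpush v]
    [DCoh.HasRpush v'] [DCoh.HasRpush f''] [DCoh.HasRpush k] [DCoh.HasRpush k'] [DCoh.HasLpull g]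
    [DCoh.HasLpull g'] [DCoh.HasLpull v] [DCoh.HasLpull v'] [DCoh.HasLpull k] [DCoh.HasLpull k']
    (hw₂ : v' ≫ f' = f'' ≫ v) (h2 : Holds v' f'' f' v) (hk : v ≫ g = k) (hk' : v' ≫ g' = k')
    (hw₃ : k' ≫ f = f'' ≫ k) {hw₁ : g' ≫ f = f' ≫ g}
    {e : DCoh.Rpush g' ⋙ DCoh.Rpush f ≅ DCoh.Rpush f' ⋙ DCoh.Rpush g} (he : IsCan hw₁ e)
    (A : DCoh.Lpull g ⊣ DCoh.Rpush g) (A' : DCoh.Lpull g' ⊣ DCoh.Rpush g') :
    ∃ e₂ : DCoh.Rpush k' ⋙ DCoh.Rpush f ≅ DCoh.Rpush f'' ⋙ DCoh.Rpush k, IsCan hw₃ e₂ ∧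
      ∀ (B : DCoh.Lpull k ⊣ DCoh.Rpush k) (B' : DCoh.Lpull k' ⊣ DCoh.Rpush k') (E : DCoh.D X),
        DCoh.IsQCohD E →
          (IsIso ((DCoh.Lpull v).map (BCMate.bc A A' e E)) ↔ IsIso (BCMate.bc B B' e₂ E)) := by
  obtain ⟨ev, hev⟩ := exists_isCan hw₂
  obtain ⟨Av⟩ := nonempty_lpull_rpush_adj v
  obtain ⟨Av'⟩ := nonempty_lpull_rpush_adj v'
  obtain ⟨c, hc⟩ := exists_compCan hk
  obtain ⟨c', hc'⟩ := exists_compCan hk'
  refine ⟨_, isCan_hcomp he hev hc hc' hw₃, fun B B' E hE => ?_⟩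
  haveI : IsIso (BCMate.bc Av Av' ev ((DCoh.Lpull g').obj E)) :=
    h2 hw₂ ev hev Av Av' _ (isQCohD_lpull g' hE)
  rw [← BCMate.isIso_bc_transport (A.comp Av) (A'.comp Av') (BCMate.hcomp e ev) (Iso.refl _) (Iso.refl _) c c' _
    (fun M => ?_) B B' E, BCMate.bc_hcomp]
  · exact ⟨fun h => IsIso.comp_isIso' h inferInstance,
      fun h => IsIso.of_isIso_comp_right _ (BCMate.bc Av Av' ev ((DCoh.Lpull g').obj E))⟩
  · simp [← Functor.map_comp_assoc]

/-- Invertibility after `Lv^*` for open immersions is local invertibility. -/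
theorem isIso_rho_of_lpull {U : Scheme.{u}} (v : U ⟶ X) [IsOpenImmersion v] [DCoh.HasLpull v] {E F : DCoh.D X}
    (α : E ⟶ F) (h : IsIso ((DCoh.Lpull v).map α)) : IsIso ((rho v).map α) := by
  let r : pullD v ≅ rho v :=
    Localization.liftNatIso DerivedCategory.Q (HomologicalComplex.quasiIso X.Modules (ComplexShape.up ℤ))
      (DerivedCategory.Q ⋙ pullD v) (DerivedCategory.Q ⋙ rho v) _ _
      ((Scheme.Modules.pullback v).mapDerivedCategoryFactors ≪≫
        Functor.isoWhiskerRight (NatIso.mapHomologicalComplex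
          (Scheme.Modules.restrictFunctorIsoPullback v).symm (ComplexShape.up ℤ)) _ ≪≫
        (Scheme.Modules.restrictFunctor v).mapDerivedCategoryFactors.symm)
  exact (NatIso.isIso_map_iff (lpullPullIso v ≪≫ r) α).1 h

/-- Base change is local on the base: it suffices to treat the squares over affine charts. -/
theorem holds_of_charts {g' : X' ⟶ X} {f' : X' ⟶ S'} {f : X ⟶ S} {g : S' ⟶ S} (h : IsPullback g' f' f g)
    [QuasiCompact f] [QuasiSeparated f]
    (hloc : ∀ (U : S.Opens) (hU : IsAffineOpen U) (U' : S'.Opens) (_ : IsAffineOpen U') (hle : U' ≤ g ⁻¹ᵁ U)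
      (Y : Scheme.{u}) (r : Y ⟶ pullback f hU.fromSpec) (f'' : Y ⟶ Spec Γ(S', U')),
      IsPullback r f'' (pullback.snd f hU.fromSpec) (Spec.map (g.appLE U U' hle)) →
        Holds r f'' (pullback.snd f hU.fromSpec) (Spec.map (g.appLE U U' hle))) :
    Holds g' f' f g := by
  intro _ _ _ _ _ _ hw e he adj adj' E hE
  haveI : QuasiCompact f' := MorphismProperty.of_isPullback (P := @QuasiCompact) h inferInstance
  haveI : QuasiSeparated f' := MorphismProperty.of_isPullback (P := @QuasiSeparated) h inferInstance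
  refine KFlatLib.BCLoc.isIso_of_cover _ fun s' => ?_
  obtain ⟨U, hU, hsU, -⟩ := exists_isAffineOpen_mem_and_subset (x := g s') (U := ⊤) trivial
  obtain ⟨U', hU', hs', hle⟩ := exists_isAffineOpen_mem_and_subset (x := s') (U := g ⁻¹ᵁ U) hsU
  refine ⟨U', hs', ?_⟩
  let A := Γ(S, U)
  let B := Γ(S', U')
  let φ : A ⟶ B := g.appLE U U' hle
  let u := hU.fromSpec
  let v := hU'.fromSpec
  have hφ : Spec.map φ ≫ u = v ≫ g := IsAffineOpen.SpecMap_appLE_fromSpec g hU hU' hle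
  let Y := pullback f' v
  let v' : Y ⟶ X' := pullback.fst f' v
  let f'' : Y ⟶ Spec B := pullback.snd f' v
  have hsq₂ : IsPullback v' f'' f' v := IsPullback.of_hasPullback f' v
  have hcomp : IsPullback (v' ≫ g') f'' f (v ≫ g) := hsq₂.paste_horiz h
  have hu : IsPullback (pullback.fst f u) (pullback.snd f u) f u := IsPullback.of_hasPullback f u
  let r : Y ⟶ pullback f u :=
    pullback.lift (v' ≫ g') (f'' ≫ Spec.map φ)
    (hcomp.w.trans ((congrArg (f'' ≫ ·) hφ.symm).trans (Category.assoc _ _ _).symm))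
  have hr₁ : r ≫ pullback.fst f u = v' ≫ g' := pullback.lift_fst _ _ _
  have hr₂ : r ≫ pullback.snd f u = f'' ≫ Spec.map φ := pullback.lift_snd _ _ _
  have hmid : IsPullback r f'' (pullback.snd f u) (Spec.map φ) :=
    IsPullback.of_right (hr₁.symm ▸ hφ.symm ▸ hcomp) hr₂ hu
  let k := v ≫ g
  let k' := v' ≫ g'
  haveI := hasRpush_scheme v; haveI := hasRpush_scheme v'; haveI := hasRpush_scheme f''
  haveI := hasRpush_scheme k; haveI := hasRpush_scheme k'
  haveI := hasRpush_scheme u; haveI := hasRpush_scheme (pullback.fst f u)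
  haveI := hasRpush_scheme (pullback.snd f u); haveI := hasRpush_scheme r
  haveI := hasRpush_scheme (Spec.map φ)
  haveI := hasLpull v; haveI := hasLpull v'; haveI := hasLpull k; haveI := hasLpull k'
  haveI := hasLpull u; haveI := hasLpull (pullback.fst f u); haveI := hasLpull r; haveI := hasLpull (Spec.map φ)
  have hw₃ : k' ≫ f = f'' ≫ k := hcomp.w
  obtain ⟨B₀⟩ := nonempty_lpull_rpush_adj k
  obtain ⟨B₀'⟩ := nonempty_lpull_rpush_adj k'
  obtain ⟨Au⟩ := nonempty_lpull_rpush_adj u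
  obtain ⟨Au'⟩ := nonempty_lpull_rpush_adj (pullback.fst f u)
  obtain ⟨eu, heu⟩ := exists_isCan hu.w
  obtain ⟨e₂, he₂, hiff⟩ := exists_hcomp (g' := g') (f' := f') hsq₂.w (holds_flat hsq₂) rfl rfl hw₃ he adj adj'
  obtain ⟨e₃, he₃, hiff'⟩ := exists_hcomp (g' := pullback.fst f u) (f' := pullback.snd f u) (v' := r)
    hr₂ (hloc U hU U' hU' hle Y r f'' hmid) hφ hr₁ hw₃ heu Au Au'
  have hθ : IsIso (BCMate.bc B₀ B₀' e₂ E) := by
    rw [isCan_unique he₂ he₃]
    haveI : IsIso (BCMate.bc Au Au' eu E) := holds_flat hu hu.w eu heu Au Au' E hE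
    exact (hiff' B₀ B₀' E hE).1 inferInstance
  haveI hv : IsIso ((rho v).map (BCMate.bc adj adj' e E)) := isIso_rho_of_lpull v _ ((hiff B₀ B₀' E hE).2 hθ)
  obtain ⟨rr⟩ := AffineLift.nonempty_rhoCompNat hU'.isoSpec.hom v U'.ι hU'.isoSpec_hom_fromSpec
  exact (NatIso.isIso_map_iff rr _).1 (inferInstanceAs
    (IsIso ((rho hU'.isoSpec.hom).map ((rho v).map (BCMate.bc adj adj' e E)))))

theorem torIndep_chart {f : X ⟶ S} {g : S' ⟶ S} (htor : TorIndepG f g) {U : S.Opens} (hU : IsAffineOpen U)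
    {U' : S'.Opens} (hU' : IsAffineOpen U') (hle : U' ≤ g ⁻¹ᵁ U) :
    letI := (g.appLE U U' hle).hom.toAlgebra
    TorIndep (A := Γ(S, U)) (pullback.snd f hU.fromSpec) Γ(S', U') := by
  intro C j _ ψ hψ p hp
  exact htor U hU U' hU' hle C ψ (j ≫ pullback.fst f hU.fromSpec)
    (by rw [← hψ, Category.assoc, Category.assoc, pullback.condition]) p hp

/-- Tor-independent base change for separated morphisms. -/
theorem holds_separated {g' : X' ⟶ X} {f' : X' ⟶ S'} {f : X ⟶ S} {g : S' ⟶ S} (h : IsPullback g' f' f g)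
    [QuasiCompact f] [IsSeparated f] (htor : TorIndepG f g) : Holds g' f' f g := by
  refine holds_of_charts h fun U hU U' hU' hle Y r f'' hmid => ?_
  intro _ _ _ _ _ _ hw e he adj adj' E hE
  letI := (g.appLE U U' hle).hom.toAlgebra
  haveI : QuasiCompact (pullback.snd f hU.fromSpec) := MorphismProperty.pullback_snd (P := @QuasiCompact) _ _ ‹_›
  haveI : IsSeparated (pullback.snd f hU.fromSpec) := MorphismProperty.pullback_snd (P := @IsSeparated) _ _ ‹_›
  exact isIso_bc_affine (A := Γ(S, U)) (B := Γ(S', U')) hmid (torIndep_chart htor hU hU' hle) e he adj adj' E hE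

/-- Tor-independent base change over affine bases. -/
theorem isIso_bc_affine_qs {X X' : Scheme.{u}} {A B : Type u} [CommRing A] [CommRing B] [Algebra A B]
    {f : X ⟶ Spec (CommRingCat.of A)} {g' : X' ⟶ X} {f' : X' ⟶ Spec (CommRingCat.of B)}
    [DCoh.HasRpush f] [DCoh.HasRpush f'] [DCoh.HasRpush g'] [DCoh.HasLpull g']
    [DCoh.HasRpush (baseMap A B)] [DCoh.HasLpull (baseMap A B)]
    (h : IsPullback g' f' f (baseMap A B)) [QuasiCompact f] [QuasiSeparated f] (htor : TorIndep f B)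
    (e : DCoh.Rpush g' ⋙ DCoh.Rpush f ≅ DCoh.Rpush f' ⋙ DCoh.Rpush (baseMap A B)) (he : IsCan h.w e)
    (adj : DCoh.Lpull (baseMap A B) ⊣ DCoh.Rpush (baseMap A B)) (adj' : DCoh.Lpull g' ⊣ DCoh.Rpush g')
    (E : DCoh.D X) (hE : DCoh.IsQCohD E) : IsIso (BCMate.bc adj adj' e E) := by
  let g := baseMap A B
  haveI : CompactSpace X := QuasiCompact.compactSpace_of_compactSpace f
  haveI : QuasiSeparatedSpace X := quasiSeparatedSpace_of_quasiSeparated f
  let τ : DCoh.Rpush f ⋙ DCoh.Lpull g ⟶ DCoh.Lpull g' ⋙ DCoh.Rpush f' := BCMate.bcTrans adj adj' e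
  haveI : (TriNat.good τ).IsTriangulated := TriNat.isTriangulated_good τ
    (TriNat.presTri_comp (TriNat.presTri_rpush f) (TriNat.presTri_lpull g))
    (TriNat.presTri_comp (TriNat.presTri_lpull g') (TriNat.presTri_rpush f'))
  suffices hQ : TriNat.good τ E from
    (NatTrans.isIso_app_iff_of_iso τ ((shiftFunctorZero (DCoh.D X) ℤ).app E)).1 (hQ 0)
  refine prop_of_affine_rpush (TriNat.good τ) (fun C j _ _ F hF n => ?_) E hE
  let W' := pullback j g'
  let hs : W' ⟶ Spec C := pullback.fst j g'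
  let j' : W' ⟶ X' := pullback.snd j g'
  have hsqj : IsPullback hs j' j g' := IsPullback.of_hasPullback j g'
  have hsql : IsPullback hs (j' ≫ f') (j ≫ f) g := hsqj.paste_vert h
  haveI := hasRpush_scheme hs; haveI := hasRpush_scheme j'
  haveI := hasRpush_scheme (j ≫ f); haveI := hasRpush_scheme (j' ≫ f')
  haveI := hasLpull hs
  haveI : QuasiCompact j := inferInstance
  haveI : IsSeparated (j ≫ f) := inferInstance
  obtain ⟨C₁⟩ := nonempty_lpull_rpush_adj hs
  obtain ⟨ej, hej⟩ := exists_isCan hsqj.w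
  obtain ⟨d, hd⟩ := exists_compCan (v := j) (g := f) rfl
  obtain ⟨d', hd'⟩ := exists_compCan (v := j') (g := f') rfl
  have hcan := isCan_vcomp he hej hd hd' hsql.w
  let G := F⟦n⟧
  have hG : DCoh.IsQCohD G := isQCohD_shift hF n
  haveI hl := isIso_bc_affine (f := j ≫ f) hsql
    (fun C' j₀ _ ψ hψ => htor C' (j₀ ≫ j) ψ (by rw [Category.assoc]; exact hψ)) _ hcan adj C₁ G hG
  haveI hj : IsIso (BCMate.bc adj' C₁ ej G) :=
    holds_separated hsqj (torIndepG_of_flat j g') hsqj.w ej hej adj' C₁ G hG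
  have hv : IsIso (BCMate.bc adj C₁ (BCMate.vcomp e ej) G) :=
    (BCMate.isIso_bc_transport adj C₁ (BCMate.vcomp e ej) d d' (Iso.refl _) (Iso.refl _) _
      (fun M => by simp) adj C₁ G).2 hl
  rw [BCMate.bc_vcomp] at hv
  haveI := hv
  have hθ : IsIso (BCMate.bc adj adj' e ((DCoh.Rpush j).obj G)) :=
    @IsIso.of_isIso_comp_right _ _ _ _ _ _ ((DCoh.Rpush f').map (BCMate.bc adj' C₁ ej G)) inferInstance hv
  obtain ⟨es⟩ := nonempty_rpush_shift j F n
  exact (NatTrans.isIso_app_iff_of_iso τ es).1 hθ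

/-- Tor-independent base change. -/
theorem holds_torIndep {g' : X' ⟶ X} {f' : X' ⟶ S'} {f : X ⟶ S} {g : S' ⟶ S} (h : IsPullback g' f' f g)
    [QuasiCompact f] [QuasiSeparated f] (htor : TorIndepG f g) : Holds g' f' f g := by
  refine holds_of_charts h fun U hU U' hU' hle Y r f'' hmid => ?_
  intro _ _ _ _ _ _ hw e he adj adj' E hE
  letI := (g.appLE U U' hle).hom.toAlgebra
  haveI : QuasiCompact (pullback.snd f hU.fromSpec) := MorphismProperty.pullback_snd (P := @QuasiCompact) _ _ ‹_›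
  haveI : QuasiSeparated (pullback.snd f hU.fromSpec) := MorphismProperty.pullback_snd (P := @QuasiSeparated) _ _ ‹_›
  exact isIso_bc_affine_qs (A := Γ(S, U)) (B := Γ(S', U')) hmid (torIndep_chart htor hU hU' hle) e he adj adj' E hE

/-- Tor-independent base change, in the form of `DCoh.baseChangeApp`. -/
theorem exists_isIso_baseChangeApp {g' : X' ⟶ X} {f' : X' ⟶ S'} {f : X ⟶ S} {g : S' ⟶ S}
    (h : IsPullback g' f' f g) [QuasiCompact f] [QuasiSeparated f] (htor : TorIndepG f g)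
    [DCoh.HasRpush f] [DCoh.HasRpush g] [DCoh.HasLpull g] [DCoh.HasRpush f'] [DCoh.HasRpush g']
    [DCoh.HasLpull g'] (adjg : DCoh.Lpull g ⊣ DCoh.Rpush g) (adjg' : DCoh.Lpull g' ⊣ DCoh.Rpush g') :
    ∃ e : DCoh.Rpush g' ⋙ DCoh.Rpush f ≅ DCoh.Rpush f' ⋙ DCoh.Rpush g,
      IsCan h.w e ∧ ∀ E : DCoh.D X, DCoh.IsQCohD E → IsIso (DCoh.baseChangeApp adjg adjg' e E) := by
  obtain ⟨e, he⟩ := exists_isCan h.w
  exact ⟨e, he, fun E hE => holds_torIndep h htor h.w e he adjg adjg' E hE⟩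

end Groth.Agent.KExact.TorBCGen
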