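import Groth.Agent.KExact.TorBCData
import Groth.Agent.KExact.ShriekFormula
import Groth.Agent.KExact.SerreTop
import Groth.Agent.KFlatLib.Scheme.CompactPerfect
import Groth.Agent.KFlatLib.Scheme.AdjointCoproduct
import Groth.Agent.KFlatLib.Scheme.EvalPerfect
import Groth.Agent.KFlatLib.Scheme.AffineConservative
import Groth.Agent.KFlatLib.Scheme.RpushRestrict
import Groth.Agent.KFlatLib.Scheme.RpushFF

/-!
# Perfect direct images and tor independent base change
-/

set_option linter.style.haveILetI false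
set_option backward.isDefEq.respectTransparency false
set_option backward.isDefEq.respectTransparency.types false

universe u

open CategoryTheory CategoryTheory.Limits AlgebraicGeometry Pretriangulated ZeroObject

attribute [local instance] HasDerivedCategory.standard

namespace Groth.Agent.KExact.TorBCPerfPush

open KFlatLib KFlatLib.CompactPerfect CanBC TorBCGen

variable {X Y X' Y' : Scheme.{u}}

lemma map_ι_iso_hom {C : Type*} [Category C] {D : Type*} [Category D] (G : C ⥤ D) {J : Type*} (f : J → C)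
    [HasCoproduct f] [HasCoproduct fun j => G.obj (f j)] [PreservesColimit (Discrete.functor f) G] (j : J) :
    G.map (Sigma.ι f j) ≫ (PreservesCoproduct.iso G f).hom = Sigma.ι (fun j => G.obj (f j)) j := by
  rw [← cancel_mono (PreservesCoproduct.iso G f).inv, Category.assoc, Iso.hom_inv_id, Category.comp_id,
    PreservesCoproduct.inv_hom, ι_comp_sigmaComparison]

/-- If the right adjoint of `Rf_*` on `D_QCoh` commutes with sums, `Rf_*` preserves perfect objects. -/
theorem locSP_rpush_of_sum [CompactSpace X] [QuasiSeparatedSpace X] [CompactSpace Y] [QuasiSeparatedSpace Y]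
    (f : X ⟶ Y) [DCoh.HasRpush f] (hf : DCoh.RpushPreservesQCoh f) (a : DCoh.DQCoh Y ⥤ DCoh.DQCoh X)
    (adj : DCoh.RpushQ f hf ⊣ a)
    (hsum : ∀ {ι : Type u} (K : ι → DCoh.DQCoh Y) [HasCoproduct K] [HasCoproduct fun i => a.obj (K i)],
      IsIso (Sigma.desc (fun i => a.map (Sigma.ι K i))))
    {P : DCoh.D X} (hP : LocSP P) : LocSP ((DCoh.Rpush f).obj P) := by
  haveI : (DCoh.Rpush f).Additive :=
    (exists_rightDerived_triangle (Scheme.Modules.pushforward f) _
      (contractible_distinguished P)).1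
  have hPq := AffineLift.isQCohD_of_locSP hP
  refine locSP_of_isCompactObjRel (hf P hPq) (rel_of_finSums fun ι N _ hN φ => ?_)
  classical
  haveI := AdjCoprod.closed_coproducts X ι
  haveI := AdjCoprod.closed_coproducts Y ι
  haveI : HasColimitsOfShape (Discrete ι) (DCoh.D X) := TriCat.hasColimitsOfShape_derivedCategory
  haveI : HasColimitsOfShape (Discrete ι) (DCoh.D Y) := TriCat.hasColimitsOfShape_derivedCategory
  let iX := ObjectProperty.ι (DCoh.IsQCohD (X := X))
  let iY := ObjectProperty.ι (DCoh.IsQCohD (X := Y))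
  haveI : CreatesColimitsOfShape (Discrete ι) iX := createsColimitsOfShapeFullSubcategoryInclusion _ _
  haveI : CreatesColimitsOfShape (Discrete ι) iY := createsColimitsOfShapeFullSubcategoryInclusion _ _
  haveI : HasColimitsOfShape (Discrete ι) (DCoh.DQCoh X) := inferInstance
  haveI : HasColimitsOfShape (Discrete ι) (DCoh.DQCoh Y) := inferInstance
  haveI : PreservesColimitsOfShape (Discrete ι) iX := inferInstance
  haveI : PreservesColimitsOfShape (Discrete ι) iY := inferInstance
  let K : ι → DCoh.DQCoh Y := fun i => ⟨N i, hN i⟩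
  let PQ : DCoh.DQCoh X := ⟨P, hPq⟩
  haveI := adj.right_adjoint_additive
  haveI : IsIso (Sigma.desc (fun i => a.map (Sigma.ι K i))) := hsum K
  let cY : iY.obj (∐ K) ≅ ∐ N := PreservesCoproduct.iso iY K
  let cX := PreservesCoproduct.iso iX (fun i => a.obj (K i))
  let φ' : (DCoh.RpushQ f hf).obj PQ ⟶ ∐ K := ObjectProperty.homMk (φ ≫ cY.inv)
  let ψ : PQ ⟶ ∐ (fun i => a.obj (K i)) :=
    adj.homEquiv _ _ φ' ≫ inv (Sigma.desc (fun i => a.map (Sigma.ι K i)))
  haveI : HasCoproduct fun i => iX.obj (a.obj (K i)) := inferInstance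
  obtain ⟨s, c, hc⟩ := finSums_of_isPerfect ((isPerfect_iff _).2 hP) ι (fun i => iX.obj (a.obj (K i)))
    (fun i => (a.obj (K i)).property) (ψ.hom ≫ cX.hom)
  have hψ : ψ = ∑ i ∈ s, (ObjectProperty.homMk (c i) : PQ ⟶ a.obj (K i)) ≫ Sigma.ι (fun i => a.obj (K i)) i := by
    refine iX.map_injective ?_
    refine (cancel_mono cX.hom).1 (hc.trans ?_)
    rw [Functor.map_sum, Preadditive.sum_comp]
    refine Finset.sum_congr rfl fun i _ => ?_
    rw [Functor.map_comp, Category.assoc]
    exact congrArg (c i ≫ ·) (map_ι_iso_hom iX _ i).symm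
  have hφ' : φ' = ∑ i ∈ s, (adj.homEquiv _ _).symm (ObjectProperty.homMk (c i)) ≫ Sigma.ι K i := by
    refine (adj.homEquiv _ _).injective ?_
    have h1 : adj.homEquiv _ _ φ' = ψ ≫ Sigma.desc (fun i => a.map (Sigma.ι K i)) := by simp [ψ]
    rw [h1, hψ, Preadditive.sum_comp, adj.homEquiv_unit, Functor.map_sum, Preadditive.comp_sum]
    refine Finset.sum_congr rfl fun i _ => ?_
    rw [Category.assoc, Sigma.ι_desc, ← adj.homEquiv_unit, adj.homEquiv_naturality_right,
      Equiv.apply_symm_apply]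
  refine ⟨s, fun i => ((adj.homEquiv _ _).symm (ObjectProperty.homMk (c i) : PQ ⟶ a.obj (K i))).hom, ?_⟩
  have h2 : φ = iY.map φ' ≫ cY.hom := by simp [φ', iY]
  rw [h2, hφ', Functor.map_sum, Preadditive.sum_comp]
  refine Finset.sum_congr rfl fun i _ => ?_
  rw [Functor.map_comp, Category.assoc]
  exact congrArg (iY.map _ ≫ ·) (map_ι_iso_hom iY K i)

variable {f : X ⟶ Y} {g : Y' ⟶ Y} {f' : X' ⟶ Y'} {g' : X' ⟶ X}

/-- `Rf_*` preserving perfect objects passes to a tor-independent base change. -/
theorem locSP_rpush_bc [CompactSpace X] [QuasiSeparatedSpace X] [CompactSpace X'] [QuasiSeparatedSpace X']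
    [QuasiSeparatedSpace Y'] (hsq : IsPullback g' f' f g) [QuasiCompact f] [QuasiSeparated f] (htor : TorIndepG f g)
    [DCoh.HasRpush f] [DCoh.HasRpush f'] [DCoh.HasRpush g] [DCoh.HasRpush g'] [DCoh.HasLpull g] [DCoh.HasLpull g']
    (hperf : ∀ P : DCoh.D X, LocSP P → LocSP ((DCoh.Rpush f).obj P))
    {P' : DCoh.D X'} (hP' : LocSP P') : LocSP ((DCoh.Rpush f').obj P') := by
  haveI : QuasiCompact f' := MorphismProperty.of_isPullback (P := @QuasiCompact) hsq inferInstance
  haveI : QuasiSeparated f' := MorphismProperty.of_isPullback (P := @QuasiSeparated) hsq inferInstance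
  obtain ⟨A⟩ := nonempty_lpull_rpush_adj g
  obtain ⟨A'⟩ := nonempty_lpull_rpush_adj g'
  obtain ⟨e, -, he⟩ := exists_isIso_baseChangeApp hsq htor A A'
  obtain ⟨P, hP, hgen⟩ := Generator.exists_gen X
  have hL : LocSP ((DCoh.Rpush f').obj ((DCoh.Lpull g').obj P)) := by
    haveI := he P (AffineLift.isQCohD_of_locSP hP)
    exact LocSP.of_iso (asIso (DCoh.baseChangeApp A A' e P))
      ((isPerfect_iff _).1 (isPerfect_lpull g ((isPerfect_iff _).2 (hperf P hP))))
  refine LocSP.of_local fun y => ?_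
  obtain ⟨V, hV, hyV, -⟩ := exists_isAffineOpen_mem_and_subset (x := g y) (U := ⊤) trivial
  obtain ⟨V', hV', hy', hle⟩ := exists_isAffineOpen_mem_and_subset (x := y) (U := g ⁻¹ᵁ V) hyV
  refine ⟨_, V'.ι, inferInstance, by rw [Scheme.Opens.range_ι]; exact hy', ?_⟩
  let W' : X'.Opens := f' ⁻¹ᵁ V'
  let q : (W' : Scheme.{u}) ⟶ V' := f' ∣_ V'
  let j := (f ⁻¹ᵁ V).ι
  let qV := f ∣_ V
  let b : (V' : Scheme.{u}) ⟶ V := g.resLE V V' hle
  haveI : QuasiCompact q := inferInstance
  haveI : QuasiSeparated q := inferInstance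
  haveI : IsAffine (V' : Scheme.{u}) := hV'
  haveI : IsAffine (V : Scheme.{u}) := hV
  haveI : CompactSpace (W' : Scheme.{u}) := QuasiCompact.compactSpace_of_compactSpace q
  haveI : QuasiSeparatedSpace (W' : Scheme.{u}) := quasiSeparatedSpace_of_quasiSeparated q
  have hA : IsPullback W'.ι q f' V'.ι := (isPullback_morphismRestrict f' V').flip
  have hcomp : IsPullback (W'.ι ≫ g') q f (V'.ι ≫ g) := hA.paste_horiz hsq
  have hB : IsPullback j qV f V.ι := (isPullback_morphismRestrict f V).flip
  have hb : b ≫ V.ι = V'.ι ≫ g := Scheme.Hom.resLE_comp_ι _ _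
  let k : (W' : Scheme.{u}) ⟶ f ⁻¹ᵁ V :=
    hB.lift (W'.ι ≫ g') (q ≫ b) (by rw [Category.assoc, Category.assoc, hb]; exact hcomp.w)
  have hk₁ : k ≫ j = W'.ι ≫ g' := hB.lift_fst _ _ _
  have hk₂ : k ≫ qV = q ≫ b := hB.lift_snd _ _ _
  have hmid : IsPullback k q qV b := IsPullback.of_right (hk₁.symm ▸ hb.symm ▸ hcomp) hk₂ hB
  haveI : IsAffineHom b := isAffineHom_of_isAffine b
  haveI : IsAffineHom k := MorphismProperty.of_isPullback (P := @IsAffineHom) hmid.flip inferInstance
  haveI := hasRpush_scheme q; haveI := hasRpush_scheme W'.ι; haveI := hasRpush_scheme k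
  haveI := hasRpush_scheme j; haveI := hasRpush_scheme (W'.ι ≫ g')
  haveI : DCoh.HasRpush (f' ∣_ V') := hasRpush_scheme _
  obtain ⟨r⟩ := nonempty_rpush_restrictD_iso f' V'
  let F : DCoh.D (W' : Scheme.{u}) ⥤ DCoh.D (V' : Scheme.{u}) := DCoh.Rpush q
  let Q : ObjectProperty (DCoh.D (W' : Scheme.{u})) := fun L => LocSP (F.obj L)
  haveI : Q.IsClosedUnderIsomorphisms := ⟨fun i h => LocSP.of_iso (F.mapIso i) h⟩
  haveI : Q.IsStableUnderRetracts :=
    ⟨fun {L M} rt h => locSP_of_retract (F.map rt.i) (F.map rt.r)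
      (by rw [← Functor.map_comp, rt.retract, CategoryTheory.Functor.map_id]) h⟩
  haveI : Q.IsTriangulated :=
    { exists_zero := ⟨0, isZero_zero _, locSP_of_isZero (by
        haveI : F.Additive :=
          (exists_rightDerived_triangle (Scheme.Modules.pushforward q) _
            (contractible_distinguished (0 : DCoh.D (W' : Scheme.{u})))).1
        exact F.map_isZero (isZero_zero _))⟩
      isStableUnderShiftBy := fun n => ⟨fun L hL => by
        obtain ⟨s⟩ := SerreTop.nonempty_rpush_shiftNat q n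
        exact LocSP.of_iso (s.app L).symm (LocSP.shift hL n)⟩
      ext₂' := fun T hT h₁ h₃ => ObjectProperty.le_isoClosure _ _ (by
        obtain ⟨c, hc⟩ := TriNat.presTri_rpush q T hT
        exact (locSP_two_of_three _ hc).2.1 h₁ h₃) }
  let w := W'.ι
  let PW := (rho w).obj ((DCoh.Lpull g').obj P)
  have hLP : LocSP ((DCoh.Lpull g').obj P) := (isPerfect_iff _).1 (isPerfect_lpull g' ((isPerfect_iff _).2 hP))
  have hQ : Q PW := LocSP.of_iso (r.app _) (hL.restrict' V'.ι)
  haveI : QuasiCompact g' := quasiCompact_of_compactSpace g'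
  haveI : QuasiSeparated g' := QuasiSeparated.of_quasiSeparatedSpace g'
  haveI : QuasiCompact w := quasiCompact_of_compactSpace w
  haveI : IsAffineHom k := inferInstance
  have hgenW : ∀ E, DCoh.IsQCohD E → Generator.Orth PW E → IsZero E := by
    intro E hE ho
    obtain ⟨aw⟩ := nonempty_rho_adj w
    have ho' : Generator.Orth ((DCoh.Lpull g').obj P) ((DCoh.Rpush w).obj E) := fun n φ => by
      have h0 := ho n (((rho w).commShiftIso n).inv.app _ ≫ (aw.homEquiv _ _).symm φ)
      rw [← (aw.homEquiv _ _).symm.injective.eq_iff, (cancel_epi (((rho w).commShiftIso n).inv.app _)).1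
        (h0.trans comp_zero.symm), aw.homEquiv_counit, Functor.map_zero, zero_comp]
    have ho'' : Generator.Orth P ((DCoh.Rpush g').obj ((DCoh.Rpush w).obj E)) := fun n φ => by
      obtain ⟨s⟩ := ShriekFormula.nonempty_lpull_shift g' n
      have h0 := ho' n (s.inv.app P ≫ (A'.homEquiv _ _).symm φ)
      rw [← (A'.homEquiv _ _).symm.injective.eq_iff, (cancel_epi (s.inv.app P)).1
        (h0.trans comp_zero.symm), A'.homEquiv_counit]
      haveI : (DCoh.Rpush g').Additive :=
        (exists_rightDerived_triangle (Scheme.Modules.pushforward g') _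
          (contractible_distinguished ((DCoh.Lpull g').obj P))).1
      haveI := A'.left_adjoint_additive
      rw [Functor.map_zero, zero_comp]
    have hz : IsZero ((DCoh.Rpush g').obj ((DCoh.Rpush w).obj E)) :=
      hgen _ (isQCohD_rpush g' (isQCohD_rpush w hE)) ho''
    obtain ⟨c, -⟩ := exists_compCan (v := w) (g := g') (k := W'.ι ≫ g') rfl
    obtain ⟨c', -⟩ := exists_compCan (v := k) (g := j) hk₁
    have hz' : IsZero ((DCoh.Rpush j).obj ((DCoh.Rpush k).obj E)) :=
      hz.of_iso ((c'.app E) ≪≫ (c.app E).symm)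
    obtain ⟨i⟩ := nonempty_rpush_restrictD_id j
    haveI : (rho j).Additive := inferInstance
    exact isZero_of_rpush_isZero k hE ((Functor.map_isZero (DCoh.restrictD j) hz').of_iso (i.app _).symm)
  refine LocSP.of_iso (r.app P').symm ?_
  have hPW : LocSP ((rho w).obj P') := hP'.restrict' w
  exact prop_of_finSums Q (hLP.restrict' w) hgenW hQ (AffineLift.isQCohD_of_locSP hPW)
    (finSums_of_isPerfect ((isPerfect_iff _).2 hPW))

end Groth.Agent.KExact.TorBCPerfPush
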