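import Groth.Agent.KSixRel.AmpBaseChange
import Groth.Agent.H9Misc.DRingTorLTensor
import Groth.Agent.RelPC17.AmpWEt

/-!
# Tor-independent base change of tor amplitude
-/

set_option autoImplicit false
set_option linter.style.haveILetI false
set_option backward.isDefEq.respectTransparency false
set_option backward.isDefEq.respectTransparency.types false

universe u

open CategoryTheory CategoryTheory.Limits AlgebraicGeometry MonoidalCategory TensorProduct

attribute [local instance] HasDerivedCategory.standard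

namespace Groth.Agent.KExact

open KFlatLib RelPC17

/-- Restriction along a flat map preserves K-flatness. -/
theorem kFlat_restrictScalars {A B : Type u} [CommRing A] [CommRing B] (φ : A →+* B) (hφ : φ.Flat)
    {K : DRing.Cx B} (hK : KFlat (curriedTensor (ModuleCat.{u} B)) K) :
    KFlat (curriedTensor (ModuleCat.{u} A))
      (((ModuleCat.restrictScalars φ).mapHomologicalComplex (ComplexShape.up ℤ)).obj K) :=
  kFlat_iff.2 fun L hL i => by
    haveI := ModuleCat.preservesFiniteLimits_extendScalars_of_flat hφ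
    haveI : (ModuleCat.extendScalars.{u, u, u} φ).IsLeftAdjoint :=
      (ModuleCat.extendRestrictScalarsAdj φ).isLeftAdjoint
    haveI : PreservesFiniteColimits (ModuleCat.extendScalars.{u, u, u} φ) := inferInstance
    haveI : (ModuleCat.extendScalars.{u, u, u} φ).Additive :=
      (ModuleCat.extendRestrictScalarsAdj φ).left_adjoint_additive
    haveI := (ModuleCat.extendScalars.{u, u, u} φ).preservesHomologyOfExact
    let L' := ((ModuleCat.extendScalars.{u, u, u} φ).mapHomologicalComplex (ComplexShape.up ℤ)).obj L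
    have hL' : L'.Acyclic := fun n => (hL n).map (ModuleCat.extendScalars.{u, u, u} φ)
    have h := (hK.acyclic hL' i).of_iso ((symmIso curriedTensorFlipIso L').app K).symm
    exact ((H9Misc.DRingTorLTensor.exactAt_projection φ K L i).1 h).of_iso
      ((symmIso curriedTensorFlipIso L).app _)

/-- Base change along a tor-independent pushout square preserves tor amplitude. -/
theorem amp_extend_pushout {R O₁ C P : CommRingCat.{u}} {a : R ⟶ O₁} {ψ : R ⟶ C} {inl : O₁ ⟶ P} {inr : C ⟶ P}
    (h : IsPushout a ψ inl inr) (hψ : ψ.hom.Flat) (K : DRing.Cx C)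
    (hK : KFlat (curriedTensor (ModuleCat.{u} R))
      (((ModuleCat.restrictScalars ψ.hom).mapHomologicalComplex (ComplexShape.up ℤ)).obj K))
    (c d : ℤ) (hA : DRing.HasTorAmplitudeIn C c d (DRing.toD K)) :
    DRing.HasTorAmplitudeIn P c d (DRing.toD
      (((ModuleCat.extendScalars inr.hom).mapHomologicalComplex (ComplexShape.up ℤ)).obj K)) := by
  have hsq : inr.hom.comp ψ.hom = inl.hom.comp a.hom :=
    (congrArg CommRingCat.Hom.hom h.w).symm
  haveI := fun M => KSixRel.isIso_sqCmp_of_isPushout h hsq M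
  let η : ModuleCat.restrictScalars ψ.hom ⋙ ModuleCat.extendScalars a.hom ≅
      ModuleCat.extendScalars inr.hom ⋙ ModuleCat.restrictScalars inl.hom :=
    NatIso.ofComponents (fun M => asIso (sqCmp ψ.hom a.hom inr.hom inl.hom hsq M))
      (fun g => sqCmp_natural ψ.hom a.hom inr.hom inl.hom hsq g)
  let Rψ := (ModuleCat.restrictScalars ψ.hom).mapHomologicalComplex (ComplexShape.up ℤ)
  let Ea := (ModuleCat.extendScalars a.hom).mapHomologicalComplex (ComplexShape.up ℤ)
  let G := (ModuleCat.extendScalars inr.hom).mapHomologicalComplex (ComplexShape.up ℤ)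
  let Ri := (ModuleCat.restrictScalars inl.hom).mapHomologicalComplex (ComplexShape.up ℤ)
  let ηc : Rψ ⋙ Ea ≅ G ⋙ Ri :=
    Functor.mapHomologicalComplexCompIso η (ComplexShape.up ℤ) ≪≫
      (Functor.mapHomologicalComplexCompIso (Iso.refl (ModuleCat.extendScalars inr.hom ⋙
        ModuleCat.restrictScalars inl.hom)) (ComplexShape.up ℤ)).symm
  have key : ∀ {K₁ K₂ : DRing.Cx C} (α : K₁ ⟶ K₂) [QuasiIso α],
      KFlat (curriedTensor (ModuleCat.{u} R)) (Rψ.obj K₁) →
      KFlat (curriedTensor (ModuleCat.{u} R)) (Rψ.obj K₂) → IsIso (DerivedCategory.Q.map (G.map α)) :=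
    fun {K₁ K₂} α _ h₁ h₂ => by
      haveI : QuasiIso (Rψ.map α) := by constructor; intro n; infer_instance
      haveI : QuasiIso (Ea.map (Rψ.map α)) := quasiIso_extendScalars a.hom _ h₁ h₂
      haveI : QuasiIso (Ri.map (G.map α)) :=
        (quasiIso_iff_of_arrow_mk_iso ((Rψ ⋙ Ea).map α) ((G ⋙ Ri).map α)
          (((Functor.mapArrowFunctor _ _).mapIso ηc).app (Arrow.mk α))).1 ‹_›
      exact (DerivedCategory.isIso_Q_map_iff_quasiIso _ _).2
        ((HomologicalComplex.quasiIso_map_iff_of_preservesHomology (G.map α) (ModuleCat.restrictScalars inl.hom)).1 ‹_›)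
  obtain ⟨E, hv, hf, ⟨e⟩⟩ := hA
  obtain ⟨Z, s, hs, t, ht⟩ := DerivedCategory.right_fac (C := ModuleCat.{u} C) (X := E) (Y := K) e.hom
  haveI : IsIso (DerivedCategory.Q.map s) := hs
  haveI : IsIso (DerivedCategory.Q.map t) := by
    have h' : DerivedCategory.Q.map t = DerivedCategory.Q.map s ≫ e.hom := by
      rw [ht, IsIso.hom_inv_id_assoc]
    rw [h']
    infer_instance
  haveI : QuasiIso s := (DerivedCategory.isIso_Q_map_iff_quasiIso _ _).1 inferInstance
  haveI : QuasiIso t := (DerivedCategory.isIso_Q_map_iff_quasiIso _ _).1 inferInstance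
  let q := (ringCover C).ψ.app Z
  haveI : QuasiIso q := (ringCover C).quasiIso_ψ Z
  have hE : KFlat (curriedTensor (ModuleCat.{u} C)) E :=
    kFlat_of_termwiseFlat hf (b := d) fun i hi => hv i (Or.inr hi)
  have hZ : KFlat (curriedTensor (ModuleCat.{u} C)) ((ringCover C).P.obj Z) := kFlat_ringRes Z
  haveI := key (q ≫ s) (kFlat_restrictScalars ψ.hom hψ hZ) (kFlat_restrictScalars ψ.hom hψ hE)
  haveI := key (q ≫ t) (kFlat_restrictScalars ψ.hom hψ hZ) hK
  refine ⟨G.obj E, fun i hi => (ModuleCat.extendScalars inr.hom).map_isZero (hv i hi), fun i => ?_,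
    ⟨(asIso (DerivedCategory.Q.map (G.map (q ≫ s)))).symm ≪≫ asIso (DerivedCategory.Q.map (G.map (q ≫ t)))⟩⟩
  letI := inr.hom.toAlgebra
  haveI := hf i
  exact inferInstanceAs (Module.Flat P ((P : Type u) ⊗[C] (E.X i)))

end Groth.Agent.KExact
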