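import Groth.Agent.KExact.TorBCGlobal
import Groth.Agent.H9Misc.TorBalance

/-!
# Tor independence stated on affine opens
-/

set_option linter.style.haveILetI false
set_option backward.isDefEq.respectTransparency false
set_option backward.isDefEq.respectTransparency.types false

universe u

open CategoryTheory CategoryTheory.Limits AlgebraicGeometry

attribute [local instance] HasDerivedCategory.standard

namespace Groth.Agent.KExact.TorBCGen

variable {X S S' : Scheme.{u}} {f : X ⟶ S} {g : S' ⟶ S}

/-- The hypothesis of the statements gives `TorIndepG`. -/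
theorem torIndepG_of_appLE (htor : ∀ (U : S.Opens), IsAffineOpen U → ∀ (U' : S'.Opens), IsAffineOpen U' →
    ∀ (hU' : U' ≤ g ⁻¹ᵁ U) (V : X.Opens), IsAffineOpen V → ∀ (hV : V ≤ f ⁻¹ᵁ U) (i : ℕ), 0 < i →
      Subsingleton (@DRing.Tor Γ(S, U) _ i Γ(S', U') Γ(X, V) _ (g.appLE U U' hU').hom.toModule _
        (f.appLE U V hV).hom.toModule)) : TorIndepG f g := by
  intro U hU U' hU' hle C ψ j _ hψ p hp
  let A := Γ(S, U)
  let B := Γ(S', U')
  letI := (g.appLE U U' hle).hom.toAlgebra
  let V := j.opensRange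
  have hV : IsAffineOpen V := isAffineOpen_opensRange j
  have hVU : V ≤ f ⁻¹ᵁ U := by
    rintro _ ⟨c, rfl⟩
    have h1 : f (j c) = hU.fromSpec (Spec.map ψ c) := congr($(hψ.symm) c)
    change f (j c) ∈ U
    rw [h1]
    exact hU.range_fromSpec.le ⟨_, rfl⟩
  let φC : A ⟶ Γ(X, V) := f.appLE U V hVU
  let t : Spec C ≅ Spec Γ(X, V) :=
    IsOpenImmersion.isoOfRangeEq j hV.fromSpec (hV.range_fromSpec.symm)
  let θ : Γ(X, V) ⟶ C := Spec.preimage t.hom
  have hθ : Spec.map θ = t.hom := Spec.map_preimage _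
  haveI : IsIso (Spec.map θ) := hθ ▸ inferInstance
  haveI : IsIso θ := by
    refine ⟨Spec.preimage t.inv, ?_, ?_⟩ <;> apply Spec.map_injective <;>
      simp [Spec.map_comp, hθ, Spec.map_preimage]
  have hcomp : ψ = φC ≫ θ := by
    apply Spec.map_injective
    rw [← cancel_mono hU.fromSpec, hψ, Spec.map_comp, Category.assoc, IsAffineOpen.SpecMap_appLE_fromSpec, hθ,
      ← Category.assoc, IsOpenImmersion.isoOfRangeEq_hom_fac]
    exact hV
  letI : Module A Γ(X, V) := φC.hom.toModule
  let e : ModuleCat.of A Γ(X, V) ≅ (ModuleCat.restrictScalars.{u} ψ.hom).obj (ModuleCat.of C C) :=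
    LinearEquiv.toModuleIso (LinearEquiv.ofBijective
    ({ toFun := fun x => θ x
       map_add' := fun x y => map_add θ.hom x y
       map_smul' := fun r x => by
        change θ (φC r * x) = ψ r * θ x
        rw [hcomp]
        exact map_mul θ.hom _ _ } :
      Γ(X, V) →ₗ[A] ((ModuleCat.restrictScalars.{u} ψ.hom).obj (ModuleCat.of C C) : Type u))
      (ConcreteCategory.bijective_of_isIso θ))
  haveI := htor U hU U' hU' hle V hV hVU p (by omega)
  exact ((ModuleCat.isZero_of_subsingleton _).of_iso (H9Misc.TorBalance.torSymm _ _ p)).of_iso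
    (((CategoryTheory.Tor (ModuleCat.{u} A) p).mapIso e.symm).app _)

end Groth.Agent.KExact.TorBCGen
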