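import Groth.Agent.RelPC17.BaseChange
import Groth.Agent.KExact.RelTensor

/-!
# Tor-independent base change of relative pseudo-coherence
-/

set_option autoImplicit false
set_option linter.style.haveILetI false
set_option backward.isDefEq.respectTransparency false
set_option backward.isDefEq.respectTransparency.types false

universe u

open CategoryTheory CategoryTheory.Limits AlgebraicGeometry TopologicalSpace Opposite
open scoped TensorProduct

attribute [local instance] HasDerivedCategory.standard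

namespace Groth.Agent.KExact

open KFlatLib RelPC17

section Ring

open H9Misc H9Misc.DRingTor H9Misc.DRingRestrict H9Misc.DRingLTensor H9Misc.DRingRelPC

variable {R₀ R T R' A : Type u} [CommRing R₀] [CommRing R] [CommRing T] [CommRing R'] [CommRing A]

/-- An algebra flat over `R₀` is tor independent of a base change of the flat algebra `R`. -/
theorem isIso_baseCmp_torIndep [Algebra R₀ R] [Algebra R₀ T] [Algebra R R'] [Algebra T R'] [Algebra R₀ R']
    [IsScalarTower R₀ R R'] [IsScalarTower R₀ T R'] [Algebra.IsPushout R₀ T R R']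
    (φA : R →+* A) (hR : (algebraMap R₀ R).Flat) (hA : (φA.comp (algebraMap R₀ R)).Flat)
    [DTen.HasLBase (algebraMap R R')] (k : ℤ) :
    IsIso ((DTen.baseCmp (algebraMap R R')).app ((DTen.resCx φA).obj
      ((HomologicalComplex.single (ModuleCat.{u} A) (ComplexShape.up ℤ) k).obj (ModuleCat.of A A)))) := by
  haveI := hasLBase (algebraMap R₀ T)
  let φ := algebraMap R₀ R
  let ρ := algebraMap R₀ T
  have h : (algebraMap R R').comp φ = (algebraMap T R').comp ρ := by
    rw [← IsScalarTower.algebraMap_eq, ← IsScalarTower.algebraMap_eq]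
  haveI hι₁ : ∀ M, IsIso (sqMod h M) := fun M => isIso_sqMod h rfl rfl rfl rfl M
  haveI hι₂ : ∀ Y, IsIso (cmpBC h Y) := fun Y => isIso_cmpBC h
    (fun k => isIso_baseCmp_single_of_flat_left φ _ hR k) Y
  let S := (HomologicalComplex.single (ModuleCat.{u} A) (ComplexShape.up ℤ) k).obj (ModuleCat.of A A)
  let C := (DTen.resCx φA).obj S
  let e : (DTen.resCx φ).obj C ≅ (DTen.resCx (φA.comp φ)).obj S :=
    (Functor.mapHomologicalComplexCompIso
      (ModuleCat.restrictScalarsComp' φ φA (φA.comp φ) rfl).symm (ComplexShape.up ℤ)).app S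
  haveI : IsIso ((DTen.baseCmp ρ).app ((DTen.resCx φ).obj C)) :=
    (NatTrans.isIso_app_iff_of_iso (DTen.baseCmp ρ) e).2 (isIso_baseCmp_single_of_flat_left _ _ hA k)
  haveI : ∀ i, IsIso ((sqCx h C).f i) := fun i => hι₁ _
  haveI : IsIso (sqCx h C) := HomologicalComplex.Hom.isIso_of_components (sqCx h C)
  exact isIso_baseCmp_of_cmpBC h C

/-- Relative pseudo-coherence under tor-independent base change. -/
theorem relPC_baseChange_of [Algebra R A] [Algebra R R'] [Algebra.FiniteType R A]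
    [DRing.HasLBaseChange (Algebra.TensorProduct.includeRight : A →ₐ[R] R' ⊗[R] A).toRingHom]
    (hgen : ∀ [DTen.HasLBase (algebraMap R R')] (k : ℤ), IsIso ((DTen.baseCmp (algebraMap R R')).app
      ((DTen.resCx (algebraMap R A)).obj
        ((HomologicalComplex.single (ModuleCat.{u} A) (ComplexShape.up ℤ) k).obj (ModuleCat.of A A)))))
    (K : Dual.D A) (m : ℤ) (hK : DerCA.IsRelPseudoCoherent R A m K) :
    DerCA.IsRelPseudoCoherent R' (R' ⊗[R] A) m
      ((DRing.LBaseChange (Algebra.TensorProduct.includeRight : A →ₐ[R] R' ⊗[R] A).toRingHom).obj K) := by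
  obtain ⟨n, ψ, hψ⟩ := exists_presentation R A
  let ψ' : MvPolynomial (Fin n) R →+* A := ψ
  let α := (Algebra.TensorProduct.includeRight : A →ₐ[R] R' ⊗[R] A).toRingHom
  haveI := hasLBase (algebraMap R R')
  haveI := hasLBase (MvPolynomial.map (σ := Fin n) (algebraMap R R'))
  haveI : DTen.HasLBase (incRight R R' A) := hasLBase _
  have hR : ψ'.comp MvPolynomial.C = algebraMap R A := RingHom.ext fun r => ψ.commutes r
  haveI := isIso_cmpBC_presentation (R' := R') ψ' hR (fun k => hgen k) K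
  have h₁ := pc_square (presBC_comp (R' := R') ψ' hR) K ((iff_via ψ hψ K m).1 hK)
  haveI : DRing.HasLBaseChange (incRight R R' A) := inferInstanceAs (DRing.HasLBaseChange α)
  obtain ⟨e⟩ := nonempty_LBaseChange_iso (incRight R R' A)
  let p : MvPolynomial (Fin n) R' →ₐ[R'] R' ⊗[R] A :=
    { toRingHom := presBC R' ψ', commutes' := fun r => RingHom.congr_fun (presBC_C (R' := R') ψ') r }
  refine (iff_via p (surjective_presBC (R' := R') ψ' hψ hR) _ m).2 ?_
  exact DRingPC.of_iso ((DRing.restrictD _).mapIso (e.app K).symm) h₁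

end Ring

variable {X Y Y' W : Scheme.{u}} {f : X ⟶ Y} {g : Y' ⟶ Y} {p : W ⟶ X} {g' : W ⟶ Y'} [LocallyOfFiniteType f]
  {R A R' : Type u} [CommRing R] [CommRing A] [Algebra R A] [CommRing R'] [Algebra R R']
  [Algebra.FiniteType R A]

/-- The chart of a base change along a cartesian square. -/
theorem exists_lpull_chart_sq (sq : IsPullback p g' f g) [LocallyOfFiniteType g'] [DCoh.HasLpull p]
    (j : Spec (CommRingCat.of A) ⟶ X) [IsOpenImmersion j]
    (k : Spec (CommRingCat.of R) ⟶ Y) [IsOpenImmersion k]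
    (h : Spec.map (CommRingCat.ofHom (algebraMap R A)) ≫ k = j ≫ f)
    (l : Spec (CommRingCat.of R') ⟶ Y') [IsOpenImmersion l]
    (h' : Spec.map (CommRingCat.ofHom (algebraMap R R')) ≫ k = l ≫ g)
    [DRing.HasLBaseChange (Algebra.TensorProduct.includeRight.toRingHom : A →+* R' ⊗[R] A)]
    [PreservesFiniteLimits (tilde.functor (CommRingCat.of A))]
    {E : DCoh.D X} (M : Dual.D A) (e : (rho j).obj E ≅ (DCoh.tildeD (CommRingCat.of A)).obj M) (m : ℤ) :
    ∃ (j' : Spec (CommRingCat.of (R' ⊗[R] A)) ⟶ W) (_ : IsOpenImmersion j')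
      (hle : j'.opensRange ≤ g' ⁻¹ᵁ l.opensRange),
      (∀ w : W, p w ∈ Set.range j.base → g' w ∈ Set.range l.base → w ∈ j'.opensRange) ∧
      (ChartOK g' m ((DCoh.Lpull p).obj E) j'.opensRange l.opensRange hle ↔
        DerCA.IsRelPseudoCoherent R' (R' ⊗[R] A) m
          ((DRing.LBaseChange (Algebra.TensorProduct.includeRight.toRingHom : A →+* R' ⊗[R] A)).obj M)) := by
  obtain ⟨j₀, hj₀, h₁, h₂, hr⟩ := RelPerfectBC.exists_pullback_chart f g j k h l h'
  haveI : PreservesFiniteLimits (tilde.functor (CommRingCat.of (R' ⊗[R] A))) :=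
    QCoh.tilde_preservesFiniteLimits
  let j' := j₀ ≫ sq.isoPullback.inv
  have h₁' : j' ≫ p =
      Spec.map (CommRingCat.ofHom (Algebra.TensorProduct.includeRight.toRingHom : A →+* R' ⊗[R] A)) ≫ j := by
    rw [Category.assoc, sq.isoPullback_inv_fst]
    exact h₁
  have h₂' : Spec.map (CommRingCat.ofHom (algebraMap R' (R' ⊗[R] A))) ≫ l = j' ≫ g' := by
    rw [Category.assoc, sq.isoPullback_inv_snd]
    exact h₂
  obtain ⟨e'⟩ := RelPerfectBC.nonempty_rho_lpull_iso
    (Algebra.TensorProduct.includeRight.toRingHom : A →+* R' ⊗[R] A) p j j' h₁' M e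
  refine ⟨j', inferInstance, le_preimage_chart j' l h₂', fun w hp hg => ?_, chartOK_spec_iff j' l h₂' _ e' m⟩
  have hw : sq.isoPullback.hom w ∈ Set.range j₀.base := by
    rw [hr]
    refine ⟨?_, ?_⟩
    · show (pullback.fst f g) (sq.isoPullback.hom w) ∈ Set.range j.base
      rwa [← Scheme.Hom.comp_apply, sq.isoPullback_hom_fst]
    · show (pullback.snd f g) (sq.isoPullback.hom w) ∈ Set.range l.base
      rwa [← Scheme.Hom.comp_apply, sq.isoPullback_hom_snd]
  obtain ⟨z, hz⟩ := hw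
  refine ⟨z, ?_⟩
  show (j₀ ≫ sq.isoPullback.inv) z = w
  rw [Scheme.Hom.comp_apply]
  erw [hz]
  rw [← Scheme.Hom.comp_apply, Iso.hom_inv_id]
  rfl

omit [LocallyOfFiniteType f] in
/-- Relative pseudo-coherence under base change along a flat morphism. -/
theorem rel_lpull_flat [LocallyOfFiniteType f] (sq : IsPullback p g' f g) [LocallyOfFiniteType g'] [Flat g]
    [DCoh.HasLpull p] {m : ℤ} {E : DCoh.D X} (hq : DCoh.IsQCohD E) (hE : DerSch.IsPseudoCoherentRel f m E) :
    DerSch.IsPseudoCoherentRel g' m ((DCoh.Lpull p).obj E) := by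
  refine rel_of_local fun z => ?_
  obtain ⟨V, hV, hsV, -⟩ := exists_isAffineOpen_mem_and_subset (U := ⊤) (x := g (g' z)) trivial
  obtain ⟨W', hW, hsW, hWle⟩ := exists_isAffineOpen_mem_and_subset (U := g ⁻¹ᵁ V) (x := g' z) hsV
  have hzV : f (p z) ∈ V := by
    rw [← Scheme.Hom.comp_apply, sq.w, Scheme.Hom.comp_apply]; exact hsV
  obtain ⟨U, hU, hxU, hUle⟩ := exists_isAffineOpen_mem_and_subset (U := f ⁻¹ᵁ V) (x := p z) hzV
  letI : Algebra Γ(Y, V) Γ(X, U) := (f.appLE V U hUle).hom.toAlgebra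
  letI : Algebra Γ(Y, V) Γ(Y', W') := (g.appLE V W' hWle).hom.toAlgebra
  haveI : Algebra.FiniteType Γ(Y, V) Γ(X, U) := finiteType_appLE hU hV hUle
  haveI : Module.Flat Γ(Y, V) Γ(Y', W') := HasRingHomProperty.appLE @Flat g ‹_› ⟨V, hV⟩ ⟨W', hW⟩ hWle
  haveI : PreservesFiniteLimits (tilde.functor (CommRingCat.of Γ(X, U))) := QCoh.tilde_preservesFiniteLimits
  haveI := H9Misc.DRingLBase.hasLBaseChange
    (Algebra.TensorProduct.includeRight.toRingHom : Γ(X, U) →+* Γ(Y', W') ⊗[Γ(Y, V)] Γ(X, U))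
  obtain ⟨M, ⟨eM⟩⟩ := exists_tildeD_iso (R := CommRingCat.of Γ(X, U)) (isQCohD_rho hU.fromSpec hq)
  have hk := IsAffineOpen.SpecMap_appLE_fromSpec f hV hU hUle
  have hM := (chartOK_spec_iff (f := f) (R := Γ(Y, V)) (A := Γ(X, U)) hU.fromSpec hV.fromSpec hk M eM.symm m).1
    (chartOK_of_rel hE (isAffineOpen_opensRange hU.fromSpec) (isAffineOpen_opensRange hV.fromSpec) _)
  obtain ⟨j', hj', hle, hr, hiff⟩ := exists_lpull_chart_sq sq hU.fromSpec hV.fromSpec hk hW.fromSpec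
    (IsAffineOpen.SpecMap_appLE_fromSpec g hV hW hWle) M eM.symm m
  refine ⟨_, _, hle, isAffineOpen_opensRange j', isAffineOpen_opensRange hW.fromSpec, ?_,
    hiff.2 (relPC_baseChange M m hM)⟩
  exact hr z (by rw [hU.range_fromSpec]; exact hxU) (by rw [hW.range_fromSpec]; exact hsW)

omit [LocallyOfFiniteType f] in
/-- Relative pseudo-coherence under base change, for source and target flat over a base `S`. -/
theorem rel_lpull_torIndep {S T : Scheme.{u}} (q : Y ⟶ S) (t : T ⟶ S) [LocallyOfFiniteType f]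
    [Flat q] [Flat (f ≫ q)] {p : W ⟶ X} {g' : W ⟶ pullback q t} (sq : IsPullback p g' f (pullback.fst q t))
    [LocallyOfFiniteType g'] [DCoh.HasLpull p] {m : ℤ} {E : DCoh.D X} (hq : DCoh.IsQCohD E)
    (hE : DerSch.IsPseudoCoherentRel f m E) :
    DerSch.IsPseudoCoherentRel g' m ((DCoh.Lpull p).obj E) := by
  refine rel_of_local fun z => ?_
  obtain ⟨S₀, hS₀, hsS, -⟩ := exists_isAffineOpen_mem_and_subset (U := ⊤)
    (x := t (pullback.snd q t (g' z))) trivial
  obtain ⟨T₀, hT₀, hsT, hTle⟩ := exists_isAffineOpen_mem_and_subset (U := t ⁻¹ᵁ S₀)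
    (x := pullback.snd q t (g' z)) hsS
  have hzS : q (pullback.fst q t (g' z)) ∈ S₀ := by
    rw [← Scheme.Hom.comp_apply, pullback.condition, Scheme.Hom.comp_apply]; exact hsS
  obtain ⟨V, hV, hsV, hVle⟩ := exists_isAffineOpen_mem_and_subset (U := q ⁻¹ᵁ S₀)
    (x := pullback.fst q t (g' z)) hzS
  have hzV : f (p z) ∈ V := by
    rw [← Scheme.Hom.comp_apply, sq.w, Scheme.Hom.comp_apply]; exact hsV
  obtain ⟨U, hU, hxU, hUle⟩ := exists_isAffineOpen_mem_and_subset (U := f ⁻¹ᵁ V) (x := p z) hzV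
  letI : Algebra Γ(Y, V) Γ(X, U) := (f.appLE V U hUle).hom.toAlgebra
  letI : Algebra Γ(S, S₀) Γ(Y, V) := (q.appLE S₀ V hVle).hom.toAlgebra
  letI : Algebra Γ(S, S₀) Γ(T, T₀) := (t.appLE S₀ T₀ hTle).hom.toAlgebra
  haveI : Algebra.FiniteType Γ(Y, V) Γ(X, U) := finiteType_appLE hU hV hUle
  have hR : (algebraMap Γ(S, S₀) Γ(Y, V)).Flat :=
    HasRingHomProperty.appLE @Flat q ‹_› ⟨S₀, hS₀⟩ ⟨V, hV⟩ hVle
  have hA : ((algebraMap Γ(Y, V) Γ(X, U)).comp (algebraMap Γ(S, S₀) Γ(Y, V))).Flat := by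
    have h := HasRingHomProperty.appLE @Flat (f ≫ q) ‹_› ⟨S₀, hS₀⟩ ⟨U, hU⟩
      (hUle.trans (f.preimage_mono hVle))
    rwa [← Scheme.Hom.appLE_comp_appLE f q S₀ V U hVle hUle, CommRingCat.hom_comp] at h
  letI : Algebra Γ(Y, V) (Γ(T, T₀) ⊗[Γ(S, S₀)] Γ(Y, V)) := Algebra.TensorProduct.rightAlgebra
  obtain ⟨l, hl, hl₁, -, hlr⟩ := RelPerfectBC.exists_pullback_chart q t hV.fromSpec hS₀.fromSpec
    (IsAffineOpen.SpecMap_appLE_fromSpec q hS₀ hV hVle) hT₀.fromSpec
    (IsAffineOpen.SpecMap_appLE_fromSpec t hS₀ hT₀ hTle)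
  have hlk : Spec.map (CommRingCat.ofHom
      (algebraMap Γ(Y, V) (Γ(T, T₀) ⊗[Γ(S, S₀)] Γ(Y, V)))) ≫ hV.fromSpec = l ≫ pullback.fst q t :=
    hl₁.symm
  haveI : PreservesFiniteLimits (tilde.functor (CommRingCat.of Γ(X, U))) := QCoh.tilde_preservesFiniteLimits
  haveI := H9Misc.DRingLBase.hasLBaseChange
    (Algebra.TensorProduct.includeRight.toRingHom :
      Γ(X, U) →+* (Γ(T, T₀) ⊗[Γ(S, S₀)] Γ(Y, V)) ⊗[Γ(Y, V)] Γ(X, U))
  obtain ⟨M, ⟨eM⟩⟩ := exists_tildeD_iso (R := CommRingCat.of Γ(X, U)) (isQCohD_rho hU.fromSpec hq)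
  have hk := IsAffineOpen.SpecMap_appLE_fromSpec f hV hU hUle
  have hM := (chartOK_spec_iff (f := f) (R := Γ(Y, V)) (A := Γ(X, U)) hU.fromSpec hV.fromSpec hk M eM.symm m).1
    (chartOK_of_rel hE (isAffineOpen_opensRange hU.fromSpec) (isAffineOpen_opensRange hV.fromSpec) _)
  obtain ⟨j', hj', hle, hr, hiff⟩ := exists_lpull_chart_sq sq hU.fromSpec hV.fromSpec hk l hlk M eM.symm m
  haveI : Algebra.IsPushout Γ(S, S₀) Γ(T, T₀) Γ(Y, V) (Γ(T, T₀) ⊗[Γ(S, S₀)] Γ(Y, V)) :=
    TensorProduct.isPushout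
  refine ⟨_, _, hle, isAffineOpen_opensRange j', isAffineOpen_opensRange l, ?_,
    hiff.2 (relPC_baseChange_of (fun k => isIso_baseCmp_torIndep (R₀ := Γ(S, S₀)) (T := Γ(T, T₀))
      (algebraMap Γ(Y, V) Γ(X, U)) hR hA k) M m hM)⟩
  refine hr z (by rw [hU.range_fromSpec]; exact hxU) ?_
  rw [hlr, hV.range_fromSpec, hT₀.range_fromSpec]
  exact ⟨hsV, hsT⟩

end Groth.Agent.KExact
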