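import Groth.Agent.KExact.ProjPush
import Groth.Agent.KExact.TorPush
import Groth.Agent.KSixRel.AmpSmooth
import Groth.Agent.KFlatLib.Scheme.StalkTorAmpId
import Groth.Agent.KFlatLib.Scheme.PerfMorTor
import Groth.Agent.PerfMor.Scheme
import Groth.Agent.KFlatLib.Scheme.EvalPerfect

/-!
# Tor amplitude over the base of direct images, over arbitrary bases
-/

set_option autoImplicit false
set_option linter.style.haveILetI false
set_option backward.isDefEq.respectTransparency false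
set_option backward.isDefEq.respectTransparency.types false

universe u

open CategoryTheory CategoryTheory.Limits AlgebraicGeometry TopologicalSpace

attribute [local instance] HasDerivedCategory.standard

namespace Groth.Agent.KExact

open KFlatLib RelPC17

variable {X Y S U : Scheme.{u}}

/-- Tor amplitude over the base only depends on an open of the base. -/
theorem torAmpAt_target_iff (g : X ⟶ U) (ι : U ⟶ S) [IsOpenImmersion ι] (F : CochainComplex X.Modules ℤ)
    (v : X) (a b : ℤ) :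
    DerSch.HasTorAmplitudeAt (g ≫ ι) a b F v ↔ DerSch.HasTorAmplitudeAt g a b F v := by
  let ψ : S.presheaf.stalk (ι.base (g.base v)) →+* U.presheaf.stalk (g.base v) := (ι.stalkMap (g.base v)).hom
  have hψ : Function.Bijective ψ := ConcreteCategory.bijective_of_isIso (ι.stalkMap (g.base v))
  let u : DerSch.stalkOver (g ≫ ι) v ≅ DerSch.stalkOver g v ⋙ ModuleCat.restrictScalars ψ :=
    Functor.isoWhiskerLeft _ (ModuleCat.restrictScalarsComp' ψ (g.stalkMap v).hom
      ((g ≫ ι).stalkMap v).hom (by rw [Scheme.Hom.stalkMap_comp]; rfl)) ≪≫ (Functor.associator _ _ _).symm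
  let e : (DRing.restrictCx ψ).obj ((DerSch.stalkCxOver g v).obj F) ≅ (DerSch.stalkCxOver (g ≫ ι) v).obj F :=
    (Functor.mapHomologicalComplexCompIso u.symm (ComplexShape.up ℤ)).app F
  refine ⟨fun h => ?_, fun h => ?_⟩
  · exact KSixRel.amp_of_we ψ (by letI := ψ.toAlgebra; exact KSixRel.weaklyEtale_of_bijective hψ) _
      (H9Misc.DRingTor.of_iso (DerivedCategory.Q.mapIso e.symm) h)
  · exact H9Misc.DRingTor.of_iso (DerivedCategory.Q.mapIso e)
      (KSixRel.amp_res_flat ψ (RingHom.Flat.of_bijective hψ) _ h)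

/-- Proper direct images have locally finite tor amplitude over the base. -/
theorem locFiniteTorAmplitude_rpush' {p : X ⟶ S} (q : Y ⟶ S) (f : X ⟶ Y) [IsProper f] (w : f ≫ q = p)
    [DCoh.HasRpush f] (F : CochainComplex X.Modules ℤ) (hq : DCoh.IsQCohD (DCoh.toD X F))
    (hF : DerSch.LocFiniteTorAmplitude p F) (F' : CochainComplex Y.Modules ℤ)
    (e : DCoh.toD Y F' ≅ (DCoh.Rpush f).obj (DCoh.toD X F)) :
    DerSch.LocFiniteTorAmplitude q F' := fun y => by
  obtain ⟨S₀, hS₀, hyS, -⟩ := exists_isAffineOpen_mem_and_subset (X := S) (x := q y) (U := ⊤) trivial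
  obtain ⟨V, hV, hyV, hVS⟩ := exists_isAffineOpen_mem_and_subset (X := Y) (x := y) (U := q ⁻¹ᵁ S₀) hyS
  have hle : V ≤ q ⁻¹ᵁ S₀ := hVS
  haveI : IsAffine (V : Scheme.{u}) := hV
  haveI : IsAffine (S₀ : Scheme.{u}) := hS₀
  let g := q.resLE S₀ V hle
  have hg : g ≫ S₀.ι = V.ι ≫ q := Scheme.Hom.resLE_comp_ι q hle
  haveI : IsProper (f ∣_ V) := MorphismProperty.of_isPullback (isPullback_morphismRestrict f V).flip inferInstance
  haveI := hasRpush_scheme (f ∣_ V)
  let W := f ⁻¹ᵁ V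
  haveI : CompactSpace W := isCompact_iff_compactSpace.1 (f.isCompact_preimage hV.isCompact)
  have hw : (f ∣_ V) ≫ (V.ι ≫ q) = W.ι ≫ p := by
    rw [← Category.assoc, morphismRestrict_ι, Category.assoc, w]
  have hloc : DerSch.LocFiniteTorAmplitude ((f ∣_ V) ≫ g) ((rCx W.ι).obj F) := fun v => by
    obtain ⟨O, a, b, hvO, hO⟩ := hF (W.ι.base v)
    refine ⟨W.ι ⁻¹ᵁ O, a, b, hvO, fun v' hv' => (torAmpAt_target_iff _ S₀.ι _ v' a b).1 ?_⟩
    rw [Category.assoc, hg, hw]
    exact (torAmpAt_rCx_iff W.ι p F v' a b).1 (hO _ hv')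
  obtain ⟨a, b, -, hamp⟩ := exists_uniform_torAmp _ hloc
  obtain ⟨N, hN⟩ := exists_Rpush_bound (f ∣_ V)
  obtain ⟨eR⟩ := nonempty_rpush_restrictD_iso f V
  have hq' : DCoh.IsQCohD (DCoh.toD (W : Scheme.{u}) ((rCx W.ι).obj F)) :=
    isQCohD_of_iso ((rhoQ W.ι).app F) (isQCohD_rho W.ι hq)
  have key := hasTorAmplitude_rpush g (f ∣_ V) N (fun M hM n hn => hN M hM n hn.le) _ hq' a b hamp
    ((rCx V.ι).obj F')
    (((rhoQ V.ι).app F').symm ≪≫ (rho V.ι).mapIso e ≪≫ eR.app _ ≪≫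
      (DCoh.Rpush (f ∣_ V)).mapIso ((rhoQ W.ι).app F))
  refine ⟨V, a, b + N, hyV, fun y' hy' => (torAmpAt_rCx_iff V.ι q F' ⟨y', hy'⟩ a (b + N)).2 ?_⟩
  rw [← hg]
  exact (torAmpAt_target_iff g S₀.ι _ _ a (b + N)).2 (key ⟨y', hy'⟩)

/-- Pseudo-coherent objects of locally finite stalkwise tor amplitude are perfect. -/
theorem locSP_of_locFiniteTorAmplitude_id (F : CochainComplex X.Modules ℤ)
    (hF : DerSch.LocFiniteTorAmplitude (𝟙 X) F) (hpc : ∀ m, LocPC m (DCoh.toD X F)) :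
    LocSP (DCoh.toD X F) := by
  refine LocSP.of_local fun x => ?_
  obtain ⟨V, a, b, hx, hV⟩ := hF x
  have h : DerSch.HasTorAmplitude (𝟙 (V : Scheme.{u})) a (max a b) ((rCx V.ι).obj F) := fun v => by
    refine H9Misc.DRingTor.mono le_rfl (le_max_right a b) ?_
    refine (torAmpAt_target_iff (𝟙 _) V.ι _ v a b).1 ?_
    have h' := (torAmpAt_rCx_iff V.ι (𝟙 X) F v a b).1 (hV _ v.2)
    rw [Category.comp_id] at h'
    rw [Category.id_comp]
    exact h'
  exact ⟨_, V.ι, inferInstance, ⟨⟨x, hx⟩, rfl⟩,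
    (locSP_of_flat_pc (le_max_left a b) (flatAmplitude_of_hasTorAmplitude_id h)
      (((hpc (a - 1)).restrict V.ι).of_iso ((rhoQ V.ι).app F))).of_iso ((rhoQ V.ι).app F).symm⟩

/-- Perfect morphisms have pseudo-coherent charts. -/
theorem chartsPC_of_perfMor (g : Y ⟶ S) (hg : MoreMor.IsPerfectMor g) : ChartsPC g := by
  intro W V hW hV h n φ hφ
  letI := (g.appLE V W h).hom.toAlgebra
  exact ((PerfMor.perfMor_iff g).1 hg ⟨V, hV⟩ ⟨W, hW⟩ h).1.pcHom φ hφ.1 hφ.2

/-- Perfect objects have locally finite tor amplitude over the base of a perfect morphism. -/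
theorem locFiniteTorAmplitude_of_perfMor (f : X ⟶ Y) (hf : MoreMor.IsPerfectMor f)
    (F : CochainComplex X.Modules ℤ) (hF : LocSP (DCoh.toD X F)) :
    DerSch.LocFiniteTorAmplitude f F := fun x => by
  obtain ⟨U, hU, hxU, -⟩ := exists_isAffineOpen_mem_and_subset (X := X) (x := x) (U := ⊤) trivial
  haveI : IsAffine (U : Scheme.{u}) := hU
  haveI : CompactSpace U := isCompact_iff_compactSpace.1 hU.isCompact
  haveI : HasInjectiveResolutions (U : Scheme.{u}).Modules := hasInjectiveResolutions_modules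
  have hfU : MoreMor.IsPerfectMor (U.ι ≫ f) := IsZariskiLocalAtSource.comp (P := PerfMor.PerfP) hf U.ι
  obtain ⟨n, hn⟩ := PerfMorTor.exists_hasTorDimLE (U.ι ≫ f) hfU
  have hE : LocSP (DCoh.toD (U : Scheme.{u}) ((rCx U.ι).obj F)) := (LocSP.restrict' hF U.ι).of_iso ((rhoQ U.ι).app F)
  obtain ⟨a, b, hab⟩ := exists_torAmplitude_of_locSP hE
  have hflat : DCoh.HasFlatAmplitudeIn a (max a b) (DCoh.toD (U : Scheme.{u}) ((rCx U.ι).obj F)) :=
    flatAmplitude_of_torAmplitude hasLTensorMod (le_max_left a b)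
      (fun G _ i hi => hab G i (by omega))
  have h := hasTorAmplitude_comp (𝟙 _) (U.ι ≫ f) n hn _ a (max a b) (hasTorAmplitude_id_of_flatAmplitude hflat)
  rw [Category.id_comp] at h
  exact ⟨U, a - n, max a b, hxU, fun v hv => (torAmpAt_rCx_iff U.ι f F ⟨v, hv⟩ _ _).2 (h ⟨v, hv⟩)⟩

end Groth.Agent.KExact
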