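import Groth.Agent.KExact.DualAmpAt
import Groth.Agent.KExact.DualTwistVan
import Groth.Agent.KFlatLib.Perfect.Top
import Groth.Agent.Alg6.AssDepth

/-!
# Duals of torsion free sheaves of finite projective dimension
-/

set_option autoImplicit false
set_option linter.style.haveILetI false
set_option linter.unusedSectionVars false
set_option backward.isDefEq.respectTransparency false
set_option backward.isDefEq.respectTransparency.types false
set_option maxHeartbeats 1000000

universe u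

open CategoryTheory CategoryTheory.Limits AlgebraicGeometry

attribute [local instance] HasDerivedCategory.standard

namespace Groth.Agent.KExact.TorsionFreeDual

open KFlatLib RegLoc6 DualAmpAt H9Misc

section Algebra

variable {R : Type u} [CommRing R] [IsLocalRing R] [IsNoetherianRing R]

/-- Opcycles of a complex of projectives exact below `e` are projective `n₀` steps below. -/
theorem projective_opcycles' (Q : CochainComplex (ModuleCat.{u} R) ℤ) (n₀ : ℕ)
    (hfin : ∀ i, Module.Finite R (Q.X i)) (hproj : ∀ i, Module.Projective R (Q.X i))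
    (e : ℤ) (hH : ∀ j, j < e → IsZero (Q.homology j)) (hpd : PdLE R n₀ (Q.opcycles e))
    (lo : ℤ) (hlo : lo + n₀ = e) : Module.Projective R (Q.opcycles lo) := by
  have hsurj : ∀ n, Function.Surjective (Q.pOpcycles n) := fun n =>
    (ModuleCat.epi_iff_surjective _).1 inferInstance
  haveI hfin' : ∀ n, Module.Finite R (Q.opcycles n) := fun n =>
    haveI := hfin n
    Module.Finite.of_surjective (Q.pOpcycles n).hom (hsurj n)
  have hker : ∀ n, n < e → Nonempty ((Q.opcycles n : ModuleCat.{u} R) ≃ₗ[R]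
      LinearMap.ker (Q.pOpcycles (n + 1)).hom) := fun n hn => by
    have hmono : Mono (Q.fromOpcycles n (n + 1)) := by
      let S := ShortComplex.mk (Q.homologyι n) (Q.fromOpcycles n (n + 1)) (Q.homologyι_comp_fromOpcycles n (n + 1))
      exact (ShortComplex.exact_of_f_is_kernel S (Q.homologyIsKernel n (n + 1) (by simp))).mono_g
        ((hH n hn).eq_of_src _ _)
    have hinj : Function.Injective (Q.fromOpcycles n (n + 1)) := (ModuleCat.mono_iff_injective _).1 hmono
    have hex : (ShortComplex.mk (Q.d n (n + 1)) (Q.pOpcycles (n + 1)) (Q.d_pOpcycles n (n + 1))).Exact :=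
      ShortComplex.exact_of_g_is_cokernel _ (Q.opcyclesIsCokernel n (n + 1) (by simp))
    have heq : LinearMap.range (Q.fromOpcycles n (n + 1)).hom = LinearMap.ker (Q.pOpcycles (n + 1)).hom := by
      ext y
      constructor
      · rintro ⟨z, rfl⟩
        obtain ⟨w, rfl⟩ := hsurj n z
        rw [LinearMap.mem_ker]
        exact ConcreteCategory.congr_hom (show Q.pOpcycles n ≫ Q.fromOpcycles n (n + 1) ≫ Q.pOpcycles (n + 1) = 0 by
          rw [HomologicalComplex.p_fromOpcycles_assoc, HomologicalComplex.d_pOpcycles]) w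
      · intro hy
        obtain ⟨x, rfl⟩ := (ShortComplex.moduleCat_exact_iff _).1 hex y hy
        exact ⟨Q.pOpcycles n x, ConcreteCategory.congr_hom (Q.p_fromOpcycles n (n + 1)) x⟩
    exact ⟨(LinearEquiv.ofInjective (Q.fromOpcycles n (n + 1)).hom hinj).trans (LinearEquiv.ofEq _ _ heq)⟩
  have hdown : ∀ (t : ℕ) (n : ℤ), n + t = e → PdLE R (n₀ - t) (Q.opcycles n) := by
    intro t
    induction t with
    | zero =>
      intro n hn
      obtain rfl : n = e := by simpa using hn
      exact hpd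
    | succ t ih =>
      intro n hn
      obtain ⟨e'⟩ := hker n (by omega)
      haveI := hproj (n + 1)
      refine pdLE_of_equiv e'.symm ?_
      rcases Nat.lt_or_ge t n₀ with h | h
      · have h2 : PdLE R ((n₀ - (t + 1)) + 1) (Q.opcycles (n + 1)) := by
          rw [show n₀ - (t + 1) + 1 = n₀ - t by omega]; exact ih (n + 1) (by omega)
        exact pdLE_ker (Q.pOpcycles (n + 1)).hom (hsurj (n + 1)) h2 (pdLE_of_projective _)
      · have h2 : PdLE R ((n₀ - (t + 1)) + 1) (Q.opcycles (n + 1)) :=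
          pdLE_mono (by omega) (ih (n + 1) (by omega))
        exact pdLE_ker (Q.pOpcycles (n + 1)).hom (hsurj (n + 1)) h2 (pdLE_of_projective _)
  have h0 := hdown n₀ lo hlo
  rw [Nat.sub_self] at h0
  exact pdLE_zero_iff.1 h0

/-- Opcycles of a bounded below complex of projectives exact below `e` have finite projective dimension. -/
theorem pdLE_opcycles (Q : CochainComplex (ModuleCat.{u} R) ℤ)
    (hfin : ∀ i, Module.Finite R (Q.X i)) (hproj : ∀ i, Module.Projective R (Q.X i))
    (a e : ℤ) (ha : ∀ i, i < a → IsZero (Q.X i)) (hH : ∀ j, j < e → IsZero (Q.homology j)) :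
    PdLE R ((e - a).toNat + 1) (Q.opcycles e) := by
  have hsurj : ∀ n, Function.Surjective (Q.pOpcycles n) := fun n =>
    (ModuleCat.epi_iff_surjective _).1 inferInstance
  haveI hfin' : ∀ n, Module.Finite R (Q.opcycles n) := fun n =>
    haveI := hfin n
    Module.Finite.of_surjective (Q.pOpcycles n).hom (hsurj n)
  have hker : ∀ n, n < e → Nonempty ((Q.opcycles n : ModuleCat.{u} R) ≃ₗ[R]
      LinearMap.ker (Q.pOpcycles (n + 1)).hom) := fun n hn => by
    have hmono : Mono (Q.fromOpcycles n (n + 1)) := by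
      let S := ShortComplex.mk (Q.homologyι n) (Q.fromOpcycles n (n + 1)) (Q.homologyι_comp_fromOpcycles n (n + 1))
      exact (ShortComplex.exact_of_f_is_kernel S (Q.homologyIsKernel n (n + 1) (by simp))).mono_g
        ((hH n hn).eq_of_src _ _)
    have hinj : Function.Injective (Q.fromOpcycles n (n + 1)) := (ModuleCat.mono_iff_injective _).1 hmono
    have hex : (ShortComplex.mk (Q.d n (n + 1)) (Q.pOpcycles (n + 1)) (Q.d_pOpcycles n (n + 1))).Exact :=
      ShortComplex.exact_of_g_is_cokernel _ (Q.opcyclesIsCokernel n (n + 1) (by simp))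
    have heq : LinearMap.range (Q.fromOpcycles n (n + 1)).hom = LinearMap.ker (Q.pOpcycles (n + 1)).hom := by
      ext y
      constructor
      · rintro ⟨z, rfl⟩
        obtain ⟨w, rfl⟩ := hsurj n z
        rw [LinearMap.mem_ker]
        exact ConcreteCategory.congr_hom (show Q.pOpcycles n ≫ Q.fromOpcycles n (n + 1) ≫ Q.pOpcycles (n + 1) = 0 by
          rw [HomologicalComplex.p_fromOpcycles_assoc, HomologicalComplex.d_pOpcycles]) w
      · intro hy
        obtain ⟨x, rfl⟩ := (ShortComplex.moduleCat_exact_iff _).1 hex y hy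
        exact ⟨Q.pOpcycles n x, ConcreteCategory.congr_hom (Q.p_fromOpcycles n (n + 1)) x⟩
    exact ⟨(LinearEquiv.ofInjective (Q.fromOpcycles n (n + 1)).hom hinj).trans (LinearEquiv.ofEq _ _ heq)⟩
  have hup : ∀ k : ℕ, ∀ n : ℤ, n ≤ e → n < a + k → PdLE R k (Q.opcycles n) := by
    intro k
    induction k with
    | zero =>
      intro n _ hn
      haveI : Subsingleton (Q.opcycles n : ModuleCat.{u} R) :=
        haveI := ModuleCat.subsingleton_of_isZero (ha n (by simpa using hn))
        (hsurj n).subsingleton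
      exact pdLE_of_projective 0
    | succ k ih =>
      intro n hne hn
      obtain ⟨e'⟩ := hker (n - 1) (by omega)
      have h2 := pdLE_of_equiv e' (ih (n - 1) (by omega) (by omega))
      rw [sub_add_cancel] at h2
      haveI := hproj n
      exact pdLE_succ_of_ker (Q.pOpcycles n).hom (hsurj n) h2 (pdLE_of_projective _)
  exact hup _ e le_rfl (by omega)

/-- Finite projective dimension and positive depth: projective dimension at most `depth R - 1`. -/
theorem pdLE_pred_depth (δ : ℕ) (hδ : LocCoh.depth R R = δ) {n : ℕ} {M : Type u} [AddCommGroup M] [Module R M]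
    [Module.Finite R M] (hM : (1 : ℕ∞) ≤ LocCoh.depth R M) (h : PdLE R n M) : PdLE R (δ - 1) M := by
  classical
  rcases subsingleton_or_nontrivial M with hs | hn
  · exact pdLE_of_projective _
  · have hex : ∃ n, PdLE R n M := ⟨n, h⟩
    have h1 := CAlgOdd.AB.depth_add_eq (Nat.find hex) M (Nat.find_spec hex) fun e' he' => Nat.find_min hex he'
    rw [hδ] at h1
    have h2 : 1 + ((Nat.find hex : ℕ) : ℕ∞) ≤ (δ : ℕ∞) := h1 ▸ add_le_add hM le_rfl
    have h3 : 1 + Nat.find hex ≤ δ := by exact_mod_cast h2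
    exact pdLE_mono (by omega) (Nat.find_spec hex)

/-- Regular elements of the ring acting injectively give positive depth. -/
theorem one_le_depth_of_torsionFree (δ : ℕ) (hδ : LocCoh.depth R R = δ) (h1 : 1 ≤ δ) {M : Type u} [AddCommGroup M]
    [Module R M] [Module.Finite R M] (htf : ∀ r ∈ nonZeroDivisors R, ∀ m : M, r • m = 0 → m = 0) :
    (1 : ℕ∞) ≤ LocCoh.depth R M := by
  have hR : (1 : ℕ∞) ≤ LocCoh.depth R R := by rw [hδ]; exact_mod_cast h1
  obtain ⟨x, hx, hreg⟩ := (Alg6.exists_isSMulRegular_mem_iff (M := R) (IsLocalRing.maximalIdeal R)).2 fun p hp hle =>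
    Alg6.one_le_depth_iff.1 hR (by
      rwa [(IsLocalRing.maximalIdeal.isMaximal R).eq_of_le (IsAssociatedPrime.isPrime hp).ne_top hle])
  have hnz : x ∈ nonZeroDivisors R :=
    mem_nonZeroDivisors_iff_right.2 fun z hz => hreg (show x • z = x • 0 by rw [smul_zero, smul_eq_mul, mul_comm]; exact hz)
  have hxM : IsSMulRegular M x := (isSMulRegular_iff_right_eq_zero_of_smul (M := M) (r := x)).2 fun m hm => htf x hnz m hm
  exact Alg6.one_le_depth_iff.2 fun hmem =>
    (Alg6.exists_isSMulRegular_mem_iff (M := M) (IsLocalRing.maximalIdeal R)).1 ⟨x, hx, hxM⟩ _ hmem le_rfl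

end Algebra

variable {X : Scheme.{u}}

/-- The local model from a projective module of opcycles. -/
theorem exists_amp_model' [IsLocallyNoetherian X] (E : CochainComplex X.Modules ℤ) (a b : ℤ)
    (hE : ∀ i, i < a ∨ b < i → IsZero (E.X i)) (hfree : ∀ i, ∃ n, Nonempty (E.X i ≅ FlatMod.freeMod X n))
    (hcoh : ∀ i, Coh.IsCoh (E.homology i))
    (x : X) (lo : ℤ) (hH : ∀ j, j < lo → Subsingleton ((E.homology j).presheaf.stalk x))
    (hproj : Module.Projective (X.presheaf.stalk x) (((stalkCx x).obj E).opcycles lo)) :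
    ∃ (W : X.Opens) (P : CochainComplex (W : Scheme.{u}).Modules ℤ), x ∈ W ∧
      (∀ i, i < lo ∨ max b lo < i → IsZero (P.X i)) ∧ (∀ i, ∃ n, Nonempty (P.X i ≅ FlatMod.freeMod W n)) ∧
      Nonempty (DerivedCategory.Q.obj P ≅ DerivedCategory.Q.obj ((rCx W.ι).obj E)) := by
  classical
  choose n hn using hfree
  let F := DerSch.stalkFunctor X x
  let Q := (stalkCx x).obj E
  have hX : ∀ i, Module.Free (X.presheaf.stalk x) (Q.X i) ∧ Module.Finite (X.presheaf.stalk x) (Q.X i) := fun i =>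
    FreeLocus.ff_of_iso (hn i).some.symm (FreeLocus.ff_of_finLocFree (isFinLocFree_freeMod (n i)) x)
  haveI := hproj
  let d' : FlatMod.freeMod X (n (lo - 1)) ⟶ FlatMod.freeMod X (n lo) :=
    (hn (lo - 1)).some.inv ≫ E.d (lo - 1) lo ≫ (hn lo).some.hom
  let ec : cokernel d' ≅ E.opcycles lo :=
    (cokernel.mapIso (E.d (lo - 1) lo) d' (hn (lo - 1)).some (hn lo).some (by simp [d'])).symm ≪≫
      IsColimit.coconePointUniqueUpToIso (cokernelIsCokernel _) (E.opcyclesIsCokernel (lo - 1) lo (by simp))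
  have hflat : Module.Flat (X.presheaf.stalk x) (F.obj (cokernel d') : Type u) := by
    let eQ : F.obj (cokernel d') ≅ Q.opcycles lo :=
      F.mapIso (cokernel.mapIso (E.d (lo - 1) lo) d' (hn (lo - 1)).some (hn lo).some (by simp [d'])).symm ≪≫
        PreservesCokernel.iso F _ ≪≫
        IsColimit.coconePointUniqueUpToIso (cokernelIsCokernel _) (Q.opcyclesIsCokernel (lo - 1) lo (by simp))
    exact Module.Flat.of_linearEquiv eQ.toLinearEquiv
  obtain ⟨W₁, r, hx₁, ⟨e₁⟩⟩ := exists_free_of_flat_at d' x hflat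
  choose W₂ hx₂ hz₂ using fun j : {j : ℤ // j < lo} => exists_isZero_restrict (hcoh j.1) x (hH j.1 j.2)
  let W : X.Opens := W₁ ⊓ (Finset.Ico a lo).attach.inf fun j => W₂ ⟨j.1, (Finset.mem_Ico.1 j.2).2⟩
  have hxW : x ∈ W := by
    refine ⟨hx₁, ?_⟩
    induction (Finset.Ico a lo).attach using Finset.cons_induction with
    | empty => simp
    | cons c s hc ih =>
      rw [Finset.inf_cons]
      exact ⟨hx₂ _, ih⟩
  let T := Scheme.Modules.restrictFunctor W.ι
  let C := (rCx W.ι).obj E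
  haveI : C.IsGE lo := by
    rw [CochainComplex.isGE_iff]
    intro j hj
    rw [HomologicalComplex.exactAt_iff_isZero_homology]
    refine IsZero.of_iso ?_ ((E.sc j).mapHomologyIso T)
    by_cases hja : j < a
    · exact T.map_isZero (ShortComplex.isZero_homology_of_isZero_X₂ _ (hE j (Or.inl hja)))
    · have hle : W ≤ W₂ ⟨j, hj⟩ := inf_le_right.trans
        (Finset.inf_le (f := fun j : {j // j ∈ Finset.Ico a lo} => W₂ ⟨j.1, (Finset.mem_Ico.1 j.2).2⟩)
          (b := ⟨j, Finset.mem_Ico.2 ⟨by omega, hj⟩⟩) (Finset.mem_attach _ _))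
      exact ((Scheme.Modules.restrictFunctor (X.homOfLE hle)).map_isZero (hz₂ ⟨j, hj⟩)).of_iso
        ((Scheme.Modules.restrictFunctorCongr (X.homOfLE_ι hle).symm).app (E.homology j) ≪≫
          (Scheme.Modules.restrictFunctorComp (X.homOfLE hle) (W₂ ⟨j, hj⟩).ι).app (E.homology j))
  haveI : QuasiIso (C.πTruncGE lo) := (C.quasiIso_πTruncGE_iff lo).2 inferInstance
  haveI := isIso_Q_map (C.πTruncGE lo) inferInstance
  refine ⟨W, C.truncGE lo, hxW, fun i hi => ?_, fun i => ?_, ⟨(asIso (DerivedCategory.Q.map (C.πTruncGE lo))).symm⟩⟩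
  · rcases hi with hi | hi
    · exact (C.truncGE lo).isZero_of_isStrictlyGE lo i hi
    · exact (T.map_isZero (hE i (Or.inr (lt_of_le_of_lt (le_max_left _ _) hi)))).of_iso
        (C.truncGEXIso lo i (lt_of_le_of_lt (le_max_right _ _) hi))
  · rcases lt_trichotomy i lo with hi | rfl | hi
    · exact ⟨0, ⟨((C.truncGE lo).isZero_of_isStrictlyGE lo i hi).iso isZero_freeMod_zero⟩⟩
    · refine ⟨r, ⟨C.truncGEXIsoOpcycles i ≪≫
        IsColimit.coconePointUniqueUpToIso (C.opcyclesIsCokernel (i - 1) i (by simp)) (cokernelIsCokernel _) ≪≫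
        (PreservesCokernel.iso T _).symm ≪≫
        T.mapIso (cokernel.mapIso (E.d (i - 1) i) d' (hn (i - 1)).some (hn i).some (by simp [d'])) ≪≫
        restrictFreeIso (inf_le_left : W ≤ W₁) e₁⟩⟩
    · refine ⟨n i, ⟨C.truncGEXIso lo i hi ≪≫ T.mapIso (hn i).some ≪≫ ?_⟩⟩
      exact (Scheme.Modules.restrictFunctorIsoPullback W.ι).app _ ≪≫ pullFreeIso W.ι (n i)

/-- The dual commutes with restriction to an open subscheme. -/
theorem nonempty_rho_dual {U : Scheme.{u}} (j : U ⟶ X) [IsOpenImmersion j] (K : CochainComplex X.Modules ℤ)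
    [DCoh.HasLTensorCx K] [DCoh.HasRSheafHom K] (P : CochainComplex U.Modules ℤ) [DCoh.HasLTensorCx P]
    [DCoh.HasRSheafHom P] (e : DCoh.toD U P ≅ (rho j).obj (DCoh.toD X K)) :
    Nonempty ((rho j).obj ((DCoh.RSheafHom K).obj (DCoh.inD X (Coh.structureModule X))) ≅
      (DCoh.RSheafHom P).obj (DCoh.inD U (Coh.structureModule U))) := by
  obtain ⟨I, hI, hinj, ⟨eL⟩⟩ := exists_kInjective_rep (DCoh.inD X (Coh.structureModule X))
  haveI := hI
  haveI := hinj
  obtain ⟨eR⟩ := nonempty_RSheafHom_iso K I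
  let J := (rCx j).obj I
  haveI : J.IsKInjective := isKInjective_rCx j I
  haveI : ∀ n, Injective (J.X n) := injective_rCx j I
  obtain ⟨e₁⟩ := nonempty_rho_iHom j K I
  obtain ⟨e₂⟩ := nonempty_iHom_iso_of_iso (((rhoQ j).app K).symm ≪≫ e.symm) J
  obtain ⟨e₃⟩ := nonempty_RSheafHom_iso P J
  exact ⟨(rho j).mapIso ((DCoh.RSheafHom K).mapIso eL ≪≫ eR) ≪≫ e₁ ≪≫ e₂ ≪≫ e₃.symm ≪≫
    (DCoh.RSheafHom P).mapIso (((rhoQ j).app I).symm ≪≫ (rho j).mapIso eL.symm ≪≫
      RelPC17.rhoInD j (Coh.structureModule X) ≪≫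
      (DerivedCategory.singleFunctor U.Modules 0).mapIso (KFlatLib.restrictStructureIso j))⟩

/-- The dual of a torsion free sheaf of finite projective dimension vanishes at the top degree of a point. -/
theorem subsingleton_stalk_dual [IsLocallyNoetherian X] {G : X.Modules} (hG : Coh.IsCoh G)
    (C : CochainComplex X.Modules ℤ) (eC : DCoh.toD X C ≅ DCoh.inD X G) (hC : DCoh.IsPerfect (DCoh.toD X C))
    [DCoh.HasLTensorCx C] [DCoh.HasRSheafHom C]
    (x : X) (δ : ℕ) (hδ : LocCoh.depth (X.presheaf.stalk x) (X.presheaf.stalk x) = δ)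
    (hdep : (1 : ℕ∞) ≤ LocCoh.depth (X.presheaf.stalk x) (G.presheaf.stalk x))
    (m : ℤ) (hm : ((δ - 1 : ℕ) : ℤ) < m) :
    Subsingleton ((DCoh.HD ((DCoh.RSheafHom C).obj (DCoh.inD X (Coh.structureModule X))) m).presheaf.stalk x) := by
  obtain ⟨U, j₀, _, ⟨x₀, rfl⟩, P₀, hP₀, ⟨eP₀⟩⟩ := (isPerfect_iff _).1 hC x
  obtain ⟨a₀, b₀, hab₀⟩ := hP₀.1
  let eHG : ∀ l, P₀.homology l ≅ (DCoh.HD (DCoh.inD X G) l).restrict j₀ := fun l =>
    ((DerivedCategory.homologyFunctorFactors _ l).app P₀).symm ≪≫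
      (DerivedCategory.homologyFunctor _ l).mapIso (eP₀ ≪≫ (rho j₀).mapIso eC) ≪≫ hdRhoIso j₀ _ l
  have hne : ∀ l : ℤ, l ≠ 0 → IsZero (DCoh.HD (DCoh.inD X G) l) := fun l hl => by
    rcases lt_or_gt_of_ne hl with h | h
    · exact DerivedCategory.isZero_of_isGE ((DerivedCategory.singleFunctor X.Modules 0).obj G) 0 l h
    · exact DerivedCategory.isZero_of_isLE ((DerivedCategory.singleFunctor X.Modules 0).obj G) 0 l h
  obtain ⟨P', hP', hz', hlow, ⟨e'⟩⟩ := exists_cutoff 0 (max b₀ 0).toNat P₀ hP₀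
    (fun l hl => hab₀ l (Or.inr (by omega))) (fun l hl =>
      ((Scheme.Modules.restrictFunctor j₀).map_isZero (hne l hl.ne')).of_iso (eHG l))
  obtain ⟨a, b, hab⟩ := hP'.1
  obtain ⟨W₀, hxW₀, hfree⟩ := exists_free_nhd hab hP'.2 x₀
  let j := W₀.ι ≫ j₀
  let z : W₀ := ⟨x₀, hxW₀⟩
  let E := (rCx W₀.ι).obj P'
  let eE : DerivedCategory.Q.obj E ≅ (rho j).obj (DCoh.toD X C) :=
    ((rhoQ W₀.ι).app P').symm ≪≫ (rho W₀.ι).mapIso (e' ≪≫ eP₀) ≪≫ rhoComp W₀.ι j₀ j rfl _
  haveI : IsLocallyNoetherian (W₀ : Scheme.{u}) := isLocallyNoetherian_of_isOpenImmersion j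
  let eH : ∀ l, E.homology l ≅ (DCoh.HD (DCoh.inD X G) l).restrict j := fun l =>
    ((DerivedCategory.homologyFunctorFactors _ l).app E).symm ≪≫
      (DerivedCategory.homologyFunctor _ l).mapIso (eE ≪≫ (rho j).mapIso eC) ≪≫ hdRhoIso j _ l
  let eG : E.homology 0 ≅ G.restrict j := eH 0 ≪≫ (Scheme.Modules.restrictFunctor j).mapIso
    ((DerivedCategory.singleFunctorCompHomologyFunctorIso X.Modules 0).app G)
  have hEz : ∀ l, l < a ∨ 0 < l → IsZero (E.X l) := fun l hl => by
    rcases hl with hl | hl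
    · exact (Scheme.Modules.restrictFunctor W₀.ι).map_isZero (hab l (Or.inl hl))
    · exact (Scheme.Modules.restrictFunctor W₀.ι).map_isZero (hz' l hl)
  have hcoh : ∀ l, Coh.IsCoh (E.homology l) := fun l => by
    by_cases hl : l = 0
    · subst hl
      exact isCoh_of_iso eG.symm (isCoh_restrict j hG)
    · exact isCoh_of_isZero (((Scheme.Modules.restrictFunctor j).map_isZero (hne l hl)).of_iso (eH l))
  have hH : ∀ l, l < 0 → Subsingleton ((E.homology l).presheaf.stalk z) := fun l hl =>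
    ModuleCat.subsingleton_of_isZero ((DerSch.stalkFunctor (W₀ : Scheme.{u}) z).map_isZero
      (((Scheme.Modules.restrictFunctor j).map_isZero (hne l hl.ne)).of_iso (eH l)))
  -- the stalk
  let R := (W₀ : Scheme.{u}).presheaf.stalk z
  let F := DerSch.stalkFunctor (W₀ : Scheme.{u}) z
  let Q := (stalkCx z).obj E
  let τ : X.presheaf.stalk (j.base z) ≃+* R := (asIso (j.stalkMap z)).commRingCatIsoToRingEquiv
  change LocCoh.depth (X.presheaf.stalk (j.base z)) (X.presheaf.stalk (j.base z)) = δ at hδ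
  change (1 : ℕ∞) ≤ LocCoh.depth (X.presheaf.stalk (j.base z)) (G.presheaf.stalk (j.base z)) at hdep
  have hδ₀ : LocCoh.depth R R = δ := by
    rw [← hδ]
    exact (Prod.ext_iff.1 (Codepth5.dd_congr (X := R) (X' := X.presheaf.stalk (j.base z))
      τ.toRingHom τ.surjective τ.toAddEquiv fun r s => map_mul τ r s)).2.symm
  obtain ⟨A, hA⟩ := AssLib.exists_semilinear_restrict j G z
  have hdepG : (1 : ℕ∞) ≤ LocCoh.depth R ((G.restrict j).presheaf.stalk z) := by
    refine hdep.trans (le_of_eq ?_)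
    have hd := (Prod.ext_iff.1 (Codepth5.dd_congr (X := G.presheaf.stalk (j.base z))
      (X' := (G.restrict j).presheaf.stalk z) τ.symm.toRingHom τ.symm.surjective A fun r w => by
        have := hA (τ.symm r) w
        rwa [show (j.stalkMap z).hom (τ.symm r) = r from τ.apply_symm_apply r] at this)).2
    rw [Codepth5.dd, Codepth5.dd] at hd
    exact hd.symm
  haveI : Module.Finite R ((G.restrict j).presheaf.stalk z) :=
    QCoh.finite_stalk_of_isFT (isCoh_restrict j hG).1 (isCoh_restrict j hG).2 z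
  have hX : ∀ l, Module.Free R (Q.X l) ∧ Module.Finite R (Q.X l) := fun l => by
    obtain ⟨N, ⟨eN⟩⟩ := hfree l
    exact FreeLocus.ff_of_iso eN.symm (FreeLocus.ff_of_finLocFree (isFinLocFree_freeMod (X := (W₀ : Scheme.{u})) N) z)
  haveI : Module.Finite R (F.obj (G.restrict j) : Type u) :=
    inferInstanceAs (Module.Finite R ((G.restrict j).presheaf.stalk z))
  haveI : IsIso (Q.homologyι 0) :=
    Q.isIso_homologyι 0 1 (by simp) ((F.map_isZero (hEz 1 (Or.inr (by omega)))).eq_of_tgt _ _)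
  let eQ : Q.opcycles 0 ≅ F.obj (G.restrict j) :=
    (asIso (Q.homologyι 0)).symm ≪≫ (E.sc 0).mapHomologyIso F ≪≫ F.mapIso eG
  have hpd : PdLE R (δ - 1) (Q.opcycles 0) := by
    refine pdLE_of_equiv eQ.symm.toLinearEquiv (pdLE_pred_depth δ hδ₀ (M := (F.obj (G.restrict j) : Type u)) hdepG ?_
      (n := (0 - a).toNat + 1))
    refine pdLE_of_equiv eQ.toLinearEquiv ?_
    exact pdLE_opcycles Q (fun l => (hX l).2) (fun l => haveI := (hX l).1; inferInstance) a 0
      (fun l hl => F.map_isZero (hEz l (Or.inl hl)))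
      (fun l hl => (@ModuleCat.isZero_of_subsingleton _ _ (ModuleCat.of _ _) (hH l hl)).of_iso
        ((E.sc l).mapHomologyIso F))
  have hp := projective_opcycles' Q (δ - 1) (fun l => (hX l).2) (fun l => haveI := (hX l).1; inferInstance) 0
    (fun l hl => (@ModuleCat.isZero_of_subsingleton _ _ (ModuleCat.of _ _) (hH l hl)).of_iso
      ((E.sc l).mapHomologyIso F)) hpd (-((δ - 1 : ℕ) : ℤ)) (by omega)
  obtain ⟨W, P, hzW, hPz, hPf, ⟨eP⟩⟩ := exists_amp_model' E a 0 hEz hfree hcoh z (-((δ - 1 : ℕ) : ℤ))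
    (fun l hl => hH l (by omega)) hp
  let j' := W.ι ≫ j
  haveI := hasLTensorCx P
  haveI := PerfShriek.hasRSheafHom P
  let eC' : DCoh.toD (W : Scheme.{u}) P ≅ (rho j').obj (DCoh.toD X C) :=
    eP ≪≫ ((rhoQ W.ι).app E).symm ≪≫ (rho W.ι).mapIso eE ≪≫ rhoComp W.ι j j' rfl _
  obtain ⟨er⟩ := nonempty_rho_dual j' C P eC'
  have hPp : DCoh.IsPerfect (DCoh.toD (W : Scheme.{u}) P) := isPerfect_congr eC'.symm
    ((isPerfect_iff _).2 (KFlatLib.LocSP.restrict' ((isPerfect_iff _).1 hC) j'))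
  have hz : IsZero ((DCoh.HD ((DCoh.RSheafHom C).obj (DCoh.inD X (Coh.structureModule X))) m).restrict j') :=
    (DualTwistVan.isZero_hd_dual P hPp (-((δ - 1 : ℕ) : ℤ)) (max 0 (-((δ - 1 : ℕ) : ℤ))) (le_max_right _ _)
      (torAmplitude_of_flatAmplitude ⟨P, fun l hl => hPz l hl, fun l =>
        IsFlat.of_iso (hPf l).choose_spec.some.symm (isFlat_freeMod _), ⟨Iso.refl _⟩⟩) m (by omega)).of_iso
      ((hdRhoIso j' _ m).symm ≪≫ (DerivedCategory.homologyFunctor _ m).mapIso er)
  exact subsingleton_stalk_of_restrict j' hz (⟨z, hzW⟩ : W)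

end Groth.Agent.KExact.TorsionFreeDual
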