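import Groth.Agent.KFlatLib.Scheme.CompactPerfect
import Groth.Agent.KExact.HocolimPerf
import Groth.Agent.QCoh.Qcqs
import Groth.Prelude.Def_KLin
import Groth.Prelude.Def_CohB1

/-!
# Maps from perfect objects to objects supported on the zero locus of a function
-/

set_option autoImplicit false
set_option linter.style.haveILetI false
set_option backward.isDefEq.respectTransparency false
set_option backward.isDefEq.respectTransparency.types false

universe u

open CategoryTheory CategoryTheory.Limits AlgebraicGeometry Pretriangulated Opposite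

attribute [local instance] HasDerivedCategory.standard

namespace Groth.Agent.KExact.TorsionHom

open KFlatLib

variable {X : Scheme.{u}}

/-- Sections of a quasi-coherent module supported on the zero locus of `r` have nilpotent germs. -/
theorem exists_pow_smul_germ_eq_zero {M : X.Modules} (hM : Coh.IsQCoh M) (r : Γ(X, ⊤))
    (hsupp : CohB1.support M ⊆ (X.zeroLocus (U := ⊤) {r} : Set X)) {W : X.Opens} (s : Γ(M, W)) {x : X}
    (hx : x ∈ W) : ∃ k : ℕ, M.presheaf.germ W x hx ((X.presheaf.map (homOfLE (le_top : W ≤ ⊤)).op r) ^ k • s) = 0 := by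
  obtain ⟨_, ⟨U, hU, rfl⟩, hxU, hUW⟩ := X.isBasis_affineOpens.exists_subset_of_mem_open hx W.2
  replace hUW : (U : X.Opens) ≤ W := hUW
  let f := X.presheaf.map (homOfLE (le_top : U ≤ ⊤)).op r
  let t := M.presheaf.map (homOfLE hUW).op s
  have ht : M.presheaf.map (homOfLE (X.basicOpen_le f)).op t = 0 := by
    refine TopCat.Presheaf.section_ext ⟨M.presheaf, M.isSheaf⟩ _ _ 0 fun y hy => ?_
    rw [map_zero]
    have hy' : y ∈ X.basicOpen r := by
      rw [show f = X.presheaf.map (homOfLE (le_top : U ≤ ⊤)).op r from rfl, Scheme.basicOpen_res] at hy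
      exact hy.2
    have hnot : y ∉ CohB1.support M := fun h => by
      have := hsupp h
      rw [Scheme.zeroLocus_singleton, Set.mem_compl_iff] at this
      exact this hy'
    exact (not_not.1 hnot : Subsingleton (M.presheaf.stalk y)).elim _ _
  obtain ⟨k, hk⟩ := QCoh.exists_pow_smul_eq_zero hM hU f t ht
  refine ⟨k, ?_⟩
  rw [← M.presheaf.germ_res_apply (homOfLE hUW) x hxU, QCoh.map_smul' (M := M)]
  have he : X.presheaf.map (homOfLE hUW).op ((X.presheaf.map (homOfLE (le_top : W ≤ ⊤)).op r) ^ k) = f ^ k := by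
    rw [map_pow, QCoh.ringMap_map]
    rfl
  rw [he]
  exact (congrArg (M.presheaf.germ U x hxU) hk).trans (map_zero _)

variable {A : Type u} [CommRing A] [X.Over (Spec (CommRingCat.of A))]

/-- Scalars act on cohomology sheaves by themselves. -/
theorem hd_map_smul_id (a : A) (E : DCoh.D X) (j : ℤ) :
    (DerivedCategory.homologyFunctor X.Modules j).map (a • 𝟙 E) =
      a • 𝟙 ((DerivedCategory.homologyFunctor X.Modules j).obj E) := by
  let H := DerivedCategory.homologyFunctor X.Modules j
  let K := DerivedCategory.Q.objPreimage E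
  let e : DerivedCategory.Q.obj K ≅ E := DerivedCategory.Q.objObjPreimageIso E
  let φ := DerivedCategory.homologyFunctorFactors X.Modules j
  have h1 : HomologicalComplex.homologyMap (a • 𝟙 K) j = a • 𝟙 (K.homology j) := by
    refine (ShortComplex.homologyMap_smul (a := a)
      ((HomologicalComplex.shortComplexFunctor X.Modules (ComplexShape.up ℤ) j).map (𝟙 K))).trans ?_
    rw [CategoryTheory.Functor.map_id, ShortComplex.homologyMap_id]
    rfl
  have h2 : H.map (DerivedCategory.Q.map (a • 𝟙 K)) = a • 𝟙 _ := by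
    refine (cancel_mono (φ.hom.app K)).1 ?_
    refine (φ.hom.naturality (a • 𝟙 K)).trans ?_
    show φ.hom.app K ≫ HomologicalComplex.homologyMap (a • 𝟙 K) j = _
    rw [h1]
    refine (Linear.comp_smul _ _ _ _ _ _).trans (Eq.trans ?_ (Linear.smul_comp _ _ _ _ _ _).symm)
    exact congrArg (a • ·) ((Category.comp_id _).trans (Category.id_comp _).symm)
  rw [show a • 𝟙 E = e.inv ≫ DerivedCategory.Q.map (a • 𝟙 K) ≫ e.hom by
      rw [Functor.map_smul, CategoryTheory.Functor.map_id, Linear.smul_comp, Category.id_comp, Linear.comp_smul,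
        e.inv_hom_id],
    Functor.map_comp, Functor.map_comp, h2, Linear.smul_comp, Category.id_comp, Linear.comp_smul, ← Functor.map_comp,
    e.inv_hom_id, CategoryTheory.Functor.map_id]

theorem pow_smul_eq_zero [CompactSpace X] [QuasiSeparatedSpace X] (a : A) {E E' : DCoh.D X}
    (hE : DCoh.IsPerfect E) (hE'q : DCoh.IsQCohD E')
    (hsupp : ∀ i : ℤ, CohB1.support (DCoh.HD E' i) ⊆
      (X.zeroLocus (U := ⊤) {Coh.toGlobal (X ↘ Spec (CommRingCat.of A)) a} : Set X))
    (α : E ⟶ E') : ∃ n : ℕ, (a ^ n) • α = 0 := by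
  classical
  haveI : HasColimitsOfShape (Discrete ℕ) (DCoh.D X) := TriCat.hasColimitsOfShape_derivedCategory
  haveI : HasColimitsOfShape (Discrete (ULift.{u} ℕ)) (DCoh.D X) := TriCat.hasColimitsOfShape_derivedCategory
  let K : ℕ → DCoh.D X := fun _ => E'
  let f : ∀ n, K n ⟶ K (n + 1) := fun _ => a • 𝟙 E'
  obtain ⟨L, i, hL⟩ := TriCat.exists_isHocolim K f
  have hzero : IsZero L := by
    refine Generator.isZero_of_subsingleton_stalk fun j x => ?_
    let H := DerivedCategory.homologyFunctor X.Modules j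
    haveI : PreservesColimitsOfShape (Discrete ℕ) H := ⟨fun {D} => by
      haveI : PreservesColimit (Discrete.functor (D.obj ∘ Discrete.mk)) H :=
        preservesColimit_homology (D.obj ∘ Discrete.mk) j
      exact preservesColimit_of_iso_diagram H (Discrete.natIsoFunctor (F := D)).symm⟩
    obtain ⟨e, -⟩ := TriCat.exists_colimit_iso H K f L i hL
    let S := Functor.ofSequence fun n => H.map (f n)
    have hι : ∀ n, colimit.ι S n = 0 := fun n => by
      refine Scheme.Modules.hom_ext _ _ fun W => ?_
      ext s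
      show (colimit.ι S n).app W s = 0
      refine TopCat.Presheaf.section_ext ⟨(colimit S).presheaf, (colimit S).isSheaf⟩ _ _ 0 fun y hy => ?_
      rw [map_zero]
      obtain ⟨k, hk⟩ := exists_pow_smul_germ_eq_zero (M := DCoh.HD E' j) (hE'q j) _ (hsupp j)
        (show Γ(DCoh.HD E' j, W) from s) hy
      have hstep : ∀ k : ℕ, S.map (homOfLE (Nat.le_add_right n k)) = (a ^ k) • 𝟙 (DCoh.HD E' j) := by
        intro k
        induction k with
        | zero => rw [pow_zero, one_smul]; exact S.map_id n
        | succ k ih =>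
          rw [← homOfLE_comp (Nat.le_add_right n k) (Nat.le_succ (n + k)), S.map_comp, ih,
            Functor.ofSequence_map_homOfLE_succ]
          show ((a ^ k) • 𝟙 _) ≫ H.map (a • 𝟙 E') = _
          rw [hd_map_smul_id, Linear.comp_smul, Category.comp_id, smul_smul, ← pow_succ']
      rw [← colimit.w S (homOfLE (Nat.le_add_right n k)), hstep k]
      show (colimit S).presheaf.germ W y hy ((colimit.ι S (n + k)).app W
        (((a ^ k) • 𝟙 (DCoh.HD E' j)).app W (show Γ(DCoh.HD E' j, W) from s))) = 0
      rw [KLin.smul_app_apply]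
      refine (TopCat.Presheaf.stalkFunctor_map_germ_apply W y hy
        (Scheme.Modules.Hom.mapPresheaf (colimit.ι S (n + k))) _).symm.trans ?_
      have he : X.presheaf.map (homOfLE (le_top : W ≤ ⊤)).op (Coh.toGlobal (X ↘ Spec (CommRingCat.of A)) (a ^ k)) =
          (X.presheaf.map (homOfLE (le_top : W ≤ ⊤)).op (Coh.toGlobal (X ↘ Spec (CommRingCat.of A)) a)) ^ k := by
        rw [map_pow, map_pow]
      rw [he]
      exact (congrArg _ hk).trans (map_zero _)
    have hz : IsZero (colimit S) :=
      (IsZero.iff_id_eq_zero _).2 (colimit.hom_ext fun n => by rw [hι n, zero_comp, comp_zero])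
    exact ModuleCat.subsingleton_of_isZero ((DerSch.stalkFunctor X x).map_isZero (hz.of_iso e.symm))
  obtain ⟨c, hc⟩ := hL
  obtain ⟨ψ, hψ'⟩ : ∃ ψ : E ⟶ ∐ K, α ≫ Sigma.ι K 0 = ψ ≫ (𝟙 (∐ K) - DerLim.shiftMap K f) :=
    Triangle.coyoneda_exact₂ _ hc (α ≫ Sigma.ι K 0) (hzero.eq_of_tgt _ _)
  let e : (∐ fun k : ULift.{u} ℕ => K k.down) ≅ ∐ K :=
    { hom := Sigma.desc fun k => Sigma.ι K k.down
      inv := Sigma.desc fun n => Sigma.ι (fun k : ULift.{u} ℕ => K k.down) ⟨n⟩
      hom_inv_id := by ext ⟨n⟩; simp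
      inv_hom_id := by ext n; simp }
  obtain ⟨s, g, hg⟩ := CompactPerfect.finSums_of_isPerfect hE (ULift.{u} ℕ) (fun k => K k.down) (fun _ => hE'q) (ψ ≫ e.inv)
  have hψe : ψ = ∑ k ∈ s, g k ≫ Sigma.ι K k.down := by
    rw [← Category.comp_id ψ, ← e.inv_hom_id, ← Category.assoc, hg, Preadditive.sum_comp]
    exact Finset.sum_congr rfl fun k _ => by simp [e]
  have hp : ∀ m, ψ ≫ TriCat.coprodProj K m = (a ^ m) • α := by
    intro m
    induction m with
    | zero =>
      have := congrArg (· ≫ TriCat.coprodProj K 0) hψ'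
      simp only [Category.assoc, TriCat.one_sub_shiftMap_proj_zero, TriCat.ι_coprodProj_self] at this
      rw [pow_zero, one_smul, ← this]
      exact Category.comp_id α
    | succ m ih =>
      have := congrArg (· ≫ TriCat.coprodProj K (m + 1)) hψ'
      simp only [Category.assoc, TriCat.one_sub_shiftMap_proj_succ,
        TriCat.ι_coprodProj_ne (X := K) (Nat.succ_ne_zero m).symm, comp_zero] at this
      rw [Preadditive.comp_sub] at this
      rw [sub_eq_zero.1 this.symm, ← Category.assoc, ih]
      show ((a ^ m) • α) ≫ (a • 𝟙 E') = _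
      rw [Linear.comp_smul, Category.comp_id, smul_smul, ← pow_succ']
  refine ⟨s.sup (fun k => k.down) + 1, ?_⟩
  rw [← hp, hψe, Preadditive.sum_comp]
  refine Finset.sum_eq_zero fun k hk => ?_
  have := Finset.le_sup (f := fun k : ULift.{u} ℕ => k.down) hk
  rw [Category.assoc, TriCat.ι_coprodProj_ne (by omega), comp_zero]

end Groth.Agent.KExact.TorsionHom
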