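import Groth.Agent.KExact.PcMap
import Groth.Agent.KFlatLib.Perfect.BettiCor
import Groth.Agent.KFlatLib.Scheme.ProjFormula
import Groth.Agent.KFlatLib.Perfect.Top

/-!
# Flat opcycles give locally free cohomology and locally constant fibre dimensions
-/

set_option autoImplicit false
set_option linter.style.haveILetI false
set_option backward.isDefEq.respectTransparency false
set_option backward.isDefEq.respectTransparency.types false

universe u

open CategoryTheory CategoryTheory.Limits AlgebraicGeometry Module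

attribute [local instance] HasDerivedCategory.standard

namespace Groth.Agent.KExact

open KFlatLib

variable {X U : Scheme.{u}}

/-- A map of free modules with free cokernel has constant rank. -/
lemma rkAt_of_free_cokernel {n m r : ℕ} (d : FlatMod.freeMod U n ⟶ FlatMod.freeMod U m)
    (e : cokernel d ≅ FlatMod.freeMod U r) (y : U) : rkAt (secMat d) y + r = m := by
  haveI : IsLocalHom (U.residue y).hom := inferInstanceAs (IsLocalHom (IsLocalRing.residue _))
  let φ : U.presheaf.stalk y →+* U.residueField y := (U.residue y).hom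
  let F := DerSch.stalkFunctor U y ⋙ ModuleCat.extendScalars.{u, u, u} φ
  haveI : (ModuleCat.extendScalars.{u, u, u} φ).IsLeftAdjoint :=
    (ModuleCat.extendRestrictScalarsAdj φ).isLeftAdjoint
  haveI : PreservesFiniteColimits F := comp_preservesFiniteColimits _ _
  haveI : Functor.Additive F := inferInstance
  have hc : IsColimit (CokernelCofork.ofπ (cokernel.π d ≫ e.hom)
      (show d ≫ cokernel.π d ≫ e.hom = 0 by simp)) :=
    IsColimit.ofIsoColimit (cokernelIsCokernel d) (Cofork.ext e (by simp))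
  let S := (ShortComplex.mk d (cokernel.π d ≫ e.hom) (by simp)).map F
  have hex : S.Exact ∧ Epi S.g :=
    (ShortComplex.exact_and_epi_g_iff_g_is_cokernel S).2 ⟨CokernelCofork.mapIsColimit _ hc F⟩
  have h₂ := finrank_extend y m φ
  haveI : FiniteDimensional _ S.X₂ := h₂.2
  have hker : LinearMap.range S.f.hom = LinearMap.ker S.g.hom := hex.1.moduleCat_range_eq_ker
  have htop : LinearMap.range S.g.hom = ⊤ :=
    LinearMap.range_eq_top.2 ((ModuleCat.epi_iff_surjective _).1 hex.2)
  have hadd := LinearMap.finrank_range_add_finrank_ker S.g.hom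
  rw [← hker, htop, finrank_top] at hadd
  have h₁ : finrank (U.residueField y) (LinearMap.range S.f.hom) = rkAt (secMat d) y :=
    (finrank_range_extend y d φ).trans (rank_map_eq_rkAt (secMat d) y φ)
  have h₃ : finrank (U.residueField y) S.X₃ = r := (finrank_extend y r φ).1
  rw [h₁, h₃, show finrank (U.residueField y) S.X₂ = m from h₂.1] at hadd
  omega

/-- Opcycles are cokernels of differentials. -/
noncomputable def cokerOpIso (P : CochainComplex X.Modules ℤ) (i : ℤ) :
    cokernel (P.d (i - 1) i) ≅ P.opcycles i :=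
  IsColimit.coconePointUniqueUpToIso (cokernelIsCokernel (P.d (i - 1) i))
    (P.opcyclesIsCokernel (i - 1) i (by simp))

/-- The cohomology between two locally free opcycles is locally free. -/
lemma isFinLocFree_homology (P : CochainComplex X.Modules ℤ) (p : ℤ)
    (hP : FlatMod.IsFinLocFree (P.X (p + 1))) (h₁ : FlatMod.IsFinLocFree (P.opcycles p))
    (h₂ : FlatMod.IsFinLocFree (P.opcycles (p + 1))) : FlatMod.IsFinLocFree (P.homology p) := by
  let K := kernel (P.pOpcycles (p + 1))
  have hK : FlatMod.IsFinLocFree K := isFinLocFree_kernel _ hP h₂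
  have hπ : IsColimit (CokernelCofork.ofπ (P.pOpcycles (p + 1)) (P.d_pOpcycles p (p + 1))) :=
    P.opcyclesIsCokernel p (p + 1) (by simp)
  have hex : (ShortComplex.mk (P.d p (p + 1)) (P.pOpcycles (p + 1)) (P.d_pOpcycles p (p + 1))).Exact :=
    ShortComplex.exact_of_g_is_cokernel _ hπ
  let L : P.opcycles p ⟶ K :=
    kernel.lift _ (P.fromOpcycles p (p + 1)) (by
      rw [← cancel_epi (P.pOpcycles p)]; simp)
  haveI : Epi (P.pOpcycles p ≫ L) := by
    have : P.pOpcycles p ≫ L = kernel.lift (P.pOpcycles (p + 1)) (P.d p (p + 1)) (P.d_pOpcycles _ _) := by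
      rw [← cancel_mono (kernel.ι (P.pOpcycles (p + 1)))]; simp [L, K]
    rw [this]
    exact hex.epi_kernelLift
  haveI : Epi L := epi_of_epi (P.pOpcycles p) L
  have hL : FlatMod.IsFinLocFree (kernel L) := isFinLocFree_kernel L h₁ hK
  have hk : IsLimit (KernelFork.ofι (P.homologyι p) (P.homologyι_comp_fromOpcycles p (p + 1))) :=
    P.homologyIsKernel p (p + 1) (by simp)
  exact H23.PullPush.isFinLocFree_of_iso
    ((kernelCompMono L (kernel.ι (P.pOpcycles (p + 1)))).symm ≪≫
      kernelIsoOfEq (kernel.lift_ι _ _ _) ≪≫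
      IsLimit.conePointUniqueUpToIso (kernelIsKernel _) hk) hL

/-- Exactness of `H^p(R ⊗ -)` gives local freeness and local constancy at `p`. -/
theorem isFinLocFree_and_betti (E : DCoh.D X) (p : ℤ) (hE : LocPC (p - 1) E)
    (R : CochainComplex X.Modules ℤ) (hRK : DCoh.IsKFlat R) (hR : ∀ n, FlatMod.IsFlat (R.X n))
    (eR : DerivedCategory.Q.obj R ≅ E) (hp : FlatMod.IsFlat (R.opcycles p))
    (hp' : FlatMod.IsFlat (R.opcycles (p + 1))) [∀ x : X, DCoh.HasLpull (X.fromSpecResidueField x)] :
    FlatMod.IsFinLocFree (DCoh.HD E p) ∧ IsLocallyConstant (fun x : X => PerfD.betti E x p) := by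
  have key : ∀ x : X, ∃ V : X.Opens, x ∈ V ∧
      FlatMod.IsFinLocFree ((DCoh.HD E p).restrict V.ι) ∧
      ∃ c : ℕ, ∀ z ∈ V, PerfD.betti E z p = c := by
    intro x
    obtain ⟨U, j, _, ⟨u, rfl⟩, P, n, e, α, hPK, hα⟩ := exists_betti_data E hE x
    let RU := (rCx j).obj R
    let c₀ : (rho j).obj E ≅ DerivedCategory.Q.obj RU := (rho j).mapIso eR.symm ≪≫ (rhoQ j).app R
    obtain ⟨iso⟩ := nonempty_psi_iso_of_isPcMap hPK (isKFlat_restrict j hRK) (α ≫ c₀.hom)
      (by simpa using hα.comp_iso (𝟙 _) c₀.hom) p (by omega)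
    obtain ⟨hl, hc⟩ := exact_psi RU (isFlat_restrict_X j R hR) p
      (isFlat_opcycles_restrict j R p hp) (isFlat_opcycles_restrict j R (p + 1) hp')
    haveI : PreservesFiniteLimits (psi P p) := preservesFiniteLimits_of_natIso iso.symm
    haveI : PreservesFiniteColimits (psi P p) := preservesFiniteColimits_of_natIso iso.symm
    have hflf : ∀ i, FlatMod.IsFinLocFree (P.X i) := fun i =>
      H23.PullPush.isFinLocFree_of_iso (e i).symm (isFinLocFree_freeMod (n i))
    have hPf : ∀ i, FlatMod.IsFlat (P.X i) := fun i => isFlat_of_isFinLocFree (hflf i)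
    have hC : ∀ i, FlatMod.IsFlat (P.opcycles i) → FlatMod.IsFinLocFree (P.opcycles i) := fun i h =>
      H23.PullPush.isFinLocFree_of_iso (cokerOpIso P i)
        (isFinLocFree_cokernel _ (hflf _) (hflf _) (KFlatLib.IsFlat.of_iso (cokerOpIso P i).symm h))
    have h₁ := hC p (isFlat_opcycles_of_preservesFiniteLimits P hPf p)
    have h₂ := hC (p + 1) (isFlat_opcycles_succ_of_preservesFiniteColimits P hPf p)
    haveI := hα.1 p (by omega)
    let eh : P.homology p ≅ (Scheme.Modules.restrictFunctor j).obj (DCoh.HD E p) :=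
      ((DerivedCategory.homologyFunctorFactors U.Modules p).app P).symm ≪≫
        asIso ((DerivedCategory.homologyFunctor U.Modules p).map α) ≪≫
        (mapDCHomologyIso (Scheme.Modules.restrictFunctor j) p).app E
    obtain ⟨W₁, r₁, hu₁, ⟨f₁⟩⟩ := h₁ u
    obtain ⟨W₂, r₂, hu₂, ⟨f₂⟩⟩ := h₂ u
    let W := W₁ ⊓ W₂
    refine ⟨(W.ι ≫ j).opensRange, ⟨⟨u, hu₁, hu₂⟩, rfl⟩, ?_, ?_⟩
    · have hW : FlatMod.IsFinLocFree
          (((Scheme.Modules.restrictFunctor j).obj (DCoh.HD E p)).restrict W.ι) :=
        isFinLocFree_restrict W (H23.PullPush.isFinLocFree_of_iso eh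
          (isFinLocFree_homology P p (hflf _) h₁ h₂))
      let q := rangeHom (W.ι ≫ j)
      refine H23.PullPush.isFinLocFree_of_iso ?_ (isFinLocFree_pullback q hW)
      exact ((Scheme.Modules.restrictFunctorIsoPullback q).app _).symm ≪≫
        (Scheme.Modules.restrictFunctor q).mapIso ((Scheme.Modules.restrictFunctorComp W.ι j).app _).symm ≪≫
        ((Scheme.Modules.restrictFunctorComp q (W.ι ≫ j)).symm ≪≫
          Scheme.Modules.restrictFunctorCongr (rangeHom_fac (W.ι ≫ j))).app _
    · let PW := (rCx W.ι).obj P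
      let eW : ∀ i, PW.X i ≅ FlatMod.freeMod (W : Scheme.{u}) (n i) := fun i =>
        restrictFreeIso (W := W) (U := ⊤) le_top
          ((Scheme.Modules.restrictFunctor (⊤ : U.Opens).ι).mapIso (e i) ≪≫
            (Scheme.Modules.restrictFunctorIsoPullback (⊤ : U.Opens).ι).app _ ≪≫ pullFreeIso _ _)
      have hPW : DCoh.IsKFlat PW := isKFlat_restrict W.ι hPK
      let αW := ((rhoQ W.ι).app P).inv ≫ (rho W.ι).map α ≫ (rhoComp W.ι j _ rfl E).hom
      have hαW : IsPcMap (p - 1) αW := (hα.map_exact _).comp_iso _ _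
      have hco : ∀ i (W' : U.Opens) (r : ℕ), W ≤ W' →
          ((P.opcycles i).restrict W'.ι ≅ FlatMod.freeMod (W' : Scheme.{u}) r) →
          ∀ z : (W : Scheme.{u}), rkAt (dMat eW (i - 1) i) z + r = n i := by
        intro i W' r hle f z
        obtain ⟨φ, hφ, -⟩ := exists_map_opcycles (Scheme.Modules.restrictFunctor W.ι) P i
        exact rkAt_of_free_cokernel ((eW (i - 1)).inv ≫ PW.d (i - 1) i ≫ (eW i).hom)
          (cokernel.mapIso _ (PW.d (i - 1) i) (eW (i - 1)).symm (eW i).symm (by simp) ≪≫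
            cokerOpIso PW i ≪≫ (asIso φ).symm ≪≫ restrictFreeIso (W := W) hle f) z
      refine ⟨r₁ + r₂ - n (p + 1), ?_⟩
      rintro _ ⟨z, rfl⟩
      have hb := betti_formula E _ (W.ι ≫ j) z rfl hPW eW αW hαW (p - 1) p (p + 1) (by omega) rfl
        (by omega)
      have hr₁ := hco p W₁ r₁ inf_le_left f₁ z
      have hr₂ := hco (p + 1) W₂ r₂ inf_le_right f₂ z
      have hcast : ∀ i k : ℤ, i = k →
          rkAt (dMat eW i (p + 1)) z = rkAt (dMat eW k (p + 1)) z := by rintro i k rfl; rfl
      rw [hcast p (p + 1 - 1) (by omega)] at hb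
      omega
  refine ⟨isFinLocFree_of_restrict fun x => ?_, (IsLocallyConstant.iff_exists_open _).2 fun x => ?_⟩
  · obtain ⟨V, hx, hV, -⟩ := key x
    exact ⟨V, hx, hV⟩
  · obtain ⟨V, hx, -, c, hV⟩ := key x
    exact ⟨V, V.2, hx, fun z hz => (hV z hz).trans (hV x hx).symm⟩

end Groth.Agent.KExact
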