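import Groth.Agent.KExact.ViaChart
import Groth.Agent.KFlatLib.Scheme.DualizingCM
import Groth.Agent.FibDim.LocDim
import Groth.Agent.H9Misc.DRingLBase

/-!
# Chart data for `f^! O`
-/

set_option autoImplicit false
set_option linter.style.haveILetI false
set_option linter.unusedSectionVars false
set_option linter.unusedVariables false
set_option backward.isDefEq.respectTransparency false
set_option backward.isDefEq.respectTransparency.types false

universe u

open CategoryTheory CategoryTheory.Limits AlgebraicGeometry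

attribute [local instance] HasDerivedCategory.standard

namespace Groth.Agent.KExact.ViaApp

open KFlatLib KFlatLib.BCLoc KFlatLib.SecPoint BCNat BCComp

variable [∀ (U V : Scheme.{u}) (j : U ⟶ V) [IsOpenImmersion j], PreservesFiniteLimits (Scheme.Modules.restrictFunctor j)]
  [∀ (R : CommRingCat.{u}), PreservesFiniteLimits (tilde.functor R)]

/-- An affine chart of `f` around `x` on which `M` is the shriek through a presentation. -/
structure Chart {X Y : Scheme.{u}} (f : X ⟶ Y) (M : DCoh.D X) (x : X) where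
  R : Type u
  A : Type u
  [cR : CommRing R]
  [cA : CommRing A]
  [algRA : Algebra R A]
  [noeR : IsNoetherianRing R]
  [noeA : IsNoetherianRing A]
  [ftA : Algebra.FiniteType R A]
  n : ℕ
  ψ : MvPolynomial (Fin n) R →ₐ[R] A
  hψ : Function.Surjective ψ
  [hL : DRing.HasLBaseChange (algebraMap R (MvPolynomial (Fin n) R))]
  Rψ : Dual.D (MvPolynomial (Fin n) R) ⥤ Dual.D A
  adj : DRing.restrictD ψ.toRingHom ⊣ Rψ
  i : Spec (CommRingCat.of R) ⟶ Y
  [openI : IsOpenImmersion i]
  k : Spec (CommRingCat.of A) ⟶ X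
  [openK : IsOpenImmersion k]
  comm : k ≫ f = Spec.map (CommRingCat.ofHom (algebraMap R A)) ≫ i
  p : Spec (CommRingCat.of A)
  hp : k.base p = x
  flat : Flat f → Module.Flat R A
  e : (rho k).obj M ≅ (DCoh.tildeD (CommRingCat.of A)).obj (Dual2.shriekVia n Rψ (Dual.inD R R))

attribute [instance] Chart.cR Chart.cA Chart.algRA Chart.noeR Chart.noeA Chart.ftA Chart.hL Chart.openI
  Chart.openK

variable {X Y : Scheme.{u}}

theorem isBddBelowQ_O {O : DCoh.DQCoh Y} (eO : O.obj ≅ DCoh.inD Y (Coh.structureModule Y)) :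
    Dual3.IsBddBelowQ Y O := by
  refine ⟨0, (DerivedCategory.isGE_iff _ _).2 fun i hi => ?_⟩
  haveI : (DCoh.inD Y (Coh.structureModule Y)).IsGE 0 :=
    inferInstanceAs (((DerivedCategory.singleFunctor Y.Modules 0).obj _).IsGE 0)
  exact (DerivedCategory.isZero_of_isGE _ 0 i hi).of_iso ((DerivedCategory.homologyFunctor _ i).mapIso eO)

/-- Charts exist everywhere. -/
theorem exists_chart [IsNoetherian Y] [IsNoetherian X] {Xb : Scheme.{u}} (j : X ⟶ Xb) [IsOpenImmersion j]
    (φ : Xb ⟶ Y) [IsProper φ] [DCoh.HasRpush φ] {hφ : DCoh.RpushPreservesQCoh φ}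
    {a : DCoh.DQCoh Y ⥤ DCoh.DQCoh Xb} (adj : DCoh.RpushQ φ hφ ⊣ a)
    (f : X ⟶ Y) (hf : j ≫ φ = f) (O : DCoh.DQCoh Y) (eO : O.obj ≅ DCoh.inD Y (Coh.structureModule Y)) (x : X) :
    Nonempty (Chart f ((rho j).obj (a.obj O).obj) x) := by
  subst hf
  obtain ⟨V, hV, U, hU, hUV, n, ψ, hxU, hψ, hψC⟩ := ViaChart.exists_presentation (j ≫ φ) x
  letI := ((j ≫ φ).appLE V U hUV).hom.toAlgebra
  haveI : IsNoetherianRing Γ(Y, V) := IsLocallyNoetherian.component_noetherian ⟨V, hV⟩
  haveI : IsNoetherianRing Γ(X, U) := IsLocallyNoetherian.component_noetherian ⟨U, hU⟩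
  haveI : Algebra.FiniteType Γ(Y, V) Γ(X, U) :=
    HasRingHomProperty.appLE (P := @LocallyOfFiniteType) (j ≫ φ) inferInstance ⟨V, hV⟩ ⟨U, hU⟩ hUV
  haveI := Groth.Agent.H9Misc.DRingLBase.hasLBaseChange
    (algebraMap Γ(Y, V) (MvPolynomial (Fin n) Γ(Y, V)))
  obtain ⟨Rψ, ⟨adjψ⟩⟩ := exists_shriek ψ
  obtain ⟨t⟩ := ViaChart.nonempty_rho_structure hV.fromSpec eO
  obtain ⟨e⟩ := ViaChart.nonempty_chart_iso j φ adj hU hV hUV ψ hψ hψC adjψ O (isBddBelowQ_O eO) _ t
  exact ⟨{ R := Γ(Y, V), A := Γ(X, U), n := n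
           ψ := { ψ with commutes' := fun r => RingHom.congr_fun hψC r }
           hψ := hψ, Rψ := Rψ, adj := adjψ, i := hV.fromSpec, k := hU.fromSpec
           comm := (IsAffineOpen.SpecMap_appLE_fromSpec (j ≫ φ) hV hU hUV).symm
           p := hU.primeIdealOf ⟨x, hxU⟩, hp := hU.fromSpec_primeIdealOf ⟨x, hxU⟩
           flat := fun h => HasRingHomProperty.appLE (P := @Flat) (j ≫ φ) h ⟨V, hV⟩ ⟨U, hU⟩ hUV
           e := e }⟩

namespace Chart

variable {f : X ⟶ Y} {M : DCoh.D X} {x : X} (c : Chart f M x)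

/-- Stalks of the cohomology. -/
theorem nontrivial_iff (q : Spec (CommRingCat.of c.A)) (i : ℤ) :
    Nontrivial ((DCoh.HD M i).presheaf.stalk (c.k.base q)) ↔
      Nontrivial (LocalizedModule q.asIdeal.primeCompl
        (Dual.HD c.A (Dual2.shriekVia c.n c.Rψ (Dual.inD c.R c.R)) i)) :=
  (DualizingCM.nontrivial_stalk_iff c.k c.e q i).trans Module.mem_support_iff

theorem nontrivial_iff_at (i : ℤ) :
    Nontrivial ((DCoh.HD M i).presheaf.stalk x) ↔
      Nontrivial (LocalizedModule c.p.asIdeal.primeCompl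
        (Dual.HD c.A (Dual2.shriekVia c.n c.Rψ (Dual.inD c.R c.R)) i)) := by
  conv_lhs => rw [← c.hp]
  exact c.nontrivial_iff c.p i

/-- The dimension of the fibre is computed in the chart. -/
theorem fibreDimAt_eq [LocallyOfFiniteType f] (q : Spec (CommRingCat.of c.A)) :
    FlatMor.fibreDimAt (Spec.map (CommRingCat.ofHom (algebraMap c.R c.A))) q =
      FlatMor.fibreDimAt f (c.k.base q) := by
  haveI : LocallyOfFiniteType (Spec.map (CommRingCat.ofHom (algebraMap c.R c.A))) :=
    (HasRingHomProperty.Spec_iff (P := @LocallyOfFiniteType)).2 (RingHom.finiteType_algebraMap.2 c.ftA)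
  rw [← FibDim.fibreDimAt_openImmersion_comp c.k f q, c.comm,
    FibDim.fibreDimAt_comp_mono (Spec.map (CommRingCat.ofHom (algebraMap c.R c.A))) c.i q]

end Chart

/-- The two local dimensions agree. -/
theorem localFibreDim_eq (f : X ⟶ Y) (x : X) : Dual3.localFibreDim f x = FlatMor.fibreDimAt f x := by
  simp only [Dual3.localFibreDim, FlatMor.fibreDimAt, FlatMor.localDim, iInf_subtype]
  rfl

/-- The local dimension of a fibre bounded by a natural number is one. -/
theorem exists_nat_fibreDimAt (f : X ⟶ Y) [LocallyOfFiniteType f] (x : X) (n : ℕ)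
    (h : FlatMor.fibreDimAt f x ≤ (n : WithBot ℕ∞)) :
    ∃ d : ℕ, d ≤ n ∧ FlatMor.fibreDimAt f x = d := by
  obtain ⟨z, -, -, he, -⟩ := FibDim.exists_fibreDimAt_eq f x
  rw [he] at h ⊢
  exact ⟨FibDim.rd f z, by exact_mod_cast h, by norm_cast⟩

end Groth.Agent.KExact.ViaApp
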