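import Groth.Agent.KExact.DualNormalized
import Groth.Agent.KExact.RingTower
import Groth.Agent.KFlatLib.Ring.ShriekVia
import Groth.Agent.KFlatLib.Scheme.TildePull

/-!
# The twisted inverse image of affine schemes through a presentation
-/

set_option autoImplicit false
set_option linter.style.haveILetI false
set_option linter.unusedSectionVars false
set_option linter.unusedVariables false
set_option backward.isDefEq.respectTransparency false
set_option backward.isDefEq.respectTransparency.types false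

universe u

open CategoryTheory CategoryTheory.Limits AlgebraicGeometry

attribute [local instance] HasDerivedCategory.standard

namespace Groth.Agent.KExact.ViaBridge

open KFlatLib KFlatLib.BCLoc KFlatLib.SecPoint BCNat BCComp ShriekFormula DualNormalized

variable [∀ (U V : Scheme.{u}) (j : U ⟶ V) [IsOpenImmersion j], PreservesFiniteLimits (Scheme.Modules.restrictFunctor j)]
  [∀ (R : CommRingCat.{u}), PreservesFiniteLimits (tilde.functor R)]

variable {A B C : Type u} [CommRing A] [CommRing B] [CommRing C]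

/-- The twisted inverse image of `g` is computed on modules by `T`. -/
def Via (g : Spec (CommRingCat.of B) ⟶ Spec (CommRingCat.of A)) (T : Dual.D A ⥤ Dual.D B) : Prop :=
  ∀ (Xb : Scheme.{u}) (j : Spec (CommRingCat.of B) ⟶ Xb) (φ : Xb ⟶ Spec (CommRingCat.of A))
    (_ : IsOpenImmersion j) (_ : IsProper φ) (_ : j ≫ φ = g)
    [DCoh.HasRpush φ] (hφ : DCoh.RpushPreservesQCoh φ)
    (a : DCoh.DQCoh (Spec (CommRingCat.of A)) ⥤ DCoh.DQCoh Xb) (_ : DCoh.RpushQ φ hφ ⊣ a)
    (K : DCoh.DQCoh (Spec (CommRingCat.of A))) (_ : Dual3.IsBddBelowQ _ K) (ω : Dual.D A)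
    (_ : K.obj ≅ (DCoh.tildeD (CommRingCat.of A)).obj ω),
    Nonempty ((rho j).obj (a.obj K).obj ≅ (DCoh.tildeD (CommRingCat.of B)).obj (T.obj ω))

/-- `p` may be appended at the base. -/
def GVia (p : Spec (CommRingCat.of B) ⟶ Spec (CommRingCat.of A)) (T : Dual.D A ⥤ Dual.D B) : Prop :=
  ∀ (C : Type u) [CommRing C] (g : Spec (CommRingCat.of C) ⟶ Spec (CommRingCat.of B))
    (_ : LocallyOfFiniteType g) (T' : Dual.D B ⥤ Dual.D C), Via g T' → Via (g ≫ p) (T ⋙ T')

theorem via_congr {g : Spec (CommRingCat.of B) ⟶ Spec (CommRingCat.of A)} {T T₂ : Dual.D A ⥤ Dual.D B}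
    (h : Via g T) (e : ∀ ω, Nonempty (T.obj ω ≅ T₂.obj ω)) : Via g T₂ := by
  intro Xb j φ hj hp hfac _ hφ a adj K hb ω eK
  obtain ⟨E⟩ := h Xb j φ hj hp hfac hφ a adj K hb ω eK
  obtain ⟨i⟩ := e ω
  exact ⟨E ≪≫ (DCoh.tildeD _).mapIso i⟩

theorem gVia_congr {p : Spec (CommRingCat.of B) ⟶ Spec (CommRingCat.of A)} {T T₂ : Dual.D A ⥤ Dual.D B}
    (h : GVia p T) (e : ∀ ω, Nonempty (T.obj ω ≅ T₂.obj ω)) : GVia p T₂ := fun C _ g hg T' hT' =>
  via_congr (h C g hg T' hT') fun ω => ⟨T'.mapIso (e ω).some⟩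

theorem gVia_comp {q : Spec (CommRingCat.of C) ⟶ Spec (CommRingCat.of B)} [LocallyOfFiniteType q]
    {p : Spec (CommRingCat.of B) ⟶ Spec (CommRingCat.of A)} {T : Dual.D A ⥤ Dual.D B} {T₁ : Dual.D B ⥤ Dual.D C}
    (hq : GVia q T₁) (hp : GVia p T) : GVia (q ≫ p) (T ⋙ T₁) := fun D _ g hg T' hT' => by
  haveI := hg
  rw [← Category.assoc]
  exact hp D (g ≫ q) inferInstance _ (hq D g hg T' hT')

theorem gVia_of_via [IsNoetherianRing A] [IsNoetherianRing B]
    (p : Spec (CommRingCat.of B) ⟶ Spec (CommRingCat.of A)) {P : Scheme.{u}}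
    (k : Spec (CommRingCat.of B) ⟶ P) [IsOpenImmersion k] (ψ : P ⟶ Spec (CommRingCat.of A)) [IsProper ψ]
    (hkψ : k ≫ ψ = p) {T : Dual.D A ⥤ Dual.D B} (h : Via p T) : GVia p T := by
  intro C _ g hg T' hT' Xb l θ hl hθp hfac _ hθ c adjθ K hb ω eK
  haveI := hl
  haveI := hθp
  haveI := hg
  haveI : IsNoetherian Xb := isNoetherian_of_ft θ
  haveI : IsNoetherian (Spec (CommRingCat.of C)) := isNoetherian_of_ft l
  haveI : IsNoetherian P := isNoetherian_of_ft ψ
  haveI : IsSeparated p := by rw [← hkψ]; infer_instance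
  haveI : LocallyOfFiniteType p := by rw [← hkψ]; infer_instance
  haveI : QuasiCompact p := by rw [← hkψ]; infer_instance
  obtain ⟨Xb', j', φ', hj', -, hφ', hfac'⟩ := S1243.result p g l θ hfac
  haveI := hasRpush_scheme φ'
  haveI := hasRpush_scheme ψ
  have hφ'q : DCoh.RpushPreservesQCoh φ' := fun K hK => isQCohD_rpush φ' hK
  have hψq : DCoh.RpushPreservesQCoh ψ := fun K hK => isQCohD_rpush ψ hK
  haveI : IsNoetherian Xb' := isNoetherian_of_ft φ'
  obtain ⟨a', ⟨adja⟩⟩ := exists_adj φ' hφ'q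
  obtain ⟨b, ⟨adjb⟩⟩ := exists_adj ψ hψq
  obtain ⟨e⟩ := nonempty_comp j' φ' k ψ l θ
    (by rw [hkψ, ← Category.assoc, hfac', hfac]) adja adjb adjθ
  obtain ⟨E₁⟩ := h P k ψ inferInstance inferInstance hkψ hψq b adjb K hb ω eK
  obtain ⟨E₂⟩ := hT' Xb' j' φ' hj' hφ' hfac' hφ'q a' adja ((rQ k).obj (b.obj K))
    (isBddBelowQ_rQ k _ (isBddBelowQ_a ψ adjb _ hb)) (T.obj ω) E₁
  exact ⟨(ObjectProperty.ι _).mapIso (e.app ⟨K, hb⟩) ≪≫ E₂⟩

/-- A closed immersion of affine schemes. -/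
theorem via_closed [IsNoetherianRing A] (φ : A →+* B) (hφ : Function.Surjective φ)
    {R : Dual.D A ⥤ Dual.D B} (adjR : DRing.restrictD φ ⊣ R) :
    Via (Spec.map (CommRingCat.ofHom φ)) R := by
  intro Xb j ψ hj hp hfac _ hψ a adj K hb ω eK
  haveI := hj
  haveI := hp
  haveI : IsNoetherianRing B := isNoetherianRing_of_surjective A B φ hφ
  let g := Spec.map (CommRingCat.ofHom φ)
  haveI : IsClosedImmersion g := IsClosedImmersion.spec_of_surjective _ hφ
  haveI := hasRpush_scheme g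
  have hg : DCoh.RpushPreservesQCoh g := fun K hK => isQCohD_rpush g hK
  obtain ⟨ag, ⟨adjg⟩⟩ := exists_adj g hg
  obtain ⟨I⟩ := nonempty_indep j ψ (𝟙 _) g (by rw [hfac, Category.id_comp]) adj adjg
  obtain ⟨i1⟩ := nonempty_rQ_id (𝟙 (Spec (CommRingCat.of B))) rfl
  obtain ⟨E⟩ := nonempty_specMap_iso (CommRingCat.ofHom φ) adjg adjR K ω eK
  exact ⟨(ObjectProperty.ι _).mapIso (I.app ⟨K, hb⟩ ≪≫ i1.app (ag.obj K)) ≪≫ E⟩

theorem gVia_iso [IsNoetherianRing A] (e : A ≃+* B) [DTen.HasLBase e.toRingHom] :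
    GVia (Spec.map (CommRingCat.ofHom e.toRingHom)) (DTen.LBase e.toRingHom) := by
  haveI : IsNoetherianRing B := isNoetherianRing_of_surjective A B e.toRingHom e.surjective
  haveI : IsClosedImmersion (Spec.map (CommRingCat.ofHom e.toRingHom)) :=
    IsClosedImmersion.spec_of_surjective _ e.surjective
  obtain ⟨R, ⟨adjR⟩⟩ := exists_shriek e.toRingHom
  obtain ⟨i⟩ := nonempty_iso_of_inverse e.toRingHom e.symm.toRingHom
    (RingHom.ext e.symm_apply_apply) (RingHom.ext e.apply_symm_apply) adjR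
  exact gVia_of_via _ (𝟙 _) _ (Category.id_comp _)
    (via_congr (via_closed _ e.surjective adjR) fun ω => ⟨i.app ω⟩)

/-- The affine line. -/
theorem gVia_poly [IsNoetherianRing A] [DTen.HasLBase (Polynomial.C : A →+* Polynomial A)] :
    GVia (Spec.map (CommRingCat.ofHom (Polynomial.C : A →+* Polynomial A)))
      (DTen.LBase (Polynomial.C : A →+* Polynomial A) ⋙ shiftFunctor (Dual.D (Polynomial A)) (1 : ℤ)) := by
  haveI := Groth.Agent.H23.MultiP1.isProper_toBase (Spec (CommRingCat.of A)) 1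
  refine gVia_of_via _ (Groth.Agent.H23.P1Charts.chart A 0) (CohB1.ProjSpaceOver.toBase 1 _)
    (Groth.Agent.H23.P1Charts.chart_toBase A 0) ?_
  intro Xb j φ hj hp hfac _ hφ a adj K hb ω eK
  haveI := hj
  haveI := hp
  let p := Spec.map (CommRingCat.ofHom (Polynomial.C : A →+* Polynomial A))
  haveI := hasLpull p
  have h : Ext p 1 := RingTower.rExt_poly
  obtain ⟨E⟩ := fml_of_ext h Xb j φ hj hp hfac hφ a adj
  haveI := Groth.Agent.H9Misc.DRingLBase.hasLBaseChange (Polynomial.C : A →+* Polynomial A)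
  obtain ⟨t⟩ := nonempty_tildeD_lpull_iso (A := A) (B := Polynomial A) Polynomial.C
  obtain ⟨l⟩ := nonempty_LBaseChange_iso (Polynomial.C : A →+* Polynomial A)
  exact ⟨E.app ⟨K, hb⟩ ≪≫ (shiftFunctor _ (1 : ℤ)).mapIso ((DCoh.Lpull p).mapIso eK ≪≫ (t.app ω).symm ≪≫
    (DCoh.tildeD _).mapIso (l.app ω)) ≪≫ (((DCoh.tildeD (CommRingCat.of (Polynomial A))).commShiftIso (1 : ℤ)).app
      ((DTen.LBase (Polynomial.C : A →+* Polynomial A)).obj ω)).symm⟩

/-- Affine spaces. -/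
theorem gVia_mvPoly : ∀ (n : ℕ) {A : Type u} [CommRing A] [IsNoetherianRing A] (ι : A →+* MvPolynomial (Fin n) A)
    (_ : ι = MvPolynomial.C) [DTen.HasLBase ι],
    GVia (Spec.map (CommRingCat.ofHom ι))
      (DTen.LBase ι ⋙ shiftFunctor (Dual.D (MvPolynomial (Fin n) A)) (n : ℤ)) := by
  intro n
  induction n with
  | zero =>
    intro A _ _ ι hι _
    let e : A ≃+* MvPolynomial (Fin 0) A := (MvPolynomial.isEmptyAlgEquiv A (Fin 0)).symm.toRingEquiv
    have he : ι = e.toRingHom := by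
      subst hι
      exact RingHom.ext fun r => by simp [e]
    subst he
    exact gVia_congr (gVia_iso e) fun ω =>
      ⟨((shiftFunctorZero (Dual.D (MvPolynomial (Fin 0) A)) ℤ).app _).symm⟩
  | succ n ih =>
    intro A _ _ ι hι _
    let e : MvPolynomial (Fin n) (Polynomial A) ≃+* MvPolynomial (Fin (n + 1)) A :=
      ((MvPolynomial.renameEquiv A (finSuccEquiv n)).trans
        (MvPolynomial.optionEquivRight A (Fin n))).toRingEquiv.symm
    let ι₁ : A →+* Polynomial A := Polynomial.C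
    let ι₂ : Polynomial A →+* MvPolynomial (Fin n) (Polynomial A) := MvPolynomial.C
    have he : ι = (e.toRingHom.comp ι₂).comp ι₁ := by
      subst hι
      refine RingHom.ext fun r => e.symm.injective ?_
      simp [e, ι₁, ι₂]
    haveI := hasLBase ι₁
    haveI := hasLBase ι₂
    haveI := hasLBase e.toRingHom
    haveI := hasLBase (e.toRingHom.comp ι₂)
    obtain ⟨c₁⟩ := nonempty_LBase_comp ι₂ e.toRingHom _ rfl
    obtain ⟨c₂⟩ := nonempty_LBase_comp ι₁ (e.toRingHom.comp ι₂) ι he.symm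
    obtain ⟨s₁⟩ := nonempty_LBase_shift ι₂ (1 : ℤ)
    obtain ⟨s₂⟩ := nonempty_LBase_shift e.toRingHom ((1 : ℤ) + n)
    have hs : CommRingCat.ofHom ι =
        CommRingCat.ofHom ι₁ ≫ CommRingCat.ofHom ι₂ ≫ CommRingCat.ofHom e.toRingHom := by
      refine CommRingCat.hom_ext ?_
      exact he
    rw [hs, Spec.map_comp, Spec.map_comp]
    haveI : LocallyOfFiniteType (Spec.map (CommRingCat.ofHom ι₂)) :=
      (HasRingHomProperty.Spec_iff (P := @LocallyOfFiniteType)).2 ((RingHom.finiteType_algebraMap).2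
        (inferInstanceAs (Algebra.FiniteType (Polynomial A) (MvPolynomial (Fin n) (Polynomial A)))))
    haveI : LocallyOfFiniteType (Spec.map (CommRingCat.ofHom e.toRingHom)) :=
      (HasRingHomProperty.Spec_iff (P := @LocallyOfFiniteType)).2
        (RingHom.FiniteType.of_surjective _ e.surjective)
    refine gVia_congr (gVia_comp (gVia_comp (gVia_iso e) (ih ι₂ rfl)) (gVia_poly (A := A))) fun ω => ?_
    let W := (DTen.LBase ι₁).obj ω
    exact ⟨(DTen.LBase e.toRingHom).mapIso ((shiftFunctor _ (n : ℤ)).mapIso (s₁.app W) ≪≫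
        ((shiftFunctorAdd' (Dual.D (MvPolynomial (Fin n) (Polynomial A))) (1 : ℤ) n _ rfl).app _).symm) ≪≫
      s₂.app _ ≪≫ (shiftFunctor _ ((1 : ℤ) + n)).mapIso (c₁.app W ≪≫ c₂.app ω) ≪≫
      eqToIso (congrArg (fun m : ℤ => (shiftFunctor (Dual.D (MvPolynomial (Fin (n + 1)) A)) m).obj
        ((DTen.LBase ι).obj ω)) (by push_cast; omega))⟩

/-- The twisted inverse image through a presentation. -/
theorem via_presentation {R : Type u} [CommRing R] [IsNoetherianRing R] {n : ℕ}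
    (ψ : MvPolynomial (Fin n) R →+* B) (hψ : Function.Surjective ψ) (g : Spec (CommRingCat.of B) ⟶ Spec (CommRingCat.of R))
    (hg : g = Spec.map (CommRingCat.ofHom (ψ.comp MvPolynomial.C)))
    [DRing.HasLBaseChange (algebraMap R (MvPolynomial (Fin n) R))]
    {Rψ : Dual.D (MvPolynomial (Fin n) R) ⥤ Dual.D B} (adjψ : DRing.restrictD ψ ⊣ Rψ)
    (Xb : Scheme.{u}) (j : Spec (CommRingCat.of B) ⟶ Xb) [IsOpenImmersion j]
    (φ : Xb ⟶ Spec (CommRingCat.of R)) [IsProper φ] (hfac : j ≫ φ = g) [DCoh.HasRpush φ]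
    {hφ : DCoh.RpushPreservesQCoh φ} {a : DCoh.DQCoh (Spec (CommRingCat.of R)) ⥤ DCoh.DQCoh Xb}
    (adj : DCoh.RpushQ φ hφ ⊣ a) (K : DCoh.DQCoh (Spec (CommRingCat.of R))) (hb : Dual3.IsBddBelowQ _ K)
    (ω : Dual.D R) (eK : K.obj ≅ (DCoh.tildeD (CommRingCat.of R)).obj ω) :
    Nonempty ((rho j).obj (a.obj K).obj ≅
      (DCoh.tildeD (CommRingCat.of B)).obj (Dual2.shriekVia n Rψ ω)) := by
  let ι := algebraMap R (MvPolynomial (Fin n) R)
  haveI := hasLBase ι
  obtain ⟨l⟩ := nonempty_LBaseChange_iso ι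
  obtain ⟨s⟩ := nonempty_shriek_shift adjψ (n : ℤ)
  haveI : LocallyOfFiniteType (Spec.map (CommRingCat.ofHom ψ)) :=
    (HasRingHomProperty.Spec_iff (P := @LocallyOfFiniteType)).2 (RingHom.FiniteType.of_surjective _ hψ)
  have h := gVia_mvPoly n ι rfl B _ inferInstance Rψ (via_closed ψ hψ adjψ)
  obtain ⟨E⟩ := h Xb j φ inferInstance inferInstance
    (by rw [hfac, hg, CommRingCat.ofHom_comp, Spec.map_comp]; rfl) hφ a adj K hb ω eK
  exact ⟨E ≪≫ (DCoh.tildeD _).mapIso (s.app _ ≪≫ (shiftFunctor _ (n : ℤ)).mapIso (Rψ.mapIso (l.app ω).symm))⟩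

end Groth.Agent.KExact.ViaBridge
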