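import Groth.Agent.KExact.ViaFibre
import Groth.Agent.KFlatLib.Ring.DualizingEquidim
import Groth.Agent.LC.ConnSpec
import Groth.Agent.FibDim.RingLoc
import Groth.Agent.FlatLoc6.FiberRing
import Groth.Agent.KFlatLib.Scheme.DualizingCM
import Groth.Agent.S1801
import Groth.Agent.S1807
import Groth.Agent.S1789
import Groth.Agent.KExact.DualCM
import Mathlib.RingTheory.Ideal.Height

/-!
# Cohen–Macaulay fibres and the relative dualizing complex
-/

set_option autoImplicit false
set_option linter.style.haveILetI false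
set_option linter.unusedSectionVars false
set_option linter.unusedVariables false
set_option backward.isDefEq.respectTransparency false
set_option backward.isDefEq.respectTransparency.types false

universe u

open CategoryTheory CategoryTheory.Limits AlgebraicGeometry
open scoped TensorProduct

attribute [local instance] HasDerivedCategory.standard

namespace Groth.Agent.KExact.ViaFibre

open KFlatLib H9Misc DualizingCM

section Above

variable {B : Type u} [CommRing B] [IsNoetherianRing B]

/-- Reduction preserves upper bounds. -/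
theorem above (J : Ideal B) (X : Dual.D B) (t : ℤ) (ht : ∀ i, t < i → Subsingleton (Dual.HD B X i))
    (hX : ∀ i, Module.Finite B (Dual.HD B X i)) [DTen.HasLBase (Ideal.Quotient.mk J)] (i : ℤ) (hi : t < i) :
    Subsingleton (Dual.HD (B ⧸ J) ((DTen.LBase (Ideal.Quotient.mk J)).obj X) i) := by
  obtain ⟨P, hP, hb, ⟨e⟩⟩ := exists_rep X t ht hX
  haveI := DRingLBase.hasLBaseChange (Ideal.Quotient.mk J)
  obtain ⟨l⟩ := nonempty_LBaseChange_iso (Ideal.Quotient.mk J)
  obtain ⟨e'⟩ := DRingLBase.nonempty_lbase_iso (Ideal.Quotient.mk J)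
    (DRingTor.isKF_of_flat (fun i => (hP i).2) hb)
  exact ModuleCat.subsingleton_of_isZero (((ShortComplex.isZero_homology_of_isZero_X₂ _
    ((ModuleCat.extendScalars.{u, u, u} (Ideal.Quotient.mk J)).map_isZero (hb i hi)))).of_iso
    ((DerivedCategory.homologyFunctor (ModuleCat.{u} (B ⧸ J)) i).mapIso
      ((l.app X).symm ≪≫ (DRing.LBaseChange (Ideal.Quotient.mk J)).mapIso e.symm ≪≫ e') ≪≫
      (DerivedCategory.homologyFunctorFactors (ModuleCat.{u} (B ⧸ J)) i).app _))

end Above

section Chain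

variable {C : Type u} [CommRing C] {n : PrimeSpectrum C → ℤ}

/-- A strictly monotone degree grows at least as fast as the length of chains. -/
theorem head_add_length_le (hmono : StrictMono n) (s : LTSeries (PrimeSpectrum C)) :
    n s.head + s.length ≤ n s.last := by
  have h1 : ∀ k : ℕ, ∀ hk : k < s.length + 1, n s.head + k ≤ n (s ⟨k, hk⟩) := by
    intro k
    induction k with
    | zero => intro hk; exact le_of_eq (by simp [RelSeries.head])
    | succ k ih =>
      intro hk
      have h2 := ih (by omega)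
      have h3 := hmono (s.step ⟨k, by omega⟩)
      simp only [Fin.castSucc_mk, Fin.succ_mk] at h3
      push_cast
      omega
  exact h1 s.length (by omega)

/-- A dualizing complex whose top degree at all generalizations of a point is the same is concentrated there. -/
theorem concentrated_of_top [IsNoetherianRing C] {F : Dual.D C} (hF : Dual.IsDualizing C F) (Q : PrimeSpectrum C) (t : ℤ)
    (htop : ∀ z, z ≤ Q → z ∈ Module.support C (Dual.HD C F t) ∧
      ∀ i, z ∈ Module.support C (Dual.HD C F i) → i ≤ t) :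
    ∀ i, Q ∈ Module.support C (Dual.HD C F i) → i = t := by
  obtain ⟨n, hn, -, hmono, -⟩ := exists_extDegree hF
  have rng : ∀ z : PrimeSpectrum C, ∃ δ d : ℕ, ringKrullDim (Localization.AtPrime z.asIdeal) = d ∧ δ ≤ d ∧
      (∀ i, z ∈ Module.support C (Dual.HD C F i) → n z - d ≤ i ∧ i ≤ n z - δ) ∧
      z ∈ Module.support C (Dual.HD C F (n z - δ)) := by
    intro z
    have hz : z ∈ Module.support C C := by
      rw [Module.support_eq_zeroLocus, Module.annihilator_eq_bot.2 inferInstance]
      simp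
    obtain ⟨δ, d, hδ, hd⟩ := exists_depth_dim z C hz
    obtain ⟨h1, h2, h3⟩ := localized_ext_range hF hn z C δ d hδ hd
    have hs : ∀ i : ℤ, z ∈ Module.support C (Dual.inD C C ⟶ F⟦i⟧) ↔ z ∈ Module.support C (Dual.HD C F i) :=
      fun i => by
        obtain ⟨e⟩ := exists_homRingLEquiv F i
        rw [e.support_eq]
    simp only [hs] at h1 h3
    refine ⟨δ, d, ?_, depth_le_dim_of_range hF hn z C δ d hδ hd, h1, h3⟩
    rw [← hd, Module.supportDim_eq_of_equiv (LC.selfLoc z.asIdeal.primeCompl), Module.supportDim_self_eq_ringKrullDim]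
  have hmin : ∀ z : PrimeSpectrum C, z ≤ Q → z.asIdeal ∈ minimalPrimes C → n z = t := by
    intro z hzQ hz
    obtain ⟨δ, d, hd, hδd, h1, h3⟩ := rng z
    have hh : ringKrullDim (Localization.AtPrime z.asIdeal) = ((z.asIdeal.height : ℕ∞) : WithBot ℕ∞) :=
      IsLocalization.AtPrime.ringKrullDim_eq_height z.asIdeal _
    rw [hd, Ideal.height_eq_zero_iff.2 hz] at hh
    have hd0 : d = 0 := by exact_mod_cast hh
    have := (htop z hzQ).2 _ h3
    have := h1 _ (htop z hzQ).1
    omega
  intro i hi
  obtain ⟨δ, d, hd, -, h1, -⟩ := rng Q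
  have hdh : Order.height Q = (d : ℕ∞) := by
    have hh : ringKrullDim (Localization.AtPrime Q.asIdeal) = ((Q.asIdeal.height : ℕ∞) : WithBot ℕ∞) :=
      IsLocalization.AtPrime.ringKrullDim_eq_height Q.asIdeal _
    rw [hd, PrimeSpectrum.height_eq_orderHeight] at hh
    exact_mod_cast hh.symm
  obtain ⟨l, hl1, hl2⟩ := Order.exists_series_of_le_height Q (le_of_eq hdh.symm)
  have h4 := head_add_length_le hmono l
  rw [hl1, hl2] at h4
  obtain ⟨P, hP, hPle⟩ := Ideal.exists_minimalPrimes_le (show (⊥ : Ideal C) ≤ l.head.asIdeal from bot_le)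
  have hz : (⟨P, hP.1.1⟩ : PrimeSpectrum C) ≤ l.head := hPle
  have hzQ : (⟨P, hP.1.1⟩ : PrimeSpectrum C) ≤ Q := hz.trans (hl1 ▸ LTSeries.monotone l (Fin.le_last 0))
  have h5 := hmin ⟨P, hP.1.1⟩ hzQ hP
  have h6 := hmono.monotone hz
  have h7 := (htop Q le_rfl).2 i hi
  have h8 := (h1 i hi).1
  omega

end Chain

section Iff

variable {R A : Type u} [CommRing R] [CommRing A] [Algebra R A] [IsNoetherianRing R] [IsNoetherianRing A]
  (q : Ideal A) [q.IsPrime] (p : Ideal R) [p.IsPrime] (hpq : q.comap (algebraMap R A) = p)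
  (Q : Ideal (p.ResidueField ⊗[R] A)) [Q.IsPrime] (hQ : Q.comap (incRight R p.ResidueField A) = q)
  (X : Dual.D A) [DTen.HasLBase (incRight R p.ResidueField A)]

include hpq hQ in
/-- Upper bounds pass to the fibre. -/
theorem notMem_fibre_of_above (hX : ∀ i, Module.Finite A (Dual.HD A X i)) (t : ℤ)
    (ht : ∀ i, t < i → (⟨q, inferInstance⟩ : PrimeSpectrum A) ∉ Module.support A (Dual.HD A X i))
    (i : ℤ) (hi : t < i) : (⟨Q, inferInstance⟩ : PrimeSpectrum _) ∉
      Module.support _ (Dual.HD _ ((DTen.LBase (incRight R p.ResidueField A)).obj X) i) := by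
  obtain ⟨_, Xq, hf, hq', hQ', -⟩ := exists_local q p hpq Q hQ X hX
  exact (hQ' i).1 (above _ Xq t (fun j hj => (hq' j).2 (ht j hj)) hf i hi)

include hpq hQ in
/-- Some cohomology at the point survives. -/
theorem exists_top (hX : ∀ i, Module.Finite A (Dual.HD A X i)) (b : ℤ)
    (hb : ∀ i, b < i → (⟨q, inferInstance⟩ : PrimeSpectrum A) ∉ Module.support A (Dual.HD A X i))
    (hF : Dual.IsDualizing _ ((DTen.LBase (incRight R p.ResidueField A)).obj X)) :
    ∃ t, (⟨q, inferInstance⟩ : PrimeSpectrum A) ∈ Module.support A (Dual.HD A X t) ∧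
      (∀ i, (⟨q, inferInstance⟩ : PrimeSpectrum A) ∈ Module.support A (Dual.HD A X i) → i ≤ t) ∧
      (⟨Q, inferInstance⟩ : PrimeSpectrum _) ∈
        Module.support _ (Dual.HD _ ((DTen.LBase (incRight R p.ResidueField A)).obj X) t) ∧
      (∀ i, (⟨Q, inferInstance⟩ : PrimeSpectrum _) ∈
        Module.support _ (Dual.HD _ ((DTen.LBase (incRight R p.ResidueField A)).obj X) i) → i ≤ t) := by
  classical
  haveI := hF.isNoetherianRing
  have hne : ∃ i, (⟨q, inferInstance⟩ : PrimeSpectrum A) ∈ Module.support A (Dual.HD A X i) := by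
    by_contra hn
    obtain ⟨i, hi⟩ := exists_mem_support hF ⟨Q, inferInstance⟩
    exact notMem_fibre_of_above q p hpq Q hQ X hX (i - 1) (fun j _ h => hn ⟨j, h⟩) i (by omega) hi
  obtain ⟨t, ht, hmax⟩ := Int.exists_greatest_of_bdd
    ⟨b, fun i hi => not_lt.1 fun h => hb i h hi⟩ hne
  refine ⟨t, ht, hmax, mem_fibre_of_top q p hpq Q hQ X hX t (fun i hi h => (not_lt.2 (hmax i h)) hi) ht,
    fun i hi => not_lt.1 fun h => notMem_fibre_of_above q p hpq Q hQ X hX t
      (fun j hj hm => (not_lt.2 (hmax j hm)) hj) i h hi⟩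

include hpq hQ in
/-- Cohen–Macaulay fibres are detected by the number of nonzero cohomology modules. -/
theorem cm_fibre_iff [Module.Flat R A] [Algebra.FiniteType R A]
    (hX : ∀ i, Module.Finite A (Dual.HD A X i)) (b : ℤ)
    (hb : ∀ i, b < i → Subsingleton (Dual.HD A X i))
    (hF : Dual.IsDualizing _ ((DTen.LBase (incRight R p.ResidueField A)).obj X)) :
    (LocCoh.IsCohenMacaulayLocalRing (Localization.AtPrime Q) ↔
      ∃! i : ℤ, (⟨q, inferInstance⟩ : PrimeSpectrum A) ∈ Module.support A (Dual.HD A X i)) ∧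
    (LocCoh.IsCohenMacaulayLocalRing (Localization.AtPrime Q) →
      ∀ i, (⟨q, inferInstance⟩ : PrimeSpectrum A) ∈ Module.support A (Dual.HD A X i) →
        (⟨Q, inferInstance⟩ : PrimeSpectrum _) ∈
          Module.support _ (Dual.HD _ ((DTen.LBase (incRight R p.ResidueField A)).obj X) i) ∧
        Module.Flat R (Localization.AtPrime q ⊗[A] Dual.HD A X i)) := by
  haveI := hF.isNoetherianRing
  have hb' : ∀ (z : Ideal A) [z.IsPrime] (i : ℤ), b < i →
      (⟨z, inferInstance⟩ : PrimeSpectrum A) ∉ Module.support A (Dual.HD A X i) := fun z _ i hi => by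
    haveI := hb i hi
    rw [Module.notMem_support_iff]
    exact inferInstance
  obtain ⟨t, ht, htmax, htQ, htQmax⟩ := exists_top q p hpq Q hQ X hX b (hb' q) hF
  have hdir : LocCoh.IsCohenMacaulayLocalRing (Localization.AtPrime Q) →
      (∀ i, i < t → (⟨q, inferInstance⟩ : PrimeSpectrum A) ∉ Module.support A (Dual.HD A X i)) ∧
        Module.Flat R (Localization.AtPrime q ⊗[A] Dual.HD A X t) := fun hcm => by
    obtain ⟨m, -, hm⟩ := (cm_iff_existsUnique hF ⟨Q, inferInstance⟩).1 hcm
    refine concentrated_of_fibre q p hpq Q hQ X hX t (fun i hi h => (not_lt.2 (htmax i h)) hi) fun i hi h => ?_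
    have h1 := hm _ h
    have h2 := hm _ htQ
    omega
  refine ⟨⟨fun hcm => ⟨t, ht, fun i hi => ?_⟩, fun ⟨m, hm, hu⟩ => ?_⟩, fun hcm i hi => ?_⟩
  · rcases (htmax i hi).eq_or_lt with h | h
    · exact h
    · exact absurd hi ((hdir hcm).1 i h)
  · have hmt : t = m := hu t ht
    refine (cm_iff_existsUnique hF ⟨Q, inferInstance⟩).2 ⟨t, htQ, ?_⟩
    refine concentrated_of_top hF ⟨Q, inferInstance⟩ t fun z hz => ?_
    let z' := z.asIdeal.comap (incRight R p.ResidueField A)
    have hz'q : z' ≤ q := hQ ▸ Ideal.comap_mono hz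
    have hz'p : z'.comap (algebraMap R A) = p :=
      FlatLoc6.comap_fiber_prime (A := R) (B := A) p z.asIdeal
    obtain ⟨s, hs, hsmax, hsF, hsFmax⟩ := exists_top z' p hz'p z.asIdeal rfl X hX b (hb' z') hF
    have h1 : s = t := (hu s (Module.mem_support_mono hz'q hs)).trans hmt.symm
    subst h1
    exact ⟨hsF, hsFmax⟩
  · rcases (htmax i hi).eq_or_lt with h | h
    · subst h
      exact ⟨htQ, (hdir hcm).2⟩
    · exact absurd hi ((hdir hcm).1 i h)

end Iff

end Groth.Agent.KExact.ViaFibre
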