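import Groth.Agent.KExact.ViaBridge
import Groth.Agent.KExact.DualCM
import Groth.Agent.KExact.KoszulImm

/-!
# The twisted inverse image in a chart
-/

set_option autoImplicit false
set_option linter.style.haveILetI false
set_option linter.unusedSectionVars false
set_option linter.unusedVariables false
set_option backward.isDefEq.respectTransparency false
set_option backward.isDefEq.respectTransparency.types false

universe u

open CategoryTheory CategoryTheory.Limits AlgebraicGeometry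

attribute [local instance] HasDerivedCategory.standard

namespace Groth.Agent.KExact.ViaChart

open KFlatLib KFlatLib.BCLoc KFlatLib.SecPoint BCNat BCComp

variable [∀ (U V : Scheme.{u}) (j : U ⟶ V) [IsOpenImmersion j], PreservesFiniteLimits (Scheme.Modules.restrictFunctor j)]
  [∀ (R : CommRingCat.{u}), PreservesFiniteLimits (tilde.functor R)]

variable {X Y Xb : Scheme.{u}}

/-- The structure sheaf in a chart. -/
theorem nonempty_rho_structure {R : Type u} [CommRing R] (i : Spec (CommRingCat.of R) ⟶ Y) [IsOpenImmersion i]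
    {K : DCoh.D Y} (e : K ≅ DCoh.inD Y (Coh.structureModule Y)) :
    Nonempty ((rho i).obj K ≅ (DCoh.tildeD (CommRingCat.of R)).obj (Dual.inD R R)) := by
  obtain ⟨t⟩ := DualNormalized.nonempty_tildeD_iso R
  exact ⟨(rho i).mapIso e ≪≫ RelPC17.rhoInD i _ ≪≫
    (DerivedCategory.singleFunctor (Spec (CommRingCat.of R)).Modules 0).mapIso
      (RelPC17.restrictStructureIso i) ≪≫ t.symm⟩

set_option maxHeartbeats 800000 in
/-- The twisted inverse image in a chart is the shriek through a presentation. -/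
theorem nonempty_chart_iso [IsNoetherian Y] [IsNoetherian X] (j : X ⟶ Xb) [IsOpenImmersion j]
    (φ : Xb ⟶ Y) [IsProper φ] [DCoh.HasRpush φ] {hφ : DCoh.RpushPreservesQCoh φ}
    {a : DCoh.DQCoh Y ⥤ DCoh.DQCoh Xb} (adj : DCoh.RpushQ φ hφ ⊣ a)
    {U : X.Opens} (hU : IsAffineOpen U) {V : Y.Opens} (hV : IsAffineOpen V) (hUV : U ≤ (j ≫ φ) ⁻¹ᵁ V)
    {n : ℕ} (ψ : MvPolynomial (Fin n) Γ(Y, V) →+* Γ(X, U)) (hψ : Function.Surjective ψ)
    (hψC : ψ.comp MvPolynomial.C = ((j ≫ φ).appLE V U hUV).hom)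
    [DRing.HasLBaseChange (algebraMap Γ(Y, V) (MvPolynomial (Fin n) Γ(Y, V)))]
    {Rψ : Dual.D (MvPolynomial (Fin n) Γ(Y, V)) ⥤ Dual.D Γ(X, U)} (adjψ : DRing.restrictD ψ ⊣ Rψ)
    (K : DCoh.DQCoh Y) (hb : Dual3.IsBddBelowQ Y K) (ω : Dual.D Γ(Y, V))
    (eK : (rho hV.fromSpec).obj K.obj ≅ (DCoh.tildeD Γ(Y, V)).obj ω) :
    Nonempty ((rho hU.fromSpec).obj ((rho j).obj (a.obj K).obj) ≅
      (DCoh.tildeD Γ(X, U)).obj (Dual2.shriekVia n Rψ ω)) := by
  haveI : IsNoetherianRing Γ(Y, V) := IsLocallyNoetherian.component_noetherian ⟨V, hV⟩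
  haveI : IsNoetherianRing Γ(X, U) := IsLocallyNoetherian.component_noetherian ⟨U, hU⟩
  haveI : IsNoetherian Xb := isNoetherian_of_ft φ
  let i : Spec Γ(Y, V) ⟶ Y := hV.fromSpec
  let r := pullback.fst φ i
  let p := pullback.snd φ i
  let ν : Spec Γ(X, U) ⟶ Spec Γ(Y, V) := Spec.map ((j ≫ φ).appLE V U hUV)
  have hν : ν ≫ i = hU.fromSpec ≫ j ≫ φ := IsAffineOpen.SpecMap_appLE_fromSpec (j ≫ φ) hV hU hUV
  let u : Spec Γ(X, U) ⟶ pullback φ i := pullback.lift (hU.fromSpec ≫ j) ν (by rw [Category.assoc, hν])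
  have hur : u ≫ r = hU.fromSpec ≫ j := pullback.lift_fst _ _ _
  have hup : u ≫ p = ν := pullback.lift_snd _ _ _
  haveI : IsOpenImmersion (u ≫ r) := by rw [hur]; infer_instance
  haveI : IsOpenImmersion u := IsOpenImmersion.of_comp u r
  haveI : IsNoetherian (pullback φ i) := isNoetherian_of_ft p
  haveI := hasRpush_scheme p
  have hp : DCoh.RpushPreservesQCoh p := fun K hK => isQCohD_rpush p hK
  obtain ⟨ap, ⟨adjp⟩⟩ := exists_adj p hp
  obtain ⟨B⟩ := nonempty_bc_iso (IsPullback.of_hasPullback φ i) adj adjp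
  obtain ⟨lr⟩ := nonempty_LQ_iso_rQ r
  obtain ⟨lv⟩ := nonempty_LQ_iso_rQ i
  obtain ⟨c₁⟩ := nonempty_rQ_comp hU.fromSpec j (hU.fromSpec ≫ j) rfl
  obtain ⟨c₂⟩ := nonempty_rQ_comp u r (hU.fromSpec ≫ j) hur
  let K₀ : (Dual3.IsBddBelowQ Y).FullSubcategory := ⟨K, hb⟩
  let e : (rQ hU.fromSpec).obj ((rQ j).obj (a.obj K)) ≅ (rQ u).obj (ap.obj ((rQ i).obj K)) :=
    c₁.app _ ≪≫ c₂.symm.app _ ≪≫ (rQ u).mapIso ((lr.symm.app _) ≪≫ B.app K₀ ≪≫ ap.mapIso (lv.app K))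
  have hνC : ν = Spec.map (CommRingCat.ofHom (ψ.comp MvPolynomial.C)) := by
    rw [hψC]
    rfl
  obtain ⟨E⟩ := ViaBridge.via_presentation (B := Γ(X, U)) (R := Γ(Y, V)) ψ hψ ν hνC adjψ _ u p hup adjp
    ((rQ i).obj K) (isBddBelowQ_rQ i K hb) ω eK
  exact ⟨(ObjectProperty.ι _).mapIso e ≪≫ E⟩

/-- Every point has such a chart. -/
theorem exists_presentation [IsNoetherian Y] (f : X ⟶ Y) [LocallyOfFiniteType f] (x : X) :
    ∃ (V : Y.Opens) (hV : IsAffineOpen V) (U : X.Opens) (hU : IsAffineOpen U) (hUV : U ≤ f ⁻¹ᵁ V) (n : ℕ)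
      (ψ : MvPolynomial (Fin n) Γ(Y, V) →+* Γ(X, U)),
      x ∈ U ∧ Function.Surjective ψ ∧ ψ.comp MvPolynomial.C = (f.appLE V U hUV).hom := by
  obtain ⟨V, hV, hxV, -⟩ := exists_isAffineOpen_mem_and_subset (X := Y) (x := f.base x) (U := ⊤) trivial
  obtain ⟨U, hU, hxU, hUV⟩ := exists_isAffineOpen_mem_and_subset (X := X) (x := x) (U := f ⁻¹ᵁ V) hxV
  have hft : (f.appLE V U hUV).hom.FiniteType :=
    HasRingHomProperty.appLE (P := @LocallyOfFiniteType) f inferInstance ⟨V, hV⟩ ⟨U, hU⟩ hUV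
  letI := (f.appLE V U hUV).hom.toAlgebra
  haveI : Algebra.FiniteType Γ(Y, V) Γ(X, U) := hft
  obtain ⟨n, s, hs⟩ := Algebra.FiniteType.iff_quotient_mvPolynomial''.1 ‹Algebra.FiniteType Γ(Y, V) Γ(X, U)›
  exact ⟨V, hV, U, hU, hUV, n, s.toRingHom, hxU, hs, RingHom.ext fun r => s.commutes r⟩

end Groth.Agent.KExact.ViaChart
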