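import Groth.Agent.KExact.ViaPoint
import Groth.Agent.KFlatLib.Ring.DualizingNormalizedShriek
import Groth.Agent.FibDim.RelDim
import Groth.Agent.S14612
import Groth.Agent.S2143

/-!
# The degree of `f^! O` at Cohen–Macaulay points
-/

set_option autoImplicit false
set_option linter.style.haveILetI false
set_option linter.unusedSectionVars false
set_option linter.unusedVariables false
set_option backward.isDefEq.respectTransparency false
set_option backward.isDefEq.respectTransparency.types false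

universe u

open CategoryTheory CategoryTheory.Limits AlgebraicGeometry
open scoped TensorProduct

attribute [local instance] HasDerivedCategory.standard

namespace Groth.Agent.KExact.ViaDeg

open KFlatLib KFlatLib.BCLoc KFlatLib.RelTor DualizingCM ViaFibre ViaApp ViaPoint

section Local

variable {C : Type u} [CommRing C]

/-- The degree at a closed Cohen–Macaulay point of a complex normalized there. -/
theorem degree_of_cm [IsNoetherianRing C] {F : Dual.D C} (hF : Dual.IsDualizing C F) (m : PrimeSpectrum C)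
    [hm : m.asIdeal.IsMaximal] (hnorm : ∀ i : ℤ, i ≠ 0 → Subsingleton (Dual.inD C (C ⧸ m.asIdeal) ⟶ F⟦i⟧))
    (hcm : LocCoh.IsCohenMacaulayLocalRing (Localization.AtPrime m.asIdeal)) (d : ℕ)
    (hd : ringKrullDim (Localization.AtPrime m.asIdeal) = d) (i : ℤ)
    (hi : m ∈ Module.support C (Dual.HD C F i)) : i = -(d : ℤ) := by
  obtain ⟨n, hn, -, -, -⟩ := exists_extDegree hF
  have hn0 : n m = 0 := by
    by_contra hne
    haveI := hnorm _ hne
    have h := (hn m (n m)).2 rfl
    exact not_subsingleton_iff_nontrivial.2 h inferInstance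
  have hz : m ∈ Module.support C C := by
    rw [Module.support_eq_zeroLocus, Module.annihilator_eq_bot.2 inferInstance]
    simp
  obtain ⟨δ, d', hδ, hd'⟩ := exists_depth_dim m C hz
  obtain ⟨h1, -, -⟩ := localized_ext_range hF hn m C δ d' hδ hd'
  obtain ⟨e⟩ := exists_homRingLEquiv F i
  have h := h1 i (by rw [e.support_eq]; exact hi)
  have hdd : d' = d := by
    have : (d' : WithBot ℕ∞) = d := by
      rw [← hd', Module.supportDim_eq_of_equiv (LC.selfLoc m.asIdeal.primeCompl),
        Module.supportDim_self_eq_ringKrullDim, hd]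
    exact_mod_cast this
  have hdelta : δ = d := by
    have h2 := hcm.supportDim_eq_depth
    rw [Module.supportDim_self_eq_ringKrullDim, hd,
      ← Hensel.depth_congr (LC.selfLoc m.asIdeal.primeCompl), hδ] at h2
    exact_mod_cast h2.symm
  omega

end Local

section Fibre

variable {R A : Type u} [CommRing R] [CommRing A] [IsNoetherianRing R] [IsNoetherianRing A] [Algebra R A]
  [Module.Flat R A] (n : ℕ) (ψ : MvPolynomial (Fin n) R →ₐ[R] A) (hψ : Function.Surjective ψ)
  [DRing.HasLBaseChange (algebraMap R (MvPolynomial (Fin n) R))]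
  (Rψ : Dual.D (MvPolynomial (Fin n) R) ⥤ Dual.D A) (adj : DRing.restrictD ψ.toRingHom ⊣ Rψ)

include hψ adj in
/-- The fibre of the shriek is normalized at every closed point. -/
theorem normalized_fibre (k : Type u) [Field k] [Algebra R k] [DTen.HasLBase (incRight R k A)]
    (m : Ideal (k ⊗[R] A)) [m.IsMaximal] (i : ℤ) (hi : i ≠ 0) :
    Subsingleton (Dual.inD (k ⊗[R] A) ((k ⊗[R] A) ⧸ m) ⟶
      ((DTen.LBase (incRight R k A)).obj (Dual2.shriekVia n Rψ (Dual.inD R R)))⟦i⟧) := by
  let P := MvPolynomial (Fin n) R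
  let P' := MvPolynomial (Fin n) k
  haveI := hasLBase (algebraMap R P)
  haveI := hasLBase (algebraMap k P')
  haveI := hasLBase (algebraMap R k)
  have hR : ψ.toRingHom.comp MvPolynomial.C = algebraMap R A := RingHom.ext fun r => ψ.commutes r
  haveI : IsNoetherianRing (k ⊗[R] A) :=
    isNoetherianRing_of_surjective P' (k ⊗[R] A) (presBC k ψ.toRingHom) (surjective_presBC ψ.toRingHom hψ hR)
  obtain ⟨R'', ⟨a''⟩⟩ := exists_shriek (presBC k ψ.toRingHom)
  obtain ⟨t⟩ := nonempty_shriek_baseChange_of_flat_left ψ.toRingHom hψ hR (algebraMap R P) rfl adj (presBC k ψ.toRingHom)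
    (surjective_presBC ψ.toRingHom hψ hR) (presBC_C ψ.toRingHom) (algebraMap k P') rfl a'' (DTen.unit R)
  obtain ⟨u₂⟩ := nonempty_LBase_unit (algebraMap R k)
  obtain ⟨e₁⟩ := nonempty_LBaseChange_iso (algebraMap R P)
  let e : Dual2.shriekVia n Rψ (Dual.inD R R) ≅ (Rψ.obj ((DTen.LBase (algebraMap R P)).obj (DTen.unit R)))⟦(n : ℤ)⟧ :=
    (shiftFunctor _ (n : ℤ)).mapIso (Rψ.mapIso (e₁.app _ ≪≫ (DTen.LBase (algebraMap R P)).mapIso
      ((DerivedCategory.singleFunctorIsoCompQ (ModuleCat R) 0).app (ModuleCat.of R R))))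
  obtain ⟨hkd, hkn⟩ := DualNormalized.field_normalized k
  let eF : (DTen.LBase (incRight R k A)).obj (Dual2.shriekVia n Rψ (Dual.inD R R)) ≅
      (R''.obj ((DTen.LBase (algebraMap k P')).obj (Dual.inD k k)))⟦(n : ℤ)⟧ :=
    (DTen.LBase _).mapIso e ≪≫ t ≪≫ (shiftFunctor _ (n : ℤ)).mapIso (R''.mapIso ((DTen.LBase _).mapIso
      (u₂ ≪≫ ((DerivedCategory.singleFunctorIsoCompQ (ModuleCat k) 0).app (ModuleCat.of k k)).symm)))
  letI : Algebra P' (k ⊗[R] A) := (presBC k ψ.toRingHom).toAlgebra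
  haveI := subsingleton_hom_maximal_shriekVia (surjective_presBC ψ.toRingHom hψ hR) a'' hkd hkn m (by
    rw [IsLocalRing.maximalIdeal_eq_bot]
    exact (Ideal.eq_bot_or_top _).resolve_right (Ideal.IsPrime.ne_top (Ideal.comap_isPrime _ _))) i hi
  exact ((shiftFunctor _ i).mapIso eF).homToEquiv.subsingleton

end Fibre

variable [∀ (U V : Scheme.{u}) (j : U ⟶ V) [IsOpenImmersion j], PreservesFiniteLimits (Scheme.Modules.restrictFunctor j)]
  [∀ (R : CommRingCat.{u}), PreservesFiniteLimits (tilde.functor R)]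

variable {X Y : Scheme.{u}} {f : X ⟶ Y} {M : DCoh.D X} {x : X} (c : Chart f M x)

/-- The same chart at another of its points. -/
def move (q : Spec (CommRingCat.of c.A)) : Chart f M (c.k.base q) :=
  { c with p := q, hp := rfl }

/-- In relative dimension `d` the only degree at a Cohen–Macaulay point is `-d`. -/
theorem degree [Flat f] [LocallyOfFiniteType f] (d : ℕ) (hd : Cyc.HasRelDim f d)
    (hcm : ∀ y : X, MoreMor.IsCMAt f y) (i : ℤ) (hi : pt c ∈ Module.support c.A (Dual.HD c.A (om c) i)) :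
    i = -(d : ℤ) := by
  haveI : Module.Flat c.R c.A := c.flat ‹_›
  obtain ⟨⟨a, b, hab⟩, hfin⟩ := bounds c
  let p := (pt c).asIdeal.comap (algebraMap c.R c.A)
  obtain ⟨Q, hQp, hQ, -⟩ := exists_fibre_data (R := c.R) (pt c)
  obtain ⟨m, hmax, hQm⟩ := Ideal.exists_le_maximal Q hQp.ne_top
  haveI := hmax.isPrime
  let q' : PrimeSpectrum c.A := ⟨m.comap (incRight c.R p.ResidueField c.A), inferInstance⟩
  have hq' : q'.asIdeal.comap (algebraMap c.R c.A) = p := FlatLoc6.comap_fiber_prime (A := c.R) (B := c.A) p m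
  haveI := Groth.Agent.KFlatLib.hasLBase (incRight c.R p.ResidueField c.A)
  have hF := isDualizing_fibre c p
  haveI := hF.isNoetherianRing
  have hi' : q' ∈ Module.support c.A (Dual.HD c.A (om c) i) :=
    Module.mem_support_mono (hQ.symm.le.trans (Ideal.comap_mono hQm)) hi
  obtain ⟨h1, h2⟩ := cm_fibre_iff q'.asIdeal p hq' m rfl (om c) hfin b (fun j hj => hab j (Or.inr hj)) hF
  have hu : ∃! j : ℤ, q' ∈ Module.support c.A (Dual.HD c.A (om c) j) :=
    (ViaPoint.isCMAt_iff (move c q')).1.1 (hcm _)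
  have hC := h1.2 hu
  haveI : Algebra.FiniteType p.ResidueField (p.ResidueField ⊗[c.R] c.A) := inferInstance
  refine degree_of_cm hF ⟨m, inferInstance⟩ (hm := hmax)
    (fun j hj => normalized_fibre c.n c.ψ c.hψ c.Rψ c.adj p.ResidueField m j hj) hC d ?_ i (h2 hC i hi').1
  have hloc := Groth.Agent.S2143.result (k := p.ResidueField) (S := p.ResidueField ⊗[c.R] c.A) m
  rw [show (⨅ m' : {m' : Ideal (p.ResidueField ⊗[c.R] c.A) // m'.IsMaximal ∧ m ≤ m'},
      ringKrullDim (Localization.AtPrime (hp := m'.2.1.isPrime') m'.1)) = ringKrullDim (Localization.AtPrime m) from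
    le_antisymm (iInf_le (fun m' : {m' : Ideal (p.ResidueField ⊗[c.R] c.A) // m'.IsMaximal ∧ m ≤ m'} =>
        ringKrullDim (Localization.AtPrime (hp := m'.2.1.isPrime') m'.1)) ⟨m, hmax, le_rfl⟩)
      (le_iInf fun ⟨m', hm', hle⟩ => by
        obtain rfl := hmax.eq_of_le hm'.ne_top hle
        exact le_rfl)] at hloc
  rw [← hloc]
  have hp' : q'.asIdeal.under c.R = p := hq'
  have key : ∀ (p₀ : Ideal c.R) [p₀.IsPrime] (e : p₀ = q'.asIdeal.under c.R) (m₀ : PrimeSpectrum (p₀.Fiber c.A)),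
      m₀.asIdeal.comap Algebra.TensorProduct.includeRight.toRingHom = q'.asIdeal →
      FlatMor.localDim (PrimeSpectrum (p₀.Fiber c.A)) m₀ =
        FlatMor.fibreDimAt (Spec.map (CommRingCat.ofHom (algebraMap c.R c.A))) q' := by
    intro p₀ _ e m₀ h
    subst e
    exact FibDim.localDim_fiber_eq_fibreDimAt q' m₀ h
  rw [show (FlatMor.localDim (PrimeSpectrum (p.ResidueField ⊗[c.R] c.A)) ⟨m, inferInstance⟩) =
      FlatMor.fibreDimAt (Spec.map (CommRingCat.ofHom (algebraMap c.R c.A))) q' from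
      key p hq'.symm ⟨m, inferInstance⟩ rfl, c.fibreDimAt_eq q', FibDim.fibreDimAt_eq_of_hasRelDim f hd]
  rfl

/-- The only cohomology of a flat amplitude bounded below by its concentration degree is flat. -/
theorem isFlatOver_hd_of_amp (N : DCoh.D X) (a b : ℤ) (h : DCoh.HasRelFlatAmplitudeIn f a b N)
    (hz : ∀ i, a < i → IsZero (DCoh.HD N i)) : FlatMod.IsFlatOver f (DCoh.HD N a) := by
  obtain ⟨E, hE, hfl, ⟨e⟩⟩ := h
  have hH : ∀ i, Nonempty (E.homology i ≅ DCoh.HD N i) := fun i =>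
    ⟨((DerivedCategory.homologyFunctorFactors X.Modules i).app E).symm ≪≫
      (DerivedCategory.homologyFunctor _ i).mapIso e⟩
  intro x
  let Φ := DerSch.stalkOver f x
  let Q₁ := (Φ.mapHomologicalComplex (ComplexShape.up ℤ)).obj E
  have hz' : ∀ i, a < i → IsZero (Q₁.homology i) := fun i hi => by
    obtain ⟨eH⟩ := hH i
    exact (Φ.map_isZero ((hz i hi).of_iso eH)).of_iso ((E.sc i).mapHomologyIso Φ)
  haveI := Groth.Agent.S14612.result _ Q₁ (fun i => (flatOverAt_iff _ _ _).1 (hfl i x))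
    ⟨b, fun i hi => Φ.map_isZero (hE i (Or.inr hi))⟩ a hz'
  obtain ⟨eH⟩ := hH a
  haveI : IsIso (Q₁.homologyπ a) := Q₁.isIso_homologyπ (a - 1) a (by simp)
    ((Φ.map_isZero (hE (a - 1) (Or.inl (by omega)))).eq_of_src _ _)
  refine (flatOverAt_iff _ _ _).2 ?_
  exact Module.Flat.of_linearEquiv (asIso (Q₁.homologyπ a) ≪≫ (E.sc a).mapHomologyIso Φ ≪≫
    Φ.mapIso eH).symm.toLinearEquiv

end Groth.Agent.KExact.ViaDeg
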