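import Groth.Agent.KExact.ViaApp
import Groth.Agent.RelPC17.JacRing
import Groth.Agent.H9Misc.TrimModel
import Groth.Agent.H9Misc.DRingFibre
import Groth.Agent.H9Misc.DRingPC
import Groth.Agent.Triage.NoethPC
import Groth.Agent.KFlatLib.Ring.RelDualizing
import Groth.Agent.FlatModel.FibreNil

/-!
# Cohomology at a point and on the fibre
-/

set_option autoImplicit false
set_option linter.style.haveILetI false
set_option linter.unusedSectionVars false
set_option linter.unusedVariables false
set_option backward.isDefEq.respectTransparency false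
set_option backward.isDefEq.respectTransparency.types false

universe u

open CategoryTheory CategoryTheory.Limits AlgebraicGeometry
open scoped TensorProduct

attribute [local instance] HasDerivedCategory.standard

namespace Groth.Agent.KExact.ViaFibre

open KFlatLib H9Misc

section Resolution

variable {B : Type u} [CommRing B] [IsNoetherianRing B]

omit [IsNoetherianRing B] in
/-- Exactness of a representative. -/
theorem exactAt_of_iso {E : DRing.Cx B} {X : Dual.D B} (e : DRing.toD E ≅ X) (i : ℤ)
    (h : Subsingleton (Dual.HD B X i)) : E.ExactAt i := by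
  rw [HomologicalComplex.exactAt_iff_isZero_homology]
  haveI := h
  exact (ModuleCat.isZero_of_subsingleton ((DerivedCategory.homologyFunctor (ModuleCat.{u} B) i).obj X)).of_iso
    (((DerivedCategory.homologyFunctorFactors (ModuleCat.{u} B) i).app E).symm ≪≫
      (DerivedCategory.homologyFunctor (ModuleCat.{u} B) i).mapIso e)

/-- Finite projective representatives bounded at the top degree. -/
theorem exists_rep (X : Dual.D B) (t : ℤ) (ht : ∀ i, t < i → Subsingleton (Dual.HD B X i))
    (hX : ∀ i, Module.Finite B (Dual.HD B X i)) :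
    ∃ P : DRing.Cx B, (∀ i, Module.Finite B (P.X i) ∧ Module.Flat B (P.X i)) ∧ DRing.VanishesAbove P t ∧
      Nonempty (DRing.toD P ≅ X) := by
  obtain ⟨E, b, hb, hE, ⟨e⟩⟩ := (DRingPC.pc'_iff X).2 fun m =>
    DRingPC.of_homology X t ht fun i _ => haveI := hX i; ((DRingPC.pc'_iff _).1 (Triage.NoethPC.pc' (Dual.HD B X i))) (m - i)
  refine ⟨E.truncLE t, fun i => ?_, fun i hi => CochainComplex.isZero_of_isStrictlyLE _ t i hi, ?_⟩
  · have hfin : ∀ i, Module.Finite B (E.X i) := fun i => (hE i).1
    have hfl : ∀ i, Module.Flat B (E.X i) := fun i => haveI := (hE i).2; inferInstance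
    rcases lt_trichotomy i t with h | rfl | h
    · haveI := hfin i; haveI := hfl i
      exact ⟨Module.Finite.equiv (E.truncLEXIso t i h).toLinearEquiv.symm,
        Module.Flat.of_linearEquiv (E.truncLEXIso t i h).toLinearEquiv⟩
    · obtain ⟨_, _⟩ := TrimModel.projective_cycles hfin hfl hb i fun j hj => exactAt_of_iso e j (ht j hj)
      exact ⟨Module.Finite.equiv (E.truncLEXIsoCycles i).toLinearEquiv.symm,
        Module.Flat.of_linearEquiv (E.truncLEXIsoCycles i).toLinearEquiv⟩
    · haveI := ModuleCat.subsingleton_of_isZero (CochainComplex.isZero_of_isStrictlyLE (E.truncLE t) t i h)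
      exact ⟨inferInstance, inferInstance⟩
  · haveI : E.IsLE t := (CochainComplex.isLE_iff E t).2 fun i hi => exactAt_of_iso e i (ht i hi)
    haveI : QuasiIso (E.ιTruncLE t) := (E.quasiIso_ιTruncLE_iff t).2 inferInstance
    haveI : IsIso (DerivedCategory.Q.map (E.ιTruncLE t)) := (DerivedCategory.isIso_Q_map_iff_quasiIso (ModuleCat.{u} B) _).2 inferInstance
    exact ⟨asIso (DerivedCategory.Q.map (E.ιTruncLE t)) ≪≫ e⟩

end Resolution

section Local

variable {A₀ B : Type u} [CommRing A₀] [CommRing B] [IsLocalRing A₀] [IsLocalRing B] [IsNoetherianRing B]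
  (φ : A₀ →+* B) [IsLocalHom φ] {J : Ideal B} (hJ : J = (IsLocalRing.maximalIdeal A₀).map φ)

/-- The reduction of an element. -/
noncomputable abbrev red (J : Ideal B) (M : ModuleCat.{u} B) :=
  ((ModuleCat.extendRestrictScalarsAdj (Ideal.Quotient.mk J)).unit.app M).hom

omit [IsLocalRing B] [IsNoetherianRing B] in
/-- The kernel of reduction. -/
theorem red_eq_zero (J : Ideal B) (M : ModuleCat.{u} B) (z : M) :
    red J M z = 0 ↔ z ∈ J • (⊤ : Submodule B M) := by
  let N := J • (⊤ : Submodule B M)
  constructor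
  · intro h
    have hts : Module.IsTorsionBySet B (M ⧸ N) (J : Set B) := fun x a => by
      obtain ⟨y, rfl⟩ := N.mkQ_surjective x
      rw [Submodule.mkQ_apply, ← Submodule.Quotient.mk_smul, Submodule.Quotient.mk_eq_zero]
      exact Submodule.smul_mem_smul a.2 Submodule.mem_top
    letI : Module (B ⧸ J) (M ⧸ N) := hts.module
    let g : M ⟶ (ModuleCat.restrictScalars.{u} (Ideal.Quotient.mk J)).obj (ModuleCat.of (B ⧸ J) (M ⧸ N)) :=
      ModuleCat.ofHom (Y := (ModuleCat.restrictScalars.{u} (Ideal.Quotient.mk J)).obj (ModuleCat.of (B ⧸ J) (M ⧸ N)))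
        { toFun := fun m => N.mkQ m
          map_add' := fun a b => map_add N.mkQ a b
          map_smul' := fun r m => (N.mkQ.map_smul r m).trans (hts.mk_smul r (N.mkQ m)).symm }
    let adj := ModuleCat.extendRestrictScalarsAdj.{u} (Ideal.Quotient.mk J)
    have h1 : g = adj.unit.app M ≫ (ModuleCat.restrictScalars (Ideal.Quotient.mk J)).map ((adj.homEquiv _ _).symm g) :=
      (((adj.homEquiv _ _).apply_symm_apply g).symm.trans (Adjunction.homEquiv_unit adj _ _ _))
    have h2 : g.hom z = 0 := by
      rw [h1, ModuleCat.hom_comp, LinearMap.comp_apply]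
      exact (congrArg _ h).trans (map_zero _)
    exact (Submodule.Quotient.mk_eq_zero N).1 h2
  · intro h
    have hle : N ≤ LinearMap.ker (red J M) := Submodule.smul_le.2 fun r hr m _ => by
      rw [LinearMap.mem_ker, map_smul]
      let y : (ModuleCat.extendScalars.{u, u, u} (Ideal.Quotient.mk J)).obj M := red J M m
      show Ideal.Quotient.mk J r • y = 0
      rw [Ideal.Quotient.eq_zero_iff_mem.2 hr]
      exact zero_smul (B ⧸ J) y
    exact hle h

variable {X : Dual.D B} {P : DRing.Cx B}

omit [IsLocalRing B] in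
/-- Vanishing after reduction gives exactness modulo `J`. -/
theorem exists_sub_mem {t : ℤ} (hP : ∀ i, Module.Finite B (P.X i) ∧ Module.Flat B (P.X i))
    (hb : DRing.VanishesAbove P t) (e : DRing.toD P ≅ X) [DTen.HasLBase (Ideal.Quotient.mk J)]
    (p q r : ℤ) (hpq : p + 1 = q) (hqr : q + 1 = r)
    (h : Subsingleton (Dual.HD (B ⧸ J) ((DTen.LBase (Ideal.Quotient.mk J)).obj X) q)) (z : P.X q)
    (hz : (P.d q r).hom z ∈ J • (⊤ : Submodule B (P.X r))) :
    ∃ w : P.X p, z - (P.d p q).hom w ∈ J • (⊤ : Submodule B (P.X q)) := by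
  haveI := H9Misc.DRingLBase.hasLBaseChange (Ideal.Quotient.mk J)
  obtain ⟨l⟩ := nonempty_LBaseChange_iso (Ideal.Quotient.mk J)
  have hex := DRingFibre.exactAt_of_lbase (Ideal.Quotient.mk J)
    (DRingTor.isKF_of_flat (fun i => (hP i).2) hb) e q (subsingleton_hd_of_iso (l.app X).symm q h)
  rw [HomologicalComplex.exactAt_iff' _ p q r (by simp; omega) (by simp; omega),
    ShortComplex.moduleCat_exact_iff] at hex
  let adj := ModuleCat.extendRestrictScalarsAdj.{u} (Ideal.Quotient.mk J)
  have hnat : ∀ (i j : ℤ) (x : P.X i), ((ModuleCat.extendScalars.{u, u, u} (Ideal.Quotient.mk J)).map (P.d i j)).hom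
      (red J (P.X i) x) = red J (P.X j) ((P.d i j).hom x) := fun i j x =>
    (congrArg (fun g => g.hom x) (adj.unit.naturality (P.d i j))).symm
  obtain ⟨y, hy⟩ := hex (red J (P.X q) z) ((hnat q r z).trans ((red_eq_zero J _ _).2 hz))
  obtain ⟨w, rfl⟩ := RelPC17.unit_surjective (Ideal.Quotient.mk J) Ideal.Quotient.mk_surjective (P.X p) y
  refine ⟨w, (red_eq_zero J _ _).1 ?_⟩
  rw [map_sub, sub_eq_zero, ← hnat p q w]
  exact hy.symm

include hJ

/-- The top degree is detected on the fibre. -/
theorem top_detect (t : ℤ) (ht : ∀ i, t < i → Subsingleton (Dual.HD B X i))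
    (hX : ∀ i, Module.Finite B (Dual.HD B X i)) [DTen.HasLBase (Ideal.Quotient.mk J)]
    (h : Subsingleton (Dual.HD (B ⧸ J) ((DTen.LBase (Ideal.Quotient.mk J)).obj X) t)) :
    Subsingleton (Dual.HD B X t) := by
  obtain ⟨P, hP, hb, ⟨e⟩⟩ := exists_rep X t ht hX
  haveI := (hP t).1
  have hle : J ≤ IsLocalRing.maximalIdeal B := by
    rw [hJ, Ideal.map_le_iff_le_comap, IsLocalRing.maximalIdeal_comap φ]
  have hr : LinearMap.range (P.d (t - 1) t).hom = ⊤ := by
    refine top_unique (Submodule.le_of_le_smul_of_le_jacobson_bot (I := J) Module.Finite.fg_top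
      (hle.trans (IsLocalRing.maximalIdeal_le_jacobson _)) fun z _ => ?_)
    obtain ⟨w, hw⟩ := exists_sub_mem hP hb e (t - 1) t (t + 1) (by omega) rfl h z (by
      haveI := ModuleCat.subsingleton_of_isZero (hb (t + 1) (by omega))
      rw [Subsingleton.elim ((P.d t (t + 1)).hom z) 0]
      exact zero_mem _)
    exact Submodule.mem_sup.2 ⟨_, ⟨w, rfl⟩, _, hw, add_sub_cancel _ _⟩
  have hex : P.ExactAt t := by
    rw [HomologicalComplex.exactAt_iff' _ (t - 1) t (t + 1) (by simp) (by simp),
      ShortComplex.moduleCat_exact_iff]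
    intro z _
    exact (hr.ge (Submodule.mem_top : z ∈ ⊤))
  exact ModuleCat.subsingleton_of_isZero (hex.isZero_homology.of_iso
    (((DerivedCategory.homologyFunctor (ModuleCat.{u} B) t).mapIso e).symm ≪≫
      (DerivedCategory.homologyFunctorFactors (ModuleCat.{u} B) t).app P))

/-- Vanishing below on the fibre gives concentration and flatness over the base. -/
theorem lower (hB : letI := φ.toAlgebra; CAlgX.IsEssFinitePresentation A₀ B) (hφ : φ.Flat) (m : ℤ)
    (ht : ∀ i, m < i → Subsingleton (Dual.HD B X i))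
    (hX : ∀ i, Module.Finite B (Dual.HD B X i)) [DTen.HasLBase (Ideal.Quotient.mk J)]
    (h : ∀ i, i < m → Subsingleton (Dual.HD (B ⧸ J) ((DTen.LBase (Ideal.Quotient.mk J)).obj X) i)) :
    (∀ i, i < m → Subsingleton (Dual.HD B X i)) ∧
      Module.Flat A₀ ((ModuleCat.restrictScalars.{u} φ).obj
        ((DerivedCategory.homologyFunctor (ModuleCat.{u} B) m).obj X)) := by
  obtain ⟨P, hP, hb, ⟨e⟩⟩ := exists_rep X m ht hX
  have hflat : ∀ n, Module.Flat A₀ ((ModuleCat.restrictScalars.{u} φ).obj (P.X n)) := fun n => by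
    letI := φ.toAlgebra
    haveI : Module.Flat A₀ B := hφ
    haveI := (hP n).2
    exact RelPC17.flat_restrictScalars (P.X n) inferInstance
  have hfp : ∀ n, Module.FinitePresentation B (P.X n) := fun n =>
    haveI := (hP n).1; Module.finitePresentation_of_finite B _
  obtain ⟨hex, hC⟩ := RelPC17.JacRing.exact_flat_of_fibre φ hB P hfp hflat m fun p q r hpq hqr hq z hz => by
    rw [← hJ] at hz ⊢
    exact exists_sub_mem hP hb e p q r hpq hqr (h q hq) z hz
  let eH : P.homology m ≅ (DerivedCategory.homologyFunctor (ModuleCat.{u} B) m).obj X :=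
    ((DerivedCategory.homologyFunctorFactors (ModuleCat.{u} B) m).app P).symm ≪≫
      (DerivedCategory.homologyFunctor (ModuleCat.{u} B) m).mapIso e
  refine ⟨fun i hi => ModuleCat.subsingleton_of_isZero ((hex i hi).isZero_homology.of_iso
    (((DerivedCategory.homologyFunctor (ModuleCat.{u} B) i).mapIso e).symm ≪≫
      (DerivedCategory.homologyFunctorFactors (ModuleCat.{u} B) i).app P)), ?_⟩
  haveI := P.isIso_homologyι m (m + 1) (CochainComplex.next _ _) ((hb (m + 1) (by omega)).eq_of_tgt _ _)
  exact (Module.Flat.equiv_iff ((ModuleCat.restrictScalars.{u} φ).mapIso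
    ((asIso (P.homologyι m)).symm ≪≫ eH)).toLinearEquiv).1 hC

end Local

section Support

variable {C D : Type u} [CommRing C] [CommRing D] [Algebra C D] (Q : Ideal C) [Q.IsPrime]
  [IsLocalization.AtPrime D Q]

/-- Vanishing of a localization. -/
theorem subsingleton_tensor_iff (H : Type u) [AddCommGroup H] [Module C H] :
    Subsingleton (D ⊗[C] H) ↔ (⟨Q, inferInstance⟩ : PrimeSpectrum C) ∉ Module.support C H := by
  haveI : IsLocalizedModule Q.primeCompl (TensorProduct.mk C D H 1) :=
    (isLocalizedModule_iff_isBaseChange Q.primeCompl D _).2 (TensorProduct.isBaseChange C H D)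
  rw [Module.notMem_support_iff]
  exact (IsLocalizedModule.iso Q.primeCompl (TensorProduct.mk C D H 1)).toEquiv.subsingleton_congr.symm

/-- Cohomology at a prime. -/
theorem subsingleton_hd_atPrime_iff [DTen.HasLBase (algebraMap C D)] (Y : Dual.D C) (i : ℤ) :
    Subsingleton (Dual.HD D ((DTen.LBase (algebraMap C D)).obj Y) i) ↔
      (⟨Q, inferInstance⟩ : PrimeSpectrum C) ∉ Module.support C (Dual.HD C Y i) := by
  haveI : Module.Flat C D := IsLocalization.flat D Q.primeCompl
  obtain ⟨e⟩ := exists_hdLBaseLEquiv (B := D) Y i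
  rw [e.toEquiv.subsingleton_congr, subsingleton_tensor_iff Q]

end Support

section Global

variable {R A : Type u} [CommRing R] [CommRing A] [Algebra R A] [IsNoetherianRing R] [IsNoetherianRing A]
  (q : Ideal A) [q.IsPrime] (p : Ideal R) [p.IsPrime] (hpq : q.comap (algebraMap R A) = p)
  (Q : Ideal (p.ResidueField ⊗[R] A)) [Q.IsPrime] (hQ : Q.comap (incRight R p.ResidueField A) = q)

/-- The local ring at the point modulo the prime of the base. -/
abbrev fibJ : Ideal (Localization.AtPrime q) := p.map (algebraMap R (Localization.AtPrime q))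

include hpq in
theorem fibJ_le : fibJ q p ≤ IsLocalRing.maximalIdeal (Localization.AtPrime q) := by
  subst hpq
  rw [Ideal.map_le_iff_le_comap]
  intro r hr
  rw [Ideal.mem_comap, IsScalarTower.algebraMap_apply R A, IsLocalization.AtPrime.to_map_mem_maximal_iff _ q]
  exact hr

include hpq hQ in
/-- The local ring of the fibre is the local ring modulo the prime of the base. -/
theorem exists_tau : ∃ τ : (p.ResidueField ⊗[R] A) →+* Localization.AtPrime q ⧸ fibJ q p,
    τ.comp (incRight R p.ResidueField A) =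
      (Ideal.Quotient.mk (fibJ q p)).comp (algebraMap A (Localization.AtPrime q)) ∧
    letI := τ.toAlgebra
    IsLocalization.AtPrime (Localization.AtPrime q ⧸ fibJ q p) Q := by
  let Aq := Localization.AtPrime q
  let J := fibJ q p
  let g : R →+* Aq ⧸ J := (Ideal.Quotient.mk J).comp (algebraMap R Aq)
  have hker : p ≤ RingHom.ker g := fun r hr =>
    Ideal.Quotient.eq_zero_iff_mem.2 (Ideal.mem_map_of_mem _ hr)
  have hinv : p.primeCompl ≤ (IsUnit.submonoid (Aq ⧸ J)).comap g := fun r hr => by
    have hu : IsUnit (algebraMap R Aq r) := by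
      rw [IsScalarTower.algebraMap_apply R A Aq]
      refine IsLocalization.map_units Aq (⟨algebraMap R A r, fun h => hr ?_⟩ : q.primeCompl)
      rw [← hpq]
      exact h
    exact hu.map (Ideal.Quotient.mk J)
  let gk : p.ResidueField →ₐ[R] Aq ⧸ J :=
    { Ideal.ResidueField.lift p g hker hinv with
      commutes' := fun r => Ideal.ResidueField.lift_algebraMap p g hker hinv r }
  let τ : (p.ResidueField ⊗[R] A) →ₐ[R] Aq ⧸ J :=
    Algebra.TensorProduct.lift gk ((Ideal.Quotient.mkₐ R J).comp (IsScalarTower.toAlgHom R A Aq))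
      (fun _ _ => Commute.all _ _)
  have hτa : ∀ a : A, τ ((1 : p.ResidueField) ⊗ₜ[R] a) = Ideal.Quotient.mk J (algebraMap A Aq a) := fun a => by
    simp only [τ, Algebra.TensorProduct.lift_tmul, map_one, one_mul]
    rfl
  refine ⟨τ.toRingHom, RingHom.ext hτa, ?_⟩
  letI := τ.toRingHom.toAlgebra
  have hJm : J ≤ IsLocalRing.maximalIdeal Aq := fibJ_le q p hpq
  have hr : ∀ r : R, r ∉ p → algebraMap R (p.ResidueField ⊗[R] A) r ∉ Q := fun r hr h => by
    rw [← hpq, ← hQ] at hr
    exact hr (by
      change incRight R p.ResidueField A (algebraMap R A r) ∈ Q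
      rwa [show incRight R p.ResidueField A (algebraMap R A r) = algebraMap R (p.ResidueField ⊗[R] A) r from
        (Algebra.TensorProduct.includeRight : A →ₐ[R] p.ResidueField ⊗[R] A).commutes r])
  constructor
  refine ⟨fun ⟨c, hc⟩ => ?_, fun b => ?_, fun {x y} hxy => ?_⟩
  · obtain ⟨r, hrp, a, hra⟩ := Ideal.Fiber.exists_smul_eq_one_tmul p c
    have ha : a ∉ q := fun h => by
      rw [← hQ] at h
      have h' : algebraMap R (p.ResidueField ⊗[R] A) r * c ∈ Q := by
        rw [← Algebra.smul_def, hra]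
        exact h
      exact (Ideal.IsPrime.mem_or_mem ‹Q.IsPrime› h').elim (hr r hrp) hc
    have hu : IsUnit (τ (algebraMap R (p.ResidueField ⊗[R] A) r * c)) := by
      rw [← Algebra.smul_def, hra, hτa]
      exact (IsLocalization.map_units Aq (⟨a, ha⟩ : q.primeCompl)).map (Ideal.Quotient.mk J)
    rw [map_mul] at hu
    exact isUnit_of_mul_isUnit_right hu
  · obtain ⟨b, rfl⟩ := Ideal.Quotient.mk_surjective b
    obtain ⟨⟨a, s⟩, hs⟩ := IsLocalization.surj q.primeCompl b
    refine ⟨⟨1 ⊗ₜ a, ⟨1 ⊗ₜ (s : A), fun h => s.2 (hQ.le h)⟩⟩, ?_⟩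
    show Ideal.Quotient.mk J b * τ (1 ⊗ₜ (s : A)) = τ (1 ⊗ₜ a)
    rw [hτa, hτa, ← map_mul, hs]
  · obtain ⟨r, hrp, a, hra⟩ := Ideal.Fiber.exists_smul_eq_one_tmul p (x - y)
    have h0 : τ (x - y) = 0 := by rw [map_sub]; exact sub_eq_zero.2 hxy
    have ha : Ideal.Quotient.mk J (algebraMap A Aq a) = 0 := by
      rw [← hτa, ← hra, Algebra.smul_def, map_mul, h0, mul_zero]
    rw [Ideal.Quotient.eq_zero_iff_mem] at ha
    have hJ2 : J = (p.map (algebraMap R A)).map (algebraMap A Aq) := by
      rw [Ideal.map_map, ← IsScalarTower.algebraMap_eq]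
    rw [hJ2, IsLocalization.algebraMap_mem_map_algebraMap_iff q.primeCompl] at ha
    obtain ⟨s, hs, hsa⟩ := ha
    have hz : ∀ b ∈ p.map (algebraMap R A), incRight R p.ResidueField A b = 0 := fun b hb => by
      have hle : p.map (algebraMap R A) ≤ RingHom.ker (incRight R p.ResidueField A) :=
        Ideal.map_le_iff_le_comap.2 fun r hr => by
          rw [Ideal.mem_comap, RingHom.mem_ker,
            show incRight R p.ResidueField A (algebraMap R A r) = algebraMap R (p.ResidueField ⊗[R] A) r from
              (Algebra.TensorProduct.includeRight : A →ₐ[R] p.ResidueField ⊗[R] A).commutes r,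
            IsScalarTower.algebraMap_apply R p.ResidueField (p.ResidueField ⊗[R] A),
            Ideal.algebraMap_residueField_eq_zero.2 hr, map_zero]
      exact hle hb
    refine ⟨⟨incRight R p.ResidueField A s * algebraMap R (p.ResidueField ⊗[R] A) r,
      fun h => (Ideal.IsPrime.mem_or_mem ‹Q.IsPrime› h).elim (fun h => hs (hQ.le h)) (hr r hrp)⟩, ?_⟩
    show incRight R p.ResidueField A s * algebraMap R (p.ResidueField ⊗[R] A) r * x =
      incRight R p.ResidueField A s * algebraMap R (p.ResidueField ⊗[R] A) r * y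
    rw [← sub_eq_zero, ← mul_sub, mul_assoc, ← Algebra.smul_def, hra,
      show ((1 : p.ResidueField) ⊗ₜ[R] a : p.ResidueField ⊗[R] A) = incRight R p.ResidueField A a from rfl,
      ← map_mul, hz _ hsa]

variable (X : Dual.D A) [DTen.HasLBase (incRight R p.ResidueField A)]

include hpq hQ in
/-- The cohomology at the point and on the fibre. -/
theorem exists_local (hX : ∀ i, Module.Finite A (Dual.HD A X i)) :
    ∃ (_ : DTen.HasLBase (Ideal.Quotient.mk (fibJ q p))) (Xq : Dual.D (Localization.AtPrime q)),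
      (∀ i, Module.Finite (Localization.AtPrime q) (Dual.HD _ Xq i)) ∧
      (∀ i, Subsingleton (Dual.HD _ Xq i) ↔ (⟨q, inferInstance⟩ : PrimeSpectrum A) ∉ Module.support A (Dual.HD A X i)) ∧
      (∀ i, Subsingleton (Dual.HD _ ((DTen.LBase (Ideal.Quotient.mk (fibJ q p))).obj Xq) i) ↔
        (⟨Q, inferInstance⟩ : PrimeSpectrum _) ∉
          Module.support _ (Dual.HD _ ((DTen.LBase (incRight R p.ResidueField A)).obj X) i)) ∧
      (∀ i, Nonempty (Dual.HD _ Xq i ≃ₗ[Localization.AtPrime q] Localization.AtPrime q ⊗[A] Dual.HD A X i)) := by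
  let Aq := Localization.AtPrime q
  let π := Ideal.Quotient.mk (fibJ q p)
  obtain ⟨τ, hτ, hloc⟩ := exists_tau q p hpq Q hQ
  haveI := hasLBase (algebraMap A Aq)
  haveI := hasLBase π
  haveI := hasLBase (π.comp (algebraMap A Aq))
  letI := τ.toAlgebra
  haveI := hasLBase τ
  haveI : DTen.HasLBase (algebraMap (p.ResidueField ⊗[R] A) (Aq ⧸ fibJ q p)) :=
    inferInstanceAs (DTen.HasLBase τ)
  haveI : IsLocalization.AtPrime (Aq ⧸ fibJ q p) Q := hloc
  haveI : Module.Flat A Aq := IsLocalization.flat Aq q.primeCompl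
  obtain ⟨c₁⟩ := nonempty_LBase_comp (algebraMap A Aq) π _ rfl
  obtain ⟨c₂⟩ := nonempty_LBase_comp (incRight R p.ResidueField A) τ (π.comp (algebraMap A Aq)) hτ
  refine ⟨inferInstance, (DTen.LBase (algebraMap A Aq)).obj X, fun i => finite_hd_LBase X i (hX i),
    fun i => subsingleton_hd_atPrime_iff q X i, fun i => ?_, fun i => exists_hdLBaseLEquiv X i⟩
  let eF := (DerivedCategory.homologyFunctor (ModuleCat.{u} (Aq ⧸ fibJ q p)) i).mapIso
    (c₁.app X ≪≫ (c₂.app X).symm)
  refine eF.toLinearEquiv.toEquiv.subsingleton_congr.trans ?_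
  exact subsingleton_hd_atPrime_iff (D := Aq ⧸ fibJ q p) Q ((DTen.LBase (incRight R p.ResidueField A)).obj X) i

include hpq hQ in
/-- The top degree is detected on the fibre. -/
theorem mem_fibre_of_top (hX : ∀ i, Module.Finite A (Dual.HD A X i)) (t : ℤ)
    (ht : ∀ i, t < i → (⟨q, inferInstance⟩ : PrimeSpectrum A) ∉ Module.support A (Dual.HD A X i))
    (h : (⟨q, inferInstance⟩ : PrimeSpectrum A) ∈ Module.support A (Dual.HD A X t)) :
    (⟨Q, inferInstance⟩ : PrimeSpectrum _) ∈
      Module.support _ (Dual.HD _ ((DTen.LBase (incRight R p.ResidueField A)).obj X) t) := by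
  by_contra hn
  obtain ⟨_, Xq, hf, hq', hQ', -⟩ := exists_local q p hpq Q hQ X hX
  let Rp := Localization.AtPrime p
  let φ := Localization.localRingHom p q (algebraMap R A) hpq.symm
  haveI : IsLocalHom φ := Localization.isLocalHom_localRingHom p q _ hpq.symm
  refine ((hq' t).1 (top_detect φ (J := fibJ q p) ?_ t (fun i hi => (hq' i).2 (ht i hi)) hf ((hQ' t).2 hn))) h
  rw [← Localization.AtPrime.map_eq_maximalIdeal, Ideal.map_map]
  refine congrArg (fun f => Ideal.map f p) (RingHom.ext fun r => ?_)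
  rw [RingHom.comp_apply, Localization.localRingHom_to_map, ← IsScalarTower.algebraMap_apply]

include hpq hQ in
/-- Concentration on the fibre gives concentration and flatness. -/
theorem concentrated_of_fibre [Module.Flat R A] [Algebra.FiniteType R A]
    (hX : ∀ i, Module.Finite A (Dual.HD A X i)) (m : ℤ)
    (ht : ∀ i, m < i → (⟨q, inferInstance⟩ : PrimeSpectrum A) ∉ Module.support A (Dual.HD A X i))
    (h : ∀ i, i < m → (⟨Q, inferInstance⟩ : PrimeSpectrum _) ∉
      Module.support _ (Dual.HD _ ((DTen.LBase (incRight R p.ResidueField A)).obj X) i)) :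
    (∀ i, i < m → (⟨q, inferInstance⟩ : PrimeSpectrum A) ∉ Module.support A (Dual.HD A X i)) ∧
      Module.Flat R (Localization.AtPrime q ⊗[A] Dual.HD A X m) := by
  obtain ⟨_, Xq, hf, hq', hQ', he⟩ := exists_local q p hpq Q hQ X hX
  let Rp := Localization.AtPrime p
  let Aq := Localization.AtPrime q
  let φ : Rp →+* Aq := Localization.localRingHom p q (algebraMap R A) hpq.symm
  haveI : IsLocalHom φ := Localization.isLocalHom_localRingHom p q _ hpq.symm
  haveI : Algebra.FinitePresentation R A := Algebra.FinitePresentation.of_finiteType.1 ‹_›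
  letI : Algebra Rp Aq := φ.toAlgebra
  haveI : IsScalarTower R Rp Aq := IsScalarTower.of_algebraMap_eq fun r => by
    rw [IsScalarTower.algebraMap_apply R A Aq]
    exact (Localization.localRingHom_to_map p q (algebraMap R A) hpq.symm r).symm
  have hB : CAlgX.IsEssFinitePresentation Rp Aq :=
    FlatModel.isEssFinitePresentation_localization q p Rp Aq
  haveI : Module.Flat A Aq := IsLocalization.flat Aq q.primeCompl
  haveI : Module.Flat R Aq := Module.Flat.trans R A Aq
  have hφ : φ.Flat := show Module.Flat Rp Aq from (Module.flat_iff_of_isLocalization Rp p.primeCompl Aq).2 inferInstance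
  obtain ⟨h1, h2⟩ := lower φ (J := fibJ q p) (by
      rw [← Localization.AtPrime.map_eq_maximalIdeal, Ideal.map_map]
      exact congrArg (fun f => Ideal.map f p) (IsScalarTower.algebraMap_eq R Rp Aq))
    hB hφ m (fun i hi => (hq' i).2 (ht i hi)) hf (fun i hi => (hQ' i).2 (h i hi))
  refine ⟨fun i hi => (hq' i).1 (h1 i hi), ?_⟩
  obtain ⟨e⟩ := he m
  letI : Module Rp (Dual.HD Aq Xq m) := Module.compHom _ φ
  letI : Module R (Dual.HD Aq Xq m) := Module.compHom _ (algebraMap R Aq)
  haveI : IsScalarTower R Aq (Dual.HD Aq Xq m) := IsScalarTower.of_algebraMap_smul fun _ _ => rfl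
  haveI : IsScalarTower R Rp (Dual.HD Aq Xq m) := IsScalarTower.of_algebraMap_smul fun r x =>
    show φ (algebraMap R Rp r) • x = algebraMap R Aq r • x by
      rw [IsScalarTower.algebraMap_apply R Rp Aq]
      rfl
  haveI : Module.Flat Rp (Dual.HD Aq Xq m) := h2
  haveI : Module.Flat R Rp := IsLocalization.flat Rp p.primeCompl
  haveI : Module.Flat R (Dual.HD Aq Xq m) := Module.Flat.trans R Rp _
  exact Module.Flat.of_linearEquiv (e.restrictScalars R).symm

end Global

end Groth.Agent.KExact.ViaFibre
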