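import Groth.Agent.KFlatLib.Ring.RelDualizing
import Groth.Agent.KFlatLib.Ring.BaseChangeShriekVia
import Groth.Agent.PCMor.Perfect
import Groth.Agent.KFlatLib.Ring.FiniteTorDimDuality

/-!
# The shriek of an algebra perfect over a presenting polynomial ring
-/

set_option autoImplicit false
set_option linter.style.haveILetI false
set_option linter.unusedSectionVars false
set_option linter.unusedVariables false
set_option backward.isDefEq.respectTransparency false

universe u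

open CategoryTheory CategoryTheory.Limits Pretriangulated MonoidalCategory AlgebraicGeometry
open scoped TensorProduct

attribute [local instance] HasDerivedCategory.standard

namespace Groth.Agent.KExact.ViaPerf

open KFlatLib

section Fix

variable {R A : Type u} [CommRing R] [CommRing A] [Algebra R A] [IsNoetherianRing R]
  {n : ℕ} (ψ : MvPolynomial (Fin n) R →+* A) {Rψ : Dual.D (MvPolynomial (Fin n) R) ⥤ Dual.D A}

/-- The shriek of the ring restricts to the dual of the algebra. -/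
lemma nonempty_res_shriek_unit (a : DRing.restrictD ψ ⊣ Rψ) [DTen.HasLTen (MvPolynomial (Fin n) R)]
    [DTen.HasRHom (MvPolynomial (Fin n) R)] :
    Nonempty ((DRing.restrictD ψ).obj (Rψ.obj (DTen.unit _)) ≅
      (DTen.RHomR _ ((DRing.restrictD ψ).obj (DTen.unit A))).obj (DTen.unit _)) := by
  haveI := hasLTen A
  haveI := hasLBase ψ
  haveI := hasResTen ψ
  haveI := resLegIso ψ
  obtain ⟨i⟩ := nonempty_tensorRight_shift (B := A) (N := DTen.unit A) 0
    ((shiftFunctorZero (Dual.D A) ℤ).app (DTen.unit A)).symm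
  haveI := isIso_rhomHomEquiv_pairing ψ a (i ≪≫ shiftFunctorZero (Dual.D A) ℤ) (DTen.unit _)
  exact ⟨asIso (DTen.rhomHomEquiv _ _ _ (pairingD ψ a (i ≪≫ shiftFunctorZero (Dual.D A) ℤ) (DTen.unit _)))⟩

variable (hψ : Function.Surjective ψ) (hR : ψ.comp MvPolynomial.C = algebraMap R A)
  (a : DRing.restrictD ψ ⊣ Rψ)

variable (hP : DRing.IsPerfect (MvPolynomial (Fin n) R) ((DRing.restrictD ψ).obj (DTen.unit A)))

include hψ hR a hP

/-- The shriek of the ring is perfect over the presenting polynomial ring. -/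
theorem isPerfect_res_shriek_unit :
    DRing.IsPerfect (MvPolynomial (Fin n) R)
      ((DRing.restrictD ψ).obj ((Rψ.obj (DTen.unit _))⟦(n : ℤ)⟧)) := by
  haveI := hasLTen (MvPolynomial (Fin n) R)
  haveI := hasRHom (A := MvPolynomial (Fin n) R)
  obtain ⟨e⟩ := nonempty_res_shriek_unit ψ a
  exact H9Misc.DRingPC.isPerfect_of_iso ((((DRing.restrictD ψ).commShiftIso (n : ℤ)).app _).symm)
    (H9Misc.DRingPC.isPerfect_shift (H9Misc.DRingPC.isPerfect_of_iso e.symm
      (isPerfect_dual (hP))) _)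

/-- The relative dualizing complex has bounded, finite cohomology. -/
theorem bounded_finite_shriek_unit :
    (∃ p q : ℤ, ∀ i : ℤ, (i < p ∨ q < i) →
      Subsingleton (Dual.HD A ((Rψ.obj (DTen.unit _))⟦(n : ℤ)⟧) i)) ∧
    ∀ i : ℤ, Module.Finite A (Dual.HD A ((Rψ.obj (DTen.unit _))⟦(n : ℤ)⟧) i) := by
  obtain ⟨⟨p, q, hpq⟩, hfin⟩ :=
    H9Misc.DRingRegular.finite_homology_of_isPerfect (isPerfect_res_shriek_unit ψ hψ hR a hP)
  refine ⟨⟨p, q, fun i hi => ?_⟩, fun i => ?_⟩
  · haveI := hpq i hi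
    exact ((H9Misc.DRingRestrict.HDRestrictIso ψ _ i).toLinearEquiv.symm).toEquiv.subsingleton
  · haveI := hfin i
    have hfinP := Module.Finite.equiv (H9Misc.DRingRestrict.HDRestrictIso ψ ((Rψ.obj (DTen.unit _))⟦(n : ℤ)⟧) i).toLinearEquiv
    let P := MvPolynomial (Fin n) R
    letI := ψ.toAlgebra
    letI : Module P (Dual.HD A ((Rψ.obj (DTen.unit _))⟦(n : ℤ)⟧) i) := Module.compHom _ ψ
    haveI : IsScalarTower P A (Dual.HD A ((Rψ.obj (DTen.unit _))⟦(n : ℤ)⟧) i) :=
      IsScalarTower.of_algebraMap_smul fun _ _ => rfl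
    haveI : Module.Finite P (Dual.HD A ((Rψ.obj (DTen.unit _))⟦(n : ℤ)⟧) i) := hfinP
    exact Module.Finite.of_restrictScalars_finite P A _

/-- The endomorphisms and self-extensions of the relative dualizing complex. -/
theorem bijective_smul_shriek_unit :
    (Function.Bijective fun x : A => x • 𝟙 ((Rψ.obj (DTen.unit _))⟦(n : ℤ)⟧)) ∧
      ∀ i : ℤ, i ≠ 0 → Subsingleton ((Rψ.obj (DTen.unit _))⟦(n : ℤ)⟧ ⟶
        ((Rψ.obj (DTen.unit _))⟦(n : ℤ)⟧)⟦i⟧) := by
  let P := MvPolynomial (Fin n) R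
  haveI := hasLTen P
  haveI := hasRHom (A := P)
  let E := (DRing.restrictD ψ).obj (DTen.unit A)
  have hE : DRing.IsPerfect P E := hP
  obtain ⟨d⟩ := nonempty_res_shriek_unit ψ a
  let W₀ := Rψ.obj (DTen.unit P)
  let W := W₀⟦(n : ℤ)⟧
  have hW : ∀ i : ℤ, ∃ e : (W ⟶ W⟦i⟧) ≃
      ((ModuleCat.restrictScalars ψ).obj ((DerivedCategory.homologyFunctor (ModuleCat.{u} A) i).obj (DTen.unit A)) : Type u),
      (∀ f g, e (f + g) = e f + e g) ∧ ∀ (p : P) f, e (ψ p • f) = p • e f := by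
    intro i
    obtain ⟨u, hu⟩ := exists_shriekHomEquiv ψ Rψ a W₀ (DTen.unit P) i
    obtain ⟨l⟩ := exists_homDualLEquiv hE i
    let c : (W₀⟦i⟧)⟦(n : ℤ)⟧ ≅ W⟦i⟧ := shiftComm _ _ _
    let F : (W₀ ⟶ W₀⟦i⟧) →ₗ[A] (W ⟶ (W₀⟦i⟧)⟦(n : ℤ)⟧) := Functor.mapLinearMap A (shiftFunctor (Dual.D A) (n : ℤ))
    let F' : (W₀ ⟶ W₀⟦i⟧) ≃ₗ[A] (W ⟶ (W₀⟦i⟧)⟦(n : ℤ)⟧) := LinearEquiv.ofBijective F
      ((Functor.FullyFaithful.ofFullyFaithful (shiftFunctor (Dual.D A) (n : ℤ))).map_bijective _ _)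
    let g₁ : (W ⟶ W⟦i⟧) ≃ₗ[A] (W₀ ⟶ W₀⟦i⟧) := (F'.trans (Linear.homCongr A (Iso.refl W) c)).symm
    let g₂ : ((DRing.restrictD ψ).obj W₀ ⟶ (DTen.unit P)⟦i⟧) ≃ₗ[P] Dual.HD P E i :=
      (Linear.homCongr P d (Iso.refl _)).trans l
    let g₃ := (H9Misc.DRingRestrict.HDRestrictIso ψ (DTen.unit A) i).toLinearEquiv
    refine ⟨g₁.toEquiv.trans (u.trans (g₂.trans g₃).toEquiv), fun f g => ?_, fun p f => ?_⟩
    · change g₃ (g₂ (u (g₁ (f + g)))) = g₃ (g₂ (u (g₁ f))) + g₃ (g₂ (u (g₁ g)))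
      rw [map_add, hu.1, map_add]
      exact g₃.map_add _ _
    · change g₃ (g₂ (u (g₁ (ψ p • f)))) = p • g₃ (g₂ (u (g₁ f)))
      rw [map_smul, hu.2, map_smul]
      exact g₃.map_smul _ _
  let iU : DTen.unit A ≅ Dual.inD A A :=
    ((DerivedCategory.singleFunctorIsoCompQ (ModuleCat.{u} A) 0).app (ModuleCat.of A A)).symm
  refine ⟨?_, fun i hi => ?_⟩
  · obtain ⟨e, he₁, he₂⟩ := hW 0
    let h0 : Dual.HD A (DTen.unit A) 0 ≃ₗ[A] A :=
      (((DerivedCategory.homologyFunctor (ModuleCat.{u} A) 0).mapIso iU).toLinearEquiv).trans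
        ((DerivedCategory.singleFunctorCompHomologyFunctorIso (ModuleCat.{u} A) 0).app (ModuleCat.of A A)).toLinearEquiv
    let z : (W ⟶ W) ≃ₗ[A] (W ⟶ W⟦(0 : ℤ)⟧) :=
      Linear.homCongr A (Iso.refl W) ((shiftFunctorZero (Dual.D A) ℤ).app W).symm
    refine toEnd_bijective_of_linearEquiv W (LinearEquiv.mk
      { toFun := fun f => h0 (e (z f))
        map_add' := fun f g => ?_
        map_smul' := fun x f => ?_ }
      (fun y => z.symm (e.symm (h0.symm y))) (fun f => by simp) (fun y => by simp))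
    · simp only [map_add, he₁]
    · obtain ⟨p, rfl⟩ := hψ x
      simp only [map_smul, he₂, RingHom.id_apply]
      exact h0.map_smul (ψ p) _
  · obtain ⟨e, -, -⟩ := hW i
    have h0 : Subsingleton (Dual.HD A (Dual.inD A A) i) := ModuleCat.subsingleton_of_isZero (by
      rcases lt_or_gt_of_ne hi with h | h
      · exact DerivedCategory.isZero_of_isGE _ 0 i h
      · exact DerivedCategory.isZero_of_isLE _ 0 i h)
    haveI := subsingleton_hd_of_iso iU.symm i h0
    haveI : Subsingleton ((ModuleCat.restrictScalars ψ).obj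
        ((DerivedCategory.homologyFunctor (ModuleCat.{u} A) i).obj (DTen.unit A)) : Type u) :=
      inferInstanceAs (Subsingleton (Dual.HD A (DTen.unit A) i))
    exact e.subsingleton


omit hψ hR a hP

end Fix

section More

variable {R A : Type u} [CommRing R] [CommRing A] [Algebra R A] [IsNoetherianRing R]

/-- An algebra perfect over `R` is perfect over any presenting polynomial ring. -/
theorem isPerfect_unit {n : ℕ} (ψ : MvPolynomial (Fin n) R →ₐ[R] A) (hψ : Function.Surjective ψ)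
    (h : MoreMor.IsPerfectHom R A) :
    DRing.IsPerfect (MvPolynomial (Fin n) R) ((DRing.restrictD ψ.toRingHom).obj (DTen.unit A)) := by
  let P := MvPolynomial (Fin n) R
  let ψ' : P →+* A := ψ.toRingHom
  letI := ψ'.toAlgebra
  haveI : Module.Finite P A := Module.Finite.of_surjective (Algebra.linearMap P A) hψ
  have hT : PCMor.TD ψ' := (PCMor.isPerfectHom_iff.1 h).2.presentation ψ' (RingHom.ext fun r => ψ.commutes r)
  obtain ⟨d, hd⟩ := PCMor.td_iff.1 hT
  have hperf : DRing.IsPerfect P (Dual.inD P A) := by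
    refine (H9Misc.DRingPerfect.isPerfect_iff _).2
      ⟨(H9Misc.DRingPC.pc'_iff _).2 fun m => (Groth.Agent.S6942.result P m (Dual.inD P A) P).1.2
        ⟨⟨0, fun i hi => ?_⟩, fun i _ => ?_⟩, -(d : ℤ), 0,
        (H9Misc.DRingTor.torDimLE_iff d (ModuleCat.of P A)).1 hd⟩
    · exact ModuleCat.subsingleton_of_isZero (DerivedCategory.isZero_of_isLE
        ((DerivedCategory.singleFunctor (ModuleCat.{u} P) 0).obj _) 0 i hi)
    · by_cases hi : i = 0
      · subst hi
        exact Module.Finite.equiv (M := A) ((DerivedCategory.singleFunctorCompHomologyFunctorIso (ModuleCat.{u} P) 0).app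
          (ModuleCat.of P A)).symm.toLinearEquiv
      · haveI : Subsingleton (Dual.HD P (Dual.inD P A) i) := ModuleCat.subsingleton_of_isZero (by
          rcases lt_or_gt_of_ne hi with h | h
          · exact DerivedCategory.isZero_of_isGE ((DerivedCategory.singleFunctor (ModuleCat.{u} P) 0).obj _) 0 i h
          · exact DerivedCategory.isZero_of_isLE ((DerivedCategory.singleFunctor (ModuleCat.{u} P) 0).obj _) 0 i h)
        infer_instance
  refine H9Misc.DRingPC.isPerfect_of_iso ?_ hperf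
  exact ((ModuleCat.restrictScalars ψ').mapDerivedCategorySingleFunctor 0).symm.app (ModuleCat.of A A) ≪≫
    (DRing.restrictD ψ').mapIso ((DerivedCategory.singleFunctorIsoCompQ (ModuleCat.{u} A) 0).app (ModuleCat.of A A))

/-- The shriek along a surjection of finite tor dimension keeps bounds. -/
theorem exists_bounds {P : Type u} [CommRing P] (ψ : P →+* A) {Rψ : Dual.D P ⥤ Dual.D A}
    (a : DRing.restrictD ψ ⊣ Rψ)
    (hP : DRing.IsPerfect P ((DRing.restrictD ψ).obj (DTen.unit A)))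
    (N : Dual.D P) (lo hi : ℤ) [N.IsGE lo] [N.IsLE hi] :
    ∃ lo' hi' : ℤ, ∀ i : ℤ, (i < lo' ∨ hi' < i) → Subsingleton (Dual.HD A (Rψ.obj N) i) := by
  obtain ⟨E, p, q, hz, hE, ⟨e⟩⟩ := hP
  haveI : E.IsStrictlyGE p := (CochainComplex.isStrictlyGE_iff _ _).2 fun i hi => hz i (Or.inl hi)
  haveI : E.IsStrictlyLE q := (CochainComplex.isStrictlyLE_iff _ _).2 fun i hi => hz i (Or.inr hi)
  haveI : ∀ i, Projective (E.X i) := fun i => haveI := (hE i).2; (IsProjective.iff_projective (E.X i)).1 inferInstance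
  haveI : E.IsKProjective := CochainComplex.isKProjective_of_projective E q
  refine ⟨lo - q, hi - p, fun i hi' => ?_⟩
  let uA : (DerivedCategory.singleFunctor (ModuleCat.{u} A) 0).obj (ModuleCat.of A A) ≅ DTen.unit A :=
    (DerivedCategory.singleFunctorIsoCompQ (ModuleCat.{u} A) 0).app (ModuleCat.of A A)
  obtain ⟨l⟩ := exists_homRingLEquiv (Rψ.obj N) i
  haveI : Subsingleton ((DRing.restrictD ψ).obj (DTen.unit A) ⟶ N⟦i⟧) := by
    obtain ⟨N₀, hN₀, hN₁, ⟨eN⟩⟩ := DerivedCategory.exists_iso_Q_obj_of_isGE_of_isLE N lo hi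
    let eT : N⟦i⟧ ≅ DerivedCategory.Q.obj (N₀⟦i⟧) :=
      (shiftFunctor _ i).mapIso eN ≪≫ ((DerivedCategory.Q.commShiftIso i).app N₀).symm
    refine @Equiv.subsingleton _ _ (Iso.homCongr e.symm eT) ⟨fun f g => ?_⟩
    obtain ⟨f', rfl⟩ := exists_Q_map_proj inferInstance f
    obtain ⟨g', rfl⟩ := exists_Q_map_proj inferInstance g
    refine congrArg _ (HomologicalComplex.hom_ext _ _ fun k => ?_)
    by_cases hk : k < p ∨ q < k
    · exact (hz k hk).eq_of_src _ _
    · haveI := hN₀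
      haveI := hN₁
      refine IsZero.eq_of_tgt ?_ _ _
      rw [not_or, not_lt, not_lt] at hk
      rcases hi' with h | h
      · exact (N₀.isZero_of_isStrictlyGE lo (k + i) (by omega)).of_iso (N₀.shiftFunctorObjXIso i k (k + i) rfl)
      · exact (N₀.isZero_of_isStrictlyLE hi (k + i) (by omega)).of_iso (N₀.shiftFunctorObjXIso i k (k + i) rfl)
  letI : Rψ.CommShift ℤ := a.rightAdjointCommShift ℤ
  haveI : Subsingleton (DTen.unit A ⟶ Rψ.obj (N⟦i⟧)) := (a.homEquiv (DTen.unit A) (N⟦i⟧)).symm.subsingleton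
  haveI : Subsingleton (DTen.unit A ⟶ (shiftFunctor (Dual.D P) i ⋙ Rψ).obj N) := ‹Subsingleton (DTen.unit A ⟶ Rψ.obj (N⟦i⟧))›
  haveI : Subsingleton (Dual.inD A A ⟶ (Rψ.obj N)⟦i⟧) :=
    (Iso.homCongr uA ((Rψ.commShiftIso i).app N).symm).subsingleton
  exact l.symm.toEquiv.subsingleton

end More

end Groth.Agent.KExact.ViaPerf
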